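import Mathlib

set_option autoImplicit false
universe u

open CategoryTheory AlgebraicGeometry Limits

namespace Groth.Agent.Lib.Helper6.EtLoc

theorem descResidueField_SpecMap_mem_range_aux {K₀ K : Type u} [Field K₀] [Field K] (j : K₀ →+* K)
    (φ : Spec (.of K) ⟶ Spec (.of K₀)) (hφ : φ = Spec.map (CommRingCat.ofHom j))
    (z : (Spec (.of K₀)).residueField (φ (IsLocalRing.closedPoint K))) :
    (Scheme.descResidueField (Scheme.stalkClosedPointTo φ)).hom z ∈ j.range := by
  let ev' : CommRingCat.of K₀ ⟶
      (Spec (.of K₀)).residueField (φ (IsLocalRing.closedPoint K)) :=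
    (Scheme.ΓSpecIso (.of K₀)).inv ≫ (Spec (.of K₀)).presheaf.germ ⊤ _ trivial ≫
      (Spec (.of K₀)).residue _
  have hev : ev' ≫ Scheme.descResidueField (Scheme.stalkClosedPointTo φ) =
      CommRingCat.ofHom j := by
    simp only [ev', Category.assoc, Scheme.residue_descResidueField]
    subst hφ
    rw [Scheme.germ_stalkClosedPointTo_Spec, Iso.inv_hom_id_assoc]
  have hmax : (φ (IsLocalRing.closedPoint K)).asIdeal.IsMaximal := by
    have h1 : (φ (IsLocalRing.closedPoint K)).asIdeal = ⊥ :=
      (Ideal.eq_bot_or_top _).resolve_right (φ (IsLocalRing.closedPoint K)).isPrime.ne_top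
    rw [h1]; exact Ideal.bot_isMaximal
  have hev2 : ev' = CommRingCat.ofHom
        (algebraMap K₀ (φ (IsLocalRing.closedPoint K)).asIdeal.ResidueField) ≫
      (Scheme.Spec.residueFieldIso (.of K₀) (φ (IsLocalRing.closedPoint K))).inv :=
    (Scheme.Spec.algebraMap_residueFieldIso_inv (.of K₀) (φ (IsLocalRing.closedPoint K))).symm
  have hsurj : Function.Surjective ev'.hom := by
    rw [hev2]
    intro w
    obtain ⟨a, ha⟩ := (φ (IsLocalRing.closedPoint K)).asIdeal.algebraMap_residueField_surjective
      ((Scheme.Spec.residueFieldIso (.of K₀) (φ (IsLocalRing.closedPoint K))).hom.hom w)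
    refine ⟨a, ?_⟩
    change (Scheme.Spec.residueFieldIso (.of K₀) (φ (IsLocalRing.closedPoint K))).inv.hom
      (algebraMap K₀ _ a) = w
    rw [ha]
    exact congr(($((Scheme.Spec.residueFieldIso (.of K₀)
      (φ (IsLocalRing.closedPoint K))).hom_inv_id)).hom w)
  obtain ⟨a, ha⟩ := hsurj z
  refine ⟨a, ?_⟩
  rw [← ha]
  exact congr(($hev).hom a).symm

/-- For a map of fields `j : K₀ → K`, the induced map from the residue field of the image point of
`Spec K → Spec K₀` to `K` has range inside the range of `j`. -/
theorem descResidueField_SpecMap_mem_range {K₀ K : Type u} [Field K₀] [Field K] (j : K₀ →+* K)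
    (z : (Spec (.of K₀)).residueField
      ((Spec.map (CommRingCat.ofHom j)) (IsLocalRing.closedPoint K))) :
    (Scheme.descResidueField
      (Scheme.stalkClosedPointTo (Spec.map (CommRingCat.ofHom j)))).hom z ∈ j.range :=
  descResidueField_SpecMap_mem_range_aux j _ rfl z

/-- If `Spec K → X` factors through `Spec K₀`, then the induced map `κ(x) → K` has range inside
the range of `K₀ → K`. -/
theorem descResidueField_comp_mem_range {X : Scheme.{u}} {K₀ K : Type u} [Field K₀] [Field K]
    (j : K₀ →+* K) (φ₀ : Spec (.of K₀) ⟶ X)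
    (z : X.residueField ((Spec.map (CommRingCat.ofHom j) ≫ φ₀) (IsLocalRing.closedPoint K))) :
    (Scheme.descResidueField
      (Scheme.stalkClosedPointTo (Spec.map (CommRingCat.ofHom j) ≫ φ₀))).hom z ∈ j.range := by
  have h := Scheme.descResidueField_stalkClosedPointTo_comp φ₀ (Spec.map (CommRingCat.ofHom j))
  have h2 := congr(($h).hom z)
  exact (congrArg (· ∈ j.range) h2).mpr (descResidueField_SpecMap_mem_range j _)



theorem descResidueField_mem_range_of_eq {X : Scheme.{u}} {K₀ K : Type u} [Field K₀] [Field K]
    (j : K₀ →+* K) (φ₀ : Spec (.of K₀) ⟶ X) (φ : Spec (.of K) ⟶ X)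
    (hφ : φ = Spec.map (CommRingCat.ofHom j) ≫ φ₀)
    (z : X.residueField (φ (IsLocalRing.closedPoint K))) :
    (Scheme.descResidueField (Scheme.stalkClosedPointTo φ)).hom z ∈ j.range := by
  subst hφ
  exact descResidueField_comp_mem_range j φ₀ z

open Scheme.Pullback in
/-- The residue field of a point of a fibre product is generated, as a field, by the images of the
residue fields of its two projections. -/
theorem closure_range_residueFieldMap_pullback {X Y S : Scheme.{u}} (f : X ⟶ S) (g : Y ⟶ S)
    (t : ↑(pullback f g)) :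
    Subfield.closure (Set.range ((pullback.fst f g).residueFieldMap t).hom ∪
      Set.range ((pullback.snd f g).residueFieldMap t).hom) = ⊤ := by
  let E₀ : Subfield ((pullback f g).residueField t) :=
    Subfield.closure (Set.range ((pullback.fst f g).residueFieldMap t).hom ∪
      Set.range ((pullback.snd f g).residueFieldMap t).hom)
  change E₀ = ⊤
  let ix : X.residueField (pullback.fst f g t) →+* E₀ :=
    ((pullback.fst f g).residueFieldMap t).hom.codRestrict E₀
      (fun a => Subfield.subset_closure (Or.inl ⟨a, rfl⟩))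
  let iy : Y.residueField (pullback.snd f g t) →+* E₀ :=
    ((pullback.snd f g).residueFieldMap t).hom.codRestrict E₀
      (fun a => Subfield.subset_closure (Or.inr ⟨a, rfl⟩))
  let incl : E₀ →+* (pullback f g).residueField t := E₀.subtype
  let T := Triplet.ofPoint t
  have hcompat : ((S.residueFieldCongr T.hx).inv ≫ f.residueFieldMap T.x) ≫ CommRingCat.ofHom ix =
      ((S.residueFieldCongr T.hy).inv ≫ g.residueFieldMap T.y) ≫ CommRingCat.ofHom iy := by
    ext a
    exact congr(($(residueFieldCongr_inv_residueFieldMap_ofPoint t)).hom a)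
  let τ : T.tensor ⟶ CommRingCat.of E₀ :=
    pushout.desc (CommRingCat.ofHom ix) (CommRingCat.ofHom iy) hcompat
  have hτ : τ ≫ CommRingCat.ofHom incl = ofPointTensor t := by
    apply pushout.hom_ext
    · have e1 : pushout.inl _ _ ≫ τ = CommRingCat.ofHom ix := pushout.inl_desc _ _ _
      have e2 : pushout.inl _ _ ≫ ofPointTensor t = (pullback.fst f g).residueFieldMap t :=
        pushout.inl_desc _ _ _
      exact ((Category.assoc _ _ _).symm.trans
        (congrArg (· ≫ CommRingCat.ofHom incl) e1)).trans (Eq.trans rfl e2.symm)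
    · have e1 : pushout.inr _ _ ≫ τ = CommRingCat.ofHom iy := pushout.inr_desc _ _ _
      have e2 : pushout.inr _ _ ≫ ofPointTensor t = (pullback.snd f g).residueFieldMap t :=
        pushout.inr_desc _ _ _
      exact ((Category.assoc _ _ _).symm.trans
        (congrArg (· ≫ CommRingCat.ofHom incl) e1)).trans (Eq.trans rfl e2.symm)
  let φ₀ : Spec (.of E₀) ⟶ pullback f g := Spec.map τ ≫ T.SpecTensorTo
  have hφ : (pullback f g).fromSpecResidueField t = Spec.map (CommRingCat.ofHom incl) ≫ φ₀ := by
    rw [← Spec.map_comp_assoc, hτ, ofPointTensor_SpecTensorTo]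
  let φ : Spec (.of ↑((pullback f g).residueField t)) ⟶ pullback f g :=
    (pullback f g).fromSpecResidueField t
  have h1 : (Scheme.SpecToEquivOfField ((pullback f g).residueField t) (pullback f g)) φ =
      ⟨t, 𝟙 _⟩ := by
    have : φ =
        (Scheme.SpecToEquivOfField ((pullback f g).residueField t) (pullback f g)).symm
          ⟨t, 𝟙 _⟩ := by
      change (pullback f g).fromSpecResidueField t =
        Spec.map (𝟙 _) ≫ (pullback f g).fromSpecResidueField t
      exact ((congrArg (· ≫ _) (Spec.map_id _)).trans (Category.id_comp _)).symm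
    rw [this, Equiv.apply_symm_apply]
  rw [Scheme.SpecToEquivOfField_eq_iff] at h1
  obtain ⟨e, he⟩ := h1
  rw [eq_top_iff]
  intro z _
  have h2 := descResidueField_mem_range_of_eq incl φ₀ φ hφ
    (((pullback f g).residueFieldCongr e).inv.hom z)
  have h3 : (Scheme.descResidueField (Scheme.stalkClosedPointTo φ)).hom
      (((pullback f g).residueFieldCongr e).inv.hom z) = z := by
    have h4 := congr(($he).hom (((pullback f g).residueFieldCongr e).inv.hom z))
    refine h4.trans ?_
    change ((pullback f g).residueFieldCongr e).hom.hom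
      (((pullback f g).residueFieldCongr e).inv.hom z) = z
    exact congr(($(((pullback f g).residueFieldCongr e).inv_hom_id)).hom z)
  rw [h3] at h2
  obtain ⟨w, hw⟩ := h2
  rw [← hw]
  exact w.2

end Groth.Agent.Lib.Helper6.EtLoc
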