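import Mathlib

set_option autoImplicit false
universe u v w

open Polynomial IntermediateField

namespace Groth.Agent.Lib.Helper6.EtLoc

/-- Given finitely many finite extensions `L i` of `K`, there is a finite separable extension `k`
of `K` such that every element of every `L i` has a `q`-power whose minimal polynomial splits
in `k`. -/
theorem exists_splitting_extension {K : Type u} [Field K] {ι : Type w} [Finite ι]
    (L : ι → Type v) [∀ i, Field (L i)] [∀ i, Algebra K (L i)]
    [∀ i, FiniteDimensional K (L i)] :
    ∃ (k : Type u) (_ : Field k) (_ : Algebra K k) (_ : FiniteDimensional K k)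
      (_ : Algebra.IsSeparable K k),
      ∀ i (y : L i), ∃ n : ℕ,
        ((minpoly K (y ^ (ringExpChar K) ^ n)).map (algebraMap K k)).Splits := by
  classical
  haveI := Fintype.ofFinite ι
  have hfg : ∀ i, (separableClosure K (L i)).FG := fun i => IntermediateField.fg_of_noetherian _
  choose T hT using hfg
  let P : K[X] := ∏ i, ∏ t ∈ T i, minpoly K t
  have hPne : P ≠ 0 := by
    refine Finset.prod_ne_zero_iff.mpr fun i _ => Finset.prod_ne_zero_iff.mpr fun t _ => ?_
    exact minpoly.ne_zero (Algebra.IsIntegral.isIntegral t)
  have hsepT : ∀ i, ∀ t ∈ T i, IsSeparable K t := by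
    intro i t ht
    have : t ∈ separableClosure K (L i) := by
      rw [← hT i]; exact subset_adjoin K _ ht
    exact mem_separableClosure_iff.mp this
  refine ⟨P.SplittingField, inferInstance, inferInstance, inferInstance, ?_, ?_⟩
  · rw [← isSeparable_top,
      ← (isSplittingField_iff_intermediateField.mp
        (inferInstance : P.IsSplittingField K P.SplittingField)).2,
      isSeparable_adjoin_iff_isSeparable]
    intro x hx
    have hx0 : aeval x P = 0 := aeval_eq_zero_of_mem_rootSet hx
    simp only [P, map_prod, Finset.prod_eq_zero_iff] at hx0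
    obtain ⟨i, -, t, ht, h0⟩ := hx0
    exact (hsepT i t ht).of_dvd (minpoly.dvd K x h0)
  · intro i y
    haveI : ExpChar (separableClosure K (L i)) (ringExpChar K) :=
      expChar_of_injective_algebraMap (algebraMap K _).injective _
    obtain ⟨n, z, hz⟩ := IsPurelyInseparable.pow_mem (separableClosure K (L i)) (ringExpChar K) y
    refine ⟨n, ?_⟩
    rw [← hz]
    have hzmem : (z : L i) ∈ adjoin K (↑(T i) : Set (L i)) := by rw [hT i]; exact z.2
    refine splits_of_mem_adjoin K (L i) (S := (↑(T i) : Set (L i))) ?_ hzmem
    intro t ht
    refine ⟨Algebra.IsIntegral.isIntegral t, ?_⟩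
    have hsplit : (P.map (algebraMap K P.SplittingField)).Splits := SplittingField.splits P
    refine hsplit.of_dvd (Polynomial.map_ne_zero hPne) (Polynomial.map_dvd _ ?_)
    exact (Finset.dvd_prod_of_mem _ ht).trans
      (Finset.dvd_prod_of_mem (fun i => ∏ t ∈ T i, minpoly K t) (Finset.mem_univ i))

section
variable {K : Type u} {L : Type v} {F : Type u} {E : Type u} [Field K] [Field L] [Field F] [Field E]
  [Algebra K L] [Algebra K F] [Algebra F E]

/-- Compositum criterion: if `E` is generated over `F` by the image of `L`, and every element of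
`L` has a `q`-power whose minimal polynomial over `K` splits in `F`, then `E / F` is purely
inseparable. -/
theorem isPurelyInseparable_of_splits (a : L →+* E)
    (hcomp : ∀ c : K, a (algebraMap K L c) = algebraMap F E (algebraMap K F c))
    [Algebra.IsAlgebraic K L]
    (hgen : Subfield.closure (Set.range a ∪ Set.range (algebraMap F E)) = ⊤)
    (hsplit : ∀ y : L, ∃ n : ℕ,
      ((minpoly K (y ^ (ringExpChar K) ^ n)).map (algebraMap K F)).Splits) :
    IsPurelyInseparable F E := by
  haveI : ExpChar F (ringExpChar K) :=
    expChar_of_injective_algebraMap (algebraMap K F).injective _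
  rw [isPurelyInseparable_iff_perfectClosure_eq_top]
  have hle : Subfield.closure (Set.range a ∪ Set.range (algebraMap F E)) ≤
      (perfectClosure F E).toSubfield := by
    rw [Subfield.closure_le]
    rintro x (⟨y, rfl⟩ | ⟨c, rfl⟩)
    · obtain ⟨n, hn⟩ := hsplit y
      change a y ∈ perfectClosure F E
      rw [mem_perfectClosure_iff_pow_mem (ringExpChar K)]
      refine ⟨n, ?_⟩
      have hint : IsIntegral K (y ^ (ringExpChar K) ^ n) := Algebra.IsIntegral.isIntegral _
      have hne : (minpoly K (y ^ (ringExpChar K) ^ n)).map (algebraMap K F) ≠ 0 :=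
        Polynomial.map_ne_zero (minpoly.ne_zero hint)
      rw [← map_pow]
      refine hn.mem_range_of_isRoot hne (i := algebraMap F E) ?_
      rw [IsRoot.def, Polynomial.map_map, eval_map]
      have h1 : (algebraMap F E).comp (algebraMap K F) = a.comp (algebraMap K L) := by
        ext c; exact (hcomp c).symm
      rw [h1, ← eval₂_map, eval₂_hom, eval_map_algebraMap, minpoly.aeval, map_zero]
    · exact (perfectClosure F E).algebraMap_mem c
  rw [hgen] at hle
  rw [eq_top_iff]
  intro x _
  exact hle (Subfield.mem_top x)

theorem finite_of_generated (a : L →+* E)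
    (hcomp : ∀ c : K, a (algebraMap K L c) = algebraMap F E (algebraMap K F c))
    [Module.Finite K L]
    (hgen : Subfield.closure (Set.range a ∪ Set.range (algebraMap F E)) = ⊤) :
    Module.Finite F E := by
  classical
  obtain ⟨s, hs⟩ := (Module.Finite.fg_top : (⊤ : Submodule K L).FG)
  let T : Set E := a '' (s : Set L)
  haveI : Finite T := (s.finite_toSet.image a).to_subtype
  have h1 : (algebraMap F E).comp (algebraMap K F) = a.comp (algebraMap K L) := by
    ext c; exact (hcomp c).symm
  have hint : ∀ x ∈ T, IsIntegral F x := by
    rintro _ ⟨y, -, rfl⟩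
    exact IsIntegral.map_of_comp_eq (algebraMap K F) a h1 (Algebra.IsIntegral.isIntegral y)
  haveI : FiniteDimensional F (adjoin F T) := finiteDimensional_adjoin hint
  have hrange : ∀ y : L, a y ∈ adjoin F T := by
    intro y
    have hy : y ∈ Submodule.span K (s : Set L) := by rw [hs]; trivial
    induction hy using Submodule.span_induction with
    | mem y hy => exact subset_adjoin F T ⟨y, hy, rfl⟩
    | zero => rw [map_zero]; exact zero_mem _
    | add y z _ _ hy hz => rw [map_add]; exact add_mem hy hz
    | smul c y _ hy =>
      rw [Algebra.smul_def, map_mul, hcomp]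
      exact mul_mem ((adjoin F T).algebraMap_mem _) hy
  have hle : Subfield.closure (Set.range a ∪ Set.range (algebraMap F E)) ≤
      (adjoin F T).toSubfield := by
    rw [Subfield.closure_le]
    rintro x (⟨y, rfl⟩ | ⟨c, rfl⟩)
    · exact hrange y
    · exact (adjoin F T).algebraMap_mem c
  rw [hgen] at hle
  have htop : adjoin F T = ⊤ := by
    rw [eq_top_iff]
    intro x _
    exact hle (Subfield.mem_top x)
  rw [htop] at this
  exact Module.Finite.equiv (IntermediateField.topEquiv (F := F) (E := E)).toLinearEquiv

end

end Groth.Agent.Lib.Helper6.EtLoc
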