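import Mathlib
import Groth.Agent.Lib.Helper6.EtLocInsep
import Groth.Agent.Lib.Helper6.EtLocCompositum

set_option autoImplicit false
universe u

open CategoryTheory AlgebraicGeometry Limits

namespace Groth.Agent.Lib.Helper6.EtLoc

/-- A quasi-finite local homomorphism of local rings induces a finite residue field extension. -/
theorem finite_residueField_of_quasiFinite {R A : Type*} [CommRing R] [CommRing A] [IsLocalRing R]
    [IsLocalRing A] (φ : R →+* A) [IsLocalHom φ] (h : φ.QuasiFinite) :
    letI := (IsLocalRing.ResidueField.map φ).toAlgebra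
    Module.Finite (IsLocalRing.ResidueField R) (IsLocalRing.ResidueField A) := by
  letI := φ.toAlgebra
  letI := (IsLocalRing.ResidueField.map φ).toAlgebra
  haveI : Algebra.QuasiFinite R A := h
  haveI : IsScalarTower R (IsLocalRing.ResidueField R) (IsLocalRing.ResidueField A) :=
    IsScalarTower.of_algebraMap_eq fun r => rfl
  haveI : Algebra.QuasiFinite R (IsLocalRing.ResidueField A) :=
    inferInstanceAs (Algebra.QuasiFinite R (A ⧸ IsLocalRing.maximalIdeal A))
  haveI : Algebra.QuasiFinite (IsLocalRing.ResidueField R) (IsLocalRing.ResidueField A) :=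
    Algebra.QuasiFinite.of_restrictScalars R _ _
  exact Module.Finite.of_quasiFinite

theorem finite_residueField_of_quasiFiniteAt {X S : Scheme.{u}} (f : X ⟶ S) (x : X)
    (hx : f.QuasiFiniteAt x) :
    letI := (f.residueFieldMap x).hom.toAlgebra
    Module.Finite (S.residueField (f x)) (X.residueField x) :=
  finite_residueField_of_quasiFinite (f.stalkMap x).hom hx

/-- `x₀ : X` and `u₀ : U` lie over `s : S`; `κ(x₀)` is finite over `κ(s)` and every element of
`κ(x₀)` has a `q`-power whose minimal polynomial over `κ(s)` splits in `κ(u₀)`. -/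
def InsepData {X S U : Scheme.{u}} (f : X ⟶ S) (g : U ⟶ S) (x₀ : X) (u₀ : U) (s : S)
    (hs : f x₀ = s) (hu : g u₀ = s) : Prop :=
  letI := ((S.residueFieldCongr hs).inv ≫ f.residueFieldMap x₀).hom.toAlgebra
  letI := ((S.residueFieldCongr hu).inv ≫ g.residueFieldMap u₀).hom.toAlgebra
  Module.Finite (S.residueField s) (X.residueField x₀) ∧
  ∀ y : X.residueField x₀, ∃ n : ℕ,
    ((minpoly (S.residueField s) (y ^ (ringExpChar (S.residueField s)) ^ n)).map
      (algebraMap (S.residueField s) (U.residueField u₀))).Splits

theorem InsepData.congr {X S U : Scheme.{u}} {f : X ⟶ S} {g : U ⟶ S} {x₀ x₁ : X} {u₀ u₁ : U}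
    {s s₁ : S} {hs : f x₀ = s} {hu : g u₀ = s} (h : InsepData f g x₀ u₀ s hs hu)
    (hx : x₀ = x₁) (hu' : u₀ = u₁) (hs' : s = s₁) (hs₁ : f x₁ = s₁) (hu₁ : g u₁ = s₁) :
    InsepData f g x₁ u₁ s₁ hs₁ hu₁ := by
  subst hx hu' hs'
  exact h

open Scheme.Pullback in
/-- Use of `InsepData`: the residue field extension at a point of the fibre product is finite
and purely inseparable. -/
theorem InsepData.finite_and_isPurelyInseparable {X S U : Scheme.{u}} {f : X ⟶ S} {g : U ⟶ S}
    (w : ↑(pullback f g))
    (h : InsepData f g (pullback.fst f g w) (pullback.snd f g w) (Triplet.ofPoint w).s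
      (Triplet.ofPoint w).hx (Triplet.ofPoint w).hy) :
    letI := ((pullback.snd f g).residueFieldMap w).hom.toAlgebra
    Module.Finite (U.residueField (pullback.snd f g w)) ((pullback f g).residueField w) ∧
    IsPurelyInseparable (U.residueField (pullback.snd f g w))
      ((pullback f g).residueField w) := by
  letI algKL := ((S.residueFieldCongr (Triplet.ofPoint w).hx).inv ≫
    f.residueFieldMap (pullback.fst f g w)).hom.toAlgebra
  letI algKF := ((S.residueFieldCongr (Triplet.ofPoint w).hy).inv ≫
    g.residueFieldMap (pullback.snd f g w)).hom.toAlgebra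
  letI algFE := ((pullback.snd f g).residueFieldMap w).hom.toAlgebra
  obtain ⟨hfin, hsplit⟩ := h
  haveI : Module.Finite (S.residueField (Triplet.ofPoint w).s)
    (X.residueField (pullback.fst f g w)) := hfin
  have hcomp : ∀ c : S.residueField (Triplet.ofPoint w).s,
      ((pullback.fst f g).residueFieldMap w).hom
        (algebraMap (S.residueField (Triplet.ofPoint w).s)
          (X.residueField (pullback.fst f g w)) c) =
      algebraMap (U.residueField (pullback.snd f g w)) ((pullback f g).residueField w)
        (algebraMap (S.residueField (Triplet.ofPoint w).s)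
          (U.residueField (pullback.snd f g w)) c) := fun c =>
    congr(($(residueFieldCongr_inv_residueFieldMap_ofPoint w)).hom c)
  have hgen := closure_range_residueFieldMap_pullback f g w
  exact ⟨finite_of_generated ((pullback.fst f g).residueFieldMap w).hom hcomp hgen,
    isPurelyInseparable_of_splits ((pullback.fst f g).residueFieldMap w).hom hcomp hgen hsplit⟩

/-- `InsepData` is inherited by further neighbourhoods. -/
theorem InsepData.comp {X S U' U : Scheme.{u}} {f : X ⟶ S} {g' : U' ⟶ S} (g'' : U ⟶ U')
    {x₀ : X} {s : S} {hs : f x₀ = s} (u : U) {hu : g' (g'' u) = s}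
    (h : InsepData f g' x₀ (g'' u) s hs hu) :
    InsepData f (g'' ≫ g') x₀ u s hs hu := by
  letI algKL := ((S.residueFieldCongr hs).inv ≫ f.residueFieldMap x₀).hom.toAlgebra
  letI algKF' := ((S.residueFieldCongr hu).inv ≫ g'.residueFieldMap (g'' u)).hom.toAlgebra
  obtain ⟨hfin, hsplit⟩ := h
  refine ⟨hfin, fun y => ?_⟩
  obtain ⟨n, hn⟩ := hsplit y
  refine ⟨n, ?_⟩
  have := hn.map (g''.residueFieldMap u).hom
  rw [Polynomial.map_map] at this
  convert this using 2
  rw [RingHom.algebraMap_toAlgebra, RingHom.algebraMap_toAlgebra, Scheme.residueFieldMap_comp]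
  rfl

end Groth.Agent.Lib.Helper6.EtLoc
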