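import Mathlib.AlgebraicGeometry.ZariskisMainTheorem
import Mathlib.AlgebraicGeometry.Fiber
import Mathlib.RingTheory.Etale.Field
import Mathlib.RingTheory.Unramified.LocalStructure
import Mathlib.Topology.KrullDimension
import Mathlib.RingTheory.AlgebraicIndependent.TranscendenceBasis
import Groth.Prelude.Def_Flat

set_option autoImplicit false
universe u

open CategoryTheory AlgebraicGeometry Limits Order

namespace Groth.Agent.Lib.Helper6.EtaleSq

/-- The residue field extension of an étale morphism is étale. -/
theorem etale_SpecMap_residueFieldMap {V' V : Scheme.{u}} (b : V' ⟶ V) [Etale b] (v' : V') :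
    Etale (Spec.map (b.residueFieldMap v')) := by
  rw [HasRingHomProperty.Spec_iff (P := @Etale)]
  let _ : Algebra (V.residueField (b v')) (V'.residueField v') :=
    (b.residueFieldMap v').hom.toAlgebra
  have sep : Algebra.IsSeparable (V.residueField (b v')) (V'.residueField v') := inferInstance
  have ess : Algebra.EssFiniteType (V.residueField (b v')) (V'.residueField v') := by
    have h1 : (b.stalkMap v').hom.EssFiniteType := LocallyOfFiniteType.stalkMap b v'
    have : IsLocalHom (b.stalkMap v').hom := inferInstance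
    exact RingHom.EssFiniteType.residueFieldMap h1
  have fe : Algebra.FormallyEtale (V.residueField (b v')) (V'.residueField v') :=
    Algebra.FormallyEtale.of_isSeparable _ _
  have fin : Module.Finite (V.residueField (b v')) (V'.residueField v') :=
    Algebra.FormallyUnramified.finite_of_free _ _
  have fp : Algebra.FinitePresentation (V.residueField (b v')) (V'.residueField v') :=
    Algebra.FinitePresentation.of_finiteType.mp inferInstance
  have : Algebra.Etale (V.residueField (b v')) (V'.residueField v') := ⟨fe, fp⟩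
  exact RingHom.etale_algebraMap.mpr this

/-- The morphism of fibres in a square with étale vertical maps is étale. -/
theorem etale_fiber_map {U U' V V' : Scheme.{u}} (h : U ⟶ V) (h' : U' ⟶ V') (a : U' ⟶ U)
    (b : V' ⟶ V) [Etale a] [Etale b] (comm : h' ≫ b = a ≫ h) (v' : V')
    (φ : h'.fiber v' ⟶ h.fiber (b v')) (hφ1 : φ ≫ h.fiberι (b v') = h'.fiberι v' ≫ a)
    (hφ2 : φ ≫ h.fiberToSpecResidueField (b v') =
      h'.fiberToSpecResidueField v' ≫ Spec.map (b.residueFieldMap v')) :
    Etale φ := by
  let p1 := pullback.fst h b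
  let p2 := pullback.snd h b
  let c : U' ⟶ pullback h b := pullback.lift a h' comm.symm
  have hc1 : c ≫ p1 = a := pullback.lift_fst _ _ _
  have hc2 : c ≫ p2 = h' := pullback.lift_snd _ _ _
  have hcp : Etale (c ≫ p1) := hc1 ▸ inferInstance
  have hc : Etale c := MorphismProperty.of_postcomp (W := @Etale) (W' := @Etale) c p1
    inferInstance hcp
  let cv : h'.fiber v' ⟶ p2.fiber v' :=
    pullback.lift (h'.fiberι v' ≫ c) (h'.fiberToSpecResidueField v')
      (by rw [Category.assoc, hc2]; exact h'.fiber_fac v')
  have hcv1 : cv ≫ p2.fiberToSpecResidueField v' = h'.fiberToSpecResidueField v' :=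
    pullback.lift_snd _ _ _
  have hcv2 : h'.fiberι v' ≫ c = cv ≫ p2.fiberι v' := (pullback.lift_fst _ _ _).symm
  have hpb : IsPullback (h'.fiberι v') cv c (p2.fiberι v') := by
    refine IsPullback.of_bot (v₂₁ := p2.fiberToSpecResidueField v') (v₂₂ := p2)
      (h₃₁ := V'.fromSpecResidueField v') ?_ hcv2 (IsPullback.of_hasPullback p2 _)
    rw [hcv1, hc2]
    exact IsPullback.of_hasPullback h' _
  have hcvE : Etale cv := MorphismProperty.of_isPullback (P := @Etale) hpb hc
  have hψ := isPullback_fiberToSpecResidueField_of_isPullback (IsPullback.of_hasPullback h b) v'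
  have hE := etale_SpecMap_residueFieldMap b v'
  have hψE := MorphismProperty.of_isPullback (P := @Etale) hψ.flip hE
  let ψ : p2.fiber v' ⟶ h.fiber (b v') :=
    pullback.map _ _ _ _ p1 (Spec.map (b.residueFieldMap v')) b
      (IsPullback.of_hasPullback h b).w.symm (by simp)
  have hψ1 : ψ ≫ h.fiberι (b v') = p2.fiberι v' ≫ p1 := pullback.lift_fst _ _ _
  have hψ2 : ψ ≫ h.fiberToSpecResidueField (b v') =
      p2.fiberToSpecResidueField v' ≫ Spec.map (b.residueFieldMap v') := pullback.lift_snd _ _ _
  have hψE' : Etale ψ := hψE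
  have hext : ∀ (α β : h'.fiber v' ⟶ h.fiber (b v')),
      α ≫ h.fiberι (b v') = β ≫ h.fiberι (b v') →
      α ≫ h.fiberToSpecResidueField (b v') = β ≫ h.fiberToSpecResidueField (b v') → α = β :=
    fun α β h1 h2 => pullback.hom_ext h1 h2
  have hφ : φ = cv ≫ ψ := by
    apply hext
    · rw [hφ1, Category.assoc, hψ1, ← Category.assoc, ← hcv2, Category.assoc, hc1]
    · rw [hφ2, Category.assoc, hψ2, ← Category.assoc, hcv1]
  rw [hφ]
  infer_instance

/-- Transcendence degree is insensitive to algebraic extensions on both sides of a square. -/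
theorem trdeg_eq_of_square {K L K' L' : Type u} [Field K] [Field L] [Field K'] [Field L']
    (φ : K →+* L) (α : L →+* L') (φ' : K' →+* L') (β : K →+* K')
    (hcomm : α.comp φ = φ'.comp β)
    (hα : letI := α.toAlgebra; Algebra.IsAlgebraic L L')
    (hβ : letI := β.toAlgebra; Algebra.IsAlgebraic K K') :
    @Algebra.trdeg K L _ _ φ.toAlgebra = @Algebra.trdeg K' L' _ _ φ'.toAlgebra := by
  let _ : Algebra K L := φ.toAlgebra
  let _ : Algebra L L' := α.toAlgebra
  let _ : Algebra K' L' := φ'.toAlgebra
  let _ : Algebra K K' := β.toAlgebra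
  let _ : Algebra K L' := (α.comp φ).toAlgebra
  have t1 : IsScalarTower K L L' := IsScalarTower.of_algebraMap_eq (fun x => rfl)
  have t2 : IsScalarTower K K' L' := IsScalarTower.of_algebraMap_eq (fun x => by
    change (α.comp φ) x = (φ'.comp β) x
    rw [hcomm])
  have e1 := trdeg_add_eq K L (A := L')
  have e2 := trdeg_add_eq K K' (A := L')
  rw [trdeg_eq_zero (R := L) (A := L'), add_zero] at e1
  rw [trdeg_eq_zero (R := K) (A := K'), zero_add] at e2
  rw [e1, e2]

theorem isAlgebraic_residueFieldMap {X Y : Scheme.{u}} (f : X ⟶ Y) [Etale f] (x : X) :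
    letI := (f.residueFieldMap x).hom.toAlgebra
    Algebra.IsAlgebraic (Y.residueField (f x)) (X.residueField x) := by
  let _ : Algebra (Y.residueField (f x)) (X.residueField x) := (f.residueFieldMap x).hom.toAlgebra
  have sep : Algebra.IsSeparable (Y.residueField (f x)) (X.residueField x) := inferInstance
  exact Algebra.IsSeparable.isAlgebraic _ _

theorem trdeg_residueField_etale_square {U U' V V' : Scheme.{u}} (h : U ⟶ V) (h' : U' ⟶ V')
    (a : U' ⟶ U) (b : V' ⟶ V) [Etale a] [Etale b] (comm : h' ≫ b = a ≫ h) (u' : U') :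
    @Algebra.trdeg (V.residueField (h (a u'))) (U.residueField (a u')) _ _
      (h.residueFieldMap (a u')).hom.toAlgebra =
    @Algebra.trdeg (V'.residueField (h' u')) (U'.residueField u') _ _
      (h'.residueFieldMap u').hom.toAlgebra := by
  have hpt : h (a u') = b (h' u') := by
    rw [← Scheme.Hom.comp_apply, ← Scheme.Hom.comp_apply, comm]
  let β : V.residueField (h (a u')) ⟶ V'.residueField (h' u') :=
    (V.residueFieldCongr hpt).hom ≫ b.residueFieldMap (h' u')
  refine trdeg_eq_of_square (h.residueFieldMap (a u')).hom (a.residueFieldMap u').hom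
    (h'.residueFieldMap u').hom β.hom ?_ (isAlgebraic_residueFieldMap a u') ?_
  · have e1 : (a ≫ h).residueFieldMap u' = h.residueFieldMap (a u') ≫ a.residueFieldMap u' :=
      Scheme.residueFieldMap_comp a h u'
    have e2 : (h' ≫ b).residueFieldMap u' = b.residueFieldMap (h' u') ≫ h'.residueFieldMap u' :=
      Scheme.residueFieldMap_comp h' b u'
    have e3 := Scheme.Hom.residueFieldMap_congr comm.symm u'
    rw [e1, e2] at e3
    have : h.residueFieldMap (a u') ≫ a.residueFieldMap u' = β ≫ h'.residueFieldMap u' := by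
      rw [e3]
      simp only [β, Category.assoc]
      rfl
    exact congrArg CommRingCat.Hom.hom this
  · let _ : Algebra (V.residueField (h (a u'))) (V'.residueField (h' u')) := β.hom.toAlgebra
    let _ : Algebra (V.residueField (b (h' u'))) (V'.residueField (h' u')) :=
      (b.residueFieldMap (h' u')).hom.toAlgebra
    have halg : Algebra.IsAlgebraic (V.residueField (b (h' u'))) (V'.residueField (h' u')) :=
      isAlgebraic_residueFieldMap b (h' u')
    refine Algebra.IsAlgebraic.of_ringHom_of_comp_eq (S := V.residueField (b (h' u')))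
      (B := V'.residueField (h' u')) (V.residueFieldCongr hpt).hom.hom (RingHom.id _)
      ?_ Function.injective_id ?_
    · exact ((V.residueFieldCongr hpt).commRingCatIsoToRingEquiv).surjective
    · rfl

section Top

attribute [local instance] specializationOrder

theorem topologicalKrullDim_eq_krullDim (X : Type*) [TopologicalSpace X] [QuasiSober X]
    [T0Space X] : topologicalKrullDim X = krullDim X :=
  krullDim_eq_of_orderIso irreducibleSetEquivPoints

/-- A continuous surjective generalizing map without specializations in its fibres preserves the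
Krull dimension. -/
theorem topologicalKrullDim_eq_of_generalizingMap {X Y : Type*} [TopologicalSpace X]
    [TopologicalSpace Y] [QuasiSober X] [T0Space X] [QuasiSober Y] [T0Space Y] (f : X → Y)
    (hc : Continuous f) (hg : GeneralizingMap f) (hs : Function.Surjective f)
    (hfib : ∀ x x' : X, x' ⤳ x → f x' = f x → x' = x) :
    topologicalKrullDim X = topologicalKrullDim Y := by
  rw [topologicalKrullDim_eq_krullDim, topologicalKrullDim_eq_krullDim]
  have hmono : StrictMono f := by
    intro x x' hlt
    have h1 : x' ⤳ x := hlt.le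
    refine lt_of_le_of_ne (h1.map hc) ?_
    intro heq
    exact hlt.ne (hfib x x' h1 heq.symm).symm
  have hlift : ∀ a : X, ∀ b : Y, f a < b → ∃ a' : X, a < a' ∧ f a' = b := by
    intro a b hab
    have h1 : b ⤳ f a := hab.le
    obtain ⟨a', ha', rfl⟩ := hg h1
    refine ⟨a', lt_of_le_of_ne ha' ?_, rfl⟩
    rintro rfl
    exact hab.ne rfl
  have hco := coheight_eq_of_strictMono f hmono hlift
  rw [krullDim_eq_iSup_coheight, krullDim_eq_iSup_coheight]
  simp_rw [hco]
  exact hs.iSup_comp (fun b => ((coheight b : ℕ∞) : WithBot ℕ∞))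

end Top

theorem locallyQuasiFinite_of_etale {X Y : Scheme.{u}} (f : X ⟶ Y) [Etale f] :
    LocallyQuasiFinite f := by
  refine ⟨fun {U} hU {V} hV e => ?_⟩
  have h1 : (f.appLE U V e).hom.Etale := f.etale_appLE hU hV e
  algebraize [(f.appLE U V e).hom]
  rw [RingHom.QuasiFinite]
  infer_instance

/-- No nontrivial specializations in the fibres of a locally quasi-finite morphism. -/
theorem eq_of_specializes_of_locallyQuasiFinite {X Y : Scheme.{u}} (f : X ⟶ Y)
    [LocallyQuasiFinite f] (x x' : X) (h : x' ⤳ x) (hf : f x' = f x) : x' = x := by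
  have hd := f.isDiscrete_preimage_singleton (f x)
  rw [isDiscrete_iff_discreteTopology] at hd
  have h' : (⟨x', hf⟩ : f ⁻¹' {f x}) ⤳ (⟨x, rfl⟩ : f ⁻¹' {f x}) :=
    (Topology.IsInducing.subtypeVal.specializes_iff).mp h
  exact congrArg Subtype.val h'.eq

/-- An étale morphism preserves the Krull dimension of open subsets. -/
theorem topologicalKrullDim_image_eq {U V : Scheme.{u}} (f : U ⟶ V) [Etale f] (W : Set U)
    (hW : IsOpen W) : topologicalKrullDim W = topologicalKrullDim (f '' W) := by
  have hfW : IsOpen (f '' W) := f.isOpenMap W hW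
  have : QuasiSober W := hW.isOpenEmbedding_subtypeVal.quasiSober
  have : QuasiSober (f '' W) := hfW.isOpenEmbedding_subtypeVal.quasiSober
  have : LocallyQuasiFinite f := locallyQuasiFinite_of_etale f
  refine topologicalKrullDim_eq_of_generalizingMap (Set.imageFactorization f W) ?_ ?_
    Set.imageFactorization_surjective ?_
  · exact (f.continuous.comp continuous_subtype_val).subtype_mk _
  · intro x y hyx
    have h1 : y.1 ⤳ f x.1 := (Topology.IsInducing.subtypeVal.specializes_iff).mpr hyx
    obtain ⟨x', hx', hfx'⟩ := Flat.generalizingMap f h1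
    have hx'W : x' ∈ W := hx'.mem_open hW x.2
    refine ⟨⟨x', hx'W⟩, (Topology.IsInducing.subtypeVal.specializes_iff).mp hx', ?_⟩
    exact Subtype.ext hfx'
  · intro x x' hsp heq
    have h1 : x'.1 ⤳ x.1 := (Topology.IsInducing.subtypeVal.specializes_iff).mpr hsp
    have h2 : f x'.1 = f x.1 := congrArg Subtype.val heq
    exact Subtype.ext (eq_of_specializes_of_locallyQuasiFinite f _ _ h1 h2)

/-- The local dimension is invariant under étale morphisms. -/
theorem localDim_eq_of_etale {U V : Scheme.{u}} (f : U ⟶ V) [Etale f] (u : U) :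
    FlatMor.localDim U u = FlatMor.localDim V (f u) := by
  unfold FlatMor.localDim
  apply le_antisymm
  · refine le_iInf fun W' => ?_
    let W : {W : TopologicalSpace.Opens U // u ∈ W} := ⟨f ⁻¹ᵁ W'.1, W'.2⟩
    refine (iInf_le _ W).trans ?_
    have h1 := topologicalKrullDim_image_eq f (W.1 : Set U) W.1.2
    have hsub : f '' (W.1 : Set U) ⊆ (W'.1 : Set V) := by
      rintro _ ⟨x, hx, rfl⟩
      exact hx
    change topologicalKrullDim (W.1 : Set U) ≤ _
    rw [h1]
    exact (Topology.IsEmbedding.inclusion hsub).isInducing.topologicalKrullDim_le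
  · refine le_iInf fun W => ?_
    have hfW : IsOpen (f '' (W.1 : Set U)) := f.isOpenMap _ W.1.2
    let W' : {W' : TopologicalSpace.Opens V // f u ∈ W'} :=
      ⟨⟨f '' (W.1 : Set U), hfW⟩, ⟨u, W.2, rfl⟩⟩
    refine (iInf_le _ W').trans ?_
    have h1 := topologicalKrullDim_image_eq f (W.1 : Set U) W.1.2
    rw [h1]
    exact le_rfl

theorem localDim_fiber_eq_fibreDimAt {U V : Scheme.{u}} (h : U ⟶ V) (x : U) (y : V)
    (hy : h x = y) (t : h.fiber y) (ht : h.fiberι y t = x) :
    FlatMor.localDim (h.fiber y) t = FlatMor.fibreDimAt h x := by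
  subst hy
  have : t = h.asFiber x := by
    apply (h.fiberι (h x)).isEmbedding.injective
    rw [ht, Scheme.Hom.fiberι_asFiber]
  rw [this]
  rfl

theorem fibreDimAt_etale_square {U U' V V' : Scheme.{u}} (h : U ⟶ V) (h' : U' ⟶ V')
    (a : U' ⟶ U) (b : V' ⟶ V) [Etale a] [Etale b] (comm : h' ≫ b = a ≫ h) (u' : U') :
    FlatMor.fibreDimAt h (a u') = FlatMor.fibreDimAt h' u' := by
  have hpt : h (a u') = b (h' u') := by
    rw [← Scheme.Hom.comp_apply, ← Scheme.Hom.comp_apply, comm]
  let φ : h'.fiber (h' u') ⟶ h.fiber (b (h' u')) :=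
    pullback.lift (h'.fiberι (h' u') ≫ a)
      (h'.fiberToSpecResidueField (h' u') ≫ Spec.map (b.residueFieldMap (h' u'))) (by
        rw [Category.assoc, ← comm, ← Category.assoc, h'.fiber_fac, Category.assoc, Category.assoc,
          Scheme.Hom.SpecMap_residueFieldMap_fromSpecResidueField])
  have hφ1 : φ ≫ h.fiberι (b (h' u')) = h'.fiberι (h' u') ≫ a := pullback.lift_fst _ _ _
  have hφ2 : φ ≫ h.fiberToSpecResidueField (b (h' u')) =
      h'.fiberToSpecResidueField (h' u') ≫ Spec.map (b.residueFieldMap (h' u')) :=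
    pullback.lift_snd _ _ _
  have hφ : Etale φ := etale_fiber_map h h' a b comm (h' u') φ hφ1 hφ2
  have e1 : FlatMor.fibreDimAt h' u' =
      FlatMor.localDim (h.fiber (b (h' u'))) (φ (h'.asFiber u')) :=
    localDim_eq_of_etale φ (h'.asFiber u')
  rw [e1]
  symm
  refine localDim_fiber_eq_fibreDimAt h (a u') (b (h' u')) hpt _ ?_
  rw [← Scheme.Hom.comp_apply, hφ1, Scheme.Hom.comp_apply, Scheme.Hom.fiberι_asFiber]

end Groth.Agent.Lib.Helper6.EtaleSq
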