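import Groth.Agent.Lib.Helper6.SqCubeTower
import Groth.Prelude.Def_HTop2

set_option autoImplicit false
universe u

open CategoryTheory AlgebraicGeometry Limits TensorProduct Polynomial

namespace Groth.Agent.Lib.Helper6.AWN

open Groth.Agent.Lib.Helper6.UnivHomeoRing Groth.Agent.Lib.Helper6.SqCube

section Lift

variable {A C : Type u} [CommRing A] [CommRing C]

/-- For an integral ring map `ψ : A → C` and primes `𝔮` over `𝔭`, the residue field extension
`κ(𝔭) → κ(𝔮)` is algebraic. -/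
theorem isAlgebraic_residueField (ψ : A →+* C) (hint : ψ.IsIntegral)
    (𝔭 : Ideal A) [𝔭.IsPrime] (𝔮 : Ideal C) [𝔮.IsPrime] (h : 𝔭 = 𝔮.comap ψ) :
    letI : Algebra 𝔭.ResidueField 𝔮.ResidueField :=
      (Ideal.ResidueField.map 𝔭 𝔮 ψ h).toAlgebra
    Algebra.IsAlgebraic 𝔭.ResidueField 𝔮.ResidueField := by
  let _ : Algebra 𝔭.ResidueField 𝔮.ResidueField := (Ideal.ResidueField.map 𝔭 𝔮 ψ h).toAlgebra
  have hι : ∀ a : A, algebraMap 𝔭.ResidueField 𝔮.ResidueField (algebraMap A 𝔭.ResidueField a) =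
      algebraMap C 𝔮.ResidueField (ψ a) := fun a =>
    Ideal.ResidueField.map_algebraMap 𝔭 𝔮 ψ h a
  have key : ∀ c : C, IsIntegral 𝔭.ResidueField (algebraMap C 𝔮.ResidueField c) := by
    intro c
    obtain ⟨p, hp, hp0⟩ := hint c
    refine ⟨p.map (algebraMap A 𝔭.ResidueField), hp.map _, ?_⟩
    rw [Polynomial.eval₂_map]
    have e : (algebraMap 𝔭.ResidueField 𝔮.ResidueField).comp (algebraMap A 𝔭.ResidueField) =
        (algebraMap C 𝔮.ResidueField).comp ψ := by
      ext a; exact hι a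
    rw [e, ← Polynomial.hom_eval₂, hp0, map_zero]
  refine ⟨fun z => ?_⟩
  obtain ⟨d, hd, c, hdc⟩ := Groth.Agent.Lib.Helper6.exists_denominator 𝔮 z
  have hd0 : algebraMap C 𝔮.ResidueField d ≠ 0 := by
    rw [Ne, Ideal.algebraMap_residueField_eq_zero]; exact hd
  have hz : z = algebraMap C 𝔮.ResidueField c * (algebraMap C 𝔮.ResidueField d)⁻¹ := by
    rw [← hdc, mul_assoc, mul_inv_cancel₀ hd0, mul_one]
  rw [hz]
  exact ((key c).mul (key d).inv).isAlgebraic

/-- A ring map which is integral and surjective on spectra admits, for each prime `𝔭` of the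
source, a lift of `A → \overline{κ(𝔭)}` to the target. -/
theorem exists_hom_algebraicClosure (ψ : A →+* C) (hint : ψ.IsIntegral)
    (hsurj : Function.Surjective (PrimeSpectrum.comap ψ)) (𝔭 : PrimeSpectrum A) :
    ∃ g : C →+* AlgebraicClosure 𝔭.asIdeal.ResidueField,
      g.comp ψ = algebraMap A (AlgebraicClosure 𝔭.asIdeal.ResidueField) := by
  obtain ⟨𝔮, h𝔮⟩ := hsurj 𝔭
  have h : 𝔭.asIdeal = 𝔮.asIdeal.comap ψ := by rw [← h𝔮]; rfl
  let _ : Algebra 𝔭.asIdeal.ResidueField 𝔮.asIdeal.ResidueField :=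
    (Ideal.ResidueField.map 𝔭.asIdeal 𝔮.asIdeal ψ h).toAlgebra
  have := isAlgebraic_residueField ψ hint 𝔭.asIdeal 𝔮.asIdeal h
  let f : 𝔮.asIdeal.ResidueField →ₐ[𝔭.asIdeal.ResidueField]
      AlgebraicClosure 𝔭.asIdeal.ResidueField := IsAlgClosed.lift
  refine ⟨f.toRingHom.comp (algebraMap C 𝔮.asIdeal.ResidueField), ?_⟩
  ext a
  simp only [RingHom.comp_apply]
  have h1 : algebraMap C 𝔮.asIdeal.ResidueField (ψ a) =
      algebraMap 𝔭.asIdeal.ResidueField 𝔮.asIdeal.ResidueField
        (algebraMap A 𝔭.asIdeal.ResidueField a) :=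
    (Ideal.ResidueField.map_algebraMap 𝔭.asIdeal 𝔮.asIdeal ψ h a).symm
  rw [h1]
  have h2 := f.commutes (algebraMap A 𝔭.asIdeal.ResidueField a)
  rw [IsScalarTower.algebraMap_apply A 𝔭.asIdeal.ResidueField
    (AlgebraicClosure 𝔭.asIdeal.ResidueField)]
  exact h2

end Lift

section Exists

variable (A : Type u) [CommRing A]

/-- The product of the algebraic closures of all residue fields of `A`. -/
abbrev BigProd : Type u := ∀ 𝔭 : PrimeSpectrum A, AlgebraicClosure 𝔭.asIdeal.ResidueField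

theorem ker_bigProd_le_nilradical : RingHom.ker (algebraMap A (BigProd A)) ≤ nilradical A := by
  intro a ha
  rw [nilradical_eq_sInf, Ideal.mem_sInf]
  intro 𝔭 h𝔭
  have h𝔭' : 𝔭.IsPrime := h𝔭
  rw [RingHom.mem_ker] at ha
  have h1 := congrFun ha ⟨𝔭, h𝔭'⟩
  have h2 : algebraMap A (AlgebraicClosure 𝔭.ResidueField) a = 0 := h1
  rw [IsScalarTower.algebraMap_apply A 𝔭.ResidueField (AlgebraicClosure 𝔭.ResidueField),
    map_eq_zero_iff _ (algebraMap 𝔭.ResidueField (AlgebraicClosure 𝔭.ResidueField)).injective,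
    Ideal.algebraMap_residueField_eq_zero] at h2
  exact h2

instance : IsReduced (BigProd A) := by
  constructor
  intro x hx
  funext 𝔭
  obtain ⟨n, hn⟩ := hx
  have := congrFun hn 𝔭
  have h2 : (x 𝔭) ^ n = 0 := this
  exact pow_eq_zero_iff (n := n) (by
    rintro rfl
    simp at h2) |>.mp h2

/-- Existence of the absolute weak normalization of a ring, with the extra information that it
is (isomorphic to) a subring of a product of fields. -/
theorem exists_isRingAWN_subalgebra :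
    ∃ B' : Subalgebra A (BigProd A), HTop.IsRingAWN (algebraMap A B') := by
  obtain ⟨B', hU, hmax⟩ := exists_max_isUnivHomeo_subalgebra (A := A) (B := BigProd A)
    (ker_bigProd_le_nilradical A)
  refine ⟨B', hU, ?_⟩
  intro C _ ψ hψ
  let _ : Algebra A C := ψ.toAlgebra
  obtain ⟨hint, hcrit, hsurj⟩ := (uh_iff ψ).mp hψ
  choose g hg using exists_hom_algebraicClosure ψ hint hsurj
  let G : C →ₐ[A] BigProd A :=
    { toRingHom := RingHom.pi g
      commutes' := by
        intro a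
        funext 𝔭
        exact congrArg (fun k => k a) (hg 𝔭) }
  have hG : ∀ c, G c ∈ B' := fun c => hmax C G hψ ⟨c, rfl⟩
  let χ : C →+* B' := (G.codRestrict B' hG).toRingHom
  refine ⟨χ, ?_, ?_⟩
  · ext a 𝔭
    exact congrFun (G.commutes a) 𝔭
  · intro χ' hχ'
    ext c 𝔭
    have := hcrit _ ((Pi.evalRingHom _ 𝔭).comp (B'.val.toRingHom.comp χ'))
      ((Pi.evalRingHom _ 𝔭).comp (B'.val.toRingHom.comp χ)) (by
        rw [RingHom.comp_assoc, RingHom.comp_assoc, RingHom.comp_assoc, RingHom.comp_assoc, hχ']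
        congr 2
        ext a 𝔭'
        exact (congrFun (G.commutes a) 𝔭').symm)
    exact congrArg (fun k => k c) this

end Exists

end Groth.Agent.Lib.Helper6.AWN
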