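import Mathlib
import Groth.Prelude.Def_CAlg2

set_option autoImplicit false
universe u

namespace Groth.Agent.Lib.Helper6.GU

section Def

variable (O K : Type u) [CommRing O] [CommRing K] [Algebra O K]

/-- Intrinsic form of "geometrically unibranch" for a local domain `O` with fraction field `K`:
the integral closure of `O` in `K` is local, and its residue field is purely inseparable over that
of `O` (stated elementwise). -/
def GU' : Prop :=
  IsLocalRing (integralClosure O K) ∧
    ∃ q : ℕ, (q = 1 ∨ (q.Prime ∧ ¬ IsUnit ((q : ℕ) : integralClosure O K))) ∧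
      ∀ x : integralClosure O K, ∃ (n : ℕ) (o : O),
        ¬ IsUnit (x ^ q ^ n - algebraMap O (integralClosure O K) o)

end Def

section Transfer

variable (O K : Type u) [CommRing O] [IsDomain O] [Field K] [Algebra O K] [IsFractionRing O K]

/-- `O ≃ O_red` for a domain. -/
noncomputable def redEquiv : O ≃+* CAlg2.red O :=
  RingEquiv.ofBijective (Ideal.Quotient.mk (nilradical O)) ⟨by
    rw [RingHom.injective_iff_ker_eq_bot, Ideal.mk_ker]
    exact nilradical_eq_zero O, Ideal.Quotient.mk_surjective⟩

@[simp] theorem redEquiv_apply (o : O) : redEquiv O o = Ideal.Quotient.mk (nilradical O) o := rfl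

theorem isDomain_red : IsDomain (CAlg2.red O) := (redEquiv O).symm.toMulEquiv.isDomain O

/-- The induced isomorphism of fraction fields. -/
noncomputable def fracEquiv : K ≃+* FractionRing (CAlg2.red O) :=
  IsFractionRing.ringEquivOfRingEquiv (redEquiv O)

theorem fracEquiv_algebraMap (o : O) :
    fracEquiv O K (algebraMap O K o) =
      algebraMap (CAlg2.red O) (FractionRing (CAlg2.red O)) (Ideal.Quotient.mk _ o) :=
  IsFractionRing.ringEquivOfRingEquiv_algebraMap (K := K)
    (L := FractionRing (CAlg2.red O)) (redEquiv O) o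

theorem fracEquiv_symm_algebraMap (o : O) :
    (fracEquiv O K).symm (algebraMap (CAlg2.red O) (FractionRing (CAlg2.red O))
      (Ideal.Quotient.mk _ o)) = algebraMap O K o := by
  rw [← fracEquiv_algebraMap O K, RingEquiv.symm_apply_apply]

theorem isIntegral_fracEquiv {x : K} (hx : IsIntegral O x) :
    IsIntegral (CAlg2.red O) (fracEquiv O K x) := by
  refine hx.map_of_comp_eq (redEquiv O).toRingHom (fracEquiv O K).toRingHom ?_
  refine RingHom.ext (fun o => ?_)
  exact (fracEquiv_algebraMap O K o).symm

theorem isIntegral_fracEquiv_symm {y : FractionRing (CAlg2.red O)}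
    (hy : IsIntegral (CAlg2.red O) y) : IsIntegral O ((fracEquiv O K).symm y) := by
  refine hy.map_of_comp_eq (redEquiv O).symm.toRingHom (fracEquiv O K).symm.toRingHom ?_
  refine RingHom.ext (fun r => ?_)
  obtain ⟨o, rfl⟩ := Ideal.Quotient.mk_surjective r
  have h1 : (redEquiv O).symm (Ideal.Quotient.mk _ o) = o := by
    rw [← redEquiv_apply, RingEquiv.symm_apply_apply]
  change algebraMap O K ((redEquiv O).symm (Ideal.Quotient.mk _ o)) = _
  rw [h1]
  exact (fracEquiv_symm_algebraMap O K o).symm

/-- The comparison between the integral closure of `O` in `K` and `CAlg2.normRed O`. -/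
noncomputable def normEquiv : integralClosure O K ≃+* CAlg2.normRed O :=
  RingEquiv.ofRingHom
    (((fracEquiv O K).toRingHom.comp (integralClosure O K).val.toRingHom).codRestrict
      (integralClosure (CAlg2.red O) (FractionRing (CAlg2.red O)))
      (fun x => isIntegral_fracEquiv O K x.2))
    (((fracEquiv O K).symm.toRingHom.comp
      (integralClosure (CAlg2.red O) (FractionRing (CAlg2.red O))).val.toRingHom).codRestrict
      (integralClosure O K) (fun y => isIntegral_fracEquiv_symm O K y.2))
    (by
      ext y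
      exact (fracEquiv O K).apply_symm_apply y.1)
    (by
      ext x
      exact (fracEquiv O K).symm_apply_apply x.1)

theorem normEquiv_coe (x : integralClosure O K) :
    ((normEquiv O K x : CAlg2.normRed O) : FractionRing (CAlg2.red O)) = fracEquiv O K x.1 := rfl

theorem normEquiv_algebraMap (o : O) :
    normEquiv O K (algebraMap O (integralClosure O K) o) =
      algebraMap (CAlg2.red O) (CAlg2.normRed O) (Ideal.Quotient.mk _ o) := by
  apply Subtype.ext
  exact fracEquiv_algebraMap O K o


theorem isUnit_normEquiv_iff (x : integralClosure O K) :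
    IsUnit (normEquiv O K x) ↔ IsUnit x :=
  ⟨fun h => by
    have := h.map (normEquiv O K).symm
    rwa [RingEquiv.symm_apply_apply] at this, fun h => h.map (normEquiv O K)⟩

variable [IsLocalRing O]

/-- From the prelude's definition to the intrinsic form. -/
theorem gu'_of_isGeomUnibranch (h : CAlg2.IsGeomUnibranch O) : GU' O K := by
  obtain ⟨⟨-, hloc⟩, hres⟩ := h
  haveI : IsLocalRing (CAlg2.normRed O) := hloc
  haveI : IsLocalRing (integralClosure O K) := (normEquiv O K).symm.isLocalRing
  obtain ⟨q, hq⟩ := ExpChar.exists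
    (R := CAlg2.normRed O ⧸ IsLocalRing.maximalIdeal (CAlg2.normRed O))
  have hqe : ringExpChar (CAlg2.normRed O ⧸ IsLocalRing.maximalIdeal (CAlg2.normRed O)) = q :=
    ringExpChar.eq _ q
  refine ⟨inferInstance, q, ?_, ?_⟩
  · cases hq with
    | zero => exact Or.inl rfl
    | prime hp =>
      refine Or.inr ⟨hp, ?_⟩
      intro hu
      have h1 : IsUnit ((q : ℕ) : CAlg2.normRed O) := by
        have := hu.map (normEquiv O K)
        rwa [map_natCast] at this
      have h2 : ((q : ℕ) : CAlg2.normRed O) ∈ IsLocalRing.maximalIdeal (CAlg2.normRed O) := by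
        apply Ideal.Quotient.eq_zero_iff_mem.mp
        have e : Ideal.Quotient.mk (IsLocalRing.maximalIdeal (CAlg2.normRed O))
            ((q : ℕ) : CAlg2.normRed O) = ((q : ℕ) : CAlg2.normRed O ⧸ _) :=
          map_natCast (Ideal.Quotient.mk (IsLocalRing.maximalIdeal (CAlg2.normRed O))) q
        rw [e]
        exact CharP.cast_eq_zero _ q
      exact (IsLocalRing.mem_maximalIdeal _).mp h2 h1
  · intro x
    obtain ⟨n, o, ho⟩ := hres (IsLocalRing.maximalIdeal (CAlg2.normRed O))
      (Ideal.Quotient.mk _ (normEquiv O K x))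
    rw [hqe] at ho
    refine ⟨n, o, ?_⟩
    rw [← isUnit_normEquiv_iff, map_sub, map_pow, normEquiv_algebraMap]
    have h1 : Ideal.Quotient.mk (IsLocalRing.maximalIdeal (CAlg2.normRed O))
        (normEquiv O K x ^ q ^ n) =
        (Ideal.Quotient.mk (IsLocalRing.maximalIdeal (CAlg2.normRed O)) (normEquiv O K x)) ^ q ^ n :=
      RingHom.map_pow _ _ _
    have h2 := Ideal.Quotient.eq.mp (h1.trans ho.symm)
    exact h2

/-- From the intrinsic form to the prelude's definition. -/
theorem isGeomUnibranch_of_gu' (h : GU' O K) : CAlg2.IsGeomUnibranch O := by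
  obtain ⟨hloc, q, hq, hres⟩ := h
  haveI : IsLocalRing (integralClosure O K) := hloc
  haveI : IsLocalRing (CAlg2.normRed O) := (normEquiv O K).isLocalRing
  refine ⟨⟨isDomain_red O, inferInstance⟩, ?_⟩
  intro m' hm'
  obtain rfl : m' = IsLocalRing.maximalIdeal (CAlg2.normRed O) := IsLocalRing.eq_maximalIdeal hm'
  intro x
  obtain ⟨y, rfl⟩ := Ideal.Quotient.mk_surjective x
  obtain ⟨n, o, hno⟩ := hres ((normEquiv O K).symm y)
  rw [← isUnit_normEquiv_iff, map_sub, map_pow, normEquiv_algebraMap,
    RingEquiv.apply_symm_apply] at hno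
  have hmem0 : y ^ q ^ n - algebraMap (CAlg2.red O) (CAlg2.normRed O) (Ideal.Quotient.mk _ o) ∈
      IsLocalRing.maximalIdeal (CAlg2.normRed O) := hno
  have hmem : (Ideal.Quotient.mk (IsLocalRing.maximalIdeal (CAlg2.normRed O)) y) ^ q ^ n =
      Ideal.Quotient.mk (IsLocalRing.maximalIdeal (CAlg2.normRed O))
        (algebraMap (CAlg2.red O) (CAlg2.normRed O) (Ideal.Quotient.mk _ o)) :=
    (RingHom.map_pow _ _ _).symm.trans (Ideal.Quotient.eq.mpr hmem0)
  rcases hq with rfl | ⟨hqp, hqu⟩
  · refine ⟨0, o, ?_⟩
    rw [pow_zero, pow_one]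
    rw [one_pow, pow_one] at hmem
    exact hmem.symm
  · have hq0 : ((q : ℕ) : CAlg2.normRed O ⧸ IsLocalRing.maximalIdeal (CAlg2.normRed O)) = 0 := by
      have e : Ideal.Quotient.mk (IsLocalRing.maximalIdeal (CAlg2.normRed O))
          ((q : ℕ) : CAlg2.normRed O) = ((q : ℕ) : CAlg2.normRed O ⧸ _) :=
        map_natCast (Ideal.Quotient.mk (IsLocalRing.maximalIdeal (CAlg2.normRed O))) q
      rw [← e]
      apply Ideal.Quotient.eq_zero_iff_mem.mpr
      rw [IsLocalRing.mem_maximalIdeal]
      intro hu
      apply hqu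
      have := hu.map (normEquiv O K).symm
      rwa [map_natCast] at this
    haveI : Fact q.Prime := ⟨hqp⟩
    haveI : Nontrivial (CAlg2.normRed O ⧸ IsLocalRing.maximalIdeal (CAlg2.normRed O)) :=
      Ideal.Quotient.nontrivial_iff.mpr hm'.ne_top
    haveI : CharP (CAlg2.normRed O ⧸ IsLocalRing.maximalIdeal (CAlg2.normRed O)) q :=
      (CharP.charP_iff_prime_eq_zero hqp).mpr hq0
    have e : ringExpChar (CAlg2.normRed O ⧸ IsLocalRing.maximalIdeal (CAlg2.normRed O)) = q :=
      ringExpChar.eq _ q
    refine ⟨n, o, ?_⟩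
    rw [e]
    exact hmem.symm

end Transfer

end Groth.Agent.Lib.Helper6.GU
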