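import Mathlib
import Groth.Agent.Lib.Helper6.GeomUnibranch1

set_option autoImplicit false
universe u

namespace Groth.Agent.Lib.Helper6.GU

section Ring

variable {A O K : Type u} [CommRing A] [IsDomain A] [CommRing O] [IsDomain O] [Field K]
  [Algebra A O] [Algebra A K] [Algebra O K] [IsScalarTower A O K]
  [IsFractionRing A K] [IsFractionRing O K]

/-- The inclusion of the integral closure of `A` into that of `O`. -/
noncomputable def incl : integralClosure A K →+* integralClosure O K :=
  ((integralClosure A K).val.toRingHom).codRestrict (integralClosure O K)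
    (fun x => (x.2 : IsIntegral A (x : K)).tower_top)

omit [IsDomain A] [IsDomain O] [IsFractionRing A K] [IsFractionRing O K] in
theorem incl_coe (x : integralClosure A K) : ((incl (O := O) x : integralClosure O K) : K) = x :=
  rfl

omit [IsDomain A] [IsDomain O] [IsFractionRing A K] [IsFractionRing O K] in
theorem incl_algebraMap (a : A) :
    incl (O := O) (algebraMap A (integralClosure A K) a) =
      algebraMap O (integralClosure O K) (algebraMap A O a) := by
  apply Subtype.ext
  change algebraMap A K a = algebraMap O K (algebraMap A O a)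
  exact IsScalarTower.algebraMap_apply A O K a

variable (𝔭 : Ideal A) [𝔭.IsPrime] [IsLocalization.AtPrime O 𝔭]

include 𝔭 in
omit [IsDomain A] [IsFractionRing A K] in
/-- Clearing denominators: an element integral over `O` has a multiple by an element outside `𝔭`
that is integral over `A`. -/
theorem exists_mul_mem (u : integralClosure O K) :
    ∃ (t : A) (v : integralClosure A K), t ∉ 𝔭 ∧ (v : K) = algebraMap A K t * (u : K) := by
  obtain ⟨⟨t, ht⟩, htu⟩ := IsIntegral.exists_multiple_integral_of_isLocalization
    (R := A) (Rₘ := O) 𝔭.primeCompl (u : K) u.2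
  refine ⟨t, ⟨_, htu⟩, ht, ?_⟩
  change (⟨t, ht⟩ : 𝔭.primeCompl) • (u : K) = _
  rw [Submonoid.smul_def, Algebra.smul_def]

include 𝔭 in
omit [IsDomain A] [IsFractionRing A K] in
theorem isUnit_incl_algebraMap_iff [IsLocalRing O] [IsLocalRing (integralClosure O K)] (a : A) :
    IsUnit (incl (O := O) (algebraMap A (integralClosure A K) a)) ↔ a ∉ 𝔭 := by
  rw [incl_algebraMap]
  constructor
  · intro hu ha
    have h1 : algebraMap A O a ∈ IsLocalRing.maximalIdeal O :=
      (IsLocalization.AtPrime.to_map_mem_maximal_iff O 𝔭 a).mpr ha
    have hmax : ((IsLocalRing.maximalIdeal (integralClosure O K)).comap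
        (algebraMap O (integralClosure O K))).IsMaximal :=
      Ideal.isMaximal_comap_of_isIntegral_of_isMaximal _
    have h2 := IsLocalRing.eq_maximalIdeal hmax
    have h3 : algebraMap A O a ∈ (IsLocalRing.maximalIdeal (integralClosure O K)).comap
        (algebraMap O (integralClosure O K)) := by rw [h2]; exact h1
    exact (IsLocalRing.mem_maximalIdeal _).mp h3 hu
  · intro ha
    exact ((IsLocalization.AtPrime.isUnit_to_map_iff O 𝔭 a).mpr ha).map _

include 𝔭 in
omit [IsFractionRing A K] [IsDomain A] in
/-- Key lemma: elements of the integral closure of `A` that become non-units in the (local)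
integral closure of `O` are killed by every field-valued point lying over `𝔭`. -/
theorem map_eq_zero_of_not_isUnit [IsLocalRing O] [IsLocalRing (integralClosure O K)]
    {Ω : Type u} [Field Ω] (ρ : integralClosure A K →+* Ω)
    (hker : RingHom.ker (ρ.comp (algebraMap A (integralClosure A K))) = 𝔭)
    (y : integralClosure A K) (hy : ¬ IsUnit (incl (O := O) y)) : ρ y = 0 := by
  -- the two primes
  let P' : Ideal (integralClosure A K) := RingHom.ker ρ
  let P'' : Ideal (integralClosure A K) :=
    (IsLocalRing.maximalIdeal (integralClosure O K)).comap (incl (O := O))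
  have hP' : P'.IsPrime := RingHom.ker_isPrime ρ
  have hP'' : P''.IsPrime := Ideal.comap_isPrime _ _
  have hle : P' ≤ P'' := by
    intro z hz
    change incl (O := O) z ∈ IsLocalRing.maximalIdeal _
    rw [IsLocalRing.mem_maximalIdeal]
    intro hu
    obtain ⟨u, hu1⟩ := hu.exists_right_inv
    obtain ⟨t, v, ht, hv⟩ := exists_mul_mem 𝔭 u
    have h1 : z * v = algebraMap A (integralClosure A K) t := by
      apply Subtype.ext
      change (z : K) * (v : K) = algebraMap A K t
      rw [hv]
      have h2 : (z : K) * (u : K) = 1 := congrArg Subtype.val hu1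
      rw [mul_left_comm, h2, mul_one]
    have h3 : ρ (algebraMap A (integralClosure A K) t) = 0 := by
      rw [← h1, map_mul, (RingHom.mem_ker).mp hz, zero_mul]
    have h4 : t ∈ RingHom.ker (ρ.comp (algebraMap A (integralClosure A K))) := h3
    rw [hker] at h4
    exact ht h4
  have hcomap' : P'.comap (algebraMap A (integralClosure A K)) = 𝔭 := by
    rw [← hker]; rfl
  have hcomap'' : P''.comap (algebraMap A (integralClosure A K)) = 𝔭 := by
    ext a
    change incl (O := O) (algebraMap A (integralClosure A K) a) ∈
      IsLocalRing.maximalIdeal (integralClosure O K) ↔ a ∈ 𝔭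
    rw [IsLocalRing.mem_maximalIdeal, mem_nonunits_iff, isUnit_incl_algebraMap_iff 𝔭, not_not]
  have heq : P' = P'' := by
    by_contra hne
    have hlt : P' < P'' := lt_of_le_of_ne hle hne
    have := Ideal.IsIntegral.comap_lt_comap (R := A) hlt
    rw [hcomap', hcomap''] at this
    exact lt_irrefl _ this
  have hmem : y ∈ P'' := by
    change incl (O := O) y ∈ IsLocalRing.maximalIdeal _
    rw [IsLocalRing.mem_maximalIdeal]
    exact hy
  rw [← heq] at hmem
  exact hmem


include 𝔭 in
omit [IsFractionRing A K] [IsDomain A] in
/-- If `O = A_𝔭` is geometrically unibranch, two field-valued points of the integral closure of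
`A` lying over `𝔭` and agreeing on `A` agree. -/
theorem hom_eq_of_gu' (hGU : GU' O K) {Ω : Type u} [Field Ω]
    (σ τ : integralClosure A K →+* Ω)
    (hστ : σ.comp (algebraMap A (integralClosure A K)) =
      τ.comp (algebraMap A (integralClosure A K)))
    (hker : RingHom.ker (σ.comp (algebraMap A (integralClosure A K))) = 𝔭) : σ = τ := by
  obtain ⟨hloc, q, hq, hres⟩ := hGU
  haveI := hloc
  haveI : IsLocalRing O := IsLocalization.AtPrime.isLocalRing O 𝔭
  have hkerτ : RingHom.ker (τ.comp (algebraMap A (integralClosure A K))) = 𝔭 := by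
    rw [← hστ]; exact hker
  ext a'
  obtain ⟨n, o, hno⟩ := hres (incl a')
  obtain ⟨⟨a, s⟩, hs⟩ := IsLocalization.surj 𝔭.primeCompl o
  let y : integralClosure A K :=
    algebraMap A (integralClosure A K) (s : A) * a' ^ q ^ n - algebraMap A (integralClosure A K) a
  have hy : ¬ IsUnit (incl (O := O) y) := by
    have e : incl (O := O) y = algebraMap O (integralClosure O K) (algebraMap A O s) *
        (incl (O := O) a' ^ q ^ n - algebraMap O (integralClosure O K) o) := by
      simp only [y, map_sub, map_mul, map_pow, incl_algebraMap]
      rw [mul_sub, ← map_mul, mul_comm (algebraMap A O s) o, hs]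
    rw [e]
    intro hu
    exact hno (isUnit_of_mul_isUnit_right hu)
  have h1 := map_eq_zero_of_not_isUnit 𝔭 σ hker y hy
  have h2 := map_eq_zero_of_not_isUnit 𝔭 τ hkerτ y hy
  have hsσ : σ (algebraMap A (integralClosure A K) (s : A)) ≠ 0 := by
    intro h0
    have hmem : (s : A) ∈ RingHom.ker (σ.comp (algebraMap A (integralClosure A K))) := h0
    rw [hker] at hmem
    exact s.2 hmem
  have hpow : σ a' ^ q ^ n = τ a' ^ q ^ n := by
    have e1 : σ (algebraMap A (integralClosure A K) (s : A)) * σ a' ^ q ^ n =
        σ (algebraMap A (integralClosure A K) a) := by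
      have := h1
      simp only [y, map_sub, map_mul, map_pow] at this
      exact sub_eq_zero.mp this
    have e2 : τ (algebraMap A (integralClosure A K) (s : A)) * τ a' ^ q ^ n =
        τ (algebraMap A (integralClosure A K) a) := by
      have := h2
      simp only [y, map_sub, map_mul, map_pow] at this
      exact sub_eq_zero.mp this
    have e3 : σ (algebraMap A (integralClosure A K) (s : A)) =
        τ (algebraMap A (integralClosure A K) (s : A)) := RingHom.congr_fun hστ s
    have e4 : σ (algebraMap A (integralClosure A K) a) =
        τ (algebraMap A (integralClosure A K) a) := RingHom.congr_fun hστ a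
    rw [← e3, ← e4, ← e1] at e2
    exact (mul_left_cancel₀ hsσ e2).symm
  rcases hq with rfl | ⟨hqp, hqu⟩
  · simpa using hpow
  · have hqΩ : (q : Ω) = 0 := by
      have := map_eq_zero_of_not_isUnit (O := O) 𝔭 σ hker ((q : ℕ) : integralClosure A K)
        (by rw [map_natCast]; exact hqu)
      rwa [map_natCast] at this
    haveI : Fact q.Prime := ⟨hqp⟩
    haveI : CharP Ω q := (CharP.charP_iff_prime_eq_zero hqp).mpr hqΩ
    apply iterateFrobenius_inj Ω q n
    rw [iterateFrobenius_def, iterateFrobenius_def]
    exact hpow

end Ring

end Groth.Agent.Lib.Helper6.GU
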