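import Mathlib.AlgebraicGeometry.Morphisms.FiniteType
import Mathlib.AlgebraicGeometry.ResidueField
import Mathlib.AlgebraicGeometry.Morphisms.Finite
import Mathlib.AlgebraicGeometry.AffineScheme
import Mathlib.RingTheory.LocalRing.ResidueField.Ideal
import Mathlib.RingTheory.FiniteType
import Mathlib.RingTheory.Localization.FractionRing
import Mathlib.RingTheory.RingHom.FiniteType

/-!
# Finite type points of schemes (Stacks 01T9-01TE)

`ftPoint_of_isClosed`: closed points of affine opens are finite type points;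
`exists_affine_isClosed_of_ftPoint`: converse; `exists_notMem_forall_eq_of_finiteType`: ring lemma
(`κ(p)` f.t. over `R` ⇒ `p` closed in some `D(g)`).
-/

set_option autoImplicit false
universe u

open AlgebraicGeometry CategoryTheory

namespace Groth.Agent.Lib.Helper6

section ring
variable {R : Type*} [CommRing R] (p : Ideal R) [p.IsPrime]

theorem exists_denominator (x : p.ResidueField) :
    ∃ b ∉ p, ∃ a : R, x * algebraMap R p.ResidueField b = algebraMap R p.ResidueField a := by
  obtain ⟨⟨a, b⟩, hab⟩ := IsLocalization.surj (nonZeroDivisors (R ⧸ p)) x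
  obtain ⟨a', rfl⟩ := Ideal.Quotient.mk_surjective a
  obtain ⟨b', hb'⟩ := Ideal.Quotient.mk_surjective b.1
  refine ⟨b', ?_, a', ?_⟩
  · intro hmem
    have : (b : R ⧸ p) = 0 := by rw [← hb']; exact Ideal.Quotient.eq_zero_iff_mem.mpr hmem
    exact nonZeroDivisors.coe_ne_zero b this
  · simp only at hab
    rw [← hb'] at hab
    exact hab

theorem exists_common_denominator (s : Finset p.ResidueField) :
    ∃ g ∉ p, ∀ x ∈ s, ∃ a : R,
      x * algebraMap R p.ResidueField g = algebraMap R p.ResidueField a := by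
  classical
  induction s using Finset.induction_on with
  | empty => exact ⟨1, (Ideal.ne_top_iff_one p).mp ‹p.IsPrime›.ne_top, by simp⟩
  | insert x s _ ih =>
    obtain ⟨g, hg, hs⟩ := ih
    obtain ⟨b, hb, a, hab⟩ := exists_denominator p x
    refine ⟨b * g, fun h => (‹p.IsPrime›.mem_or_mem h).elim hb hg, ?_⟩
    intro y hy
    rcases Finset.mem_insert.mp hy with rfl | hy
    · exact ⟨a * g, by rw [map_mul, map_mul, ← mul_assoc, hab]⟩
    · obtain ⟨a', ha'⟩ := hs y hy
      exact ⟨b * a', by rw [map_mul, map_mul, mul_left_comm, ha']⟩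

/-- If `κ(p)` is of finite type over `R`, then `p` is a closed point of some `D(g)`. -/
theorem exists_notMem_forall_eq_of_finiteType
    (h : (algebraMap R p.ResidueField).FiniteType) :
    ∃ g ∉ p, ∀ q : Ideal R, q.IsPrime → p ≤ q → g ∉ q → q = p := by
  have h' : Algebra.FiniteType R p.ResidueField := RingHom.finiteType_algebraMap.mp h
  obtain ⟨s, hs⟩ := h'.out
  obtain ⟨g, hg, hgs⟩ := exists_common_denominator p s
  refine ⟨g, hg, ?_⟩
  have key : ∀ z : p.ResidueField, ∃ (m : ℕ) (a : R),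
      z * algebraMap R p.ResidueField g ^ m = algebraMap R p.ResidueField a := by
    intro z
    have hz : z ∈ Algebra.adjoin R (s : Set p.ResidueField) := by rw [hs]; trivial
    induction hz using Algebra.adjoin_induction with
    | mem x hx =>
      obtain ⟨a, ha⟩ := hgs x hx
      exact ⟨1, a, by rw [pow_one, ha]⟩
    | algebraMap r => exact ⟨0, r, by rw [pow_zero, mul_one]⟩
    | add x y _ _ hx hy =>
      obtain ⟨m₁, a₁, h₁⟩ := hx
      obtain ⟨m₂, a₂, h₂⟩ := hy
      refine ⟨m₁ + m₂, a₁ * g ^ m₂ + a₂ * g ^ m₁, ?_⟩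
      rw [map_add, map_mul, map_mul, map_pow, map_pow, ← h₁, ← h₂, pow_add]
      ring
    | mul x y _ _ hx hy =>
      obtain ⟨m₁, a₁, h₁⟩ := hx
      obtain ⟨m₂, a₂, h₂⟩ := hy
      refine ⟨m₁ + m₂, a₁ * a₂, ?_⟩
      rw [map_mul, ← h₁, ← h₂, pow_add]
      ring
  intro q hq hpq hgq
  by_contra hne
  have hlt : ¬ q ≤ p := fun hqp => hne (le_antisymm hqp hpq)
  obtain ⟨y, hyq, hyp⟩ := Set.not_subset.mp hlt
  have hy0 : algebraMap R p.ResidueField y ≠ 0 := by
    rw [Ne, Ideal.algebraMap_residueField_eq_zero]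
    exact hyp
  obtain ⟨m, a, hma⟩ := key (algebraMap R p.ResidueField y)⁻¹
  have h1 : algebraMap R p.ResidueField (g ^ m) = algebraMap R p.ResidueField (a * y) := by
    rw [map_pow, map_mul, ← hma, mul_comm _ (algebraMap R p.ResidueField y), ← mul_assoc,
      mul_inv_cancel₀ hy0, one_mul]
  have h2 : g ^ m - a * y ∈ p := by
    rw [← Ideal.algebraMap_residueField_eq_zero, map_sub, h1, sub_self]
  have h3 : g ^ m ∈ q := by
    have := q.add_mem (hpq h2) (q.mul_mem_left a hyq)
    simpa using this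
  exact hgq (hq.mem_of_pow_mem m h3)

end ring

/-- topological criterion for a point being closed in a subspace. -/
theorem isClosed_singleton_subtype_iff {X : Type*} [TopologicalSpace X]
    (U : TopologicalSpace.Opens X) (s : X) (hs : s ∈ U) :
    IsClosed ({⟨s, hs⟩} : Set ↥U) ↔ ∀ y ∈ U, s ⤳ y → y = s := by
  rw [← closure_eq_iff_isClosed]
  constructor
  · intro h y hy hsy
    have : (⟨y, hy⟩ : ↥U) ∈ closure ({⟨s, hs⟩} : Set ↥U) := by
      rw [closure_subtype, Set.image_singleton]
      exact hsy.mem_closure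
    rw [h] at this
    exact congrArg Subtype.val this
  · intro h
    apply subset_antisymm _ subset_closure
    rintro ⟨y, hy⟩ hmem
    rw [closure_subtype, Set.image_singleton] at hmem
    have := h y hy (specializes_iff_mem_closure.mpr hmem)
    exact Subtype.ext this

/-- Lemma B: finite-type-ness of `Spec κ(j x) → S` for an open immersion `j : Spec R → S`. -/
theorem locallyOfFiniteType_fromSpecResidueField_iff {S : Scheme.{u}} {R : CommRingCat.{u}}
    (j : Spec R ⟶ S) [IsOpenImmersion j] (x : Spec R) :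
    LocallyOfFiniteType (S.fromSpecResidueField (j x)) ↔
      (algebraMap R x.asIdeal.ResidueField).FiniteType := by
  have h1 := Scheme.Hom.SpecMap_residueFieldMap_fromSpecResidueField j x
  have h2 : LocallyOfFiniteType (S.fromSpecResidueField (j x)) ↔
      LocallyOfFiniteType ((Spec R).fromSpecResidueField x) := by
    rw [← MorphismProperty.cancel_left_of_respectsIso @LocallyOfFiniteType
      (Spec.map (j.residueFieldMap x)) (S.fromSpecResidueField (j x)), h1]
    constructor
    · intro h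
      exact locallyOfFiniteType_of_comp _ j
    · intro h
      infer_instance
  rw [h2, ← Scheme.Spec.map_residueFieldIso_inv_eq_fromSpecResidueField,
    MorphismProperty.cancel_left_of_respectsIso @LocallyOfFiniteType,
    HasRingHomProperty.Spec_iff (P := @LocallyOfFiniteType)]
  rfl


section affine
variable {S : Scheme.{u}} {U : S.Opens} (hU : IsAffineOpen U)
include hU

theorem specializes_fromSpec_iff (x y : Spec Γ(S, U)) :
    hU.fromSpec x ⤳ hU.fromSpec y ↔ x.asIdeal ≤ y.asIdeal := by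
  rw [hU.fromSpec.isOpenEmbedding.isInducing.specializes_iff]
  exact (PrimeSpectrum.le_iff_specializes x y).symm

theorem ftPoint_iff_affine (s : S) (hs : s ∈ U) :
    LocallyOfFiniteType (S.fromSpecResidueField s) ↔
      (algebraMap Γ(S, U) (hU.primeIdealOf ⟨s, hs⟩).asIdeal.ResidueField).FiniteType := by
  have h := locallyOfFiniteType_fromSpecResidueField_iff hU.fromSpec (hU.primeIdealOf ⟨s, hs⟩)
  have h2 : hU.fromSpec (hU.primeIdealOf ⟨s, hs⟩) = s := hU.fromSpec_primeIdealOf ⟨s, hs⟩
  rw [← h]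
  generalize hU.primeIdealOf ⟨s, hs⟩ = x at h2
  subst h2
  exact Iff.rfl

theorem isClosed_singleton_iff_isMaximal (s : S) (hs : s ∈ U) :
    IsClosed ({⟨s, hs⟩} : Set ↥U) ↔ (hU.primeIdealOf ⟨s, hs⟩).asIdeal.IsMaximal := by
  have h2 : hU.fromSpec (hU.primeIdealOf ⟨s, hs⟩) = s := hU.fromSpec_primeIdealOf ⟨s, hs⟩
  rw [isClosed_singleton_subtype_iff]
  constructor
  · intro h
    obtain ⟨m, hm, hle⟩ := Ideal.exists_le_maximal (hU.primeIdealOf ⟨s, hs⟩).asIdeal
      (hU.primeIdealOf ⟨s, hs⟩).2.ne_top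
    let y : Spec Γ(S, U) := ⟨m, hm.isPrime⟩
    have hy : hU.fromSpec y ∈ U := by
      have : hU.fromSpec y ∈ hU.fromSpec.opensRange := ⟨y, rfl⟩
      rwa [hU.opensRange_fromSpec] at this
    have hspec : s ⤳ hU.fromSpec y := by
      rw [← h2, specializes_fromSpec_iff hU]
      exact hle
    have := h _ hy hspec
    rw [← h2] at this
    have hyx : y = hU.primeIdealOf ⟨s, hs⟩ := hU.fromSpec.isOpenEmbedding.injective this
    rw [← hyx]
    exact hm
  · intro hmax y hy hsy
    have hy' : y ∈ hU.fromSpec.opensRange := by rw [hU.opensRange_fromSpec]; exact hy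
    obtain ⟨y', rfl⟩ := hy'
    rw [← h2, specializes_fromSpec_iff hU] at hsy
    have : (hU.primeIdealOf ⟨s, hs⟩).asIdeal = y'.asIdeal := hmax.eq_of_le y'.2.ne_top hsy
    rw [← h2]
    congr 1
    exact (PrimeSpectrum.ext this).symm

/-- closed points of affine opens are finite type points. -/
theorem ftPoint_of_isClosed (s : S) (hs : s ∈ U) (hcl : IsClosed ({⟨s, hs⟩} : Set ↥U)) :
    LocallyOfFiniteType (S.fromSpecResidueField s) := by
  rw [ftPoint_iff_affine hU s hs]
  have := (isClosed_singleton_iff_isMaximal hU s hs).mp hcl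
  exact RingHom.FiniteType.of_surjective _ (Ideal.algebraMap_residueField_surjective _)

end affine


theorem mem_basicOpen_iff_fromSpec {S : Scheme.{u}} {U : S.Opens} (hU : IsAffineOpen U)
    (g : Γ(S, U)) (x : Spec Γ(S, U)) : hU.fromSpec x ∈ S.basicOpen g ↔ g ∉ x.asIdeal := by
  have := hU.fromSpec_preimage_basicOpen g
  have h2 : hU.fromSpec x ∈ S.basicOpen g ↔ x ∈ hU.fromSpec ⁻¹ᵁ S.basicOpen g := Iff.rfl
  rw [h2, this]
  rfl

/-- finite type points are closed in some affine open. -/
theorem exists_affine_isClosed_of_ftPoint {S : Scheme.{u}} (s : S)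
    (h : LocallyOfFiniteType (S.fromSpecResidueField s)) :
    ∃ U : S.Opens, IsAffineOpen U ∧ ∃ hs : s ∈ U, IsClosed ({⟨s, hs⟩} : Set ↥U) := by
  obtain ⟨V, hV, hsV, -⟩ := exists_isAffineOpen_mem_and_subset (x := s) (U := ⊤) trivial
  have hft := (ftPoint_iff_affine hV s hsV).mp h
  have h2 : hV.fromSpec (hV.primeIdealOf ⟨s, hsV⟩) = s := hV.fromSpec_primeIdealOf ⟨s, hsV⟩
  obtain ⟨g, hg, hgq⟩ := exists_notMem_forall_eq_of_finiteType _ hft
  have hsU : s ∈ S.basicOpen g := by
    rw [← h2, mem_basicOpen_iff_fromSpec hV]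
    exact hg
  refine ⟨S.basicOpen g, hV.basicOpen g, hsU, ?_⟩
  rw [isClosed_singleton_subtype_iff]
  intro y hy hsy
  have hyV : y ∈ hV.fromSpec.opensRange := by
    rw [hV.opensRange_fromSpec]; exact S.basicOpen_le g hy
  obtain ⟨y', rfl⟩ := hyV
  rw [mem_basicOpen_iff_fromSpec hV] at hy
  rw [← h2, specializes_fromSpec_iff hV] at hsy
  have := hgq y'.asIdeal y'.2 hsy hy
  rw [← h2]
  congr 1
  exact PrimeSpectrum.ext this

end Groth.Agent.Lib.Helper6

namespace Groth.Agent.Lib.Helper6

/-- every point of an affine open specializes to a finite type point in that affine open. -/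
theorem exists_specializes_ftPoint {S : Scheme.{u}} {V : S.Opens} (hV : IsAffineOpen V) (z : S)
    (hz : z ∈ V) :
    ∃ t ∈ V, z ⤳ t ∧ LocallyOfFiniteType (S.fromSpecResidueField t) := by
  have h2 : hV.fromSpec (hV.primeIdealOf ⟨z, hz⟩) = z := hV.fromSpec_primeIdealOf ⟨z, hz⟩
  obtain ⟨m, hm, hle⟩ := Ideal.exists_le_maximal (hV.primeIdealOf ⟨z, hz⟩).asIdeal
    (hV.primeIdealOf ⟨z, hz⟩).2.ne_top
  let y : Spec Γ(S, V) := ⟨m, hm.isPrime⟩
  have hy : hV.fromSpec y ∈ V := by
    have : hV.fromSpec y ∈ hV.fromSpec.opensRange := ⟨y, rfl⟩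
    rwa [hV.opensRange_fromSpec] at this
  refine ⟨hV.fromSpec y, hy, ?_, ?_⟩
  · rw [← h2, specializes_fromSpec_iff hV]
    exact hle
  · apply ftPoint_of_isClosed hV _ hy
    rw [isClosed_singleton_iff_isMaximal hV]
    have h3 : hV.fromSpec (hV.primeIdealOf ⟨hV.fromSpec y, hy⟩) = hV.fromSpec y :=
      hV.fromSpec_primeIdealOf ⟨hV.fromSpec y, hy⟩
    have h4 : hV.primeIdealOf ⟨hV.fromSpec y, hy⟩ = y :=
      hV.fromSpec.isOpenEmbedding.injective h3
    rw [h4]
    exact hm

/-- Stacks 02J4: every nonempty locally closed subset contains a finite type point. -/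
theorem exists_ftPoint_of_isLocallyClosed {S : Scheme.{u}} (Z : Set S) (hZ : IsLocallyClosed Z)
    (hne : Z.Nonempty) :
    (Z ∩ {s : S | LocallyOfFiniteType (S.fromSpecResidueField s)}).Nonempty := by
  obtain ⟨W, T, hW, hT, rfl⟩ := hZ
  obtain ⟨z, hzW, hzT⟩ := hne
  obtain ⟨V, hV, hzV, hVW⟩ := exists_isAffineOpen_mem_and_subset (x := z) (U := ⟨W, hW⟩) hzW
  obtain ⟨t, htV, hzt, hft⟩ := exists_specializes_ftPoint hV z hzV
  exact ⟨t, ⟨hVW htV, hzt.mem_closed hT hzT⟩, hft⟩

end Groth.Agent.Lib.Helper6
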