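import Groth.Agent.Lib.Helper6.UnivHomeoMax
import Groth.Agent.Lib.Helper6.FTPoints

set_option autoImplicit false
universe u

open CategoryTheory AlgebraicGeometry Limits TensorProduct

namespace Groth.Agent.Lib.Helper6.UnivHomeoRing

section Ev

/-- Evaluation at a point of `Spec R`, as a ring homomorphism from `R` to the residue field of
the scheme `Spec R` at that point. -/
noncomputable def ev (R : CommRingCat.{u}) (x : Spec R) : R →+* (Spec R).residueField x :=
  ((Scheme.ΓSpecIso R).inv ≫ (Spec R).Γevaluation x).hom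

set_option backward.isDefEq.respectTransparency.types false in
theorem ev_eq (R : CommRingCat.{u}) (x : Spec R) :
    ev R x = ((Scheme.Spec.residueFieldIso R x).inv.hom).comp
      (algebraMap R x.asIdeal.ResidueField) := by
  have := Scheme.Spec.algebraMap_residueFieldIso_inv R x
  have h2 := congrArg (fun k => k.hom) this
  exact h2.symm

set_option backward.isDefEq.respectTransparency.types false in
theorem ev_eq_zero_iff (R : CommRingCat.{u}) (x : Spec R) (r : R) :
    ev R x r = 0 ↔ r ∈ x.asIdeal := by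
  rw [ev_eq, RingHom.comp_apply]
  have hinj : Function.Injective (Scheme.Spec.residueFieldIso R x).inv.hom :=
    ((Scheme.Spec.residueFieldIso R x).symm.commRingCatIsoToRingEquiv).injective
  rw [← map_zero (Scheme.Spec.residueFieldIso R x).inv.hom, hinj.eq_iff]
  exact Ideal.algebraMap_residueField_eq_zero

set_option backward.isDefEq.respectTransparency.types false in
theorem exists_ev_mul_eq (R : CommRingCat.{u}) (x : Spec R) (z : (Spec R).residueField x) :
    ∃ d : R, d ∉ x.asIdeal ∧ ∃ c : R, z * ev R x d = ev R x c := by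
  obtain ⟨d, hd, c, hc⟩ := exists_denominator x.asIdeal
    ((Scheme.Spec.residueFieldIso R x).hom.hom z)
  refine ⟨d, hd, c, ?_⟩
  rw [ev_eq, RingHom.comp_apply, RingHom.comp_apply, ← hc, map_mul]
  congr 1
  exact (congrArg (fun k => k.hom z) (Scheme.Spec.residueFieldIso R x).hom_inv_id).symm

theorem residueFieldMap_ev {A C : CommRingCat.{u}} (φ : A ⟶ C) (x : Spec C) (a : A) :
    (Spec.map φ).residueFieldMap x (ev A (Spec.map φ x) a) = ev C x (φ a) := by
  unfold ev
  simp only [CommRingCat.hom_comp, RingHom.comp_apply]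
  rw [Scheme.Γevaluation_naturality_apply]
  congr 1
  have := Scheme.ΓSpecIso_inv_naturality φ
  exact (congrArg (fun k => k.hom a) this).symm

end Ev

end Groth.Agent.Lib.Helper6.UnivHomeoRing

namespace Groth.Agent.Lib.Helper6.UnivHomeoRing

theorem residueFieldMap_surjective_iff {A C : CommRingCat.{u}} (φ : A ⟶ C) (x : Spec C) :
    Function.Surjective ((Spec.map φ).residueFieldMap x) ↔
      ∀ c : C, ∃ s a : A, φ s ∉ x.asIdeal ∧ φ s * c - φ a ∈ x.asIdeal := by
  have hmem : ∀ s : A, s ∈ (Spec.map φ x).asIdeal ↔ φ s ∈ x.asIdeal := fun s => Iff.rfl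
  constructor
  · intro H c
    obtain ⟨w, hw⟩ := H (ev C x c)
    obtain ⟨s, hs, a, hsa⟩ := exists_ev_mul_eq A (Spec.map φ x) w
    refine ⟨s, a, (hmem s).not.mp hs, ?_⟩
    rw [← ev_eq_zero_iff, map_sub, map_mul, ← residueFieldMap_ev, ← residueFieldMap_ev, ← hsa,
      map_mul, hw, mul_comm, sub_self]
  · intro H z
    obtain ⟨d, hd, c, hdc⟩ := exists_ev_mul_eq C x z
    obtain ⟨s, a, hs, hsa⟩ := H c
    obtain ⟨s', a', hs', hsa'⟩ := H d
    rw [← ev_eq_zero_iff, map_sub, map_mul, sub_eq_zero] at hsa hsa'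
    have hd0 : ev C x d ≠ 0 := fun h => hd ((ev_eq_zero_iff C x d).mp h)
    have hs0 : ev C x (φ s) ≠ 0 := fun h => hs ((ev_eq_zero_iff C x _).mp h)
    have hs0' : ev C x (φ s') ≠ 0 := fun h => hs' ((ev_eq_zero_iff C x _).mp h)
    have hr : ∀ a : A, (Spec.map φ).residueFieldMap x (ev A (Spec.map φ x) a) = ev C x (φ a) :=
      fun a => residueFieldMap_ev φ x a
    refine ⟨(ev A (Spec.map φ x) a / ev A (Spec.map φ x) s) /
      (ev A (Spec.map φ x) a' / ev A (Spec.map φ x) s'), ?_⟩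
    rw [map_div₀, map_div₀, map_div₀, hr, hr, hr, hr, ← hsa, ← hsa']
    field_simp
    rw [← hdc]
    ring

end Groth.Agent.Lib.Helper6.UnivHomeoRing

namespace Groth.Agent.Lib.Helper6.UnivHomeoRing

/-- Ring-level formulation of "all residue field extensions of `Spec C → Spec A` are trivial". -/
def TrivRF (A C : Type u) [CommRing A] [CommRing C] [Algebra A C] : Prop :=
  ∀ q : PrimeSpectrum C, ∀ c : C, ∃ s a : A,
    algebraMap A C s ∉ q.asIdeal ∧ algebraMap A C s * c - algebraMap A C a ∈ q.asIdeal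

theorem trivRF_iff (A C : Type u) [CommRing A] [CommRing C] [Algebra A C] :
    TrivRF A C ↔ ∀ x : Spec (CommRingCat.of C), Function.Surjective
      ((Spec.map (CommRingCat.ofHom (algebraMap A C))).residueFieldMap x) := by
  constructor
  · intro h x
    exact (residueFieldMap_surjective_iff (CommRingCat.ofHom (algebraMap A C)) x).mpr (h x)
  · intro h x
    exact (residueFieldMap_surjective_iff (CommRingCat.ofHom (algebraMap A C)) x).mp (h x)

section Transfer

variable {A B C : Type u} [CommRing A] [CommRing B] [CommRing C] [Algebra A B] [Algebra A C]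

theorem trivRF_self : TrivRF A A := by
  intro q c
  refine ⟨1, c, ?_, by simp⟩
  simpa using q.2.one_notMem

theorem trivRF_of_surjective (g : C →ₐ[A] B) (hg : Function.Surjective g) (h : TrivRF A C) :
    TrivRF A B := by
  intro q b
  obtain ⟨c, rfl⟩ := hg b
  obtain ⟨s, a, hs, hsa⟩ := h (PrimeSpectrum.comap g.toRingHom q) c
  refine ⟨s, a, ?_, ?_⟩
  · intro hmem
    apply hs
    change g (algebraMap A C s) ∈ q.asIdeal
    rwa [g.commutes]
  · have : g (algebraMap A C s * c - algebraMap A C a) ∈ q.asIdeal := hsa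
    rwa [map_sub, map_mul, g.commutes, g.commutes] at this

theorem trivRF_range (g : C →ₐ[A] B) (h : TrivRF A C) : TrivRF A g.range :=
  trivRF_of_surjective g.rangeRestrict g.rangeRestrict_surjective h

end Transfer

end Groth.Agent.Lib.Helper6.UnivHomeoRing

namespace Groth.Agent.Lib.Helper6.UnivHomeoRing

section Tensor

variable {A C₁ C₂ : Type u} [CommRing A] [CommRing C₁] [CommRing C₂] [Algebra A C₁] [Algebra A C₂]

/-- The set of elements with a "denominator" is closed under addition and multiplication. -/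
theorem trivRF_aux_add {A C : Type u} [CommRing A] [CommRing C] [Algebra A C]
    (q : PrimeSpectrum C) {t₁ t₂ : C}
    (h₁ : ∃ s a : A, algebraMap A C s ∉ q.asIdeal ∧ algebraMap A C s * t₁ - algebraMap A C a ∈ q.asIdeal)
    (h₂ : ∃ s a : A, algebraMap A C s ∉ q.asIdeal ∧ algebraMap A C s * t₂ - algebraMap A C a ∈ q.asIdeal) :
    ∃ s a : A, algebraMap A C s ∉ q.asIdeal ∧
      algebraMap A C s * (t₁ + t₂) - algebraMap A C a ∈ q.asIdeal := by
  obtain ⟨s₁, a₁, hs₁, h₁⟩ := h₁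
  obtain ⟨s₂, a₂, hs₂, h₂⟩ := h₂
  refine ⟨s₁ * s₂, s₂ * a₁ + s₁ * a₂, ?_, ?_⟩
  · rw [map_mul]
    exact fun h => (q.2.mem_or_mem h).elim hs₁ hs₂
  · have : algebraMap A C (s₁ * s₂) * (t₁ + t₂) - algebraMap A C (s₂ * a₁ + s₁ * a₂) =
        algebraMap A C s₂ * (algebraMap A C s₁ * t₁ - algebraMap A C a₁) +
        algebraMap A C s₁ * (algebraMap A C s₂ * t₂ - algebraMap A C a₂) := by
      simp only [map_mul, map_add]; ring
    rw [this]
    exact Ideal.add_mem _ (Ideal.mul_mem_left _ _ h₁) (Ideal.mul_mem_left _ _ h₂)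

theorem trivRF_aux_mul {A C : Type u} [CommRing A] [CommRing C] [Algebra A C]
    (q : PrimeSpectrum C) {t₁ t₂ : C}
    (h₁ : ∃ s a : A, algebraMap A C s ∉ q.asIdeal ∧ algebraMap A C s * t₁ - algebraMap A C a ∈ q.asIdeal)
    (h₂ : ∃ s a : A, algebraMap A C s ∉ q.asIdeal ∧ algebraMap A C s * t₂ - algebraMap A C a ∈ q.asIdeal) :
    ∃ s a : A, algebraMap A C s ∉ q.asIdeal ∧
      algebraMap A C s * (t₁ * t₂) - algebraMap A C a ∈ q.asIdeal := by
  obtain ⟨s₁, a₁, hs₁, h₁⟩ := h₁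
  obtain ⟨s₂, a₂, hs₂, h₂⟩ := h₂
  refine ⟨s₁ * s₂, a₁ * a₂, ?_, ?_⟩
  · rw [map_mul]
    exact fun h => (q.2.mem_or_mem h).elim hs₁ hs₂
  · have : algebraMap A C (s₁ * s₂) * (t₁ * t₂) - algebraMap A C (a₁ * a₂) =
        (algebraMap A C s₂ * t₂) * (algebraMap A C s₁ * t₁ - algebraMap A C a₁) +
        algebraMap A C a₁ * (algebraMap A C s₂ * t₂ - algebraMap A C a₂) := by
      simp only [map_mul]; ring
    rw [this]
    exact Ideal.add_mem _ (Ideal.mul_mem_left _ _ h₁) (Ideal.mul_mem_left _ _ h₂)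

theorem trivRF_tensorProduct (h₁ : TrivRF A C₁) (h₂ : TrivRF A C₂) : TrivRF A (C₁ ⊗[A] C₂) := by
  intro q t
  induction t using TensorProduct.induction_on with
  | zero =>
    refine ⟨1, 0, ?_, by simp⟩
    rw [map_one]
    exact q.2.one_notMem
  | tmul c₁ c₂ =>
    have e : c₁ ⊗ₜ[A] c₂ = (Algebra.TensorProduct.includeLeft (R := A) (S := A) c₁) *
        (Algebra.TensorProduct.includeRight (R := A) c₂) := by
      simp
    rw [e]
    apply trivRF_aux_mul
    · obtain ⟨s, a, hs, hsa⟩ := h₁ (PrimeSpectrum.comap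
        (Algebra.TensorProduct.includeLeft (R := A) (S := A) (A := C₁) (B := C₂)).toRingHom q) c₁
      refine ⟨s, a, ?_, ?_⟩
      · intro hmem
        apply hs
        change (Algebra.TensorProduct.includeLeft (R := A) (S := A) (A := C₁) (B := C₂))
          (algebraMap A C₁ s) ∈ q.asIdeal
        rwa [AlgHom.commutes]
      · have : (Algebra.TensorProduct.includeLeft (R := A) (S := A) (A := C₁) (B := C₂))
          (algebraMap A C₁ s * c₁ - algebraMap A C₁ a) ∈ q.asIdeal := hsa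
        rwa [map_sub, map_mul, AlgHom.commutes, AlgHom.commutes] at this
    · obtain ⟨s, a, hs, hsa⟩ := h₂ (PrimeSpectrum.comap
        (Algebra.TensorProduct.includeRight (R := A) (A := C₁) (B := C₂)).toRingHom q) c₂
      refine ⟨s, a, ?_, ?_⟩
      · intro hmem
        apply hs
        change (Algebra.TensorProduct.includeRight (R := A) (A := C₁) (B := C₂))
          (algebraMap A C₂ s) ∈ q.asIdeal
        rwa [AlgHom.commutes]
      · have : (Algebra.TensorProduct.includeRight (R := A) (A := C₁) (B := C₂))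
          (algebraMap A C₂ s * c₂ - algebraMap A C₂ a) ∈ q.asIdeal := hsa
        rwa [map_sub, map_mul, AlgHom.commutes, AlgHom.commutes] at this
  | add t₁ t₂ ih₁ ih₂ => exact trivRF_aux_add q ih₁ ih₂

end Tensor

end Groth.Agent.Lib.Helper6.UnivHomeoRing

namespace Groth.Agent.Lib.Helper6.UnivHomeoRing

section DirectedRF

variable {A B : Type u} [CommRing A] [CommRing B] [Algebra A B]

theorem trivRF_sSup_of_directedOn (𝒮 : Set (Subalgebra A B)) (hne : 𝒮.Nonempty)
    (hdir : DirectedOn (· ≤ ·) 𝒮) (h : ∀ S ∈ 𝒮, TrivRF A S) :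
    TrivRF A (sSup 𝒮 : Subalgebra A B) := by
  have hmem : ∀ b : B, b ∈ sSup 𝒮 ↔ ∃ S ∈ 𝒮, b ∈ S := by
    intro b
    have : Nonempty 𝒮 := hne.to_subtype
    rw [sSup_eq_iSup', ← SetLike.mem_coe, Subalgebra.coe_iSup_of_directed hdir.directed_val]
    simp
  rintro q ⟨b, hb⟩
  obtain ⟨S, hS, hbS⟩ := (hmem b).mp hb
  let ι : S →ₐ[A] (sSup 𝒮 : Subalgebra A B) := Subalgebra.inclusion (le_sSup hS)
  obtain ⟨s, a, hs, hsa⟩ := h S hS (PrimeSpectrum.comap ι.toRingHom q) ⟨b, hbS⟩
  refine ⟨s, a, ?_, ?_⟩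
  · intro hmem'
    apply hs
    change ι (algebraMap A S s) ∈ q.asIdeal
    rwa [ι.commutes]
  · have : ι (algebraMap A S s * ⟨b, hbS⟩ - algebraMap A S a) ∈ q.asIdeal := hsa
    rwa [map_sub, map_mul, ι.commutes, ι.commutes] at this

theorem exists_max_isUnivHomeo_trivRF_subalgebra
    (hker : RingHom.ker (algebraMap A B) ≤ nilradical A) :
    ∃ B' : Subalgebra A B,
      (FlatMor.IsUnivHomeo (Spec.map (CommRingCat.ofHom (algebraMap A B'))) ∧ TrivRF A B') ∧
      ∀ (C : Type u) [CommRing C] [Algebra A C] (g : C →ₐ[A] B),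
        FlatMor.IsUnivHomeo (Spec.map (CommRingCat.ofHom (algebraMap A C))) → TrivRF A C →
          g.range ≤ B' := by
  let 𝒮 : Set (Subalgebra A B) := {S | ∃ (C : Type u) (_ : CommRing C) (_ : Algebra A C)
    (g : C →ₐ[A] B), (FlatMor.IsUnivHomeo (Spec.map (CommRingCat.ofHom (algebraMap A C))) ∧
      TrivRF A C) ∧ g.range = S}
  have hne : 𝒮.Nonempty :=
    ⟨(Algebra.ofId A B).range, A, _, _, Algebra.ofId A B,
      ⟨isUnivHomeo_algebraMap_self, trivRF_self⟩, rfl⟩
  have hdir : DirectedOn (· ≤ ·) 𝒮 := by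
    rintro _ ⟨C₁, _, _, g₁, ⟨h₁, k₁⟩, rfl⟩ _ ⟨C₂, _, _, g₂, ⟨h₂, k₂⟩, rfl⟩
    refine ⟨(Algebra.TensorProduct.productMap g₁ g₂).range,
      ⟨C₁ ⊗[A] C₂, _, _, _, ⟨isUnivHomeo_tensorProduct h₁ h₂, trivRF_tensorProduct k₁ k₂⟩, rfl⟩,
      ?_, ?_⟩
    · rintro _ ⟨c, rfl⟩
      exact ⟨c ⊗ₜ 1, by simp⟩
    · rintro _ ⟨c, rfl⟩
      exact ⟨1 ⊗ₜ c, by simp⟩
  have hall : ∀ S ∈ 𝒮, FlatMor.IsUnivHomeo (Spec.map (CommRingCat.ofHom (algebraMap A S))) := by
    rintro _ ⟨C, _, _, g, ⟨h, -⟩, rfl⟩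
    exact isUnivHomeo_range hker g h
  have hall' : ∀ S ∈ 𝒮, TrivRF A S := by
    rintro _ ⟨C, _, _, g, ⟨-, k⟩, rfl⟩
    exact trivRF_range g k
  refine ⟨sSup 𝒮, ⟨isUnivHomeo_sSup_of_directedOn 𝒮 hne hdir hall,
    trivRF_sSup_of_directedOn 𝒮 hne hdir hall'⟩, ?_⟩
  intro C _ _ g h k
  exact le_sSup ⟨C, _, _, g, ⟨h, k⟩, rfl⟩

end DirectedRF

end Groth.Agent.Lib.Helper6.UnivHomeoRing
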