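import Groth.Agent.Lib.Helper6.AWNRing2
import Groth.Agent.Lib.Helper6.UnivHomeoRF
import Mathlib.FieldTheory.PurelyInseparable.Basic

set_option autoImplicit false
universe u

open CategoryTheory AlgebraicGeometry Limits

namespace Groth.Agent.Lib.Helper6.PIRes

open Groth.Agent.Lib.Helper6.AWN Groth.Agent.Lib.Helper6.SqCube Groth.Agent.Lib.Helper12
open Groth.Agent.Lib.Helper6.UnivHomeoRing

section

variable {A C : Type u} [CommRing A] [CommRing C]

/-- Two ring maps out of a residue field that agree on the ring agree. -/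
theorem residueField_hom_ext {L : Type*} [Field L] (P : Ideal C) [P.IsPrime]
    (σ τ : P.ResidueField →+* L)
    (h : σ.comp (algebraMap C P.ResidueField) = τ.comp (algebraMap C P.ResidueField)) : σ = τ := by
  refine RingHom.ext (fun x => ?_)
  obtain ⟨d, hd, c, hdc⟩ := Groth.Agent.Lib.Helper6.exists_denominator P x
  have hd0 : algebraMap C P.ResidueField d ≠ 0 := by
    rw [Ne, Ideal.algebraMap_residueField_eq_zero]; exact hd
  have h1 : σ (algebraMap C P.ResidueField d) = τ (algebraMap C P.ResidueField d) :=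
    congrArg (fun f => f d) h
  have h2 : σ (algebraMap C P.ResidueField c) = τ (algebraMap C P.ResidueField c) :=
    congrArg (fun f => f c) h
  have h3 : σ x * σ (algebraMap C P.ResidueField d) = τ x * τ (algebraMap C P.ResidueField d) := by
    rw [← map_mul, ← map_mul, hdc, h2]
  have h4 : σ (algebraMap C P.ResidueField d) ≠ 0 := by
    rw [Ne, map_eq_zero]; exact hd0
  rw [← h1] at h3
  exact mul_right_cancel₀ h4 h3

/-- For a ring map inducing a universal homeomorphism, residue field extensions are purely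
inseparable. -/
theorem isPurelyInseparable_residueField_of_uh (φ : A →+* C) (hφ : UH φ)
    (𝔭 : Ideal A) [𝔭.IsPrime] (P : Ideal C) [P.IsPrime] (h : 𝔭 = P.comap φ) :
    letI : Algebra 𝔭.ResidueField P.ResidueField := (Ideal.ResidueField.map 𝔭 P φ h).toAlgebra
    IsPurelyInseparable 𝔭.ResidueField P.ResidueField := by
  let _ : Algebra 𝔭.ResidueField P.ResidueField := (Ideal.ResidueField.map 𝔭 P φ h).toAlgebra
  have : Nonempty (P.ResidueField →+* AlgebraicClosure P.ResidueField) :=
    ⟨algebraMap P.ResidueField (AlgebraicClosure P.ResidueField)⟩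
  apply IsPurelyInseparable.of_injective_comp_algebraMap (F := 𝔭.ResidueField)
    (E := P.ResidueField) (L := AlgebraicClosure P.ResidueField)
  intro σ' τ' hστ
  apply residueField_hom_ext P
  apply hφ.2.1
  ext a
  have h1 := congrArg (fun f => f (algebraMap A 𝔭.ResidueField a)) hστ
  simp only [RingHom.comp_apply] at h1 ⊢
  have h2 : algebraMap 𝔭.ResidueField P.ResidueField (algebraMap A 𝔭.ResidueField a) =
      algebraMap C P.ResidueField (φ a) := Ideal.ResidueField.map_algebraMap 𝔭 P φ h a
  rw [h2] at h1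
  exact h1

theorem exists_pow_mem_range_residueField_of_uh (φ : A →+* C) (hφ : UH φ)
    (𝔭 : Ideal A) [𝔭.IsPrime] (P : Ideal C) [P.IsPrime] (h : 𝔭 = P.comap φ)
    (x : P.ResidueField) :
    ∃ n : ℕ, x ^ ringExpChar 𝔭.ResidueField ^ n ∈ Set.range (Ideal.ResidueField.map 𝔭 P φ h) := by
  let _ : Algebra 𝔭.ResidueField P.ResidueField := (Ideal.ResidueField.map 𝔭 P φ h).toAlgebra
  have := isPurelyInseparable_residueField_of_uh φ hφ 𝔭 P h
  obtain ⟨n, y, hy⟩ := IsPurelyInseparable.pow_mem 𝔭.ResidueField (ringExpChar 𝔭.ResidueField) x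
  exact ⟨n, y, hy⟩

end

end Groth.Agent.Lib.Helper6.PIRes
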