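import Mathlib
import Groth.Agent.Lib.Helper6.GeomUnibranch2
import Groth.Agent.Lib.Helper6.PIRes

set_option autoImplicit false
universe u

namespace Groth.Agent.Lib.Helper6.GU

open Groth.Agent.Lib.Helper6.SqCube

section Ring

variable {A O K : Type u} [CommRing A] [IsDomain A] [CommRing O] [IsDomain O] [Field K]
  [Algebra A O] [Algebra A K] [Algebra O K] [IsScalarTower A O K]
  [IsFractionRing A K] [IsFractionRing O K]
  (𝔭 : Ideal A) [𝔭.IsPrime] [IsLocalization.AtPrime O 𝔭]

include 𝔭 in
/-- Contraction to `A` of a maximal ideal of the integral closure of `O = A_𝔭`. -/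
theorem comap_incl_comap_eq [IsLocalRing O] (M : Ideal (integralClosure O K)) [hM : M.IsMaximal] :
    (M.comap (incl (A := A) (O := O))).comap (algebraMap A (integralClosure A K)) = 𝔭 := by
  have hmax : (M.comap (algebraMap O (integralClosure O K))).IsMaximal :=
    Ideal.isMaximal_comap_of_isIntegral_of_isMaximal _
  have h2 := IsLocalRing.eq_maximalIdeal hmax
  ext a
  change incl (O := O) (algebraMap A (integralClosure A K) a) ∈ M ↔ a ∈ 𝔭
  rw [incl_algebraMap]
  change algebraMap A O a ∈ M.comap (algebraMap O (integralClosure O K)) ↔ _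
  rw [h2]
  exact IsLocalization.AtPrime.to_map_mem_maximal_iff O 𝔭 a

include 𝔭 in
/-- If `A → integralClosure A K` is a universal homeomorphism on spectra, then the integral
closure of `O = A_𝔭` is local. -/
theorem isLocalRing_of_uh (hU : UH (algebraMap A (integralClosure A K))) :
    IsLocalRing (integralClosure O K) := by
  haveI : IsLocalRing O := IsLocalization.AtPrime.isLocalRing O 𝔭
  apply IsLocalRing.of_unique_max_ideal
  obtain ⟨M₀, hM₀⟩ := Ideal.exists_maximal (integralClosure O K)
  refine ⟨M₀, hM₀, ?_⟩
  have key : ∀ (M₁ M₂ : Ideal (integralClosure O K)), M₁.IsMaximal → M₂.IsMaximal → M₁ ≤ M₂ := by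
    intro M₁ M₂ h₁ h₂
    have hP : M₁.comap (incl (A := A) (O := O)) = M₂.comap (incl (A := A) (O := O)) := by
      have hinj := Groth.Agent.Lib.Helper6.AWN.uh_comap_injective hU
      have := @hinj ⟨M₁.comap (incl (A := A) (O := O)), Ideal.comap_isPrime _ _⟩
        ⟨M₂.comap (incl (A := A) (O := O)), Ideal.comap_isPrime _ _⟩ (by
          apply PrimeSpectrum.ext
          change (M₁.comap (incl (A := A) (O := O))).comap (algebraMap A (integralClosure A K)) =
            (M₂.comap (incl (A := A) (O := O))).comap (algebraMap A (integralClosure A K))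
          rw [comap_incl_comap_eq 𝔭 M₁, comap_incl_comap_eq 𝔭 M₂])
      exact congrArg PrimeSpectrum.asIdeal this
    intro x hx
    obtain ⟨t, v, ht, hv⟩ := exists_mul_mem 𝔭 x
    have hvx : incl (O := O) v = algebraMap O (integralClosure O K) (algebraMap A O t) * x := by
      apply Subtype.ext
      change (v : K) = algebraMap O K (algebraMap A O t) * (x : K)
      rw [hv, ← IsScalarTower.algebraMap_apply]
    have h1 : v ∈ M₁.comap (incl (A := A) (O := O)) := by
      change incl (O := O) v ∈ M₁
      rw [hvx]
      exact Ideal.mul_mem_left _ _ hx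
    rw [hP] at h1
    have h2 : algebraMap O (integralClosure O K) (algebraMap A O t) * x ∈ M₂ := by
      rw [← hvx]; exact h1
    rcases h₂.isPrime.mem_or_mem h2 with h3 | h3
    · exfalso
      have h4 : t ∈ (M₂.comap (incl (A := A) (O := O))).comap
          (algebraMap A (integralClosure A K)) := by
        change incl (O := O) (algebraMap A (integralClosure A K) t) ∈ M₂
        rw [incl_algebraMap]; exact h3
      rw [comap_incl_comap_eq 𝔭 M₂] at h4
      exact ht h4
    · exact h3
  intro M hM
  exact (hM.eq_of_le hM₀.ne_top (key M M₀ hM hM₀))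


include 𝔭 in
/-- If `A → integralClosure A K` is a universal homeomorphism on spectra, then `O = A_𝔭` is
geometrically unibranch (intrinsic form). -/
theorem gu'_of_uh (hU : UH (algebraMap A (integralClosure A K))) : GU' O K := by
  haveI : IsLocalRing O := IsLocalization.AtPrime.isLocalRing O 𝔭
  haveI hloc : IsLocalRing (integralClosure O K) := isLocalRing_of_uh 𝔭 hU
  let P' : Ideal (integralClosure A K) :=
    (IsLocalRing.maximalIdeal (integralClosure O K)).comap (incl (A := A) (O := O))
  haveI hP' : P'.IsPrime := Ideal.comap_isPrime _ _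
  have hcomap : 𝔭 = P'.comap (algebraMap A (integralClosure A K)) :=
    (comap_incl_comap_eq 𝔭 (IsLocalRing.maximalIdeal (integralClosure O K))).symm
  obtain ⟨q, hq⟩ := ExpChar.exists (R := 𝔭.ResidueField)
  have hqe : ringExpChar 𝔭.ResidueField = q := ringExpChar.eq _ q
  refine ⟨hloc, q, ?_, ?_⟩
  · cases hq with
    | zero => exact Or.inl rfl
    | prime hp =>
      refine Or.inr ⟨hp, ?_⟩
      have h0 : algebraMap A 𝔭.ResidueField ((q : ℕ) : A) = 0 := by
        rw [map_natCast]; exact CharP.cast_eq_zero _ q
      rw [Ideal.algebraMap_residueField_eq_zero] at h0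
      have h1 := (isUnit_incl_algebraMap_iff (O := O) (K := K) 𝔭 ((q : ℕ) : A)).not.mpr
        (not_not.mpr h0)
      rwa [map_natCast, map_natCast] at h1
  · intro x
    obtain ⟨t, v, ht, hv⟩ := exists_mul_mem 𝔭 x
    obtain ⟨n, y, hy⟩ := Groth.Agent.Lib.Helper6.PIRes.exists_pow_mem_range_residueField_of_uh
      (algebraMap A (integralClosure A K)) hU 𝔭 P' hcomap
      (algebraMap (integralClosure A K) P'.ResidueField v)
    rw [hqe] at hy
    obtain ⟨d, hd, c, hdc⟩ := Groth.Agent.Lib.Helper6.exists_denominator 𝔭 y
    -- the relation in `κ(P')`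
    have hrel : algebraMap (integralClosure A K) P'.ResidueField
        (v ^ q ^ n * algebraMap A (integralClosure A K) d - algebraMap A (integralClosure A K) c)
        = 0 := by
      have h1 := congrArg (Ideal.ResidueField.map 𝔭 P' (algebraMap A (integralClosure A K)) hcomap)
        hdc
      rw [map_mul, hy, Ideal.ResidueField.map_algebraMap, Ideal.ResidueField.map_algebraMap]
        at h1
      rw [map_sub, map_mul, map_pow, h1, sub_self]
    rw [Ideal.algebraMap_residueField_eq_zero] at hrel
    -- translate to `O'`
    have hmem : incl (O := O) (v ^ q ^ n * algebraMap A (integralClosure A K) d -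
        algebraMap A (integralClosure A K) c) ∈ IsLocalRing.maximalIdeal (integralClosure O K) :=
      hrel
    have hvx : incl (O := O) v = algebraMap O (integralClosure O K) (algebraMap A O t) * x := by
      apply Subtype.ext
      change (v : K) = algebraMap O K (algebraMap A O t) * (x : K)
      rw [hv, ← IsScalarTower.algebraMap_apply]
    -- the denominator
    have hden : d * t ^ q ^ n ∈ 𝔭.primeCompl :=
      𝔭.primeCompl.mul_mem hd (𝔭.primeCompl.pow_mem ht _)
    let o : O := IsLocalization.mk' O c (⟨d * t ^ q ^ n, hden⟩ : 𝔭.primeCompl)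
    have ho : o * algebraMap A O (d * t ^ q ^ n) = algebraMap A O c :=
      IsLocalization.mk'_spec O c (⟨d * t ^ q ^ n, hden⟩ : 𝔭.primeCompl)
    refine ⟨n, o, ?_⟩
    intro hu
    have hunit : IsUnit (algebraMap O (integralClosure O K) (algebraMap A O (d * t ^ q ^ n))) :=
      (IsLocalization.map_units O (⟨d * t ^ q ^ n, hden⟩ : 𝔭.primeCompl)).map _
    have e1 : incl (O := O) (v ^ q ^ n * algebraMap A (integralClosure A K) d -
        algebraMap A (integralClosure A K) c) =
        (algebraMap O (integralClosure O K) (algebraMap A O t) * x) ^ q ^ n *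
          algebraMap O (integralClosure O K) (algebraMap A O d) -
        algebraMap O (integralClosure O K) (algebraMap A O c) := by
      rw [map_sub, map_mul, map_pow, incl_algebraMap, incl_algebraMap, hvx]
    have e2 : algebraMap O (integralClosure O K) o *
        algebraMap O (integralClosure O K) (algebraMap A O (d * t ^ q ^ n)) =
        algebraMap O (integralClosure O K) (algebraMap A O c) := by
      rw [← map_mul, ho]
    have e3 : algebraMap O (integralClosure O K) (algebraMap A O (d * t ^ q ^ n)) =
        algebraMap O (integralClosure O K) (algebraMap A O d) *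
          (algebraMap O (integralClosure O K) (algebraMap A O t)) ^ q ^ n := by
      rw [map_mul, map_pow, map_mul, map_pow]
    have hprod : (x ^ q ^ n - algebraMap O (integralClosure O K) o) *
        algebraMap O (integralClosure O K) (algebraMap A O (d * t ^ q ^ n)) =
        incl (O := O) (v ^ q ^ n * algebraMap A (integralClosure A K) d -
          algebraMap A (integralClosure A K) c) := by
      rw [e1, sub_mul, e2, e3]
      ring
    have := hu.mul hunit
    rw [hprod] at this
    exact (IsLocalRing.mem_maximalIdeal _).mp hmem this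

end Ring

end Groth.Agent.Lib.Helper6.GU
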