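import Mathlib
import Groth.Agent.Lib.Helper6.GeomUnibranch3

set_option autoImplicit false
universe u

open CategoryTheory AlgebraicGeometry

namespace Groth.Agent.Lib.Helper6.GU

open Groth.Agent.Lib.Helper6.SqCube

section Domain

variable {A K : Type u} [CommRing A] [IsDomain A] [Field K] [Algebra A K] [IsFractionRing A K]

/-- Ring-level radiciality statement. -/
def Radicial {R S : Type u} [CommRing R] [CommRing S] (φ : R →+* S) : Prop :=
  ∀ (Ω : Type u) [Field Ω] (σ τ : S →+* Ω), σ.comp φ = τ.comp φ → σ = τ

theorem isIntegral_algebraMap_integralClosure :
    (algebraMap A (integralClosure A K)).IsIntegral :=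
  fun x => Algebra.IsIntegral.isIntegral (R := A) x

theorem injective_algebraMap_integralClosure :
    Function.Injective (algebraMap A (integralClosure A K)) := by
  intro a b hab
  apply IsFractionRing.injective A K
  exact congrArg Subtype.val hab

theorem comap_surjective_integralClosure :
    Function.Surjective (PrimeSpectrum.comap (algebraMap A (integralClosure A K))) :=
  (isIntegral_algebraMap_integralClosure (A := A) (K := K)).comap_surjective
    injective_algebraMap_integralClosure

theorem uh_of_radicial (h : Radicial (algebraMap A (integralClosure A K))) :
    UH (algebraMap A (integralClosure A K)) :=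
  ⟨isIntegral_algebraMap_integralClosure, h, comap_surjective_integralClosure⟩

end Domain

end Groth.Agent.Lib.Helper6.GU
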