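import Mathlib
import Groth.Agent.Lib.Helper6.GeomUnibranch4
import Groth.Agent.Lib.Helper6.AWNRing
import Groth.Agent.Lib.Helper24.EtaleNormal
import Groth.Agent.Lib27.SmoothField

set_option autoImplicit false
universe u

open TensorProduct

namespace Groth.Agent.Lib.Helper6.UB

open Groth.Agent.Lib.Helper6.GU

section Lift

variable {B C : Type u} [CommRing B] [CommRing C]

set_option synthInstance.maxHeartbeats 400000 in
/-- For an integral ring map `ψ : B → C` and a prime `𝔮` of `C` over `𝔭`, the canonical map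
`B → \overline{κ(𝔭)}` extends to `C` with kernel exactly `𝔮`. -/
theorem exists_hom_algebraicClosure_ker (ψ : B →+* C) (hint : ψ.IsIntegral)
    (𝔭 : Ideal B) [𝔭.IsPrime] (𝔮 : Ideal C) [𝔮.IsPrime] (h : 𝔭 = 𝔮.comap ψ) :
    ∃ g : C →+* AlgebraicClosure 𝔭.ResidueField,
      g.comp ψ = algebraMap B (AlgebraicClosure 𝔭.ResidueField) ∧ RingHom.ker g = 𝔮 := by
  let _ : Algebra 𝔭.ResidueField 𝔮.ResidueField := (Ideal.ResidueField.map 𝔭 𝔮 ψ h).toAlgebra
  have := Groth.Agent.Lib.Helper6.AWN.isAlgebraic_residueField ψ hint 𝔭 𝔮 h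
  let f : 𝔮.ResidueField →ₐ[𝔭.ResidueField] AlgebraicClosure 𝔭.ResidueField := IsAlgClosed.lift
  refine ⟨f.toRingHom.comp (algebraMap C 𝔮.ResidueField), ?_, ?_⟩
  · ext a
    simp only [RingHom.comp_apply]
    have h1 : algebraMap C 𝔮.ResidueField (ψ a) =
        algebraMap 𝔭.ResidueField 𝔮.ResidueField (algebraMap B 𝔭.ResidueField a) :=
      (Ideal.ResidueField.map_algebraMap 𝔭 𝔮 ψ h a).symm
    rw [h1]
    have h2 := f.commutes (algebraMap B 𝔭.ResidueField a)
    rw [IsScalarTower.algebraMap_apply B 𝔭.ResidueField (AlgebraicClosure 𝔭.ResidueField)]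
    exact h2
  · rw [RingHom.ker_comp_of_injective _ f.toRingHom.injective]
    exact Ideal.ker_algebraMap_residueField 𝔮

end Lift

section Main

variable (A K : Type u) [CommRing A] [IsDomain A] [IsLocalRing A] [Field K] [Algebra A K]
  [IsFractionRing A K] (B : Type u) [CommRing B] [Algebra A B] [Algebra.Etale A B]

/-- The base change map `B → A' ⊗ B`, with `A'` the integral closure of `A`. -/
noncomputable abbrev psi : B →+* (integralClosure A K) ⊗[A] B :=
  (Algebra.TensorProduct.includeRight : B →ₐ[A] (integralClosure A K) ⊗[A] B).toRingHom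

omit [IsDomain A] [IsLocalRing A] [IsFractionRing A K] [Algebra.Etale A B] in
theorem psi_isIntegral : (psi A K B).IsIntegral := by
  have h1 : (algebraMap B (B ⊗[A] integralClosure A K)).IsIntegral :=
    algebraMap_isIntegral_iff.mpr inferInstance
  have h2 : psi A K B =
      ((Algebra.TensorProduct.comm A B (integralClosure A K)).toRingEquiv.toRingHom).comp
        (algebraMap B (B ⊗[A] integralClosure A K)) := by
    ext b
    simp [psi]
  rw [h2]
  refine RingHom.IsIntegral.trans _ _ h1 (RingHom.isIntegral_of_surjective _ ?_)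
  intro x
  exact ⟨(Algebra.TensorProduct.comm A B (integralClosure A K)).symm x,
    (Algebra.TensorProduct.comm A B (integralClosure A K)).apply_symm_apply x⟩

omit [IsLocalRing A] in
theorem psi_injective : Function.Injective (psi A K B) := by
  have hA : Function.Injective (algebraMap A (integralClosure A K)) :=
    injective_algebraMap_integralClosure
  exact Algebra.TensorProduct.includeRight_injective hA

omit [Algebra.Etale A B] in
/-- Over a geometrically unibranch local domain, the base change to the integral closure has at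
most one prime over a given prime lying over the closed point. -/
theorem eq_of_comap_eq (hGU : GU' A K) (q : Ideal B) [q.IsPrime]
    (hq : q.comap (algebraMap A B) = IsLocalRing.maximalIdeal A)
    (Q₁ Q₂ : Ideal ((integralClosure A K) ⊗[A] B)) [Q₁.IsPrime] [Q₂.IsPrime]
    (h₁ : Q₁.comap (psi A K B) = q) (h₂ : Q₂.comap (psi A K B) = q) : Q₁ = Q₂ := by
  obtain ⟨g₁, hg₁, hk₁⟩ :=
    exists_hom_algebraicClosure_ker (psi A K B) (psi_isIntegral A K B) q Q₁ h₁.symm
  obtain ⟨g₂, hg₂, hk₂⟩ :=
    exists_hom_algebraicClosure_ker (psi A K B) (psi_isIntegral A K B) q Q₂ h₂.symm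
  let incA : integralClosure A K →+* (integralClosure A K) ⊗[A] B :=
    algebraMap (integralClosure A K) ((integralClosure A K) ⊗[A] B)
  have hcompat : incA.comp (algebraMap A (integralClosure A K)) =
      (psi A K B).comp (algebraMap A B) := by
    ext a
    change algebraMap (integralClosure A K) ((integralClosure A K) ⊗[A] B)
      (algebraMap A (integralClosure A K) a) = (1 : integralClosure A K) ⊗ₜ[A] (algebraMap A B a)
    rw [Algebra.TensorProduct.algebraMap_apply]
    rw [Algebra.algebraMap_eq_smul_one (A := B) a, ← TensorProduct.smul_tmul]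
    congr 1
    simp [Algebra.algebraMap_eq_smul_one]
  have hστ : (g₁.comp incA).comp (algebraMap A (integralClosure A K)) =
      (g₂.comp incA).comp (algebraMap A (integralClosure A K)) := by
    rw [RingHom.comp_assoc, RingHom.comp_assoc, hcompat, ← RingHom.comp_assoc,
      ← RingHom.comp_assoc, hg₁, hg₂]
  have hker : RingHom.ker ((g₁.comp incA).comp (algebraMap A (integralClosure A K))) =
      IsLocalRing.maximalIdeal A := by
    rw [RingHom.comp_assoc, hcompat, ← RingHom.comp_assoc, hg₁, ← hq, ← RingHom.comap_ker]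
    congr 1
    rw [IsScalarTower.algebraMap_eq B q.ResidueField (AlgebraicClosure q.ResidueField),
      RingHom.ker_comp_of_injective _
        (algebraMap q.ResidueField (AlgebraicClosure q.ResidueField)).injective]
    exact Ideal.ker_algebraMap_residueField q
  haveI : IsLocalization.AtPrime A (IsLocalRing.maximalIdeal A) :=
    IsLocalization.of_le_isUnit (fun s hs => by
      have : s ∉ IsLocalRing.maximalIdeal A := hs
      rw [IsLocalRing.mem_maximalIdeal, mem_nonunits_iff, not_not] at this
      exact this)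
  have key := hom_eq_of_gu' (A := A) (O := A) (K := K) (IsLocalRing.maximalIdeal A) hGU
    (g₁.comp incA) (g₂.comp incA) hστ hker
  have hg : g₁ = g₂ := by
    apply RingHom.ext
    intro x
    induction x using TensorProduct.induction_on with
    | zero => simp
    | tmul a b =>
      have e : a ⊗ₜ[A] b = incA a * psi A K B b := by
        change a ⊗ₜ[A] b = (a ⊗ₜ[A] (1 : B)) * ((1 : integralClosure A K) ⊗ₜ[A] b)
        rw [Algebra.TensorProduct.tmul_mul_tmul, mul_one, one_mul]
      rw [e, map_mul, map_mul]
      have e1 : g₁ (incA a) = g₂ (incA a) := congr($key a)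
      have e2 : g₁ (psi A K B b) = g₂ (psi A K B b) := by
        have := congr($hg₁ b)
        have := congr($hg₂ b)
        simp only [RingHom.comp_apply] at *
        rw [‹g₁ _ = _›, ‹g₂ _ = _›]
      rw [e1, e2]
    | add x y hx hy => rw [map_add, map_add, hx, hy]
  rw [← hk₁, ← hk₂, hg]

omit [IsLocalRing A] [Algebra.Etale A B] in
theorem integralClosure_normal' :
    IsDomain (integralClosure A K) ∧ IsIntegrallyClosed (integralClosure A K) :=
  ⟨inferInstance, integralClosure.isIntegrallyClosedOfFiniteExtension (R := A) K (L := K)⟩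

set_option maxHeartbeats 800000 in
/-- **Étale algebras over a geometrically unibranch local domain are unibranch**: the local ring at
a prime over the closed point is a domain. -/
theorem isDomain_localization_of_gu' (hGU : GU' A K) (q : Ideal B) [q.IsPrime]
    (hq : q.comap (algebraMap A B) = IsLocalRing.maximalIdeal A) :
    IsDomain (Localization.AtPrime q) := by
  classical
  letI : Algebra B ((integralClosure A K) ⊗[A] B) := (psi A K B).toAlgebra
  haveI : Algebra.IsIntegral B ((integralClosure A K) ⊗[A] B) :=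
    ⟨fun x => psi_isIntegral A K B x⟩
  have hinj : Function.Injective (algebraMap B ((integralClosure A K) ⊗[A] B)) :=
    psi_injective A K B
  obtain ⟨hdA', hicA'⟩ := integralClosure_normal' A K
  have hdom : ∀ (Q : Ideal ((integralClosure A K) ⊗[A] B)) [Q.IsPrime],
      IsDomain (Localization.AtPrime Q) := fun Q _ =>
    (Groth.Agent.Lib.Helper24.ENorm.isDomain_and_isIntegrallyClosed_localization_of_etale
      (integralClosure A K) ((integralClosure A K) ⊗[A] B) Q).1
  have hkerbot : RingHom.ker (algebraMap B ((integralClosure A K) ⊗[A] B)) = ⊥ :=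
    (RingHom.injective_iff_ker_eq_bot _).mp hinj
  obtain ⟨Q₀, -, hQ₀p, hQ₀c⟩ := Ideal.exists_ideal_over_prime_of_isIntegral q
    (⊥ : Ideal ((integralClosure A K) ⊗[A] B))
    (by rw [← RingHom.ker_eq_comap_bot, hkerbot]; exact bot_le)
  haveI := hQ₀p
  haveI := hdom Q₀
  let N₀ : Ideal ((integralClosure A K) ⊗[A] B) :=
    RingHom.ker (algebraMap ((integralClosure A K) ⊗[A] B) (Localization.AtPrime Q₀))
  haveI hN₀ : N₀.IsPrime := RingHom.ker_isPrime _
  have hN₀le : ∀ (P' : Ideal ((integralClosure A K) ⊗[A] B)) [P'.IsPrime], P' ≤ Q₀ → N₀ ≤ P' := by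
    intro P' _ hP' b hb
    rw [RingHom.mem_ker, IsLocalization.map_eq_zero_iff Q₀.primeCompl] at hb
    obtain ⟨⟨s, hs⟩, hsb⟩ := hb
    have hmem : s * b ∈ P' := by
      have : s * b = 0 := hsb
      rw [this]; exact P'.zero_mem
    rcases Ideal.IsPrime.mem_or_mem ‹P'.IsPrime› hmem with h | h
    · exact (hs (hP' h)).elim
    · exact h
  let P₀ : Ideal B := N₀.comap (algebraMap B ((integralClosure A K) ⊗[A] B))
  haveI : P₀.IsPrime := Ideal.comap_isPrime _ _
  have hP₀q : P₀ ≤ q := by
    rw [← hQ₀c]; exact Ideal.comap_mono (hN₀le Q₀ le_rfl)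
  have hmin : ∀ P ∈ minimalPrimes B, P ≤ q → P = P₀ := by
    intro P hP hPq
    haveI : P.IsPrime := hP.1.1
    obtain ⟨P', -, hP'p, hP'c⟩ := Ideal.exists_ideal_over_prime_of_isIntegral P
      (⊥ : Ideal ((integralClosure A K) ⊗[A] B))
      (by rw [← RingHom.ker_eq_comap_bot, hkerbot]; exact bot_le)
    haveI := hP'p
    obtain ⟨Q, hQge, hQp, hQc⟩ := Ideal.exists_ideal_over_prime_of_isIntegral_of_isPrime q P'
      (by rw [hP'c]; exact hPq)
    haveI := hQp
    have hQQ₀ : Q = Q₀ := eq_of_comap_eq A K B hGU q hq Q Q₀ hQc hQ₀c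
    have h1 : N₀ ≤ P' := hN₀le P' (hQQ₀ ▸ hQge)
    have h2 : P₀ ≤ P := by rw [← hP'c]; exact Ideal.comap_mono h1
    exact le_antisymm (hP.2 ⟨inferInstance, bot_le⟩ h2) h2
  have hP₀le : ∀ (r : Ideal B) [r.IsPrime], r ≤ q → P₀ ≤ r := by
    intro r _ hr
    obtain ⟨P, hP, hPr⟩ := Ideal.exists_minimalPrimes_le (I := ⊥) (J := r) bot_le
    rw [← hmin P hP (hPr.trans hr)]; exact hPr
  haveI : IsReduced B := Groth.Agent.Lib27.SmoothField.isReduced_of_etale_of_isDomain A B
  haveI : IsReduced (Localization.AtPrime q) := inferInstance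
  have hdisj : Disjoint (q.primeCompl : Set B) P₀ := by
    rw [Set.disjoint_left]
    intro x hx hxP
    exact hx (hP₀q hxP)
  have hprime : (P₀.map (algebraMap B (Localization.AtPrime q))).IsPrime :=
    IsLocalization.isPrime_of_isPrime_disjoint q.primeCompl _ P₀ inferInstance hdisj
  have hbot : P₀.map (algebraMap B (Localization.AtPrime q)) = ⊥ := by
    rw [eq_bot_iff, ← Ideal.zero_eq_bot, ← nilradical_eq_zero (Localization.AtPrime q),
      nilradical_eq_sInf]
    refine le_sInf fun rc hrc => ?_
    haveI : rc.IsPrime := hrc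
    have hr : rc.comap (algebraMap B (Localization.AtPrime q)) ≤ q := by
      have h1 : rc ≤ IsLocalRing.maximalIdeal (Localization.AtPrime q) :=
        IsLocalRing.le_maximalIdeal hrc.ne_top
      have h2 := Ideal.comap_mono (f := algebraMap B (Localization.AtPrime q)) h1
      have h3 : Ideal.comap (algebraMap B (Localization.AtPrime q))
          (IsLocalRing.maximalIdeal (Localization.AtPrime q)) = q :=
        IsLocalization.AtPrime.under_maximalIdeal (Localization.AtPrime q) q
      rwa [h3] at h2
    exact (Ideal.map_mono (hP₀le _ hr)).trans Ideal.map_comap_le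
  haveI : (⊥ : Ideal (Localization.AtPrime q)).IsPrime := hbot ▸ hprime
  exact IsDomain.of_bot_isPrime _

end Main

end Groth.Agent.Lib.Helper6.UB
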