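import Mathlib
import Groth.Agent.Lib.Helper6.UB1

set_option autoImplicit false
universe u

open TensorProduct

namespace Groth.Agent.Lib.Helper6.UB

open Groth.Agent.Lib.Helper6.GU

set_option maxHeartbeats 800000 in
/-- Localizations at primes of an étale algebra over a ring whose localization at the contracted
prime is a geometrically unibranch domain are domains. -/
theorem isDomain_localization_of_etale' (R S : Type u) [CommRing R] [CommRing S] [Algebra R S]
    [Algebra.Etale R S] (q : Ideal S) [q.IsPrime] (p : Ideal R) [p.IsPrime]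
    (hp : q.comap (algebraMap R S) = p)
    (Rp : Type u) [CommRing Rp] [Algebra R Rp] [IsLocalization.AtPrime Rp p] [IsLocalRing Rp]
    [IsDomain Rp] (hGU : CAlg2.IsGeomUnibranch Rp) :
    IsDomain (Localization.AtPrime q) := by
  let _ : Algebra S (Rp ⊗[R] S) := Algebra.TensorProduct.rightAlgebra
  have hloc : IsLocalization (Algebra.algebraMapSubmonoid S p.primeCompl)
      (Rp ⊗[R] S) := IsLocalization.tensorRight _ p.primeCompl
  have hdisj : Disjoint (Algebra.algebraMapSubmonoid S p.primeCompl : Set S) q := by
    rw [Set.disjoint_left]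
    rintro _ ⟨r, hr, rfl⟩ hrq
    apply hr
    rw [← hp]
    exact hrq
  have hq' : (q.map (algebraMap S (Rp ⊗[R] S))).IsPrime :=
    IsLocalization.isPrime_of_isPrime_disjoint _ _ _ ‹_› hdisj
  have hcomap : (q.map (algebraMap S (Rp ⊗[R] S))).comap
      (algebraMap S (Rp ⊗[R] S)) = q :=
    IsLocalization.under_map_of_isPrime_disjoint _ _ ‹_› hdisj
  have hGU' : GU' Rp (FractionRing Rp) :=
    gu'_of_isGeomUnibranch _ _ hGU
  have hmax : (q.map (algebraMap S (Rp ⊗[R] S))).comap
      (algebraMap Rp (Rp ⊗[R] S)) =
      IsLocalRing.maximalIdeal Rp := by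
    haveI : ((q.map (algebraMap S (Rp ⊗[R] S))).comap
      (algebraMap Rp (Rp ⊗[R] S))).IsPrime :=
      Ideal.comap_isPrime _ _
    refine le_antisymm (IsLocalRing.le_maximalIdeal (Ideal.IsPrime.ne_top inferInstance)) ?_
    rw [← IsLocalization.AtPrime.map_eq_maximalIdeal p Rp, Ideal.map_le_iff_le_comap]
    intro a ha
    change algebraMap Rp (Rp ⊗[R] S)
      (algebraMap R Rp a) ∈
      q.map (algebraMap S (Rp ⊗[R] S))
    have e : algebraMap Rp (Rp ⊗[R] S)
        (algebraMap R Rp a) =
        algebraMap S (Rp ⊗[R] S) (algebraMap R S a) := by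
      rw [← IsScalarTower.algebraMap_apply, ← IsScalarTower.algebraMap_apply]
    rw [e]
    apply Ideal.mem_map_of_mem
    rw [← hp] at ha
    exact ha
  have h1 := isDomain_localization_of_gu' Rp
    (FractionRing Rp) (Rp ⊗[R] S) hGU'
    (q.map (algebraMap S (Rp ⊗[R] S))) hmax
  have : IsScalarTower S (Rp ⊗[R] S)
      (Localization.AtPrime (q.map (algebraMap S (Rp ⊗[R] S)))) :=
    inferInstance
  have hat := IsLocalization.isLocalization_isLocalization_atPrime_isLocalization
    (Algebra.algebraMapSubmonoid S p.primeCompl)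
    (Localization.AtPrime (q.map (algebraMap S (Rp ⊗[R] S))))
    (q.map (algebraMap S (Rp ⊗[R] S)))
  simp only [hcomap] at hat
  let e : Localization.AtPrime q ≃ₐ[S]
      Localization.AtPrime (q.map (algebraMap S (Rp ⊗[R] S))) :=
    IsLocalization.algEquiv q.primeCompl _ _
  exact e.symm.toRingEquiv.toMulEquiv.isDomain_iff.mp h1


/-- Special case of `isDomain_localization_of_etale'` for `Localization.AtPrime p`. -/
theorem isDomain_localization_of_etale (R S : Type u) [CommRing R] [CommRing S] [Algebra R S]
    [Algebra.Etale R S] (q : Ideal S) [q.IsPrime] (p : Ideal R) [p.IsPrime]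
    (hp : q.comap (algebraMap R S) = p)
    [IsDomain (Localization.AtPrime p)]
    (hGU : CAlg2.IsGeomUnibranch (Localization.AtPrime p)) :
    IsDomain (Localization.AtPrime q) :=
  isDomain_localization_of_etale' R S q p hp (Localization.AtPrime p) hGU

end Groth.Agent.Lib.Helper6.UB
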