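import Mathlib
import Groth.Agent.Lib.Helper6.UB2

set_option autoImplicit false
universe u

open TensorProduct

namespace Groth.Agent.Lib.Helper6.UB

open Groth.Agent.Lib.Helper6.GU

section Core

variable (R E : Type u) [CommRing R] [CommRing E] [Algebra R E] [Algebra.Etale R E]

/-- Core of EGA IV 18.10.1: in an étale algebra over a base which is a geometrically unibranch
domain at `p`, any prime `r' ≤ q'` lying over a "generic" prime is the kernel of the
localization at `q'`. -/
theorem le_ker_localization (q' : Ideal E) [q'.IsPrime] (p : Ideal R) [p.IsPrime]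
    (hp : q'.comap (algebraMap R E) = p)
    (Rp : Type u) [CommRing Rp] [Algebra R Rp] [IsLocalization.AtPrime Rp p] [IsLocalRing Rp]
    [IsDomain Rp] (hGU : CAlg2.IsGeomUnibranch Rp)
    (r' : Ideal E) [r'.IsPrime] (hr'q' : r' ≤ q')
    (hr' : ∀ a : R, algebraMap R E a ∈ r' → ∃ s ∉ p, s * a = 0) :
    r' = RingHom.ker (algebraMap E (Localization.AtPrime q')) := by
  haveI := isDomain_localization_of_etale' R E q' p hp Rp hGU
  set N : Ideal E := RingHom.ker (algebraMap E (Localization.AtPrime q')) with hN
  haveI hNp : N.IsPrime := RingHom.ker_isPrime _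
  have hNle : N ≤ r' := by
    intro b hb
    rw [hN, RingHom.mem_ker, IsLocalization.map_eq_zero_iff q'.primeCompl] at hb
    obtain ⟨⟨s, hs⟩, hsb⟩ := hb
    have hmem : s * b ∈ r' := by
      have : s * b = 0 := hsb
      rw [this]; exact r'.zero_mem
    rcases Ideal.IsPrime.mem_or_mem ‹r'.IsPrime› hmem with h | h
    · exact (hs (hr'q' h)).elim
    · exact h
  have hunder : N.under R = r'.under R := by
    refine le_antisymm (Ideal.comap_mono hNle) ?_
    intro a ha
    obtain ⟨s, hs, hsa⟩ := hr' a ha
    change algebraMap R E a ∈ N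
    rw [hN, RingHom.mem_ker, IsLocalization.map_eq_zero_iff q'.primeCompl]
    refine ⟨⟨algebraMap R E s, ?_⟩, ?_⟩
    · intro hmem
      apply hs
      rw [← hp]
      exact hmem
    · change algebraMap R E s * algebraMap R E a = 0
      rw [← map_mul, hsa, map_zero]
  exact (Algebra.QuasiFinite.eq_of_le_of_under_eq N r' hNle hunder).symm

omit [Algebra R E] [Algebra.Etale R E] in
/-- A finitely generated ideal dying in a localization at a prime is killed by a single element
outside the prime. -/
theorem exists_annihilator_of_fg (q' : Ideal E) [q'.IsPrime] (J : Ideal E) (hJ : J.FG)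
    (hle : J ≤ RingHom.ker (algebraMap E (Localization.AtPrime q'))) :
    ∃ e ∉ q', ∀ j ∈ J, e * j = 0 := by
  classical
  obtain ⟨T, rfl⟩ := hJ
  have h1 : ∀ j ∈ T, ∃ e ∉ q', e * j = 0 := by
    intro j hj
    have := hle (Ideal.subset_span hj)
    rw [RingHom.mem_ker, IsLocalization.map_eq_zero_iff q'.primeCompl] at this
    obtain ⟨⟨s, hs⟩, hsb⟩ := this
    exact ⟨s, hs, hsb⟩
  choose! e he1 he2 using h1
  refine ⟨∏ j ∈ T, e j, ?_, ?_⟩
  · intro hmem
    obtain ⟨j, hj, hjm⟩ := (Ideal.IsPrime.prod_mem_iff (hp := ‹q'.IsPrime›)).mp hmem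
    exact he1 j hj hjm
  · intro x hx
    induction hx using Submodule.span_induction with
    | mem j hj =>
      rw [← Finset.prod_erase_mul T e hj, mul_assoc, he2 j hj, mul_zero]
    | zero => simp
    | add x y _ _ hx hy => rw [mul_add, hx, hy, add_zero]
    | smul a x _ hx => rw [smul_eq_mul, mul_left_comm, hx, mul_zero]

/-- Over a domain, the kernel of the localization of an étale algebra at a prime with integral
local ring is killed by a single element outside the prime. -/
theorem exists_annihilator_of_isDomain [IsDomain R] (q' : Ideal E) [q'.IsPrime]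
    [IsDomain (Localization.AtPrime q')] :
    ∃ e ∉ q', ∀ x ∈ RingHom.ker (algebraMap E (Localization.AtPrime q')), e * x = 0 := by
  classical
  haveI : IsReduced E := Groth.Agent.Lib27.SmoothField.isReduced_of_etale_of_isDomain R E
  set N : Ideal E := RingHom.ker (algebraMap E (Localization.AtPrime q')) with hN
  haveI hNp : N.IsPrime := RingHom.ker_isPrime _
  have hNle : ∀ (r' : Ideal E) [r'.IsPrime], r' ≤ q' → N ≤ r' := by
    intro r' _ hr'q' b hb
    rw [hN, RingHom.mem_ker, IsLocalization.map_eq_zero_iff q'.primeCompl] at hb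
    obtain ⟨⟨s, hs⟩, hsb⟩ := hb
    have hmem : s * b ∈ r' := by
      have : s * b = 0 := hsb
      rw [this]; exact r'.zero_mem
    rcases Ideal.IsPrime.mem_or_mem ‹r'.IsPrime› hmem with h | h
    · exact (hs (hr'q' h)).elim
    · exact h
  -- finiteness of minimal primes
  have hfin : (minimalPrimes E).Finite := by
    refine (Algebra.QuasiFinite.finite_primesOver (R := R) (S := E) ⊥).subset ?_
    intro P hP
    haveI : P.IsPrime := hP.1.1
    haveI : (⊥ : Ideal R).IsPrime := Ideal.isPrime_bot
    haveI : P.LiesOver (P.under R) := ⟨rfl⟩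
    obtain ⟨P', hP'le, hP'p, hP'over⟩ :=
      Ideal.exists_ideal_le_liesOver_of_le (p := (⊥ : Ideal R)) (q := P.under R) P bot_le
    have : P ≤ P' := hP.2 ⟨hP'p, bot_le⟩ hP'le
    have hPP' : P' = P := le_antisymm hP'le this
    exact ⟨inferInstance, hPP' ▸ hP'over⟩
  have hother : ∀ M ∈ minimalPrimes E, M ≠ N → ∃ e ∈ M, e ∉ q' := by
    intro M hM hMN
    by_contra hcon
    push Not at hcon
    haveI : M.IsPrime := hM.1.1
    have h1 : N ≤ M := hNle M hcon
    have h2 : M ≤ N := hM.2 ⟨hNp, bot_le⟩ h1
    exact hMN (le_antisymm h2 h1)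
  choose! e he1 he2 using hother
  let T : Finset (Ideal E) := hfin.toFinset.erase N
  refine ⟨∏ M ∈ T, e M, ?_, ?_⟩
  · intro hmem
    obtain ⟨M, hM, hMm⟩ := (Ideal.IsPrime.prod_mem_iff (hp := ‹q'.IsPrime›)).mp hmem
    rw [Finset.mem_erase, Set.Finite.mem_toFinset] at hM
    exact he2 M hM.2 hM.1 hMm
  · intro x hx
    have hnil : (∏ M ∈ T, e M) * x ∈ nilradical E := by
      rw [nilradical, ← Ideal.sInf_minimalPrimes, Ideal.mem_sInf]
      intro M hM
      by_cases hMN : M = N
      · rw [hMN]; exact Ideal.mul_mem_left _ _ hx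
      · have hMT : M ∈ T := by
          rw [Finset.mem_erase, Set.Finite.mem_toFinset]; exact ⟨hMN, hM⟩
        rw [← Finset.prod_erase_mul T e hMT, mul_assoc]
        exact Ideal.mul_mem_left _ _ (Ideal.mul_mem_right _ _ (he1 M hM hMN))
    rw [nilradical_eq_zero] at hnil
    exact hnil

end Core

section Main

variable (R S : Type u) [CommRing R] [CommRing S] [Algebra R S]

set_option maxHeartbeats 1600000 in
/-- **EGA IV 18.10.1, ring form.**  Let `S` be a finite type `R`-algebra unramified at `q`, with
`R_p` a geometrically unibranch domain (`p = q ∩ R`), and assume that some prime `r ≤ q` lies over a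
"generic point" of `R_p`. If `R` is a domain or `S` is finitely presented, then `S` is étale over
`R` on a basic open neighbourhood of `q`. -/
theorem exists_etale_away' [Algebra.FiniteType R S] (q : Ideal S) [q.IsPrime] (p : Ideal R)
    [p.IsPrime] (hp : q.comap (algebraMap R S) = p)
    (Rp : Type u) [CommRing Rp] [Algebra R Rp] [IsLocalization.AtPrime Rp p] [IsLocalRing Rp]
    [IsDomain Rp] (hGU : CAlg2.IsGeomUnibranch Rp) [Algebra.IsUnramifiedAt R q]
    (r : Ideal S) [r.IsPrime] (hrq : r ≤ q)
    (hr : ∀ a : R, algebraMap R S a ∈ r → ∃ s ∉ p, s * a = 0)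
    (hcase : IsDomain R ∨ Algebra.FinitePresentation R S) :
    ∃ g ∉ q, Algebra.Etale R (Localization.Away g) := by
  classical
  obtain ⟨f, hfq, P, φ, hφ⟩ :=
    Algebra.IsUnramifiedAt.exists_hasStandardEtaleSurjectionOn (R := R) q
  -- primes of `S_f` and `E`
  have hdisj : ∀ t : Ideal S, t ≤ q → Disjoint (Submonoid.powers f : Set S) t := by
    intro t ht
    rw [Set.disjoint_left]
    rintro _ ⟨n, rfl⟩ hmem
    exact hfq (‹q.IsPrime›.mem_of_pow_mem n (ht hmem))
  have hprime : ∀ (t : Ideal S) [t.IsPrime], t ≤ q →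
      (t.map (algebraMap S (Localization.Away f))).IsPrime := fun t _ ht =>
    IsLocalization.isPrime_of_isPrime_disjoint (Submonoid.powers f) _ t ‹_› (hdisj t ht)
  have hcomap : ∀ (t : Ideal S) [t.IsPrime], t ≤ q →
      (t.map (algebraMap S (Localization.Away f))).comap (algebraMap S (Localization.Away f)) = t :=
    fun t _ ht => IsLocalization.under_map_of_isPrime_disjoint (Submonoid.powers f) _ ‹_› (hdisj t ht)
  let lft : Ideal S → Ideal P.Ring := fun t =>
    (t.map (algebraMap S (Localization.Away f))).comap φ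
  have hlft_mem : ∀ (t : Ideal S) [t.IsPrime], t ≤ q → ∀ a : R,
      algebraMap R P.Ring a ∈ lft t ↔ algebraMap R S a ∈ t := by
    intro t _ ht a
    change φ (algebraMap R P.Ring a) ∈ t.map (algebraMap S (Localization.Away f)) ↔ _
    rw [φ.commutes, IsScalarTower.algebraMap_apply R S (Localization.Away f)]
    change algebraMap R S a ∈ (t.map (algebraMap S (Localization.Away f))).comap
      (algebraMap S (Localization.Away f)) ↔ _
    rw [hcomap t ht]
  haveI hq'p : (lft q).IsPrime := by
    haveI := hprime q le_rfl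
    exact Ideal.comap_isPrime _ _
  haveI hr'p : (lft r).IsPrime := by
    haveI := hprime r hrq
    exact Ideal.comap_isPrime _ _
  have hr'q' : lft r ≤ lft q := Ideal.comap_mono (Ideal.map_mono hrq)
  have hq'under : (lft q).comap (algebraMap R P.Ring) = p := by
    ext a
    rw [Ideal.mem_comap, hlft_mem q le_rfl a, ← hp, Ideal.mem_comap]
  have hr' : ∀ a : R, algebraMap R P.Ring a ∈ lft r → ∃ s ∉ p, s * a = 0 := fun a ha =>
    hr a ((hlft_mem r hrq a).mp ha)
  have hker : lft r = RingHom.ker (algebraMap P.Ring (Localization.AtPrime (lft q))) :=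
    le_ker_localization R P.Ring (lft q) p hq'under Rp hGU (lft r) hr'q' hr'
  have hJle : RingHom.ker φ.toRingHom ≤
      RingHom.ker (algebraMap P.Ring (Localization.AtPrime (lft q))) := by
    rw [← hker]
    intro x hx
    change φ x ∈ r.map (algebraMap S (Localization.Away f))
    have : φ x = 0 := hx
    rw [this]; exact Ideal.zero_mem _
  haveI := isDomain_localization_of_etale' R P.Ring (lft q) p hq'under Rp hGU
  -- uniform annihilator
  obtain ⟨e, heq', hej⟩ : ∃ e ∉ lft q, ∀ j ∈ RingHom.ker φ.toRingHom, e * j = 0 := by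
    rcases hcase with hdom | hfp
    · obtain ⟨e, he, hex⟩ := exists_annihilator_of_isDomain R P.Ring (lft q)
      exact ⟨e, he, fun j hj => hex j (hJle hj)⟩
    · haveI : Algebra.FinitePresentation R (Localization.Away f) :=
        Algebra.FinitePresentation.trans R S (Localization.Away f)
      exact exists_annihilator_of_fg P.Ring (lft q) _
        (Algebra.FinitePresentation.ker_fG_of_surjective φ hφ) hJle
  -- adjust `e` so that its image comes from `S`
  obtain ⟨t, ht⟩ := hφ (algebraMap S (Localization.Away f) f)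
  obtain ⟨⟨b, ⟨_, n, rfl⟩⟩, hb⟩ := IsLocalization.surj (Submonoid.powers f) (φ e)
  have hb' : φ (e * t ^ n) = algebraMap S (Localization.Away f) b := by
    rw [map_mul, map_pow, ht, ← map_pow]; exact hb
  have htq' : t ∉ lft q := by
    intro hmem
    have h1 : algebraMap S (Localization.Away f) f ∈ q.map (algebraMap S (Localization.Away f)) := by
      rw [← ht]; exact hmem
    have h2 : f ∈ (q.map (algebraMap S (Localization.Away f))).comap
        (algebraMap S (Localization.Away f)) := h1
    rw [hcomap q le_rfl] at h2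
    exact hfq h2
  have he'q' : e * t ^ n ∉ lft q := fun hmem =>
    (hq'p.mem_or_mem hmem).elim heq' (fun h => htq' (hq'p.mem_of_pow_mem n h))
  have he'j : ∀ j ∈ RingHom.ker φ.toRingHom, (e * t ^ n) * j = 0 := fun j hj => by
    rw [mul_right_comm, hej j hj, zero_mul]
  set e' := e * t ^ n with he'
  have hbq : b ∉ q := by
    intro hmem
    apply he'q'
    change φ e' ∈ q.map (algebraMap S (Localization.Away f))
    rw [hb']
    exact Ideal.mem_map_of_mem _ hmem
  refine ⟨b * f, fun hmem => (‹q.IsPrime›.mem_or_mem hmem).elim hbq hfq, ?_⟩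
  -- the étale algebra
  haveI : Algebra.IsStandardEtale R (Localization.Away e') := .of_isLocalizationAway e'
  let ψ : Localization.Away e' →ₐ[R] Localization.Away (φ e') :=
    IsLocalization.Away.mapₐ (Localization.Away e') (Localization.Away (φ e')) φ e'
  have hψsurj : Function.Surjective ψ :=
    IsLocalization.Away.mapₐ_surjective_of_surjective (Aₚ := Localization.Away e')
      (Bₚ := Localization.Away (φ e')) e' hφ
  have hψinj : Function.Injective ψ := by
    rw [injective_iff_map_eq_zero]
    intro x hx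
    obtain ⟨⟨y, ⟨_, k, rfl⟩⟩, rfl⟩ := IsLocalization.mk'_surjective (Submonoid.powers e') x
    rw [IsLocalization.Away.mapₐ_apply, IsLocalization.Away.map, IsLocalization.map_mk',
      IsLocalization.mk'_eq_zero_iff] at hx
    obtain ⟨⟨_, m, rfl⟩, hm⟩ := hx
    have hmem : e' ^ m * y ∈ RingHom.ker φ.toRingHom := by
      change φ (e' ^ m * y) = 0
      rw [map_mul, map_pow]
      exact hm
    have h0 := he'j _ hmem
    rw [IsLocalization.mk'_eq_zero_iff]
    exact ⟨⟨e' ^ (m + 1), m + 1, rfl⟩, by
      change e' ^ (m + 1) * y = 0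
      rw [pow_succ', mul_assoc]; exact h0⟩
  let Ψ : Localization.Away e' ≃ₐ[R] Localization.Away (φ e') :=
    AlgEquiv.ofBijective ψ ⟨hψinj, hψsurj⟩
  haveI : Algebra.Etale R (Localization.Away (φ e')) := Algebra.Etale.of_equiv Ψ
  haveI : IsLocalization.Away (b * f) (Localization.Away (φ e')) := by
    rw [hb']
    infer_instance
  let Θ : Localization.Away (b * f) ≃ₐ[S] Localization.Away (φ e') :=
    IsLocalization.algEquiv (Submonoid.powers (b * f)) _ _
  exact Algebra.Etale.of_equiv (Θ.restrictScalars R).symm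

/-- Special case of `exists_etale_away'` for `Localization.AtPrime p`. -/
theorem exists_etale_away [Algebra.FiniteType R S] (q : Ideal S) [q.IsPrime] (p : Ideal R)
    [p.IsPrime] (hp : q.comap (algebraMap R S) = p) [IsDomain (Localization.AtPrime p)]
    (hGU : CAlg2.IsGeomUnibranch (Localization.AtPrime p)) [Algebra.IsUnramifiedAt R q]
    (r : Ideal S) [r.IsPrime] (hrq : r ≤ q)
    (hr : ∀ a : R, algebraMap R S a ∈ r → ∃ s ∉ p, s * a = 0)
    (hcase : IsDomain R ∨ Algebra.FinitePresentation R S) :
    ∃ g ∉ q, Algebra.Etale R (Localization.Away g) :=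
  exists_etale_away' R S q p hp (Localization.AtPrime p) hGU r hrq hr hcase

end Main

end Groth.Agent.Lib.Helper6.UB
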