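import Mathlib
import Groth.Agent.Lib.Helper6.UB3

set_option autoImplicit false
universe u

open CategoryTheory AlgebraicGeometry Limits

namespace Groth.Agent.Lib.Helper6.UB

/-- Ring-level consequence of a (ring-hom induced) property holding on an open subscheme of the
source. -/
theorem appLE_of_comp_ι (P : MorphismProperty Scheme.{u})
    {Q : ∀ {R S : Type u} [CommRing R] [CommRing S], (R →+* S) → Prop} [HasRingHomProperty P Q]
    [P.HasOfPostcompProperty @IsOpenImmersion]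
    {X Y : Scheme.{u}} (f : X ⟶ Y) (W : X.Opens) (hP : P (W.ι ≫ f))
    {U : Y.Opens} (hU : IsAffineOpen U) {V : X.Opens} (hV : IsAffineOpen V) (hVW : V ≤ W)
    (e : V ≤ f ⁻¹ᵁ U) : Q (f.appLE U V e).hom := by
  have h1 : P (V.ι ≫ f) := by
    rw [← X.homOfLE_ι hVW, Category.assoc]
    exact IsZariskiLocalAtSource.comp hP _
  have h2 : P (f.resLE U V e) := by
    refine MorphismProperty.of_postcomp (W := P) (W' := @IsOpenImmersion) (f.resLE U V e) U.ι
      inferInstance ?_
    rw [Scheme.Hom.resLE_comp_ι]; exact h1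
  haveI : IsAffine V.toScheme := hV
  haveI : IsAffine U.toScheme := hU
  rw [HasRingHomProperty.iff_of_isAffine (P := P)] at h2
  exact ((HasRingHomProperty.isLocal_ringHomProperty P).respectsIso.arrow_mk_iso_iff
    (arrowResLEAppIso f U V e)).mp h2

/-- If the localization of `Γ(X, V)` away from `g` is étale over `Γ(Y, U)`, then `f` is étale on
the basic open of `g`. -/
theorem etale_basicOpen_of_away {X Y : Scheme.{u}} (f : X ⟶ Y) {U : Y.Opens}
    (hU : IsAffineOpen U) {V : X.Opens} (hV : IsAffineOpen V) (e : V ≤ f ⁻¹ᵁ U) (g : Γ(X, V))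
    (h : letI := (f.appLE U V e).hom.toAlgebra; Algebra.Etale Γ(Y, U) (Localization.Away g)) :
    Etale ((X.basicOpen g).ι ≫ f) := by
  letI := (f.appLE U V e).hom.toAlgebra
  have hle : X.basicOpen g ≤ V := X.basicOpen_le g
  have e' : X.basicOpen g ≤ f ⁻¹ᵁ U := hle.trans e
  have hW' : IsAffineOpen (X.basicOpen g) := hV.basicOpen g
  haveI hloc : IsLocalization.Away g Γ(X, X.basicOpen g) := hV.isLocalization_basicOpen g
  letI : Algebra Γ(Y, U) Γ(X, X.basicOpen g) := (f.appLE U (X.basicOpen g) e').hom.toAlgebra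
  haveI : IsScalarTower Γ(Y, U) Γ(X, V) Γ(X, X.basicOpen g) :=
    IsScalarTower.of_algebraMap_eq' (by
      simp only [RingHom.algebraMap_toAlgebra]
      rw [← f.appLE_map e (homOfLE hle).op]
      rfl)
  let Θ : Localization.Away g ≃ₐ[Γ(X, V)] Γ(X, X.basicOpen g) :=
    IsLocalization.algEquiv (Submonoid.powers g) _ _
  haveI : Algebra.Etale Γ(Y, U) Γ(X, X.basicOpen g) :=
    Algebra.Etale.of_equiv (Θ.restrictScalars Γ(Y, U))
  have hQ : (f.appLE U (X.basicOpen g) e').hom.Etale :=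
    RingHom.etale_algebraMap.mpr inferInstance
  have h2 : Etale (f.resLE U (X.basicOpen g) e') := by
    haveI : IsAffine (X.basicOpen g).toScheme := hW'
    haveI : IsAffine U.toScheme := hU
    rw [HasRingHomProperty.iff_of_isAffine (P := @Etale)]
    exact (RingHom.Etale.respectsIso.arrow_mk_iso_iff (arrowResLEAppIso f U _ e')).mpr hQ
  rw [← Scheme.Hom.resLE_comp_ι f e']
  infer_instance

set_option backward.isDefEq.respectTransparency.types false in
set_option maxHeartbeats 800000 in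
/-- **EGA IV 18.10.1, local scheme form.** -/
theorem exists_opens_etale {X Y : Scheme.{u}} (f : X ⟶ Y) (x : X)
    (hdom : IsDomain (Y.presheaf.stalk (f x)))
    (hGU : CAlg2.IsGeomUnibranch (Y.presheaf.stalk (f x)))
    (W : X.Opens) (hxW : x ∈ W) (hlft : LocallyOfFiniteType (W.ι ≫ f))
    (hunr : FormallyUnramified (W.ι ≫ f))
    (rq : Ideal (X.presheaf.stalk x)) [rq.IsPrime]
    (hrq : rq.comap (f.stalkMap x).hom = ⊥)
    (hcase : IsIntegral Y ∨ LocallyOfFinitePresentation (W.ι ≫ f)) :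
    ∃ W' : X.Opens, x ∈ W' ∧ Etale (W'.ι ≫ f) := by
  obtain ⟨_, ⟨U, hU : IsAffineOpen U, rfl⟩, hfy, -⟩ :=
    Y.isBasis_affineOpens.exists_subset_of_mem_open (Set.mem_univ (f x)) isOpen_univ
  obtain ⟨_, ⟨V, hV : IsAffineOpen V, rfl⟩, hxV, hVU⟩ :=
    X.isBasis_affineOpens.exists_subset_of_mem_open
      (show x ∈ ((f ⁻¹ᵁ U) ⊓ W : Set X) from ⟨hfy, hxW⟩) ((f ⁻¹ᵁ U) ⊓ W).isOpen
  have e : V ≤ f ⁻¹ᵁ U := fun z hz => (hVU hz).1
  have hVW : V ≤ W := fun z hz => (hVU hz).2
  letI : Algebra Γ(Y, U) Γ(X, V) := (f.appLE U V e).hom.toAlgebra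
  haveI hFT : Algebra.FiniteType Γ(Y, U) Γ(X, V) :=
    appLE_of_comp_ι @LocallyOfFiniteType f W hlft hU hV hVW e
  haveI hFU : Algebra.FormallyUnramified Γ(Y, U) Γ(X, V) :=
    appLE_of_comp_ι @FormallyUnramified f W hunr hU hV hVW e
  set q := (hV.primeIdealOf ⟨x, hxV⟩).asIdeal with hq
  set p := (hU.primeIdealOf ⟨f x, hfy⟩).asIdeal with hp
  have hcomap : q.comap (algebraMap Γ(Y, U) Γ(X, V)) = p :=
    congr($(IsAffineOpen.comap_primeIdealOf_appLE U hU V hV e hxV).1)
  letI : Algebra Γ(X, V) (X.presheaf.stalk x) :=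
    TopCat.Presheaf.algebra_section_stalk X.presheaf ⟨x, hxV⟩
  haveI hlocX : IsLocalization.AtPrime (X.presheaf.stalk x) q := hV.isLocalization_stalk ⟨x, hxV⟩
  letI : Algebra Γ(Y, U) (Y.presheaf.stalk (f x)) :=
    TopCat.Presheaf.algebra_section_stalk Y.presheaf ⟨f x, hfy⟩
  haveI hlocY : IsLocalization.AtPrime (Y.presheaf.stalk (f x)) p :=
    hU.isLocalization_stalk ⟨f x, hfy⟩
  haveI : Algebra.IsUnramifiedAt Γ(Y, U) q := inferInstance
  let r : Ideal Γ(X, V) := rq.comap (algebraMap Γ(X, V) (X.presheaf.stalk x))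
  haveI : r.IsPrime := Ideal.comap_isPrime _ _
  have hrle : r ≤ q := by
    have h1 : rq ≤ IsLocalRing.maximalIdeal (X.presheaf.stalk x) :=
      IsLocalRing.le_maximalIdeal (Ideal.IsPrime.ne_top ‹_›)
    have h2 := Ideal.comap_mono (f := algebraMap Γ(X, V) (X.presheaf.stalk x)) h1
    have h3 : Ideal.comap (algebraMap Γ(X, V) (X.presheaf.stalk x))
        (IsLocalRing.maximalIdeal (X.presheaf.stalk x)) = q :=
      IsLocalization.AtPrime.under_maximalIdeal (X.presheaf.stalk x) q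
    rwa [h3] at h2
  have hr : ∀ a : Γ(Y, U), algebraMap Γ(Y, U) Γ(X, V) a ∈ r → ∃ s ∉ p, s * a = 0 := by
    intro a ha
    have h1 : algebraMap Γ(X, V) (X.presheaf.stalk x) (algebraMap Γ(Y, U) Γ(X, V) a) =
        (f.stalkMap x).hom (algebraMap Γ(Y, U) (Y.presheaf.stalk (f x)) a) := by
      change (X.presheaf.germ V x hxV).hom ((f.appLE U V e).hom a) =
        (f.stalkMap x).hom ((Y.presheaf.germ U (f x) hfy).hom a)
      rw [← CommRingCat.comp_apply, ← CommRingCat.comp_apply, Scheme.Hom.germ_stalkMap,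
        Scheme.Hom.appLE, Category.assoc, TopCat.Presheaf.germ_res]
    have h2 : algebraMap Γ(Y, U) (Y.presheaf.stalk (f x)) a ∈ rq.comap (f.stalkMap x).hom := by
      change (f.stalkMap x).hom _ ∈ rq
      rw [← h1]; exact ha
    rw [hrq, Ideal.mem_bot, IsLocalization.map_eq_zero_iff p.primeCompl] at h2
    obtain ⟨⟨s, hs⟩, hsa⟩ := h2
    exact ⟨s, hs, hsa⟩
  have hcase' : IsDomain Γ(Y, U) ∨ Algebra.FinitePresentation Γ(Y, U) Γ(X, V) := by
    rcases hcase with h | h
    · left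
      haveI := h
      haveI : Nonempty U := ⟨⟨f x, hfy⟩⟩
      infer_instance
    · right
      exact appLE_of_comp_ι @LocallyOfFinitePresentation f W h hU hV hVW e
  obtain ⟨g, hgq, hE⟩ := exists_etale_away' Γ(Y, U) Γ(X, V) q p hcomap
    (Y.presheaf.stalk (f x)) hGU r hrle hr hcase'
  refine ⟨X.basicOpen g, ?_, etale_basicOpen_of_away f hU hV e g hE⟩
  rw [Scheme.mem_basicOpen X g x hxV]
  exact (IsLocalization.AtPrime.isUnit_to_map_iff (X.presheaf.stalk x) q g).mpr hgq

end Groth.Agent.Lib.Helper6.UB
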