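import Mathlib
import Groth.Agent.Lib.Helper6.UB4

set_option autoImplicit false
universe u

open CategoryTheory AlgebraicGeometry Limits

namespace Groth.Agent.Lib.Helper6.UB

/-- Unramified morphisms are locally quasi-finite. -/
theorem locallyQuasiFinite_of_unramified {X Y : Scheme.{u}} (f : X ⟶ Y) [LocallyOfFiniteType f]
    [FormallyUnramified f] : LocallyQuasiFinite f := by
  rw [HasRingHomProperty.iff_appLE (P := @LocallyQuasiFinite)]
  intro U V e
  have h1 : (f.appLE U V e).hom.FiniteType :=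
    HasRingHomProperty.appLE (P := @LocallyOfFiniteType) f inferInstance U V e
  have h2 : (f.appLE U V e).hom.FormallyUnramified :=
    HasRingHomProperty.appLE (P := @FormallyUnramified) f inferInstance U V e
  algebraize [(f.appLE U V e).hom]
  rw [RingHom.QuasiFinite]
  infer_instance

/-- Stalks of a scheme étale over a scheme with geometrically unibranch integral local ring are
domains. -/
theorem isDomain_stalk_of_etale {X Y : Scheme.{u}} (f : X ⟶ Y) [Etale f] (x : X)
    (hdom : IsDomain (Y.presheaf.stalk (f x)))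
    (hGU : CAlg2.IsGeomUnibranch (Y.presheaf.stalk (f x))) :
    IsDomain (X.presheaf.stalk x) := by
  obtain ⟨_, ⟨U, hU : IsAffineOpen U, rfl⟩, hfy, -⟩ :=
    Y.isBasis_affineOpens.exists_subset_of_mem_open (Set.mem_univ (f x)) isOpen_univ
  obtain ⟨_, ⟨V, hV : IsAffineOpen V, rfl⟩, hxV, hVU⟩ :=
    X.isBasis_affineOpens.exists_subset_of_mem_open (show x ∈ (f ⁻¹ᵁ U : Set X) from hfy)
      (f ⁻¹ᵁ U).isOpen
  have e : V ≤ f ⁻¹ᵁ U := hVU
  let _ : Algebra Γ(Y, U) Γ(X, V) := (f.appLE U V e).hom.toAlgebra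
  have : Algebra.Etale Γ(Y, U) Γ(X, V) := Etale.etale_appLE f hU hV e
  have hcomap : (hV.primeIdealOf ⟨x, hxV⟩).asIdeal.comap (algebraMap Γ(Y, U) Γ(X, V)) =
      (hU.primeIdealOf ⟨f x, hfy⟩).asIdeal :=
    congr($(IsAffineOpen.comap_primeIdealOf_appLE U hU V hV e hxV).1)
  let _ : Algebra Γ(X, V) (X.presheaf.stalk x) :=
    TopCat.Presheaf.algebra_section_stalk X.presheaf ⟨x, hxV⟩
  have hlocX : IsLocalization.AtPrime (X.presheaf.stalk x) (hV.primeIdealOf ⟨x, hxV⟩).asIdeal :=
    hV.isLocalization_stalk ⟨x, hxV⟩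
  let _ : Algebra Γ(Y, U) (Y.presheaf.stalk (f x)) :=
    TopCat.Presheaf.algebra_section_stalk Y.presheaf ⟨f x, hfy⟩
  have hlocY : IsLocalization.AtPrime (Y.presheaf.stalk (f x))
      (hU.primeIdealOf ⟨f x, hfy⟩).asIdeal :=
    hU.isLocalization_stalk ⟨f x, hfy⟩
  have h1 := isDomain_localization_of_etale' Γ(Y, U) Γ(X, V)
    (hV.primeIdealOf ⟨x, hxV⟩).asIdeal (hU.primeIdealOf ⟨f x, hfy⟩).asIdeal hcomap
    (Y.presheaf.stalk (f x)) hGU
  let eX : Localization.AtPrime (hV.primeIdealOf ⟨x, hxV⟩).asIdeal ≃ₐ[Γ(X, V)]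
      (X.presheaf.stalk x) :=
    IsLocalization.algEquiv (hV.primeIdealOf ⟨x, hxV⟩).asIdeal.primeCompl _ _
  exact eX.toRingEquiv.toMulEquiv.isDomain_iff.mp h1

/-- Scheme form of EGA IV 18.10.1 with a generization over the generic point (cf. S1451). -/
theorem exists_opens_etale_of_specializes {X Y : Scheme.{u}} (f : X ⟶ Y) [IsIntegral Y] (x : X)
    (hY : CAlg2.IsGeomUnibranch (Y.presheaf.stalk (f x))) (x' : X) (hx'x : x' ⤳ x)
    (hx'η : f x' = genericPoint ↑Y) (U : X.Opens) (hxU : x ∈ U)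
    (hlft : LocallyOfFiniteType (U.ι ≫ f)) (hunr : FormallyUnramified (U.ι ≫ f)) :
    ∃ W : X.Opens, x ∈ W ∧ Etale (W.ι ≫ f) := by
  have hdom : IsDomain (Y.presheaf.stalk (f x)) := inferInstance
  have hmem : x' ∈ Set.range (X.fromSpecStalk x) := by
    rw [AlgebraicGeometry.Scheme.range_fromSpecStalk]; exact hx'x
  obtain ⟨z, hz⟩ := hmem
  haveI : z.asIdeal.IsPrime := z.2
  have hcomm : (Spec.map (f.stalkMap x) ≫ Y.fromSpecStalk (f x)) z = f x' := by
    rw [AlgebraicGeometry.Scheme.SpecMap_stalkMap_fromSpecStalk, Scheme.Hom.comp_apply, hz]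
  let b : Spec (Y.presheaf.stalk (f x)) := ⟨⊥, Ideal.isPrime_bot⟩
  let n : Spec (Y.presheaf.stalk (f x)) := Spec.map (f.stalkMap x) z
  have hbn : b ⤳ n :=
    (PrimeSpectrum.le_iff_specializes (R := Y.presheaf.stalk (f x)) b n).mp
      (bot_le (a := n.asIdeal))
  have h1 : Y.fromSpecStalk (f x) b ⤳ Y.fromSpecStalk (f x) n :=
    hbn.map (Y.fromSpecStalk (f x)).continuous
  have h2 : Y.fromSpecStalk (f x) n = genericPoint ↑Y := by
    rw [← hx'η, ← hcomm, Scheme.Hom.comp_apply]
  have h3 : Y.fromSpecStalk (f x) b = Y.fromSpecStalk (f x) n := by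
    rw [h2] at h1 ⊢
    exact (h1.antisymm (genericPoint_specializes _)).eq
  have h4 : b = n := (Y.fromSpecStalk (f x)).isEmbedding.injective h3
  have hrq : z.asIdeal.comap (f.stalkMap x).hom = ⊥ := by
    have : n.asIdeal = ⊥ := by rw [← h4]
    exact this
  exact exists_opens_etale f x hdom hY U hxU hlft hunr z.asIdeal hrq (Or.inl inferInstance)

/-- The set of specializations of a locally finite set of points is closed. -/
theorem isClosed_setOf_exists_specializes {X : Type*} [TopologicalSpace X] (E : Set X)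
    (hlf : ∀ x : X, ∃ V : Set X, IsOpen V ∧ x ∈ V ∧ (E ∩ V).Finite) (E' : Set X) (hE' : E' ⊆ E) :
    IsClosed {x | ∃ e ∈ E', e ⤳ x} := by
  have h0 : {x | ∃ e ∈ E', e ⤳ x} = ⋃ e : E', closure {(e : X)} := by
    ext x
    simp only [Set.mem_ofPred_eq, Set.mem_iUnion, specializes_iff_mem_closure, Subtype.exists,
      exists_prop]
  rw [h0]
  refine LocallyFinite.isClosed_iUnion ?_ (fun _ => isClosed_closure)
  intro x
  obtain ⟨V, hVo, hxV, hfin⟩ := hlf x
  refine ⟨V, hVo.mem_nhds hxV, ?_⟩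
  have hsub : {e : E' | (closure {(e : X)} ∩ V).Nonempty} ⊆ Subtype.val ⁻¹' (E ∩ V) := by
    rintro e ⟨y, hy, hyV⟩
    have h1 : (e : X) ⤳ y := specializes_iff_mem_closure.mpr hy
    exact ⟨hE' e.2, h1.mem_open hVo hyV⟩
  exact (hfin.preimage Subtype.val_injective.injOn).subset hsub

/-- Two maximal points specializing to a point with integral local ring coincide. -/
theorem eq_of_specializes_of_isDomain {X : Scheme.{u}} (x : X) [IsDomain (X.presheaf.stalk x)]
    (e₁ e₂ : X) (h₁ : e₁ ⤳ x) (h₂ : e₂ ⤳ x) (hm₁ : ∀ t : X, t ⤳ e₁ → t = e₁)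
    (hm₂ : ∀ t : X, t ⤳ e₂ → t = e₂) : e₁ = e₂ := by
  let b : Spec (X.presheaf.stalk x) := ⟨⊥, Ideal.isPrime_bot⟩
  have key : ∀ e : X, e ⤳ x → (∀ t : X, t ⤳ e → t = e) → X.fromSpecStalk x b = e := by
    intro e he hm
    have hmem : e ∈ Set.range (X.fromSpecStalk x) := by
      rw [AlgebraicGeometry.Scheme.range_fromSpecStalk]; exact he
    obtain ⟨z, hz⟩ := hmem
    have hbz : b ⤳ z :=
      (PrimeSpectrum.le_iff_specializes (R := X.presheaf.stalk x) b z).mp
        (bot_le (a := z.asIdeal))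
    have h1 : X.fromSpecStalk x b ⤳ X.fromSpecStalk x z := hbz.map (X.fromSpecStalk x).continuous
    rw [hz] at h1
    exact hm _ h1
  rw [← key e₁ h₁ hm₁, ← key e₂ h₂ hm₂]

set_option backward.isDefEq.respectTransparency.types false in
set_option maxHeartbeats 1600000 in
/-- **EGA IV 18.10.1, global form**: an unramified morphism from a connected scheme to an integral
scheme with geometrically unibranch local rings, with nonempty generic fibre, is étale, its source
is irreducible with integral local rings. -/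
theorem etale_and_irreducible {X Y : Scheme.{u}} (f : X ⟶ Y) [IsIntegral Y]
    (hY : ∀ y : Y, CAlg2.IsGeomUnibranch (Y.presheaf.stalk y)) [ConnectedSpace X]
    [FormallyUnramified f] [LocallyOfFiniteType f] (hdom : genericPoint Y ∈ Set.range f) :
    Etale f ∧ IrreducibleSpace X ∧ ∀ x : X, IsDomain (X.presheaf.stalk x) := by
  classical
  haveI := locallyQuasiFinite_of_unramified f
  set η := genericPoint Y with hη
  set E : Set X := f ⁻¹' {η} with hE
  have hEdisc : _root_.IsDiscrete E := f.isDiscrete_preimage_singleton η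
  have hηmax : ∀ z : Y, z ⤳ η → z = η := fun z hz =>
    (hz.antisymm (genericPoint_specializes z)).eq
  have hEmax : ∀ e ∈ E, ∀ t : X, t ⤳ e → t = e := by
    intro e he t ht
    have h1 : f t ⤳ f e := ht.map f.continuous
    rw [show f e = η from he] at h1
    exact hEdisc.eq_of_specializes ht (hηmax _ h1) he
  -- local finiteness
  have hlf : ∀ x : X, ∃ V : Set X, IsOpen V ∧ x ∈ V ∧ (E ∩ V).Finite := by
    intro x
    have hU' : ∃ U : Y.Opens, IsAffineOpen U ∧ f x ∈ U := by
      obtain ⟨_, ⟨U, hU, rfl⟩, hfy, -⟩ :=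
        Y.isBasis_affineOpens.exists_subset_of_mem_open (Set.mem_univ (f x)) isOpen_univ
      exact ⟨U, hU, hfy⟩
    obtain ⟨U, hU, hfy⟩ := hU'
    have hV' : ∃ V : X.Opens, IsAffineOpen V ∧ x ∈ V ∧ V ≤ f ⁻¹ᵁ U := by
      obtain ⟨_, ⟨V, hV, rfl⟩, hxV, hVU⟩ :=
        X.isBasis_affineOpens.exists_subset_of_mem_open (show x ∈ (f ⁻¹ᵁ U : Set X) from hfy)
          (f ⁻¹ᵁ U).isOpen
      exact ⟨V, hV, hxV, hVU⟩
    obtain ⟨V, hV, hxV, e⟩ := hV'
    refine ⟨V, V.isOpen, hxV, ?_⟩
    by_cases hηU : η ∈ U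
    · haveI : IsAffine V.toScheme := hV
      haveI : IsAffine U.toScheme := hU
      have hfin := (f.resLE U V e).finite_preimage_singleton (⟨η, hηU⟩ : U.toScheme)
      refine (hfin.image (fun p : V.toScheme => (p.1 : X))).subset ?_
      rintro z ⟨hzE, hzV⟩
      refine ⟨(⟨z, hzV⟩ : V.toScheme), ?_, rfl⟩
      apply Subtype.ext
      have h1 := congr($(Scheme.Hom.resLE_comp_ι f e) (⟨z, hzV⟩ : V.toScheme))
      simp only [Scheme.Hom.comp_apply] at h1
      exact h1.trans hzE
    · convert Set.finite_empty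
      rw [Set.eq_empty_iff_forall_notMem]
      rintro z ⟨hzE, hzV⟩
      apply hηU
      have : f z = η := hzE
      rw [← this]
      exact e hzV
  -- the set of specializations of the generic fibre
  let X' : Set X := {x | ∃ e ∈ E, e ⤳ x}
  have hX'closed : IsClosed X' := isClosed_setOf_exists_specializes E hlf E subset_rfl
  have hloc : ∀ x ∈ X', ∃ W : X.Opens, x ∈ W ∧ Etale (W.ι ≫ f) := by
    rintro x ⟨e, he, hex⟩
    exact exists_opens_etale_of_specializes f x (hY _) e hex he ⊤ trivial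
      (IsZariskiLocalAtSource.comp (P := @LocallyOfFiniteType) inferInstance _)
      (IsZariskiLocalAtSource.comp (P := @FormallyUnramified) inferInstance _)
  have hX'open : IsOpen X' := by
    rw [isOpen_iff_forall_mem_open]
    intro x hx
    obtain ⟨W, hxW, hW⟩ := hloc x hx
    refine ⟨W, ?_, W.isOpen, hxW⟩
    intro w hw
    haveI := hW
    have hgen : GeneralizingMap (W.ι ≫ f) := Flat.generalizingMap _
    obtain ⟨w', hw', hfw'⟩ := hgen (a := (⟨w, hw⟩ : W.toScheme)) (b := η)
      (genericPoint_specializes _)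
    refine ⟨w'.1, ?_, ?_⟩
    · exact hfw'
    · exact hw'.map W.ι.continuous
  have hX'univ : X' = Set.univ := by
    rcases isClopen_iff.mp ⟨hX'closed, hX'open⟩ with h | h
    · exfalso
      obtain ⟨x₀, hx₀⟩ := hdom
      have : x₀ ∈ X' := ⟨x₀, hx₀, specializes_rfl⟩
      rw [h] at this
      exact this
    · exact h
  -- étaleness
  have hall : ∀ x : X, ∃ W : X.Opens, x ∈ W ∧ Etale (W.ι ≫ f) := fun x =>
    hloc x (hX'univ ▸ Set.mem_univ x)
  choose W hxW hW using hall
  have hsup : iSup W = ⊤ := by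
    rw [eq_top_iff]
    intro x _
    exact TopologicalSpace.Opens.mem_iSup.mpr ⟨x, hxW x⟩
  haveI hEt : Etale f := IsZariskiLocalAtSource.of_iSup_eq_top (P := @Etale) W hsup hW
  have hstalk : ∀ x : X, IsDomain (X.presheaf.stalk x) := fun x =>
    isDomain_stalk_of_etale f x inferInstance (hY _)
  refine ⟨hEt, ?_, hstalk⟩
  -- irreducibility
  obtain ⟨e₀, he₀⟩ := hdom
  have he₀E : e₀ ∈ E := he₀
  let T : Set X := {x | ∃ e ∈ E \ {e₀}, e ⤳ x}
  have hTclosed : IsClosed T := isClosed_setOf_exists_specializes E hlf (E \ {e₀}) Set.sdiff_subset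
  have hZ : closure {e₀} = Tᶜ := by
    ext x
    rw [← specializes_iff_mem_closure]
    constructor
    · rintro h ⟨e, ⟨heE, hne⟩, hex⟩
      haveI := hstalk x
      exact hne (eq_of_specializes_of_isDomain x e e₀ hex h (hEmax e heE) (hEmax e₀ he₀E))
    · intro hxT
      have hx : x ∈ X' := hX'univ ▸ Set.mem_univ x
      obtain ⟨e, heE, hex⟩ := hx
      by_cases hee : e = e₀
      · rw [← hee]; exact hex
      · exact (hxT ⟨e, ⟨heE, hee⟩, hex⟩).elim
  have hZclopen : IsClopen (closure {e₀}) := ⟨isClosed_closure, hZ ▸ hTclosed.isOpen_compl⟩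
  have hZuniv : closure {e₀} = Set.univ := by
    rcases isClopen_iff.mp hZclopen with h | h
    · exfalso
      have : e₀ ∈ closure {e₀} := subset_closure rfl
      rw [h] at this
      exact this
    · exact h
  rw [irreducibleSpace_def]
  change IsIrreducible (Set.univ : Set X)
  rw [← hZuniv]
  exact isIrreducible_singleton.closure

end Groth.Agent.Lib.Helper6.UB
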