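import Mathlib
import Groth.Agent.Lib.Helper6.UB1
import Groth.Agent.Lib.Helper6.PIRes
import Groth.Agent.Lib.Helper6.FTPoints

set_option autoImplicit false
universe u

namespace Groth.Agent.Lib.Helper6.UB

open Groth.Agent.Lib.Helper6.GU

section Converse

variable (O K : Type u) [CommRing O] [IsLocalRing O] [CommRing K] [Nontrivial K] [Algebra O K]

set_option maxHeartbeats 800000 in
set_option synthInstance.maxHeartbeats 400000 in
/-- Converse of `hom_eq_of_gu'`: if field-valued points of the integral closure over the closed
point are determined by their restriction to `O`, then `O` is geometrically unibranch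
(intrinsic form). -/
theorem gu'_of_hom_eq
    (h : ∀ (Ω : Type u) [Field Ω] (σ τ : integralClosure O K →+* Ω),
      σ.comp (algebraMap O (integralClosure O K)) = τ.comp (algebraMap O (integralClosure O K)) →
      RingHom.ker (σ.comp (algebraMap O (integralClosure O K))) = IsLocalRing.maximalIdeal O →
      σ = τ) : GU' O K := by
  have hint : (algebraMap O (integralClosure O K)).IsIntegral :=
    algebraMap_isIntegral_iff.mpr inferInstance
  have hover : ∀ (M : Ideal (integralClosure O K)) [M.IsMaximal],
      IsLocalRing.maximalIdeal O = M.comap (algebraMap O (integralClosure O K)) := fun M _ =>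
    (IsLocalRing.eq_maximalIdeal (Ideal.isMaximal_comap_of_isIntegral_of_isMaximal M)).symm
  have hhom : ∀ (M : Ideal (integralClosure O K)) [M.IsMaximal],
      ∃ g : integralClosure O K →+*
          AlgebraicClosure (IsLocalRing.maximalIdeal O).ResidueField,
        g.comp (algebraMap O (integralClosure O K)) = algebraMap O _ ∧ RingHom.ker g = M :=
    fun M _ => exists_hom_algebraicClosure_ker (algebraMap O (integralClosure O K)) hint
      (IsLocalRing.maximalIdeal O) M (hover M)
  have hkerΩ : RingHom.ker (algebraMap O
      (AlgebraicClosure (IsLocalRing.maximalIdeal O).ResidueField)) =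
      IsLocalRing.maximalIdeal O := by
    rw [IsScalarTower.algebraMap_eq O (IsLocalRing.maximalIdeal O).ResidueField
      (AlgebraicClosure (IsLocalRing.maximalIdeal O).ResidueField),
      RingHom.ker_comp_of_injective _ (algebraMap (IsLocalRing.maximalIdeal O).ResidueField
        (AlgebraicClosure (IsLocalRing.maximalIdeal O).ResidueField)).injective]
    exact Ideal.ker_algebraMap_residueField _
  have hloc : IsLocalRing (integralClosure O K) := by
    apply IsLocalRing.of_unique_max_ideal
    obtain ⟨M₀, hM₀⟩ := Ideal.exists_maximal (integralClosure O K)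
    refine ⟨M₀, hM₀, fun M hM => ?_⟩
    obtain ⟨g₁, hg₁, hk₁⟩ := hhom M
    obtain ⟨g₂, hg₂, hk₂⟩ := hhom M₀
    have := h _ g₁ g₂ (hg₁.trans hg₂.symm) (by rw [hg₁]; exact hkerΩ)
    rw [← hk₁, ← hk₂, this]
  haveI := hloc
  let M : Ideal (integralClosure O K) := IsLocalRing.maximalIdeal (integralClosure O K)
  have hM : IsLocalRing.maximalIdeal O = M.comap (algebraMap O (integralClosure O K)) := hover M
  let _ : Algebra (IsLocalRing.maximalIdeal O).ResidueField M.ResidueField :=
    (Ideal.ResidueField.map (IsLocalRing.maximalIdeal O) M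
      (algebraMap O (integralClosure O K)) hM).toAlgebra
  have hcomm : ∀ a : O, algebraMap (IsLocalRing.maximalIdeal O).ResidueField M.ResidueField
      (algebraMap O (IsLocalRing.maximalIdeal O).ResidueField a) =
      algebraMap (integralClosure O K) M.ResidueField (algebraMap O (integralClosure O K) a) :=
    fun a => Ideal.ResidueField.map_algebraMap (IsLocalRing.maximalIdeal O) M
      (algebraMap O (integralClosure O K)) hM a
  have hPI : IsPurelyInseparable (IsLocalRing.maximalIdeal O).ResidueField M.ResidueField := by
    have : Nonempty (M.ResidueField →+* AlgebraicClosure M.ResidueField) :=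
      ⟨algebraMap M.ResidueField (AlgebraicClosure M.ResidueField)⟩
    apply IsPurelyInseparable.of_injective_comp_algebraMap
      (F := (IsLocalRing.maximalIdeal O).ResidueField)
      (E := M.ResidueField) (L := AlgebraicClosure M.ResidueField)
    intro σ' τ' hστ
    apply Groth.Agent.Lib.Helper6.PIRes.residueField_hom_ext M
    apply h
    · ext a
      have h1 := congrArg (fun f => f (algebraMap O (IsLocalRing.maximalIdeal O).ResidueField a))
        hστ
      simp only [RingHom.comp_apply] at h1 ⊢
      rw [hcomm] at h1
      exact h1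
    · ext a
      rw [RingHom.mem_ker, hM, Ideal.mem_comap]
      simp only [RingHom.comp_apply]
      rw [map_eq_zero, Ideal.algebraMap_residueField_eq_zero]
  obtain ⟨q, hq⟩ := ExpChar.exists (R := (IsLocalRing.maximalIdeal O).ResidueField)
  refine ⟨hloc, q, ?_, ?_⟩
  · cases hq with
    | zero => exact Or.inl rfl
    | prime hp =>
      refine Or.inr ⟨hp, ?_⟩
      have h0 : algebraMap O (IsLocalRing.maximalIdeal O).ResidueField ((q : ℕ) : O) = 0 := by
        rw [map_natCast]; exact CharP.cast_eq_zero _ q
      rw [Ideal.algebraMap_residueField_eq_zero, hM, Ideal.mem_comap, map_natCast] at h0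
      exact (IsLocalRing.mem_maximalIdeal _).mp h0
  · intro x
    obtain ⟨n, y, hy⟩ := IsPurelyInseparable.pow_mem (IsLocalRing.maximalIdeal O).ResidueField q
      (algebraMap (integralClosure O K) M.ResidueField x)
    obtain ⟨d, hd, c, hdc⟩ := Groth.Agent.Lib.Helper6.exists_denominator
      (IsLocalRing.maximalIdeal O) y
    have hdu : IsUnit d := by
      rw [IsLocalRing.mem_maximalIdeal, mem_nonunits_iff, not_not] at hd
      exact hd
    obtain ⟨u, hu⟩ := hdu.exists_right_inv
    have hyo : algebraMap O (IsLocalRing.maximalIdeal O).ResidueField (c * u) = y := by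
      rw [map_mul, ← hdc, mul_assoc, ← map_mul, hu, map_one, mul_one]
    refine ⟨n, c * u, ?_⟩
    have hmem : x ^ q ^ n - algebraMap O (integralClosure O K) (c * u) ∈ M := by
      rw [← Ideal.algebraMap_residueField_eq_zero, map_sub, map_pow, ← hcomm, hyo, hy, sub_self]
    exact (IsLocalRing.mem_maximalIdeal _).mp hmem

end Converse

section Equiv

variable {O O' K K' : Type u} [CommRing O] [CommRing O'] [CommRing K] [CommRing K']
  [Algebra O K] [Algebra O' K']

/-- Transport of `GU'` along compatible ring isomorphisms. -/
theorem gu'_of_equiv (e : O ≃+* O') (eK : K ≃+* K')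
    (he : ∀ o, eK (algebraMap O K o) = algebraMap O' K' (e o)) (h : GU' O K) : GU' O' K' := by
  have hcomp : (algebraMap O' K').comp e.toRingHom = eK.toRingHom.comp (algebraMap O K) := by
    ext o; exact (he o).symm
  have hcomp' : (algebraMap O K).comp e.symm.toRingHom =
      eK.symm.toRingHom.comp (algebraMap O' K') := by
    ext o'
    apply eK.injective
    simp only [RingHom.comp_apply, RingEquiv.toRingHom_eq_coe, RingHom.coe_coe,
      RingEquiv.apply_symm_apply]
    rw [he, RingEquiv.apply_symm_apply]
  let φ : integralClosure O K →+* integralClosure O' K' :=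
    (eK.toRingHom.comp (integralClosure O K).val.toRingHom).codRestrict (integralClosure O' K')
      (fun x => IsIntegral.map_of_comp_eq e.toRingHom eK.toRingHom hcomp x.2)
  let ψ : integralClosure O' K' →+* integralClosure O K :=
    (eK.symm.toRingHom.comp (integralClosure O' K').val.toRingHom).codRestrict
      (integralClosure O K)
      (fun x => IsIntegral.map_of_comp_eq e.symm.toRingHom eK.symm.toRingHom hcomp' x.2)
  let Φ : integralClosure O K ≃+* integralClosure O' K' :=
    RingEquiv.ofRingHom φ ψ
      (by ext x; exact eK.apply_symm_apply _)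
      (by ext x; exact eK.symm_apply_apply _)
  have hΦ : ∀ o, Φ (algebraMap O (integralClosure O K) o) =
      algebraMap O' (integralClosure O' K') (e o) := by
    intro o
    apply Subtype.ext
    change eK (algebraMap O K o) = algebraMap O' K' (e o)
    exact he o
  obtain ⟨hloc, q, hq, hres⟩ := h
  refine ⟨Φ.isLocalRing, q, ?_, ?_⟩
  · rcases hq with hq | ⟨hp, hu⟩
    · exact Or.inl hq
    · refine Or.inr ⟨hp, fun hu' => hu ?_⟩
      have : Φ ((q : ℕ) : integralClosure O K) = ((q : ℕ) : integralClosure O' K') :=
        map_natCast Φ q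
      rw [← this] at hu'
      exact (MulEquiv.isUnit_map Φ.toMulEquiv).mp hu'
  · intro x'
    obtain ⟨n, o, hno⟩ := hres (Φ.symm x')
    refine ⟨n, e o, fun hu' => hno ?_⟩
    have : Φ (Φ.symm x' ^ q ^ n - algebraMap O (integralClosure O K) o) =
        x' ^ q ^ n - algebraMap O' (integralClosure O' K') (e o) := by
      rw [map_sub, map_pow, Φ.apply_symm_apply, hΦ]
    rw [← this] at hu'
    exact (MulEquiv.isUnit_map Φ.toMulEquiv).mp hu'

/-- Geometric unibranchness of local domains is invariant under ring isomorphisms. -/
theorem isGeomUnibranch_of_ringEquiv {O O' : Type u} [CommRing O] [CommRing O'] [IsDomain O]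
    [IsDomain O'] [IsLocalRing O] [IsLocalRing O'] (e : O ≃+* O')
    (h : CAlg2.IsGeomUnibranch O) : CAlg2.IsGeomUnibranch O' := by
  apply isGeomUnibranch_of_gu' O' (FractionRing O')
  refine gu'_of_equiv e (IsFractionRing.ringEquivOfRingEquiv e) ?_
    (gu'_of_isGeomUnibranch O (FractionRing O) h)
  intro o
  exact IsFractionRing.ringEquivOfRingEquiv_algebraMap e o

end Equiv

end Groth.Agent.Lib.Helper6.UB
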