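import Mathlib
import Groth.Agent.Lib.Helper6.UB6

set_option autoImplicit false
universe u

open TensorProduct

namespace Groth.Agent.Lib.Helper6.UB

open Groth.Agent.Lib.Helper6.GU

section Main

variable (A K : Type u) [CommRing A] [IsDomain A] [IsLocalRing A] [Field K] [Algebra A K]
  [IsFractionRing A K] (B : Type u) [CommRing B] [Algebra A B] [Algebra.Etale A B]

set_option maxHeartbeats 1600000 in
set_option synthInstance.maxHeartbeats 400000 in
/-- **Étale algebras over a geometrically unibranch local domain are geometrically unibranch**
at primes over the closed point. -/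
theorem isGeomUnibranch_localization_of_gu' (hGU : GU' A K) (q : Ideal B) [q.IsPrime]
    (hq : q.comap (algebraMap A B) = IsLocalRing.maximalIdeal A) :
    IsDomain (Localization.AtPrime q) ∧ CAlg2.IsGeomUnibranch (Localization.AtPrime q) := by
  haveI hdom : IsDomain (Localization.AtPrime q) := isDomain_localization_of_gu' A K B hGU q hq
  refine ⟨hdom, ?_⟩
  haveI : Module.Flat A (Localization.AtPrime q) := Module.Flat.trans A B (Localization.AtPrime q)
  have hinjAO : Function.Injective (algebraMap A (Localization.AtPrime q)) := by
    rw [injective_iff_map_eq_zero]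
    intro a ha
    by_contra hne
    have hreg : IsSMulRegular (Localization.AtPrime q) a :=
      Module.Flat.isSMulRegular_of_nonZeroDivisors (mem_nonZeroDivisors_of_ne_zero hne)
    have : a • (1 : Localization.AtPrime q) = a • 0 := by
      rw [Algebra.smul_def, mul_one, ha, smul_zero]
    exact one_ne_zero (hreg this)
  have hlocT : IsLocalization
      (Algebra.algebraMapSubmonoid (Localization.AtPrime q) (nonZeroDivisors A))
      ((Localization.AtPrime q) ⊗[A] K) := IsLocalization.tensor K (nonZeroDivisors A)
  have hle : Algebra.algebraMapSubmonoid (Localization.AtPrime q) (nonZeroDivisors A) ≤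
      nonZeroDivisors (Localization.AtPrime q) := by
    rintro _ ⟨a, ha, rfl⟩
    exact mem_nonZeroDivisors_of_ne_zero
      (fun h0 => nonZeroDivisors.ne_zero ha (hinjAO (h0.trans (map_zero _).symm)))
  haveI hTdom : IsDomain ((Localization.AtPrime q) ⊗[A] K) :=
    IsLocalization.isDomain_of_le_nonZeroDivisors _ hle
  have hinjOT : Function.Injective
      (algebraMap (Localization.AtPrime q) ((Localization.AtPrime q) ⊗[A] K)) :=
    IsLocalization.injective _ hle
  -- the generic fibre is a field
  haveI : Module.Finite K (K ⊗[A] (Localization.AtPrime q)) := Module.Finite.of_quasiFinite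
  haveI : IsDomain (K ⊗[A] (Localization.AtPrime q)) :=
    (Algebra.TensorProduct.comm A K (Localization.AtPrime q)).toRingEquiv.toMulEquiv.isDomain
      ((Localization.AtPrime q) ⊗[A] K)
  have hT'field : IsField (K ⊗[A] (Localization.AtPrime q)) :=
    isField_of_isIntegral_of_isField' (Field.toIsField K)
  have hTfield : IsField ((Localization.AtPrime q) ⊗[A] K) :=
    (Algebra.TensorProduct.comm A (Localization.AtPrime q) K).toRingEquiv.toMulEquiv.isField
      hT'field
  haveI hfrac : IsFractionRing (Localization.AtPrime q) ((Localization.AtPrime q) ⊗[A] K) := by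
    refine IsLocalization.of_le (M := Algebra.algebraMapSubmonoid (Localization.AtPrime q)
      (nonZeroDivisors A)) (nonZeroDivisors (Localization.AtPrime q)) hle (fun r hr => ?_)
    have hr0 : algebraMap (Localization.AtPrime q) ((Localization.AtPrime q) ⊗[A] K) r ≠ 0 :=
      fun h0 => nonZeroDivisors.ne_zero hr (hinjOT (h0.trans (map_zero _).symm))
    obtain ⟨b, hb⟩ := hTfield.mul_inv_cancel hr0
    exact IsUnit.of_mul_eq_one _ hb
  -- the key: `GU'` with respect to the generic fibre
  have hGUT : GU' (Localization.AtPrime q) ((Localization.AtPrime q) ⊗[A] K) := by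
    apply gu'_of_hom_eq
    intro Ω _ σ τ hστ hker
    have hΦ : Function.Bijective (TensorProduct.toIntegralClosure A (Localization.AtPrime q) K) :=
      TensorProduct.toIntegralClosure_bijective_of_tower (R := A) (S := B)
        (T := Localization.AtPrime q) (B := K)
        TensorProduct.toIntegralClosure_bijective_of_smooth
        (TensorProduct.toIntegralClosure_bijective_of_isLocalization q.primeCompl)
    haveI : IsLocalization.AtPrime A (IsLocalRing.maximalIdeal A) :=
      IsLocalization.of_le_isUnit (fun s hs => by
        have : s ∉ IsLocalRing.maximalIdeal A := hs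
        rw [IsLocalRing.mem_maximalIdeal, mem_nonunits_iff, not_not] at this
        exact this)
    let Φ : (Localization.AtPrime q) ⊗[A] (integralClosure A K) →+*
        integralClosure (Localization.AtPrime q) ((Localization.AtPrime q) ⊗[A] K) :=
      (TensorProduct.toIntegralClosure A (Localization.AtPrime q) K).toRingHom
    let ι' : integralClosure A K →+*
        integralClosure (Localization.AtPrime q) ((Localization.AtPrime q) ⊗[A] K) :=
      Φ.comp (Algebra.TensorProduct.includeRight :
        integralClosure A K →ₐ[A] (Localization.AtPrime q) ⊗[A] (integralClosure A K)).toRingHom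
    have hι' : ∀ a : A, ι' (algebraMap A (integralClosure A K) a) =
        algebraMap (Localization.AtPrime q) _ (algebraMap A (Localization.AtPrime q) a) := by
      intro a
      change (TensorProduct.toIntegralClosure A (Localization.AtPrime q) K)
        ((1 : Localization.AtPrime q) ⊗ₜ[A] (algebraMap A (integralClosure A K) a)) = _
      have e : (1 : Localization.AtPrime q) ⊗ₜ[A] (algebraMap A (integralClosure A K) a) =
          algebraMap (Localization.AtPrime q)
            ((Localization.AtPrime q) ⊗[A] (integralClosure A K))
            (algebraMap A (Localization.AtPrime q) a) := by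
        rw [Algebra.TensorProduct.algebraMap_apply, Algebra.algebraMap_eq_smul_one (A := integralClosure A K) a,
          TensorProduct.tmul_smul, Algebra.algebraMap_eq_smul_one (A := Localization.AtPrime q) a,
          TensorProduct.smul_tmul', Algebra.algebraMap_self, RingHom.id_apply]
      rw [e, AlgHom.commutes]
    have hmO : (IsLocalRing.maximalIdeal (Localization.AtPrime q)).comap
        (algebraMap A (Localization.AtPrime q)) = IsLocalRing.maximalIdeal A := by
      have hu : (IsLocalRing.maximalIdeal (Localization.AtPrime q)).comap
          (algebraMap B (Localization.AtPrime q)) = q :=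
        IsLocalization.AtPrime.under_maximalIdeal (Localization.AtPrime q) q
      rw [IsScalarTower.algebraMap_eq A B (Localization.AtPrime q), ← Ideal.comap_comap, hu, hq]
    have h1 : (σ.comp ι').comp (algebraMap A (integralClosure A K)) =
        (τ.comp ι').comp (algebraMap A (integralClosure A K)) := by
      ext a
      simp only [RingHom.comp_apply]
      rw [hι']
      exact RingHom.congr_fun hστ _
    have h2 : RingHom.ker ((σ.comp ι').comp (algebraMap A (integralClosure A K))) =
        IsLocalRing.maximalIdeal A := by
      rw [← hmO, ← hker]
      ext a
      simp only [RingHom.mem_ker, RingHom.comp_apply, Ideal.mem_comap]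
      rw [hι']
    have key := hom_eq_of_gu' (A := A) (O := A) (K := K) (IsLocalRing.maximalIdeal A) hGU
      (σ.comp ι') (τ.comp ι') h1 h2
    have hcomp : σ.comp Φ = τ.comp Φ := by
      apply RingHom.ext
      intro x
      induction x using TensorProduct.induction_on with
      | zero => simp
      | tmul o a' =>
        have e : o ⊗ₜ[A] a' =
            algebraMap (Localization.AtPrime q)
              ((Localization.AtPrime q) ⊗[A] (integralClosure A K)) o *
            ((1 : Localization.AtPrime q) ⊗ₜ[A] a') := by
          rw [Algebra.TensorProduct.algebraMap_apply, Algebra.TensorProduct.tmul_mul_tmul,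
            mul_one, one_mul, Algebra.algebraMap_self, RingHom.id_apply]
        have e1 : Φ (algebraMap (Localization.AtPrime q)
            ((Localization.AtPrime q) ⊗[A] (integralClosure A K)) o) =
            algebraMap (Localization.AtPrime q) _ o :=
          AlgHom.commutes (TensorProduct.toIntegralClosure A (Localization.AtPrime q) K) o
        have e2 : σ (Φ ((1 : Localization.AtPrime q) ⊗ₜ[A] a')) =
            τ (Φ ((1 : Localization.AtPrime q) ⊗ₜ[A] a')) := RingHom.congr_fun key a'
        simp only [RingHom.comp_apply]
        rw [e, map_mul, map_mul, map_mul, e1, e2]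
        congr 1
        exact RingHom.congr_fun hστ o
      | add x y hx hy => rw [map_add, map_add, hx, hy]
    apply RingHom.ext
    intro z
    obtain ⟨w, rfl⟩ := hΦ.2 z
    exact RingHom.congr_fun hcomp w
  -- transfer to the fraction field
  let eT : ((Localization.AtPrime q) ⊗[A] K) ≃ₐ[Localization.AtPrime q]
      FractionRing (Localization.AtPrime q) :=
    IsLocalization.algEquiv (nonZeroDivisors (Localization.AtPrime q)) _ _
  apply isGeomUnibranch_of_gu' (Localization.AtPrime q) (FractionRing (Localization.AtPrime q))
  exact gu'_of_equiv (RingEquiv.refl _) eT.toRingEquiv (fun o => eT.commutes o) hGUT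

end Main

end Groth.Agent.Lib.Helper6.UB
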