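import Mathlib
import Groth.Agent.Lib.Helper6.UB7
import Groth.Agent.Lib.Helper6.UB5

set_option autoImplicit false
universe u

open TensorProduct CategoryTheory AlgebraicGeometry Limits

namespace Groth.Agent.Lib.Helper6.UB

open Groth.Agent.Lib.Helper6.GU

set_option maxHeartbeats 800000 in
/-- Localizations at primes of an étale algebra over a ring whose localization at the contracted
prime is a geometrically unibranch domain are geometrically unibranch domains. -/
theorem isGeomUnibranch_localization_of_etale' (R S : Type u) [CommRing R] [CommRing S]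
    [Algebra R S] [Algebra.Etale R S] (q : Ideal S) [q.IsPrime] (p : Ideal R) [p.IsPrime]
    (hp : q.comap (algebraMap R S) = p)
    (Rp : Type u) [CommRing Rp] [Algebra R Rp] [IsLocalization.AtPrime Rp p] [IsLocalRing Rp]
    [IsDomain Rp] (hGU : CAlg2.IsGeomUnibranch Rp) :
    IsDomain (Localization.AtPrime q) ∧ CAlg2.IsGeomUnibranch (Localization.AtPrime q) := by
  let _ : Algebra S (Rp ⊗[R] S) := Algebra.TensorProduct.rightAlgebra
  have hloc : IsLocalization (Algebra.algebraMapSubmonoid S p.primeCompl)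
      (Rp ⊗[R] S) := IsLocalization.tensorRight _ p.primeCompl
  have hdisj : Disjoint (Algebra.algebraMapSubmonoid S p.primeCompl : Set S) q := by
    rw [Set.disjoint_left]
    rintro _ ⟨r, hr, rfl⟩ hrq
    apply hr
    rw [← hp]
    exact hrq
  have hq' : (q.map (algebraMap S (Rp ⊗[R] S))).IsPrime :=
    IsLocalization.isPrime_of_isPrime_disjoint _ _ _ ‹_› hdisj
  have hcomap : (q.map (algebraMap S (Rp ⊗[R] S))).comap
      (algebraMap S (Rp ⊗[R] S)) = q :=
    IsLocalization.under_map_of_isPrime_disjoint _ _ ‹_› hdisj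
  have hGU' : GU' Rp (FractionRing Rp) :=
    gu'_of_isGeomUnibranch _ _ hGU
  have hmax : (q.map (algebraMap S (Rp ⊗[R] S))).comap
      (algebraMap Rp (Rp ⊗[R] S)) =
      IsLocalRing.maximalIdeal Rp := by
    haveI : ((q.map (algebraMap S (Rp ⊗[R] S))).comap
      (algebraMap Rp (Rp ⊗[R] S))).IsPrime :=
      Ideal.comap_isPrime _ _
    refine le_antisymm (IsLocalRing.le_maximalIdeal (Ideal.IsPrime.ne_top inferInstance)) ?_
    rw [← IsLocalization.AtPrime.map_eq_maximalIdeal p Rp, Ideal.map_le_iff_le_comap]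
    intro a ha
    change algebraMap Rp (Rp ⊗[R] S)
      (algebraMap R Rp a) ∈
      q.map (algebraMap S (Rp ⊗[R] S))
    have e : algebraMap Rp (Rp ⊗[R] S)
        (algebraMap R Rp a) =
        algebraMap S (Rp ⊗[R] S) (algebraMap R S a) := by
      rw [← IsScalarTower.algebraMap_apply, ← IsScalarTower.algebraMap_apply]
    rw [e]
    apply Ideal.mem_map_of_mem
    rw [← hp] at ha
    exact ha
  obtain ⟨h1, h2⟩ := isGeomUnibranch_localization_of_gu' Rp
    (FractionRing Rp) (Rp ⊗[R] S) hGU'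
    (q.map (algebraMap S (Rp ⊗[R] S))) hmax
  have : IsScalarTower S (Rp ⊗[R] S)
      (Localization.AtPrime (q.map (algebraMap S (Rp ⊗[R] S)))) :=
    inferInstance
  have hat := IsLocalization.isLocalization_isLocalization_atPrime_isLocalization
    (Algebra.algebraMapSubmonoid S p.primeCompl)
    (Localization.AtPrime (q.map (algebraMap S (Rp ⊗[R] S))))
    (q.map (algebraMap S (Rp ⊗[R] S)))
  simp only [hcomap] at hat
  let e : Localization.AtPrime q ≃ₐ[S]
      Localization.AtPrime (q.map (algebraMap S (Rp ⊗[R] S))) :=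
    IsLocalization.algEquiv q.primeCompl _ _
  haveI hd : IsDomain (Localization.AtPrime q) := e.symm.toRingEquiv.toMulEquiv.isDomain_iff.mp h1
  exact ⟨hd, isGeomUnibranch_of_ringEquiv e.symm.toRingEquiv h2⟩

/-- Stalks of a scheme étale over a scheme with geometrically unibranch integral local ring are
geometrically unibranch domains. -/
theorem isGeomUnibranch_stalk_of_etale {X Y : Scheme.{u}} (f : X ⟶ Y) [Etale f] (x : X)
    (hdom : IsDomain (Y.presheaf.stalk (f x)))
    (hGU : CAlg2.IsGeomUnibranch (Y.presheaf.stalk (f x))) :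
    IsDomain (X.presheaf.stalk x) ∧ CAlg2.IsGeomUnibranch (X.presheaf.stalk x) := by
  obtain ⟨_, ⟨U, hU : IsAffineOpen U, rfl⟩, hfy, -⟩ :=
    Y.isBasis_affineOpens.exists_subset_of_mem_open (Set.mem_univ (f x)) isOpen_univ
  obtain ⟨_, ⟨V, hV : IsAffineOpen V, rfl⟩, hxV, hVU⟩ :=
    X.isBasis_affineOpens.exists_subset_of_mem_open (show x ∈ (f ⁻¹ᵁ U : Set X) from hfy)
      (f ⁻¹ᵁ U).isOpen
  have e : V ≤ f ⁻¹ᵁ U := hVU
  let _ : Algebra Γ(Y, U) Γ(X, V) := (f.appLE U V e).hom.toAlgebra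
  have : Algebra.Etale Γ(Y, U) Γ(X, V) := Etale.etale_appLE f hU hV e
  have hcomap : (hV.primeIdealOf ⟨x, hxV⟩).asIdeal.comap (algebraMap Γ(Y, U) Γ(X, V)) =
      (hU.primeIdealOf ⟨f x, hfy⟩).asIdeal :=
    congr($(IsAffineOpen.comap_primeIdealOf_appLE U hU V hV e hxV).1)
  let _ : Algebra Γ(X, V) (X.presheaf.stalk x) :=
    TopCat.Presheaf.algebra_section_stalk X.presheaf ⟨x, hxV⟩
  have hlocX : IsLocalization.AtPrime (X.presheaf.stalk x) (hV.primeIdealOf ⟨x, hxV⟩).asIdeal :=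
    hV.isLocalization_stalk ⟨x, hxV⟩
  let _ : Algebra Γ(Y, U) (Y.presheaf.stalk (f x)) :=
    TopCat.Presheaf.algebra_section_stalk Y.presheaf ⟨f x, hfy⟩
  have hlocY : IsLocalization.AtPrime (Y.presheaf.stalk (f x))
      (hU.primeIdealOf ⟨f x, hfy⟩).asIdeal :=
    hU.isLocalization_stalk ⟨f x, hfy⟩
  obtain ⟨h1, h2⟩ := isGeomUnibranch_localization_of_etale' Γ(Y, U) Γ(X, V)
    (hV.primeIdealOf ⟨x, hxV⟩).asIdeal (hU.primeIdealOf ⟨f x, hfy⟩).asIdeal hcomap
    (Y.presheaf.stalk (f x)) hGU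
  let eX : Localization.AtPrime (hV.primeIdealOf ⟨x, hxV⟩).asIdeal ≃ₐ[Γ(X, V)]
      (X.presheaf.stalk x) :=
    IsLocalization.algEquiv (hV.primeIdealOf ⟨x, hxV⟩).asIdeal.primeCompl _ _
  haveI hd : IsDomain (X.presheaf.stalk x) := eX.toRingEquiv.toMulEquiv.isDomain_iff.mp h1
  exact ⟨hd, isGeomUnibranch_of_ringEquiv eX.toRingEquiv h2⟩

set_option backward.isDefEq.respectTransparency.types false in
/-- Local version: `f` étale on an open neighbourhood of `x`. -/
theorem isGeomUnibranch_stalk_of_etale_nhd {X Y : Scheme.{u}} (f : X ⟶ Y) (x : X)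
    (hdom : IsDomain (Y.presheaf.stalk (f x)))
    (hGU : CAlg2.IsGeomUnibranch (Y.presheaf.stalk (f x)))
    (U : X.Opens) (hxU : x ∈ U) (hU : Etale (U.ι ≫ f)) :
    IsDomain (X.presheaf.stalk x) ∧ CAlg2.IsGeomUnibranch (X.presheaf.stalk x) := by
  have hfx : (U.ι ≫ f) (⟨x, hxU⟩ : U.toScheme) = f x := rfl
  obtain ⟨h1, h2⟩ := isGeomUnibranch_stalk_of_etale (U.ι ≫ f) (⟨x, hxU⟩ : U.toScheme)
    (by rw [hfx]; exact hdom) (by rw [hfx]; exact hGU)
  let eU : U.toScheme.presheaf.stalk (⟨x, hxU⟩ : U.toScheme) ≃+* X.presheaf.stalk x :=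
    (U.stalkIso ⟨x, hxU⟩).commRingCatIsoToRingEquiv
  haveI hd : IsDomain (X.presheaf.stalk x) := eU.toMulEquiv.isDomain_iff.mp h1
  haveI : IsLocalRing (U.toScheme.presheaf.stalk (⟨x, hxU⟩ : U.toScheme)) := inferInstance
  exact ⟨hd, isGeomUnibranch_of_ringEquiv eU h2⟩

end Groth.Agent.Lib.Helper6.UB
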