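import Mathlib
import Groth.Agent.Lib.Helper6.UB8

set_option autoImplicit false
universe u

open TensorProduct CategoryTheory AlgebraicGeometry Limits

namespace Groth.Agent.Lib.Helper6.UB

open Groth.Agent.Lib.Helper6.GU

/-- The reduction of a geometrically unibranch local ring is geometrically unibranch, in intrinsic
form. -/
theorem gu'_red_of_isGeomUnibranch (A : Type u) [CommRing A] [IsLocalRing A]
    (h : CAlg2.IsGeomUnibranch A) : GU' (CAlg2.red A) (FractionRing (CAlg2.red A)) := by
  obtain ⟨⟨-, hloc⟩, hres⟩ := h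
  haveI : IsLocalRing (CAlg2.normRed A) := hloc
  obtain ⟨q, hq⟩ := ExpChar.exists
    (R := CAlg2.normRed A ⧸ IsLocalRing.maximalIdeal (CAlg2.normRed A))
  have hqe : ringExpChar (CAlg2.normRed A ⧸ IsLocalRing.maximalIdeal (CAlg2.normRed A)) = q :=
    ringExpChar.eq _ q
  refine ⟨hloc, q, ?_, ?_⟩
  · cases hq with
    | zero => exact Or.inl rfl
    | prime hp =>
      refine Or.inr ⟨hp, ?_⟩
      intro h1
      have h2 : ((q : ℕ) : CAlg2.normRed A) ∈ IsLocalRing.maximalIdeal (CAlg2.normRed A) := by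
        apply Ideal.Quotient.eq_zero_iff_mem.mp
        have e : Ideal.Quotient.mk (IsLocalRing.maximalIdeal (CAlg2.normRed A))
            ((q : ℕ) : CAlg2.normRed A) = ((q : ℕ) : CAlg2.normRed A ⧸ _) :=
          map_natCast (Ideal.Quotient.mk (IsLocalRing.maximalIdeal (CAlg2.normRed A))) q
        rw [e]
        exact CharP.cast_eq_zero _ q
      exact (IsLocalRing.mem_maximalIdeal _).mp h2 h1
  · intro x
    obtain ⟨n, o, ho⟩ := hres (IsLocalRing.maximalIdeal (CAlg2.normRed A))
      (Ideal.Quotient.mk _ x)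
    rw [hqe] at ho
    refine ⟨n, Ideal.Quotient.mk _ o, ?_⟩
    have h1 : Ideal.Quotient.mk (IsLocalRing.maximalIdeal (CAlg2.normRed A)) (x ^ q ^ n) =
        (Ideal.Quotient.mk (IsLocalRing.maximalIdeal (CAlg2.normRed A)) x) ^ q ^ n :=
      RingHom.map_pow _ _ _
    have h2 := Ideal.Quotient.eq.mp (h1.trans ho.symm)
    exact h2

set_option maxHeartbeats 1600000 in
set_option synthInstance.maxHeartbeats 400000 in
/-- Over a (possibly non-reduced) geometrically unibranch local ring, an étale algebra has a least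
prime below any prime over the closed point. -/
theorem exists_least_prime_le_of_gu (A : Type u) [CommRing A] [IsLocalRing A]
    (hGU : CAlg2.IsGeomUnibranch A) (B : Type u) [CommRing B] [Algebra A B] [Algebra.Etale A B]
    (q : Ideal B) [q.IsPrime] (hq : q.comap (algebraMap A B) = IsLocalRing.maximalIdeal A) :
    ∃ N : Ideal B, N.IsPrime ∧ N ≤ q ∧ ∀ P : Ideal B, P.IsPrime → P ≤ q → N ≤ P := by
  haveI hdom : IsDomain (CAlg2.red A) := hGU.1.1
  haveI : IsLocalRing (CAlg2.red A) :=
    IsLocalRing.of_surjective' (Ideal.Quotient.mk (nilradical A)) Ideal.Quotient.mk_surjective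
  have hGU' := gu'_red_of_isGeomUnibranch A hGU
  let π : B →+* (CAlg2.red A) ⊗[A] B :=
    (Algebra.TensorProduct.includeRight : B →ₐ[A] (CAlg2.red A) ⊗[A] B).toRingHom
  have hπsurj : Function.Surjective π :=
    Algebra.TensorProduct.includeRight_surjective B
      (by rw [Ideal.Quotient.algebraMap_eq]; exact Ideal.Quotient.mk_surjective)
  have hπker : RingHom.ker π ≤ nilradical B := by
    intro b hb
    let e := Algebra.TensorProduct.quotIdealMapEquivQuotTensor B (nilradical A)
    have he : e (Ideal.Quotient.mk _ b) = π b := rfl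
    have h0 : e (Ideal.Quotient.mk _ b) = 0 := he.trans hb
    rw [map_eq_zero_iff e e.injective, Ideal.Quotient.eq_zero_iff_mem] at h0
    have hle : (nilradical A).map (algebraMap A B) ≤ nilradical B := by
      rw [Ideal.map_le_iff_le_comap]
      intro a ha
      exact (mem_nilradical.mp ha).map (algebraMap A B)
    exact hle h0
  have hπkerq : ∀ (P : Ideal B), P.IsPrime → RingHom.ker π ≤ P := fun P hP =>
    hπker.trans (nilradical_le_prime P)
  have hcm : ∀ (P : Ideal B), P.IsPrime → (P.map π).comap π = P := fun P hP => by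
    rw [Ideal.comap_map_of_surjective' π hπsurj, sup_eq_left]
    exact hπkerq P hP
  haveI hq'prime : (q.map π).IsPrime := Ideal.map_isPrime_of_surjective hπsurj (hπkerq q ‹_›)
  have hπalg : ∀ a : A, algebraMap (CAlg2.red A) ((CAlg2.red A) ⊗[A] B)
      (Ideal.Quotient.mk _ a) = π (algebraMap A B a) := by
    intro a
    change (Ideal.Quotient.mk (nilradical A) a) ⊗ₜ[A] (1 : B) =
      (1 : CAlg2.red A) ⊗ₜ[A] (algebraMap A B a)
    rw [Algebra.algebraMap_eq_smul_one (A := B) a, TensorProduct.tmul_smul,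
      TensorProduct.smul_tmul', Algebra.smul_def, mul_one]
    rfl
  have hq' : (q.map π).comap (algebraMap (CAlg2.red A) ((CAlg2.red A) ⊗[A] B)) =
      IsLocalRing.maximalIdeal (CAlg2.red A) := by
    haveI : ((q.map π).comap (algebraMap (CAlg2.red A) ((CAlg2.red A) ⊗[A] B))).IsPrime :=
      Ideal.comap_isPrime _ _
    refine le_antisymm (IsLocalRing.le_maximalIdeal (Ideal.IsPrime.ne_top inferInstance)) ?_
    intro x hx
    obtain ⟨a, rfl⟩ := Ideal.Quotient.mk_surjective x
    have ha : a ∈ IsLocalRing.maximalIdeal A := by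
      rw [IsLocalRing.mem_maximalIdeal, mem_nonunits_iff]
      intro hu
      exact (IsLocalRing.mem_maximalIdeal _).mp hx (hu.map (Ideal.Quotient.mk (nilradical A)))
    rw [Ideal.mem_comap, hπalg]
    apply Ideal.mem_map_of_mem
    rw [← hq] at ha
    exact ha
  haveI hdomloc : IsDomain (Localization.AtPrime (q.map π)) :=
    isDomain_localization_of_gu' (CAlg2.red A) (FractionRing (CAlg2.red A))
      ((CAlg2.red A) ⊗[A] B) hGU' (q.map π) hq'
  let N₀ : Ideal ((CAlg2.red A) ⊗[A] B) :=
    RingHom.ker (algebraMap ((CAlg2.red A) ⊗[A] B) (Localization.AtPrime (q.map π)))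
  haveI hN₀ : N₀.IsPrime := RingHom.ker_isPrime _
  have hN₀le : ∀ (P' : Ideal ((CAlg2.red A) ⊗[A] B)) [P'.IsPrime], P' ≤ q.map π → N₀ ≤ P' := by
    intro P' _ hP' b hb
    rw [RingHom.mem_ker, IsLocalization.map_eq_zero_iff (q.map π).primeCompl] at hb
    obtain ⟨⟨s, hs⟩, hsb⟩ := hb
    have hmem : s * b ∈ P' := by
      have : s * b = 0 := hsb
      rw [this]; exact P'.zero_mem
    rcases Ideal.IsPrime.mem_or_mem ‹P'.IsPrime› hmem with h | h
    · exact (hs (hP' h)).elim
    · exact h
  refine ⟨N₀.comap π, Ideal.comap_isPrime _ _, ?_, ?_⟩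
  · calc N₀.comap π ≤ (q.map π).comap π := Ideal.comap_mono (hN₀le (q.map π) le_rfl)
      _ = q := hcm q ‹_›
  · intro P hP hPq
    haveI : (P.map π).IsPrime := Ideal.map_isPrime_of_surjective hπsurj (hπkerq P hP)
    calc N₀.comap π ≤ (P.map π).comap π := Ideal.comap_mono (hN₀le (P.map π) (Ideal.map_mono hPq))
      _ = P := hcm P hP

set_option maxHeartbeats 800000 in
/-- General ring-level form: an étale algebra over a ring whose localization at the contracted
prime is geometrically unibranch has a least prime below the given prime. -/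
theorem exists_least_prime_le_of_etale' (R S : Type u) [CommRing R] [CommRing S]
    [Algebra R S] [Algebra.Etale R S] (q : Ideal S) [q.IsPrime] (p : Ideal R) [p.IsPrime]
    (hp : q.comap (algebraMap R S) = p)
    (Rp : Type u) [CommRing Rp] [Algebra R Rp] [IsLocalization.AtPrime Rp p] [IsLocalRing Rp]
    (hGU : CAlg2.IsGeomUnibranch Rp) :
    ∃ N : Ideal S, N.IsPrime ∧ N ≤ q ∧ ∀ P : Ideal S, P.IsPrime → P ≤ q → N ≤ P := by
  let _ : Algebra S (Rp ⊗[R] S) := Algebra.TensorProduct.rightAlgebra
  have hloc : IsLocalization (Algebra.algebraMapSubmonoid S p.primeCompl)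
      (Rp ⊗[R] S) := IsLocalization.tensorRight _ p.primeCompl
  have hdisjq : Disjoint (Algebra.algebraMapSubmonoid S p.primeCompl : Set S) q := by
    rw [Set.disjoint_left]
    rintro _ ⟨r, hr, rfl⟩ hrq
    apply hr
    rw [← hp]
    exact hrq
  have hdisj : ∀ P : Ideal S, P ≤ q →
      Disjoint (Algebra.algebraMapSubmonoid S p.primeCompl : Set S) P := fun P hP =>
    hdisjq.mono_right hP
  have hq' : (q.map (algebraMap S (Rp ⊗[R] S))).IsPrime :=
    IsLocalization.isPrime_of_isPrime_disjoint _ _ _ ‹_› hdisjq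
  have hcomap : ∀ P : Ideal S, P.IsPrime → P ≤ q → (P.map (algebraMap S (Rp ⊗[R] S))).comap
      (algebraMap S (Rp ⊗[R] S)) = P := fun P hP hPq =>
    IsLocalization.under_map_of_isPrime_disjoint _ _ hP (hdisj P hPq)
  have hmax : (q.map (algebraMap S (Rp ⊗[R] S))).comap
      (algebraMap Rp (Rp ⊗[R] S)) =
      IsLocalRing.maximalIdeal Rp := by
    haveI : ((q.map (algebraMap S (Rp ⊗[R] S))).comap
      (algebraMap Rp (Rp ⊗[R] S))).IsPrime :=
      Ideal.comap_isPrime _ _
    refine le_antisymm (IsLocalRing.le_maximalIdeal (Ideal.IsPrime.ne_top inferInstance)) ?_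
    rw [← IsLocalization.AtPrime.map_eq_maximalIdeal p Rp, Ideal.map_le_iff_le_comap]
    intro a ha
    change algebraMap Rp (Rp ⊗[R] S)
      (algebraMap R Rp a) ∈
      q.map (algebraMap S (Rp ⊗[R] S))
    have e : algebraMap Rp (Rp ⊗[R] S)
        (algebraMap R Rp a) =
        algebraMap S (Rp ⊗[R] S) (algebraMap R S a) := by
      rw [← IsScalarTower.algebraMap_apply, ← IsScalarTower.algebraMap_apply]
    rw [e]
    apply Ideal.mem_map_of_mem
    rw [← hp] at ha
    exact ha
  obtain ⟨N', hN'p, hN'q, hN'le⟩ := exists_least_prime_le_of_gu Rp hGU (Rp ⊗[R] S)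
    (q.map (algebraMap S (Rp ⊗[R] S))) hmax
  refine ⟨N'.comap (algebraMap S (Rp ⊗[R] S)), Ideal.comap_isPrime _ _, ?_, ?_⟩
  · calc N'.comap (algebraMap S (Rp ⊗[R] S)) ≤
        (q.map (algebraMap S (Rp ⊗[R] S))).comap (algebraMap S (Rp ⊗[R] S)) :=
          Ideal.comap_mono hN'q
      _ = q := hcomap q ‹_› le_rfl
  · intro P hP hPq
    have hP' : (P.map (algebraMap S (Rp ⊗[R] S))).IsPrime :=
      IsLocalization.isPrime_of_isPrime_disjoint _ _ _ hP (hdisj P hPq)
    calc N'.comap (algebraMap S (Rp ⊗[R] S)) ≤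
        (P.map (algebraMap S (Rp ⊗[R] S))).comap (algebraMap S (Rp ⊗[R] S)) :=
          Ideal.comap_mono (hN'le _ hP' (Ideal.map_mono hPq))
      _ = P := hcomap P hP hPq

end Groth.Agent.Lib.Helper6.UB
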