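import Mathlib
import Groth.Agent.Lib.Helper6.UB9

/-!
# Chevalley's criterion, part 1: radiciality of the normalization of `A ⧸ p₀`

For a ring `A` all of whose local rings are geometrically unibranch and a minimal prime `p₀`,
the integral closure of `A ⧸ p₀` in its fraction field is radicial over `A ⧸ p₀`.
-/

set_option autoImplicit false
universe u

namespace Groth.Agent.Lib.Helper6.Chev

open Groth.Agent.Lib.Helper6.GU Groth.Agent.Lib.Helper6.UB

/-- A geometrically unibranch local ring surjecting onto a domain with kernel the nilradical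
gives a geometrically unibranch domain (intrinsic form). -/
theorem gu'_of_surjective_of_ker_eq_nilradical {R R' K' : Type u} [CommRing R] [IsLocalRing R]
    [CommRing R'] [IsDomain R'] [Field K'] [Algebra R' K'] [IsFractionRing R' K']
    (φ : R →+* R') (hφ : Function.Surjective φ) (hker : RingHom.ker φ = nilradical R)
    (h : CAlg2.IsGeomUnibranch R) : GU' R' K' := by
  haveI : IsDomain (CAlg2.red R) := h.1.1
  let e : CAlg2.red R ≃+* R' :=
    (Ideal.quotEquivOfEq hker.symm).trans (RingHom.quotientKerEquivOfSurjective hφ)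
  refine gu'_of_equiv e (IsFractionRing.ringEquivOfRingEquiv e) ?_
    (gu'_red_of_isGeomUnibranch R h)
  intro o
  exact IsFractionRing.ringEquivOfRingEquiv_algebraMap e o

/-- If the nilradical of `A_p` is prime, it contracts to any minimal prime of `A` below `p`. -/
theorem comap_nilradical_localization_eq {A : Type u} [CommRing A] (p : Ideal A) [p.IsPrime]
    (hn : (nilradical (Localization.AtPrime p)).IsPrime)
    (p₀ : Ideal A) (hp₀ : p₀ ∈ minimalPrimes A) (hle : p₀ ≤ p) :
    (nilradical (Localization.AtPrime p)).comap (algebraMap A (Localization.AtPrime p)) = p₀ := by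
  haveI : p₀.IsPrime := hp₀.1.1
  have hdisj : Disjoint (p.primeCompl : Set A) (p₀ : Set A) := by
    rw [Set.disjoint_left]
    intro a ha ha'
    exact ha (hle ha')
  have hprime : (p₀.map (algebraMap A (Localization.AtPrime p))).IsPrime :=
    IsLocalization.isPrime_of_isPrime_disjoint p.primeCompl _ p₀ inferInstance hdisj
  have h1 : nilradical (Localization.AtPrime p) ≤ p₀.map (algebraMap A (Localization.AtPrime p)) :=
    nilradical_le_prime _
  have h2 : (nilradical (Localization.AtPrime p)).comap (algebraMap A (Localization.AtPrime p))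
      ≤ p₀ := by
    refine (Ideal.comap_mono h1).trans_eq ?_
    exact IsLocalization.comap_map_of_isPrime_disjoint p.primeCompl _ inferInstance hdisj
  haveI := hn
  exact le_antisymm h2 (hp₀.2 ⟨Ideal.IsPrime.comap _, bot_le⟩ h2)

/-- At most one minimal prime below a prime with geometrically unibranch localization. -/
theorem minimalPrime_unique_of_isGeomUnibranch {A : Type u} [CommRing A] (p : Ideal A) [p.IsPrime]
    (h : CAlg2.IsGeomUnibranch (Localization.AtPrime p))
    (p₀ p₁ : Ideal A) (hp₀ : p₀ ∈ minimalPrimes A) (hp₁ : p₁ ∈ minimalPrimes A)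
    (h0 : p₀ ≤ p) (h1 : p₁ ≤ p) : p₀ = p₁ := by
  have hn : (nilradical (Localization.AtPrime p)).IsPrime :=
    (Ideal.Quotient.isDomain_iff_prime _).mp h.1.1
  rw [← comap_nilradical_localization_eq p hn p₀ hp₀ h0,
    ← comap_nilradical_localization_eq p hn p₁ hp₁ h1]

set_option synthInstance.maxHeartbeats 400000 in
set_option maxHeartbeats 1000000 in
/-- For a ring all of whose local rings are geometrically unibranch and a minimal prime `p₀`,
the normalization of `A ⧸ p₀` is radicial over `A ⧸ p₀`. -/
theorem radicial_quotient_minimalPrime {A : Type u} [CommRing A]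
    (hGU : ∀ (p : Ideal A) [p.IsPrime], CAlg2.IsGeomUnibranch (Localization.AtPrime p))
    (p₀ : Ideal A) (hp₀ : p₀ ∈ minimalPrimes A) [p₀.IsPrime]
    (K : Type u) [Field K] [Algebra (A ⧸ p₀) K] [IsFractionRing (A ⧸ p₀) K] :
    Radicial (algebraMap (A ⧸ p₀) (integralClosure (A ⧸ p₀) K)) := by
  intro Ω _ σ τ hστ
  set 𝔭 : Ideal (A ⧸ p₀) :=
    RingHom.ker (σ.comp (algebraMap (A ⧸ p₀) (integralClosure (A ⧸ p₀) K))) with h𝔭
  haveI h𝔭p : 𝔭.IsPrime := RingHom.ker_isPrime _
  set p : Ideal A := 𝔭.comap (Ideal.Quotient.mk p₀) with hp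
  haveI : p.IsPrime := Ideal.IsPrime.comap _
  have hle : p₀ ≤ p := by
    intro a ha
    rw [hp, Ideal.mem_comap, Ideal.Quotient.eq_zero_iff_mem.mpr ha]
    exact zero_mem _
  let O := Localization.AtPrime 𝔭
  have hunit : ∀ y : 𝔭.primeCompl, IsUnit (algebraMap (A ⧸ p₀) K y) := by
    intro y
    refine IsUnit.mk0 _ ?_
    rw [Ne, map_eq_zero_iff _ (IsFractionRing.injective (A ⧸ p₀) K)]
    intro h0
    exact y.2 (h0 ▸ zero_mem _)
  letI : Algebra O K := (IsLocalization.lift (M := 𝔭.primeCompl) (S := O) hunit).toAlgebra
  haveI : IsScalarTower (A ⧸ p₀) O K := IsScalarTower.of_algebraMap_eq fun x => by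
    change _ = (IsLocalization.lift (M := 𝔭.primeCompl) (S := O) hunit) (algebraMap _ O x)
    rw [IsLocalization.lift_eq]
  haveI : IsDomain O := IsLocalization.isDomain_localization (le_nonZeroDivisors_of_noZeroDivisors
    (fun h0 => h0 (zero_mem _)))
  haveI : IsFractionRing O K :=
    IsFractionRing.isFractionRing_of_isDomain_of_isLocalization 𝔭.primeCompl O K
  -- geometric unibranchness of `O`
  have hGUO : GU' O K := by
    let φ : Localization.AtPrime p →+* O :=
      Localization.localRingHom p 𝔭 (Ideal.Quotient.mk p₀) rfl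
    have hφs : Function.Surjective φ :=
      (RingHom.surjectiveOnStalks_of_surjective Ideal.Quotient.mk_surjective).localRingHom_surjective
        p 𝔭 rfl
    have hn : (nilradical (Localization.AtPrime p)).IsPrime :=
      (Ideal.Quotient.isDomain_iff_prime _).mp (hGU p).1.1
    refine gu'_of_surjective_of_ker_eq_nilradical φ hφs ?_ (hGU p)
    apply le_antisymm
    · intro x hx
      obtain ⟨a, s, rfl⟩ := IsLocalization.exists_mk'_eq p.primeCompl x
      rw [RingHom.mem_ker, Localization.localRingHom_mk'] at hx
      have h0 : Ideal.Quotient.mk p₀ a = 0 := by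
        have := (IsLocalization.mk'_eq_zero_iff _ _).mp hx
        obtain ⟨m, hm⟩ := this
        rcases mul_eq_zero.mp hm with h | h
        · exact absurd (h ▸ zero_mem _ : (m : A ⧸ p₀) ∈ 𝔭) m.2
        · exact h
      have ha : a ∈ p₀ := Ideal.Quotient.eq_zero_iff_mem.mp h0
      have ha' : algebraMap A (Localization.AtPrime p) a ∈ nilradical (Localization.AtPrime p) := by
        have := comap_nilradical_localization_eq p hn p₀ hp₀ hle
        rw [← this] at ha
        exact ha
      rw [← IsLocalization.mk'_spec' _ a s] at ha'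
      exact (hn.mul_mem_iff_mem_or_mem.mp ha').resolve_left (fun hs => by
        have : IsUnit (algebraMap A (Localization.AtPrime p) s) := IsLocalization.map_units _ s
        exact hn.ne_top (Ideal.eq_top_of_isUnit_mem _ hs this))
    · intro x hx
      rw [RingHom.mem_ker]
      have : IsNilpotent (φ x) := (mem_nilradical.mp hx).map φ
      exact this.eq_zero
  exact hom_eq_of_gu' (O := O) 𝔭 hGUO σ τ hστ rfl

end Groth.Agent.Lib.Helper6.Chev
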