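import Mathlib
import Groth.Agent.Lib.Helper6.Chev1
import Groth.Agent.Lib.Helper6.UB1

/-!
# Chevalley's criterion, part 2: going down for polynomial rings over a geometrically
unibranch base
-/

set_option autoImplicit false
universe u

namespace Groth.Agent.Lib.Helper6.Chev

open Groth.Agent.Lib.Helper6.GU Groth.Agent.Lib.Helper6.UB

/-- A purely topological diagram chase for lifting generizations. -/
theorem generalizingMap_of_square {S' S R' R : Type*} [TopologicalSpace S'] [TopologicalSpace S]
    [TopologicalSpace R'] [TopologicalSpace R]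
    (α : S' → S) (β : S' → R') (γ : R' → R) (δ : S → R)
    (hα : Function.Surjective α) (hαc : Continuous α) (hβ : GeneralizingMap β)
    (hγi : Function.Injective γ) (hγs : Function.Surjective γ) (hγsp : SpecializingMap γ)
    (hcomm : ∀ z, δ (α z) = γ (β z)) : GeneralizingMap δ := by
  intro Q' P hP
  obtain ⟨Q'', rfl⟩ := hα Q'
  obtain ⟨P₁, rfl⟩ := hγs P
  rw [hcomm] at hP
  obtain ⟨P₂, h12, h2⟩ := hγsp hP
  have h3 : P₂ = β Q'' := hγi h2
  rw [h3] at h12
  obtain ⟨Q₁, hQ₁, hβQ₁⟩ := hβ h12
  exact ⟨α Q₁, hQ₁.map hαc, by rw [hcomm, hβQ₁]⟩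

/-- Going down along `a : R → S` from going down over a normal domain `R'` integral and
radicial over `R`. -/
theorem generalizingMap_comap_of_square {R S R' L : Type*} [CommRing R] [CommRing S]
    [CommRing R'] [IsDomain R'] [IsIntegrallyClosed R'] [CommRing L] [IsDomain L]
    (a : R →+* S) (b : R →+* R') (c : R' →+* L) (d : S →+* L) (hcomm : c.comp b = d.comp a)
    (ha : a.IsIntegral) (hb : b.IsIntegral) (hbinj : Function.Injective b)
    (hc : Function.Injective c) (hd : Function.Injective d)
    (hγ : Function.Injective (PrimeSpectrum.comap b)) :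
    GeneralizingMap (PrimeSpectrum.comap a) := by
  letI : Algebra R' L := c.toAlgebra
  let S' := integralClosure R' L
  have hd_int : ∀ s, d s ∈ S' := by
    intro s
    obtain ⟨p, hp, hps⟩ := ha s
    refine ⟨p.map b, hp.map b, ?_⟩
    rw [Polynomial.eval₂_map]
    change Polynomial.eval₂ (c.comp b) (d s) p = 0
    rw [hcomm, ← Polynomial.hom_eval₂, hps, map_zero]
  let e : S →+* S' := d.codRestrict S' hd_int
  have he_inj : Function.Injective e := by
    intro x y hxy
    apply hd
    exact congrArg Subtype.val hxy
  have hcomm' : (algebraMap R' S').comp b = e.comp a := by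
    ext r
    exact RingHom.congr_fun hcomm r
  have he_int : e.IsIntegral := by
    have h1 : (algebraMap R' S').IsIntegral := algebraMap_isIntegral_iff.mpr inferInstance
    have h2 : ((algebraMap R' S').comp b).IsIntegral := hb.trans _ _ h1
    rw [hcomm'] at h2
    exact RingHom.IsIntegral.tower_top a e h2
  haveI : FaithfulSMul R' S' := by
    rw [faithfulSMul_iff_algebraMap_injective]
    intro x y hxy
    apply hc
    exact congrArg Subtype.val hxy
  have hβ : GeneralizingMap (PrimeSpectrum.comap (algebraMap R' S')) :=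
    Algebra.HasGoingDown.iff_generalizingMap_primeSpectrumComap.mp inferInstance
  refine generalizingMap_of_square (PrimeSpectrum.comap e) (PrimeSpectrum.comap (algebraMap R' S'))
    (PrimeSpectrum.comap b) (PrimeSpectrum.comap a) (he_int.comap_surjective he_inj)
    (PrimeSpectrum.continuous_comap e) hβ hγ (hb.comap_surjective hbinj)
    (PrimeSpectrum.isClosedMap_comap_of_isIntegral b hb).specializingMap ?_
  intro z
  rw [← PrimeSpectrum.comap_comp_apply, ← PrimeSpectrum.comap_comp_apply, hcomm']

/-- Polynomial rings over an integrally closed domain are integrally closed. -/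
theorem isIntegrallyClosed_mvPolynomial (σ : Type*) (R₀ : Type*) [CommRing R₀] [IsDomain R₀]
    [IsIntegrallyClosed R₀] : IsIntegrallyClosed (MvPolynomial σ R₀) := by
  letI := MvPolynomial.algebraMvPolynomial (σ := σ) (R := R₀) (S := FractionRing R₀)
  have hinj : Function.Injective (algebraMap (MvPolynomial σ R₀) (MvPolynomial σ (FractionRing R₀))) :=
    MvPolynomial.map_injective _ (IsFractionRing.injective _ _)
  haveI : FaithfulSMul (MvPolynomial σ R₀) (MvPolynomial σ (FractionRing R₀)) :=
    (faithfulSMul_iff_algebraMap_injective _ _).mpr hinj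
  haveI : IsIntegrallyClosed (MvPolynomial σ (FractionRing R₀)) :=
    UniqueFactorizationMonoid.instIsIntegrallyClosed
  suffices IsIntegrallyClosedIn (MvPolynomial σ R₀) (MvPolynomial σ (FractionRing R₀)) from
    .of_isIntegrallyClosed_of_isIntegrallyClosedIn _ (MvPolynomial σ (FractionRing R₀))
  refine isIntegrallyClosedIn_iff.mpr ⟨hinj, ?_⟩
  intro p hp
  rw [MvPolynomial.isIntegral_iff_isIntegral_coeff] at hp
  change p ∈ Set.range (MvPolynomial.map (algebraMap R₀ (FractionRing R₀)))
  rw [MvPolynomial.mem_range_map_iff_coeffs_subset]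
  intro c hc
  obtain ⟨n, -, rfl⟩ := MvPolynomial.mem_coeffs_iff.mp hc
  exact IsIntegrallyClosed.isIntegral_iff.mp (hp n)

/-- Polynomial extension of an integral ring map is integral. -/
theorem isIntegral_map {D D' : Type*} [CommRing D] [CommRing D'] (j : D →+* D')
    (hint : j.IsIntegral) (σ : Type*) :
    (MvPolynomial.map j : MvPolynomial σ D →+* MvPolynomial σ D').IsIntegral := by
  letI := j.toAlgebra
  letI := MvPolynomial.algebraMvPolynomial (σ := σ) (R := D) (S := D')
  intro f
  exact (MvPolynomial.isIntegral_iff_isIntegral_coeff (R := D) (S := D') (f := f)).mpr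
    (fun n => hint _)

/-- Polynomial extensions of a radicial integral ring map are injective on spectra. -/
theorem comap_map_injective_of_radicial {D D' : Type u} [CommRing D] [CommRing D'] (j : D →+* D')
    (hint : j.IsIntegral) (hrad : Radicial j) (σ : Type u) :
    Function.Injective (PrimeSpectrum.comap
      (MvPolynomial.map j : MvPolynomial σ D →+* MvPolynomial σ D')) := by
  intro Q₁ Q₂ h
  have hψ := isIntegral_map j hint σ
  obtain ⟨g₁, hg₁, hk₁⟩ := exists_hom_algebraicClosure_ker (MvPolynomial.map j) hψ
    (PrimeSpectrum.comap (MvPolynomial.map j) Q₁).asIdeal Q₁.asIdeal rfl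
  obtain ⟨g₂, hg₂, hk₂⟩ := exists_hom_algebraicClosure_ker (MvPolynomial.map j) hψ
    (PrimeSpectrum.comap (MvPolynomial.map j) Q₁).asIdeal Q₂.asIdeal
    (congrArg PrimeSpectrum.asIdeal h)
  have hg : g₁ = g₂ := by
    apply MvPolynomial.ringHom_ext'
    · apply hrad
      ext x
      have e1 := RingHom.congr_fun hg₁ (MvPolynomial.C x)
      have e2 := RingHom.congr_fun hg₂ (MvPolynomial.C x)
      simp only [RingHom.comp_apply, MvPolynomial.map_C] at e1 e2 ⊢
      rw [e1, e2]
    · intro i
      have e1 := RingHom.congr_fun hg₁ (MvPolynomial.X i)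
      have e2 := RingHom.congr_fun hg₂ (MvPolynomial.X i)
      simp only [RingHom.comp_apply, MvPolynomial.map_X] at e1 e2
      rw [e1, e2]
  ext1
  rw [← hk₁, ← hk₂, hg]

end Groth.Agent.Lib.Helper6.Chev
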