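import Mathlib
import Groth.Agent.Lib.Helper6.Chev2

/-!
# Chevalley's criterion, part 3: going down for `A[T] → C[T]`, `C` integral over a ring `A`
with geometrically unibranch local rings, minimal primes of `C` lying over minimal primes of `A`
-/

set_option autoImplicit false
universe u

namespace Groth.Agent.Lib.Helper6.Chev

open Groth.Agent.Lib.Helper6.GU Groth.Agent.Lib.Helper6.UB

/-- Domain case. -/
theorem generalizingMap_comap_map_of_radicial {D E K : Type u} [CommRing D] [IsDomain D]
    [CommRing E] [IsDomain E] [Algebra D E] [FaithfulSMul D E] [Algebra.IsIntegral D E]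
    [Field K] [Algebra D K] [IsFractionRing D K]
    (hrad : Radicial (algebraMap D (integralClosure D K))) (σ : Type u) :
    GeneralizingMap (PrimeSpectrum.comap
      (MvPolynomial.map (algebraMap D E) : MvPolynomial σ D →+* MvPolynomial σ E)) := by
  let KE := FractionRing E
  have hinjDKE : Function.Injective (algebraMap D KE) := by
    rw [IsScalarTower.algebraMap_eq D E KE]
    exact (IsFractionRing.injective E KE).comp (FaithfulSMul.algebraMap_injective D E)
  let κ₀ : K →+* KE := IsFractionRing.lift hinjDKE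
  let κ : integralClosure D K →+* KE := κ₀.comp (integralClosure D K).val.toRingHom
  have hκinj : Function.Injective κ := κ₀.injective.comp Subtype.val_injective
  have hκ : κ.comp (algebraMap D (integralClosure D K)) =
      (algebraMap E KE).comp (algebraMap D E) := by
    ext x
    change κ₀ (algebraMap D K x) = _
    rw [IsFractionRing.lift_algebraMap, RingHom.comp_apply, ← IsScalarTower.algebraMap_apply D E KE]
  haveI : IsIntegrallyClosed (integralClosure D K) :=
    integralClosure.isIntegrallyClosedOfFiniteExtension K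
  haveI := isIntegrallyClosed_mvPolynomial σ (integralClosure D K)
  refine generalizingMap_comap_of_square (MvPolynomial.map (algebraMap D E))
    (MvPolynomial.map (algebraMap D (integralClosure D K))) (MvPolynomial.map κ)
    (MvPolynomial.map (algebraMap E KE)) ?_ ?_ ?_ ?_ ?_ ?_ ?_
  · refine RingHom.ext fun p => ?_
    simp only [RingHom.comp_apply, MvPolynomial.map_map, hκ]
  · exact isIntegral_map _ (algebraMap_isIntegral_iff.mpr inferInstance) σ
  · exact isIntegral_map _ isIntegral_algebraMap_integralClosure σ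
  · exact MvPolynomial.map_injective _ injective_algebraMap_integralClosure
  · exact MvPolynomial.map_injective _ hκinj
  · exact MvPolynomial.map_injective _ (IsFractionRing.injective E KE)
  · exact comap_map_injective_of_radicial _ isIntegral_algebraMap_integralClosure hrad σ

set_option synthInstance.maxHeartbeats 400000 in
set_option maxHeartbeats 1000000 in
/-- General case. -/
theorem generalizingMap_comap_map_of_isGeomUnibranch {A C : Type u} [CommRing A] [CommRing C]
    [Algebra A C] [Algebra.IsIntegral A C]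
    (hGU : ∀ (p : Ideal A) [p.IsPrime], CAlg2.IsGeomUnibranch (Localization.AtPrime p))
    (hmin : ∀ q ∈ minimalPrimes C, q.comap (algebraMap A C) ∈ minimalPrimes A) (σ : Type u) :
    GeneralizingMap (PrimeSpectrum.comap
      (MvPolynomial.map (algebraMap A C) : MvPolynomial σ A →+* MvPolynomial σ C)) := by
  intro Q' P hP
  obtain ⟨q₀, hq₀, hq₀le⟩ := Ideal.exists_minimalPrimes_le
    (bot_le : ⊥ ≤ Q'.asIdeal.comap (MvPolynomial.C : C →+* MvPolynomial σ C))
  haveI : q₀.IsPrime := hq₀.1.1
  obtain ⟨p₀, hp₀⟩ : ∃ p₀ : Ideal A, p₀ = q₀.comap (algebraMap A C) := ⟨_, rfl⟩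
  have hp₀min : p₀ ∈ minimalPrimes A := hp₀ ▸ hmin q₀ hq₀
  haveI : p₀.IsPrime := hp₀min.1.1
  haveI : q₀.LiesOver p₀ := ⟨hp₀⟩
  have hle : P.asIdeal ≤ (PrimeSpectrum.comap (MvPolynomial.map (algebraMap A C)) Q').asIdeal :=
    (PrimeSpectrum.le_iff_specializes _ _).mpr hP
  have hpp' : P.asIdeal.comap (MvPolynomial.C : A →+* MvPolynomial σ A) ≤
      (PrimeSpectrum.comap (MvPolynomial.map (algebraMap A C)) Q').asIdeal.comap
        (MvPolynomial.C : A →+* MvPolynomial σ A) := Ideal.comap_mono hle
  have hp₀p' : p₀ ≤ (PrimeSpectrum.comap (MvPolynomial.map (algebraMap A C)) Q').asIdeal.comap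
        (MvPolynomial.C : A →+* MvPolynomial σ A) := by
    intro a ha
    change MvPolynomial.map (algebraMap A C) (MvPolynomial.C a) ∈ Q'.asIdeal
    rw [MvPolynomial.map_C]
    rw [hp₀] at ha
    exact hq₀le ha
  obtain ⟨p₁, hp₁, hp₁le⟩ := Ideal.exists_minimalPrimes_le
    (bot_le : ⊥ ≤ P.asIdeal.comap (MvPolynomial.C : A →+* MvPolynomial σ A))
  haveI : ((PrimeSpectrum.comap (MvPolynomial.map (algebraMap A C)) Q').asIdeal.comap
        (MvPolynomial.C : A →+* MvPolynomial σ A)).IsPrime := Ideal.IsPrime.comap _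
  have h01 : p₀ = p₁ := minimalPrime_unique_of_isGeomUnibranch _ (hGU _) p₀ p₁ hp₀min hp₁ hp₀p'
    (hp₁le.trans hpp')
  have hp₀p : p₀ ≤ P.asIdeal.comap (MvPolynomial.C : A →+* MvPolynomial σ A) := h01 ▸ hp₁le
  -- quotients
  let πA : MvPolynomial σ A →+* MvPolynomial σ (A ⧸ p₀) := MvPolynomial.map (Ideal.Quotient.mk p₀)
  let πC : MvPolynomial σ C →+* MvPolynomial σ (C ⧸ q₀) := MvPolynomial.map (Ideal.Quotient.mk q₀)
  have hπA : Function.Surjective πA := MvPolynomial.map_surjective _ Ideal.Quotient.mk_surjective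
  have hπC : Function.Surjective πC := MvPolynomial.map_surjective _ Ideal.Quotient.mk_surjective
  have hsq : (MvPolynomial.map (algebraMap (A ⧸ p₀) (C ⧸ q₀))).comp πA =
      πC.comp (MvPolynomial.map (algebraMap A C)) := by
    refine RingHom.ext fun f => ?_
    simp only [RingHom.comp_apply, πA, πC, MvPolynomial.map_map]
    congr 1
  have hPr : P ∈ Set.range (PrimeSpectrum.comap πA) := by
    rw [range_comap_of_surjective _ _ hπA, PrimeSpectrum.mem_zeroLocus,
      SetLike.coe_subset_coe, MvPolynomial.ker_map, Ideal.mk_ker, Ideal.map_le_iff_le_comap]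
    exact hp₀p
  have hQr : Q' ∈ Set.range (PrimeSpectrum.comap πC) := by
    rw [range_comap_of_surjective _ _ hπC, PrimeSpectrum.mem_zeroLocus,
      SetLike.coe_subset_coe, MvPolynomial.ker_map, Ideal.mk_ker, Ideal.map_le_iff_le_comap]
    exact hq₀le
  obtain ⟨Pb, rfl⟩ := hPr
  obtain ⟨Qb, rfl⟩ := hQr
  have hP' : Pb ⤳ PrimeSpectrum.comap (MvPolynomial.map (algebraMap (A ⧸ p₀) (C ⧸ q₀))) Qb := by
    rw [← (PrimeSpectrum.isClosedEmbedding_comap_of_surjective _ πA hπA).isInducing.specializes_iff,
      ← PrimeSpectrum.comap_comp_apply, hsq, PrimeSpectrum.comap_comp_apply]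
    exact hP
  have hrad := radicial_quotient_minimalPrime hGU p₀ hp₀min (FractionRing (A ⧸ p₀))
  obtain ⟨Q₁, hQ₁, hQ₁P⟩ := generalizingMap_comap_map_of_radicial (E := C ⧸ q₀) hrad σ hP'
  refine ⟨PrimeSpectrum.comap πC Q₁, hQ₁.map (PrimeSpectrum.continuous_comap πC), ?_⟩
  rw [← PrimeSpectrum.comap_comp_apply, ← hsq, PrimeSpectrum.comap_comp_apply, hQ₁P]

end Groth.Agent.Lib.Helper6.Chev
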