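import Mathlib
import Groth.Agent.Lib.Helper6.Chev3

/-!
# Chevalley's criterion, part 4: universal openness criterion via polynomial rings, and the finite
case
-/

set_option autoImplicit false
universe u

open TensorProduct CategoryTheory AlgebraicGeometry Limits

namespace Groth.Agent.Lib.Helper6.Chev

open Groth.Agent.Lib.Helper6.GU Groth.Agent.Lib.Helper6.UB

attribute [local instance] MvPolynomial.algebraMvPolynomial in
/-- Openness of `Spec C[T] → Spec A[T]` in the finite case. -/
theorem isOpenMap_comap_map {A C : Type u} [CommRing A] [IsNoetherianRing A] [CommRing C]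
    [Algebra A C] [Module.Finite A C]
    (hGU : ∀ (p : Ideal A) [p.IsPrime], CAlg2.IsGeomUnibranch (Localization.AtPrime p))
    (hmin : ∀ q ∈ minimalPrimes C, q.comap (algebraMap A C) ∈ minimalPrimes A)
    (σ : Type u) [Finite σ] :
    IsOpenMap (PrimeSpectrum.comap
      (MvPolynomial.map (algebraMap A C) : MvPolynomial σ A →+* MvPolynomial σ C)) := by
  haveI : Algebra.HasGoingDown (MvPolynomial σ A) (MvPolynomial σ C) :=
    Algebra.HasGoingDown.iff_generalizingMap_primeSpectrumComap.mpr
      (generalizingMap_comap_map_of_isGeomUnibranch hGU hmin σ)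
  haveI : Algebra.FiniteType A (MvPolynomial σ C) := Algebra.FiniteType.trans (S := C)
    inferInstance inferInstance
  haveI : Algebra.FiniteType (MvPolynomial σ A) (MvPolynomial σ C) :=
    Algebra.FiniteType.of_restrictScalars_finiteType A _ _
  haveI : Algebra.FinitePresentation (MvPolynomial σ A) (MvPolynomial σ C) :=
    Algebra.FinitePresentation.of_finiteType.mp inferInstance
  exact PrimeSpectrum.isOpenMap_comap_of_hasGoingDown_of_finitePresentation

attribute [local instance] MvPolynomial.algebraMvPolynomial in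
set_option maxHeartbeats 1000000 in
/-- Universal openness can be tested on polynomial rings (ring form). -/
theorem isOpenMap_comap_tensor {A C R : Type u} [CommRing A] [CommRing C] [CommRing R]
    [Algebra A C] [Algebra A R]
    (H : ∀ (σ : Type u) [Finite σ], IsOpenMap (PrimeSpectrum.comap
      (MvPolynomial.map (algebraMap A C) : MvPolynomial σ A →+* MvPolynomial σ C))) :
    IsOpenMap (PrimeSpectrum.comap (algebraMap R (R ⊗[A] C))) := by
  rw [PrimeSpectrum.isBasis_basic_opens.isOpenMap_iff]
  rintro _ ⟨_, ⟨g, rfl⟩, rfl⟩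
  obtain ⟨s, hs⟩ := TensorProduct.exists_finset g
  let π : MvPolynomial (↥s) A →ₐ[A] R := MvPolynomial.aeval (fun i => i.1.1)
  let ρ : MvPolynomial (↥s) C →+* R ⊗[A] C :=
    MvPolynomial.eval₂Hom (Algebra.TensorProduct.includeRight : C →ₐ[A] R ⊗[A] C).toRingHom
      (fun i => i.1.1 ⊗ₜ[A] (1 : C))
  let g₀ : MvPolynomial (↥s) C := ∑ i : ↥s, MvPolynomial.X i * MvPolynomial.C i.1.2
  have hρg : ρ g₀ = g := by
    simp only [ρ, g₀, map_sum, map_mul, MvPolynomial.eval₂Hom_X', MvPolynomial.eval₂Hom_C]
    rw [hs, ← Finset.sum_coe_sort s]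
    refine Finset.sum_congr rfl fun i _ => ?_
    simp [Algebra.TensorProduct.tmul_mul_tmul]
  have hright : IsPullback
      (Spec.map (CommRingCat.ofHom (algebraMap C (MvPolynomial (↥s) C))))
      (Spec.map (CommRingCat.ofHom (algebraMap (MvPolynomial (↥s) A) (MvPolynomial (↥s) C))))
      (Spec.map (CommRingCat.ofHom (algebraMap A C)))
      (Spec.map (CommRingCat.ofHom (algebraMap A (MvPolynomial (↥s) A)))) :=
    isPullback_SpecMap_of_isPushout _ _ _ _
      (CommRingCat.isPushout_of_isPushout A C (MvPolynomial (↥s) A) (MvPolynomial (↥s) C))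
  have hbig : IsPullback
      (Spec.map (CommRingCat.ofHom
        (Algebra.TensorProduct.includeRight : C →ₐ[A] R ⊗[A] C).toRingHom))
      (Spec.map (CommRingCat.ofHom (algebraMap R (R ⊗[A] C))))
      (Spec.map (CommRingCat.ofHom (algebraMap A C)))
      (Spec.map (CommRingCat.ofHom (algebraMap A R))) :=
    (isPullback_SpecMap_of_isPushout _ _ _ _ (CommRingCat.isPushout_tensorProduct A R C)).flip
  have e1 : Spec.map (CommRingCat.ofHom ρ) ≫
      Spec.map (CommRingCat.ofHom (algebraMap C (MvPolynomial (↥s) C))) =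
      Spec.map (CommRingCat.ofHom
        (Algebra.TensorProduct.includeRight : C →ₐ[A] R ⊗[A] C).toRingHom) := by
    rw [← Spec.map_comp, ← CommRingCat.ofHom_comp]
    congr 2
    ext c
    simp [ρ]
  have e2 : Spec.map (CommRingCat.ofHom π.toRingHom) ≫
      Spec.map (CommRingCat.ofHom (algebraMap A (MvPolynomial (↥s) A))) =
      Spec.map (CommRingCat.ofHom (algebraMap A R)) := by
    rw [← Spec.map_comp, ← CommRingCat.ofHom_comp]
    congr 2
    ext a
    simp [π]
  have e3 : Spec.map (CommRingCat.ofHom ρ) ≫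
      Spec.map (CommRingCat.ofHom (algebraMap (MvPolynomial (↥s) A) (MvPolynomial (↥s) C))) =
      Spec.map (CommRingCat.ofHom (algebraMap R (R ⊗[A] C))) ≫
        Spec.map (CommRingCat.ofHom π.toRingHom) := by
    rw [← Spec.map_comp, ← Spec.map_comp, ← CommRingCat.ofHom_comp, ← CommRingCat.ofHom_comp]
    congr 2
    have hm : algebraMap (MvPolynomial (↥s) A) (MvPolynomial (↥s) C) =
        MvPolynomial.map (algebraMap A C) := rfl
    rw [hm]
    apply MvPolynomial.ringHom_ext
    · intro a
      simp only [RingHom.comp_apply, MvPolynomial.map_C]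
      simp [ρ, π, Algebra.TensorProduct.algebraMap_apply]
    · intro i
      simp only [RingHom.comp_apply, MvPolynomial.map_X]
      simp [ρ, π]
  have hleft : IsPullback (Spec.map (CommRingCat.ofHom ρ))
      (Spec.map (CommRingCat.ofHom (algebraMap R (R ⊗[A] C))))
      (Spec.map (CommRingCat.ofHom (algebraMap (MvPolynomial (↥s) A) (MvPolynomial (↥s) C))))
      (Spec.map (CommRingCat.ofHom π.toRingHom)) := by
    refine IsPullback.of_right ?_ e3 hright
    rw [e1, e2]
    exact hbig
  have key := Scheme.image_preimage_eq_of_isPullback hleft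
    (PrimeSpectrum.basicOpen g₀ : Set (PrimeSpectrum (MvPolynomial (↥s) C)))
  have h1 : (PrimeSpectrum.comap (algebraMap R (R ⊗[A] C))) ''
      (PrimeSpectrum.basicOpen g : Set (PrimeSpectrum (R ⊗[A] C))) =
      (PrimeSpectrum.comap π.toRingHom) ⁻¹' ((PrimeSpectrum.comap
        (MvPolynomial.map (algebraMap A C) : MvPolynomial (↥s) A →+* MvPolynomial (↥s) C)) ''
        (PrimeSpectrum.basicOpen g₀ : Set (PrimeSpectrum (MvPolynomial (↥s) C)))) := by
    rw [← hρg, ← PrimeSpectrum.comap_basicOpen]
    exact key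
  rw [h1]
  exact ((H (↥s)) _ (PrimeSpectrum.basicOpen g₀).2).preimage (PrimeSpectrum.continuous_comap _)

end Groth.Agent.Lib.Helper6.Chev
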