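import Mathlib
import Groth.Agent.Lib.Helper6.Chev4

/-!
# Chevalley's criterion, part 5: universal openness of `Spec C → Spec A` in the finite case
-/

set_option autoImplicit false
universe u

open TensorProduct CategoryTheory AlgebraicGeometry Limits

namespace Groth.Agent.Lib.Helper6.Chev

open Groth.Agent.Lib.Helper6.GU Groth.Agent.Lib.Helper6.UB

set_option maxHeartbeats 1000000 in
/-- Universal openness of an affine morphism can be tested on polynomial rings. -/
theorem universallyOpen_SpecMap_of_isOpenMap {A C : CommRingCat.{u}} (φ : A ⟶ C)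
    (H : ∀ (σ : Type u) [Finite σ], IsOpenMap (PrimeSpectrum.comap
      (MvPolynomial.map φ.hom : MvPolynomial σ A →+* MvPolynomial σ C))) :
    UniversallyOpen (Spec.map φ) := by
  refine ⟨MorphismProperty.universally_mk' _ _ fun {T} g _ ↦ ?_⟩
  wlog hT : ∃ R, T = Spec R generalizing T
  · refine (IsZariskiLocalAtTarget.iff_of_openCover (P := topologically IsOpenMap)
      T.affineCover).mpr fun i ↦ ?_
    refine (MorphismProperty.cancel_left_of_respectsIso _
      ((pullbackRightPullbackFstIso ..).inv ≫ (pullbackSymmetry ..).hom) _).mp ?_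
    simpa [Scheme.Cover.pullbackHom] using! this _ _ ⟨_, rfl⟩
  obtain ⟨R, rfl⟩ := hT
  obtain ⟨ψ, rfl⟩ := Spec.map_surjective g
  algebraize [φ.hom, ψ.hom]
  refine (MorphismProperty.cancel_left_of_respectsIso _ (pullbackSpecIso A R C).inv _).mp ?_
  convert_to! topologically _ (Spec.map <| CommRingCat.ofHom (algebraMap R (TensorProduct A R C)))
  · exact pullbackSpecIso_inv_fst ..
  exact isOpenMap_comap_tensor (A := A) (C := C) (R := R) H

end Groth.Agent.Lib.Helper6.Chev

namespace Groth.Agent.Lib.Helper6.Chev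

open Groth.Agent.Lib.Helper6.GU Groth.Agent.Lib.Helper6.UB

/-- Finite case of Chevalley's criterion, ring form. -/
theorem universallyOpen_SpecMap_of_finite {A C : CommRingCat.{u}} (φ : A ⟶ C)
    [IsNoetherianRing A] (hfin : φ.hom.Finite)
    (hGU : ∀ (p : Ideal A) [p.IsPrime], CAlg2.IsGeomUnibranch (Localization.AtPrime p))
    (hmin : ∀ q ∈ minimalPrimes C, q.comap φ.hom ∈ minimalPrimes A) :
    UniversallyOpen (Spec.map φ) := by
  algebraize [φ.hom]
  exact universallyOpen_SpecMap_of_isOpenMap φ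
    (fun σ _ => isOpenMap_comap_map (A := A) (C := C) hGU hmin σ)

/-- From the intrinsic form for the reduction to the prelude's definition. -/
theorem isGeomUnibranch_of_gu'_red (B : Type u) [CommRing B] [IsLocalRing B]
    (hdom : IsDomain (CAlg2.red B))
    (h : GU' (CAlg2.red B) (FractionRing (CAlg2.red B))) : CAlg2.IsGeomUnibranch B := by
  obtain ⟨hloc, q, hq, hres⟩ := h
  haveI : IsLocalRing (CAlg2.normRed B) := hloc
  refine ⟨⟨hdom, hloc⟩, ?_⟩
  intro m' hm'
  obtain rfl : m' = IsLocalRing.maximalIdeal (CAlg2.normRed B) := IsLocalRing.eq_maximalIdeal hm'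
  intro x
  obtain ⟨y, rfl⟩ := Ideal.Quotient.mk_surjective x
  obtain ⟨n, o, hno⟩ := hres y
  obtain ⟨b, rfl⟩ := Ideal.Quotient.mk_surjective o
  have hmem0 : y ^ q ^ n - algebraMap (CAlg2.red B) (CAlg2.normRed B) (Ideal.Quotient.mk _ b) ∈
      IsLocalRing.maximalIdeal (CAlg2.normRed B) := hno
  have hmem : (Ideal.Quotient.mk (IsLocalRing.maximalIdeal (CAlg2.normRed B)) y) ^ q ^ n =
      Ideal.Quotient.mk (IsLocalRing.maximalIdeal (CAlg2.normRed B))
        (algebraMap (CAlg2.red B) (CAlg2.normRed B) (Ideal.Quotient.mk _ b)) :=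
    (RingHom.map_pow _ _ _).symm.trans (Ideal.Quotient.eq.mpr hmem0)
  rcases hq with rfl | ⟨hqp, hqu⟩
  · refine ⟨0, b, ?_⟩
    rw [pow_zero, pow_one]
    rw [one_pow, pow_one] at hmem
    exact hmem.symm
  · have hq0 : ((q : ℕ) : CAlg2.normRed B ⧸ IsLocalRing.maximalIdeal (CAlg2.normRed B)) = 0 := by
      have e : Ideal.Quotient.mk (IsLocalRing.maximalIdeal (CAlg2.normRed B))
          ((q : ℕ) : CAlg2.normRed B) = ((q : ℕ) : CAlg2.normRed B ⧸ _) :=
        map_natCast (Ideal.Quotient.mk (IsLocalRing.maximalIdeal (CAlg2.normRed B))) q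
      rw [← e]
      apply Ideal.Quotient.eq_zero_iff_mem.mpr
      rw [IsLocalRing.mem_maximalIdeal]
      exact hqu
    haveI : Fact q.Prime := ⟨hqp⟩
    haveI : Nontrivial (CAlg2.normRed B ⧸ IsLocalRing.maximalIdeal (CAlg2.normRed B)) :=
      Ideal.Quotient.nontrivial_iff.mpr hm'.ne_top
    haveI : CharP (CAlg2.normRed B ⧸ IsLocalRing.maximalIdeal (CAlg2.normRed B)) q :=
      (CharP.charP_iff_prime_eq_zero hqp).mpr hq0
    have e : ringExpChar (CAlg2.normRed B ⧸ IsLocalRing.maximalIdeal (CAlg2.normRed B)) = q :=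
      ringExpChar.eq _ q
    refine ⟨n, b, ?_⟩
    rw [e]
    exact hmem.symm

/-- Geometric unibranchness is invariant under ring isomorphisms (general local rings). -/
theorem isGeomUnibranch_of_ringEquiv' {A B : Type u} [CommRing A] [CommRing B] [IsLocalRing A]
    [IsLocalRing B] (e : A ≃+* B) (h : CAlg2.IsGeomUnibranch A) : CAlg2.IsGeomUnibranch B := by
  have hnil : nilradical B = Ideal.map (e : A →+* B) (nilradical A) := by
    apply le_antisymm
    · intro x hx
      have h1 : e.symm x ∈ nilradical A := by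
        rw [mem_nilradical] at hx ⊢
        exact hx.map e.symm
      have := Ideal.mem_map_of_mem (e : A →+* B) h1
      simpa using this
    · rw [Ideal.map_le_iff_le_comap]
      intro x hx
      rw [Ideal.mem_comap, mem_nilradical]
      exact (mem_nilradical.mp hx).map (e : A →+* B)
  let ē : CAlg2.red A ≃+* CAlg2.red B := Ideal.quotientEquiv (nilradical A) (nilradical B) e hnil
  haveI : IsDomain (CAlg2.red A) := h.1.1
  haveI hdomB : IsDomain (CAlg2.red B) := ē.toMulEquiv.isDomain_iff.mp inferInstance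
  refine isGeomUnibranch_of_gu'_red B hdomB ?_
  refine gu'_of_equiv ē (IsFractionRing.ringEquivOfRingEquiv ē) ?_
    (gu'_red_of_isGeomUnibranch A h)
  intro o
  exact IsFractionRing.ringEquivOfRingEquiv_algebraMap ē o

end Groth.Agent.Lib.Helper6.Chev
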