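import Mathlib
import Groth.Agent.Lib.Helper6.Chev5
import Groth.Agent.Lib.Helper21.OpenNbhd2

/-!
# Chevalley's criterion, part 6: locally quasi-finite morphisms over a geometrically unibranch
base whose components dominate are universally open
-/

set_option autoImplicit false
universe u

open TensorProduct CategoryTheory AlgebraicGeometry Limits

namespace Groth.Agent.Lib.Helper6.Chev

open Groth.Agent.Lib.Helper6.GU Groth.Agent.Lib.Helper6.UB

/-- A property local at the source holds as soon as it holds on an open immersion through each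
point. -/
theorem of_forall_exists_openImmersion (P : MorphismProperty Scheme.{u})
    [IsZariskiLocalAtSource P] {X Y : Scheme.{u}} (f : X ⟶ Y)
    (H : ∀ x : X, ∃ (W : Scheme.{u}) (j : W ⟶ X), IsOpenImmersion j ∧ x ∈ Set.range j ∧
      P (j ≫ f)) : P f := by
  choose W j hj hx hP using H
  refine IsZariskiLocalAtSource.of_iSup_eq_top (fun x => (j x).opensRange) ?_ fun x => ?_
  · rw [eq_top_iff]
    intro x _
    exact TopologicalSpace.Opens.mem_iSup.mpr ⟨x, hx x⟩
  · rw [← IsOpenImmersion.isoOfRangeEq_inv_fac (j x) (Scheme.Opens.ι _)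
      (congr_arg TopologicalSpace.Opens.carrier (j x).opensRange.opensRange_ι.symm),
      Category.assoc, P.cancel_left_of_respectsIso]
    exact hP x

/-- Geometric unibranchness of the localizations of the coordinate ring of an affine open. -/
theorem isGeomUnibranch_localization_of_stalks {Y : Scheme.{u}}
    (hY : ∀ y : Y, CAlg2.IsGeomUnibranch (Y.presheaf.stalk y))
    (V : Y.Opens) (hV : IsAffineOpen V) (p : Ideal Γ(Y, V)) [hp : p.IsPrime] :
    CAlg2.IsGeomUnibranch (Localization.AtPrime p) := by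
  let y : PrimeSpectrum Γ(Y, V) := ⟨p, hp⟩
  have hy : hV.fromSpec y ∈ V := (hV.isoSpec.inv _).2
  letI : Algebra Γ(Y, V) (Y.presheaf.stalk (hV.fromSpec y)) :=
    TopCat.Presheaf.algebra_section_stalk Y.presheaf ⟨hV.fromSpec y, hy⟩
  haveI : IsLocalization.AtPrime (Y.presheaf.stalk (hV.fromSpec y)) p :=
    hV.isLocalization_stalk' y hy
  let e : Y.presheaf.stalk (hV.fromSpec y) ≃+* Localization.AtPrime p :=
    (IsLocalization.algEquiv p.primeCompl (Y.presheaf.stalk (hV.fromSpec y))
      (Localization.AtPrime p)).toRingEquiv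
  exact isGeomUnibranch_of_ringEquiv' e (hY _)


open Groth.Agent.Lib.Helper21.OpenNbhd in
/-- A minimal prime of the coordinate ring of an affine open is the generic point of an
irreducible component. -/
theorem closure_mem_irreducibleComponents_of_minimalPrime {X : Scheme.{u}} (U : X.Opens)
    (hU : IsAffineOpen U) (Q : Ideal Γ(X, U)) [hQp : Q.IsPrime] (hQ : Q ∈ minimalPrimes Γ(X, U)) :
    closure {hU.fromSpec ⟨Q, hQp⟩} ∈ irreducibleComponents X := by
  rw [closure_singleton_mem_irreducibleComponents_iff]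
  intro z hz
  have hξU : hU.fromSpec ⟨Q, hQp⟩ ∈ U := (hU.isoSpec.inv _).2
  have hzU : z ∈ U := hz.mem_open U.isOpen hξU
  obtain ⟨Q₁, rfl⟩ : z ∈ Set.range hU.fromSpec := by
    rw [hU.range_fromSpec]; exact hzU
  have h1 : Q₁ ⤳ ⟨Q, hQp⟩ := (hU.fromSpec.isOpenEmbedding.isInducing.specializes_iff).mp hz
  have hle : Q₁.asIdeal ≤ Q := (PrimeSpectrum.le_iff_specializes _ _).mpr h1
  have hge : Q ≤ Q₁.asIdeal := hQ.2 ⟨Q₁.2, bot_le⟩ hle
  have : Q₁ = ⟨Q, hQp⟩ := PrimeSpectrum.ext (le_antisymm hle hge)
  rw [this]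

open Groth.Agent.Lib.Helper21.OpenNbhd in
/-- The generic point of an irreducible component gives a minimal prime. -/
theorem minimalPrime_of_closure_mem_irreducibleComponents {Y : Scheme.{u}} (V : Y.Opens)
    (hV : IsAffineOpen V) (p : Ideal Γ(Y, V)) [hp : p.IsPrime]
    (h : closure {hV.fromSpec ⟨p, hp⟩} ∈ irreducibleComponents Y) : p ∈ minimalPrimes Γ(Y, V) := by
  rw [closure_singleton_mem_irreducibleComponents_iff] at h
  refine ⟨⟨hp, bot_le⟩, fun b hb hle => ?_⟩
  have hsp : (⟨b, hb.1⟩ : PrimeSpectrum Γ(Y, V)) ⤳ ⟨p, hp⟩ :=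
    (PrimeSpectrum.le_iff_specializes _ _).mp hle
  have h1 := h _ (hsp.map hV.fromSpec.continuous)
  have h2 := hV.fromSpec.isOpenEmbedding.injective h1
  exact (congrArg PrimeSpectrum.asIdeal h2).ge

end Groth.Agent.Lib.Helper6.Chev
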