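import Mathlib
import Groth.Agent.Lib.Helper9.GenExact

/-!
# Spreading out regularity of an element on the fibres (helper6)

If multiplication by `h₀` is injective on the generic fibre of a finite type algebra over a domain,
then it is injective on the fibres over a nonempty open.
-/

set_option autoImplicit false
set_option linter.style.haveILetI false
set_option linter.unusedSectionVars false
universe u
open TensorProduct

namespace Groth.Agent.Lib.Helper6.FibDense

open Groth.Agent.Lib.Helper9.GenExact Groth.Agent.Lib.Helper25.GFMod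

lemma mk_eq_zero_iff' {R : Type*} [CommRing R] (S : Submonoid R) {M : Type*} [AddCommGroup M]
    [Module R M] (z : M) (s : S) :
    LocalizedModule.mk z s = 0 ↔ ∃ u : S, u • z = 0 := by
  rw [← LocalizedModule.zero_mk s, LocalizedModule.mk_eq]
  constructor
  · rintro ⟨u, hu⟩
    refine ⟨u * s, ?_⟩
    rw [smul_zero, smul_zero] at hu
    rw [mul_smul]
    exact hu
  · rintro ⟨u, hu⟩
    refine ⟨u, ?_⟩
    rw [smul_zero, smul_zero, smul_comm, hu, smul_zero]

theorem exists_forall_injective_lTensor_mulLeft {R : Type u} [CommRing R] [IsDomain R]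
    {C : Type u} [CommRing C] [Algebra R C] [Algebra.FiniteType R C] (h₀ : C)
    (L : Type u) [Field L] [Algebra R L] (hL : Function.Injective (algebraMap R L))
    (hgen : Function.Injective (LinearMap.lTensor L (LinearMap.mulLeft R h₀))) :
    ∃ f : R, f ≠ 0 ∧ ∀ (κ : Type u) [Field κ] [Algebra R κ], algebraMap R κ f ≠ 0 →
      Function.Injective (LinearMap.lTensor κ (LinearMap.mulLeft R h₀)) := by
  let v : C →ₗ[C] C := LinearMap.mulLeft C h₀
  obtain ⟨g1, -, hg1, hGF1⟩ := exists_GF R C C 1 one_ne_zero
  obtain ⟨f, hd, hf, hGF2⟩ := exists_GF R C (C ⧸ LinearMap.range v) g1 hg1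
  have hfreeC := (hGF1 f hd).1
  have hfreeN := (hGF2 f dvd_rfl).1
  refine ⟨f, hf, ?_⟩
  set S := Submonoid.powers f with hS
  have hflatC : Module.Flat R (LocalizedModule S C) := by
    have : Module.Flat (Localization.Away f) (LocalizedModule S C) := inferInstance
    exact Module.Flat.trans R (Localization.Away f) _
  have hflatN : Module.Flat R (LocalizedModule S (C ⧸ LinearMap.range v)) := by
    have : Module.Flat (Localization.Away f) (LocalizedModule S (C ⧸ LinearMap.range v)) :=
      inferInstance
    exact Module.Flat.trans R (Localization.Away f) _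
  -- Step 1: the kernel of `h₀` dies in `C_f`
  have hT : ∀ z : C, h₀ * z = 0 → ∃ m : ℕ, f ^ m • z = 0 := by
    intro z hz
    have h1 : (1 : L) ⊗ₜ[R] z = 0 := by
      apply hgen
      rw [LinearMap.lTensor_tmul, map_zero]
      change (1 : L) ⊗ₜ[R] (h₀ * z) = 0
      rw [hz, tmul_zero]
    have h2 : (1 : L) ⊗ₜ[R] (LocalizedModule.mkLinearMap S C z) = 0 := by
      have := congrArg (LinearMap.lTensor L (LocalizedModule.mkLinearMap S C)) h1
      rwa [LinearMap.lTensor_tmul, map_zero] at this
    have hinj := Module.Flat.rTensor_preserves_injective_linearMap (M := LocalizedModule S C)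
      (Algebra.linearMap R L) hL
    have h3 : (1 : R) ⊗ₜ[R] (LocalizedModule.mkLinearMap S C z) = 0 := by
      apply hinj
      rw [LinearMap.rTensor_tmul, map_zero, Algebra.linearMap_apply, map_one]
      exact h2
    have h4 : LocalizedModule.mkLinearMap S C z = 0 := by
      have := congrArg (TensorProduct.lid R _) h3
      rwa [TensorProduct.lid_tmul, one_smul, map_zero] at this
    obtain ⟨⟨_, m, rfl⟩, hm⟩ := (IsLocalizedModule.eq_zero_iff S
      (LocalizedModule.mkLinearMap S C)).mp h4
    exact ⟨m, hm⟩
  intro κ _ _ hfκ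
  let vR : C →ₗ[R] C := LinearMap.mulLeft R h₀
  let g₂ : C →ₗ[R] (C ⧸ LinearMap.range v) := (LinearMap.range v).mkQ.restrictScalars R
  have hex : Function.Exact vR g₂ := by
    intro c
    change (Submodule.Quotient.mk c : C ⧸ LinearMap.range v) = 0 ↔ _
    rw [Submodule.Quotient.mk_eq_zero]
    constructor
    · rintro ⟨y, rfl⟩; exact ⟨y, rfl⟩
    · rintro ⟨y, rfl⟩; exact ⟨y, rfl⟩
  have hg₂s : Function.Surjective g₂ := fun c => by
    obtain ⟨h, rfl⟩ := Submodule.Quotient.mk_surjective _ c
    exact ⟨h, rfl⟩
  let G₁ : LocalizedModule S C →ₗ[R] LocalizedModule S C :=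
    (LocalizedModule.map S vR).restrictScalars R
  let G₂ : LocalizedModule S C →ₗ[R] LocalizedModule S (C ⧸ LinearMap.range v) :=
    (LocalizedModule.map S g₂).restrictScalars R
  have hG₂s : Function.Surjective G₂ := LocalizedModule.map_surjective S g₂ hg₂s
  have hGex : Function.Exact G₁ G₂ := LocalizedModule.map_exact S vR g₂ hex
  have hG₁i : Function.Injective G₁ := by
    rw [injective_iff_map_eq_zero]
    intro x hx
    induction x with | _ z s
    change LocalizedModule.map S vR (LocalizedModule.mk z s) = 0 at hx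
    rw [LocalizedModule.map_mk] at hx
    obtain ⟨⟨_, m, rfl⟩, hm⟩ := (mk_eq_zero_iff' S _ _).mp hx
    have h5 : h₀ * (f ^ m • z) = 0 := by
      rw [mul_smul_comm]
      exact hm
    obtain ⟨m', hm'⟩ := hT _ h5
    rw [mk_eq_zero_iff']
    refine ⟨⟨f ^ (m' + m), m' + m, rfl⟩, ?_⟩
    change f ^ (m' + m) • z = 0
    rw [pow_add, mul_smul]
    exact hm'
  have hB : Function.Injective (LinearMap.lTensor κ G₁) :=
    lTensor_injective_of_flat_coker G₁ G₂ hG₁i hGex hG₂s κ
  have hA := lTensor_mkLinearMap_injective f κ hfκ C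
  have hcomm : (LinearMap.lTensor κ (LocalizedModule.mkLinearMap S C)).comp
      (LinearMap.lTensor κ vR) = (LinearMap.lTensor κ G₁).comp
      (LinearMap.lTensor κ (LocalizedModule.mkLinearMap S C)) := by
    rw [← LinearMap.lTensor_comp, ← LinearMap.lTensor_comp]
    congr 1
    ext y
    simp [G₁, LocalizedModule.map_mk]
  have : Function.Injective ((LinearMap.lTensor κ (LocalizedModule.mkLinearMap S C)).comp
      (LinearMap.lTensor κ vR)) := by
    rw [hcomm]; exact hB.comp hA
  exact Function.Injective.of_comp this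

end Groth.Agent.Lib.Helper6.FibDense
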