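import Mathlib

/-!
# Joint injectivity modulo a nilpotent ideal with free graded pieces (helper6)
-/

set_option autoImplicit false
set_option linter.style.haveILetI false
set_option linter.unusedSectionVars false

open TensorProduct

namespace Groth.Agent.Lib.Helper6.SepFam

section Free

variable {A R : Type*} [CommRing A] [CommRing R] [Algebra A R]
  {Q : Type*} [AddCommGroup Q] [Module A Q] [Module R Q] [IsScalarTower A R Q]
  {β : Type*} (b : Module.Basis β R Q)

/-- the comparison `Q ⊗[A] M ≃ β →₀ (R ⊗[A] M)` for a free `R`-module `Q` -/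
noncomputable def freeEquiv [DecidableEq β] (M : Type*) [AddCommGroup M] [Module A M] :
    Q ⊗[A] M ≃ₗ[R] (β →₀ (R ⊗[A] M)) :=
  (AlgebraTensorModule.cancelBaseChange A R R Q M).symm ≪≫ₗ
    TensorProduct.equivFinsuppOfBasisLeft b

theorem freeEquiv_tmul [DecidableEq β] (M : Type*) [AddCommGroup M] [Module A M] (q : Q) (m : M)
    (j : β) : freeEquiv b M (q ⊗ₜ m) j = b.repr q j • ((1 : R) ⊗ₜ[A] m) := by
  simp [freeEquiv]

variable {N : Type*} [AddCommGroup N] [Module A N] {ι : Type*} {G : ι → Type*}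
  [∀ i, AddCommGroup (G i)] [∀ i, Module A (G i)] (u : ∀ i, N →ₗ[A] G i)

theorem freeEquiv_lTensor [DecidableEq β] (i : ι) (z : Q ⊗[A] N) (j : β) :
    freeEquiv b (G i) ((u i).lTensor Q z) j = (u i).lTensor R (freeEquiv b N z j) := by
  induction z using TensorProduct.induction_on with
  | zero => simp
  | tmul q m =>
    rw [LinearMap.lTensor_tmul, freeEquiv_tmul, freeEquiv_tmul]
    rw [← LinearMap.baseChange_eq_ltensor, map_smul]
    rfl
  | add x y hx hy =>
    rw [map_add, map_add, map_add, Finsupp.add_apply, Finsupp.add_apply, map_add, hx, hy]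

variable (Q) [Module.Free R Q]

/-- if the family is jointly injective after base change to `R`, it stays so after tensoring with a
free `R`-module. -/
theorem lTensor_jointly_injective_of_free
    (H0 : ∀ y : R ⊗[A] N, (∀ i, (u i).lTensor R y = 0) → y = 0)
    (ζ : Q ⊗[A] N) (hζ : ∀ i, (u i).lTensor Q ζ = 0) : ζ = 0 := by
  classical
  let b : Module.Basis (Module.Free.ChooseBasisIndex R Q) R Q := Module.Free.chooseBasis R Q
  apply (freeEquiv b N).injective
  rw [map_zero]
  ext j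
  rw [Finsupp.zero_apply]
  apply H0
  intro i
  rw [← freeEquiv_lTensor b u, hζ i, map_zero, Finsupp.zero_apply]

end Free

end Groth.Agent.Lib.Helper6.SepFam

namespace Groth.Agent.Lib.Helper6.SepFam

section Nilp

variable {A : Type*} [CommRing A] (J : Ideal A)
  {N : Type*} [AddCommGroup N] [Module A N] {ι : Type*} {G : ι → Type*}
  [∀ i, AddCommGroup (G i)] [∀ i, Module A (G i)] [∀ i, Module.Flat A (G i)]
  (u : ∀ i, N →ₗ[A] G i)

/-- the multiplication map `I ⊗ N → N` -/
noncomputable def mulMap (I : Ideal A) (N : Type*) [AddCommGroup N] [Module A N] :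
    ↥I ⊗[A] N →ₗ[A] N :=
  (TensorProduct.lid A N).toLinearMap ∘ₗ (Submodule.subtype I).rTensor N

omit [∀ i, Module.Flat A (G i)] in
theorem range_inclusion_pow (k : ℕ) :
    LinearMap.range (Submodule.inclusion (Ideal.pow_le_pow_right (Nat.le_succ k) :
      J ^ (k + 1) ≤ J ^ k)) = J • (⊤ : Submodule A ↥(J ^ k)) := by
  apply Submodule.map_injective_of_injective (f := Submodule.subtype (J ^ k))
    (Submodule.injective_subtype _)
  rw [Submodule.map_smul'', Submodule.map_top, Submodule.range_subtype, ← LinearMap.range_comp,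
    Submodule.subtype_comp_inclusion, Submodule.range_subtype, smul_eq_mul, pow_succ']

theorem step (k : ℕ) [hfree : Module.Free (A ⧸ J) ((A ⧸ J) ⊗[A] ↥(J ^ k))]
    (H0 : ∀ y : (A ⧸ J) ⊗[A] N, (∀ i, (u i).lTensor (A ⧸ J) y = 0) → y = 0)
    (τ : ↥(J ^ k) ⊗[A] N) (hτ : ∀ i, (u i).lTensor ↥(J ^ k) τ = 0) :
    ∃ τ' : ↥(J ^ (k + 1)) ⊗[A] N, (∀ i, (u i).lTensor ↥(J ^ (k + 1)) τ' = 0) ∧
      ((Submodule.inclusion (Ideal.pow_le_pow_right (Nat.le_succ k) :
        J ^ (k + 1) ≤ J ^ k)).rTensor N) τ' = τ := by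
  set ιk : ↥(J ^ (k + 1)) →ₗ[A] ↥(J ^ k) :=
    Submodule.inclusion (Ideal.pow_le_pow_right (Nat.le_succ k)) with hιk
  set πk : ↥(J ^ k) →ₗ[A] (A ⧸ J) ⊗[A] ↥(J ^ k) := TensorProduct.mk A (A ⧸ J) ↥(J ^ k) 1 with hπk
  have hex : Function.Exact ιk πk := by
    rw [LinearMap.exact_iff, hπk, LinearMap.ker_tensorProductMk, hιk, range_inclusion_pow]
  have hsurj : Function.Surjective πk :=
    TensorProduct.mk_surjective A _ (A ⧸ J) Ideal.Quotient.mk_surjective
  have hex2 := rTensor_exact N hex hsurj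
  have hζ : (πk.rTensor N) τ = 0 := by
    refine lTensor_jointly_injective_of_free (R := A ⧸ J) ((A ⧸ J) ⊗[A] ↥(J ^ k)) u H0 _ ?_
    intro i
    have h1 : (u i).lTensor _ ((πk.rTensor N) τ) = (πk.rTensor (G i)) ((u i).lTensor _ τ) := by
      rw [← LinearMap.comp_apply, ← LinearMap.comp_apply, LinearMap.lTensor_comp_rTensor,
        LinearMap.rTensor_comp_lTensor]
    rw [h1, hτ i, map_zero]
  obtain ⟨τ', hτ'⟩ := (hex2 τ).mp hζ
  refine ⟨τ', ?_, hτ'⟩
  intro i
  have hinj : Function.Injective (ιk.rTensor (G i)) :=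
    Module.Flat.rTensor_preserves_injective_linearMap ιk (Submodule.inclusion_injective _)
  apply hinj
  rw [map_zero]
  have h1 : (ιk.rTensor (G i)) ((u i).lTensor _ τ') = (u i).lTensor _ ((ιk.rTensor N) τ') := by
    rw [← LinearMap.comp_apply, ← LinearMap.comp_apply, LinearMap.lTensor_comp_rTensor,
      LinearMap.rTensor_comp_lTensor]
  rw [h1, hτ', hτ i]

theorem jointly_injective_of_mod_nilpotent (hJ : IsNilpotent J)
    (hfree : ∀ k, Module.Free (A ⧸ J) ((A ⧸ J) ⊗[A] ↥(J ^ k)))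
    (H0 : ∀ y : (A ⧸ J) ⊗[A] N, (∀ i, (u i).lTensor (A ⧸ J) y = 0) → y = 0)
    (n : N) (hn : ∀ i, u i n = 0) : n = 0 := by
  have key : ∀ k : ℕ, ∃ τ : ↥(J ^ k) ⊗[A] N, (∀ i, (u i).lTensor ↥(J ^ k) τ = 0) ∧
      mulMap (J ^ k) N τ = n := by
    intro k
    induction k with
    | zero =>
      refine ⟨(⟨1, by simp⟩ : ↥(J ^ 0)) ⊗ₜ[A] n, ?_, ?_⟩
      · intro i
        rw [LinearMap.lTensor_tmul, hn i, TensorProduct.tmul_zero]
      · simp [mulMap]
    | succ k ih =>
      obtain ⟨τ, hτ1, hτ2⟩ := ih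
      haveI := hfree k
      obtain ⟨τ', hτ'1, hτ'2⟩ := step J u k H0 τ hτ1
      refine ⟨τ', hτ'1, ?_⟩
      rw [← hτ2, ← hτ'2]
      simp only [mulMap, LinearMap.coe_comp, LinearEquiv.coe_coe, Function.comp_apply]
      rw [← LinearMap.comp_apply (LinearMap.rTensor N (J ^ k).subtype), ← LinearMap.rTensor_comp,
        Submodule.subtype_comp_inclusion]
  obtain ⟨m, hm⟩ := hJ
  obtain ⟨τ, -, hτ⟩ := key m
  have hz : ∀ j : ↥(J ^ m), j = 0 := by
    intro j
    have h1 : (j : A) ∈ J ^ m := j.2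
    have h2 : (j : A) ∈ (⊥ : Ideal A) := by
      rw [← Ideal.zero_eq_bot, ← hm]; exact h1
    exact Subtype.ext ((Submodule.mem_bot A).mp h2)
  have hall : ∀ σ : ↥(J ^ m) ⊗[A] N, mulMap (J ^ m) N σ = 0 := by
    intro σ
    induction σ using TensorProduct.induction_on with
    | zero => simp
    | tmul j x => rw [hz j, TensorProduct.zero_tmul, map_zero]
    | add x y hx hy => rw [map_add, hx, hy, add_zero]
  rw [← hτ, hall]

end Nilp

end Groth.Agent.Lib.Helper6.SepFam
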