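import Mathlib
import Groth.Agent.Lib.Helper6.SepFam5

/-!
# The fibrewise criterion for separating families: the filtration step (helper6)
-/

set_option autoImplicit false
set_option linter.style.haveILetI false
set_option linter.unusedSectionVars false
universe u v w

open TensorProduct

namespace Groth.Agent.Lib.Helper6.SepFam

section LemmaK

variable {R : Type*} [CommRing R] (𝔮 : Ideal R) [𝔮.IsPrime]
  (k : Type*) [Field k] [Algebra R k] (hker : RingHom.ker (algebraMap R k) = 𝔮)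

include hker in
/-- an element dying in `k ⊗ L`, `k` a field with kernel `𝔮`, lies in `𝔮 L` up to an element
outside `𝔮`. -/
theorem exists_notMem_smul_mem_smul_top {L : Type*} [AddCommGroup L] [Module R L] (x : L)
    (hx : (1 : k) ⊗ₜ[R] x = 0) : ∃ s : R, s ∉ 𝔮 ∧ s • x ∈ 𝔮 • (⊤ : Submodule R L) := by
  -- `k` as an algebra over the domain `R ⧸ 𝔮`
  have hle : ∀ a ∈ 𝔮, algebraMap R k a = 0 := by
    intro a ha
    rw [← hker] at ha
    exact ha
  letI algQk : Algebra (R ⧸ 𝔮) k := (Ideal.Quotient.lift 𝔮 (algebraMap R k) hle).toAlgebra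
  haveI tw1 : IsScalarTower R (R ⧸ 𝔮) k := IsScalarTower.of_algebraMap_eq (fun _ => rfl)
  have hinj : Function.Injective (algebraMap (R ⧸ 𝔮) k) := by
    rw [injective_iff_map_eq_zero]
    intro a ha
    obtain ⟨a, rfl⟩ := Ideal.Quotient.mk_surjective a
    rw [Ideal.Quotient.eq_zero_iff_mem, ← hker]
    exact ha
  -- `k` as an algebra over the fraction field
  letI algKk : Algebra (FractionRing (R ⧸ 𝔮)) k := (IsFractionRing.lift hinj).toAlgebra
  haveI tw2 : IsScalarTower (R ⧸ 𝔮) (FractionRing (R ⧸ 𝔮)) k :=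
    IsScalarTower.of_algebraMap_eq (fun a => (IsFractionRing.lift_algebraMap hinj a).symm)
  -- transport the vanishing
  have h1 : (1 : k) ⊗ₜ[R ⧸ 𝔮] ((1 : R ⧸ 𝔮) ⊗ₜ[R] x) = 0 := by
    have := congrArg (AlgebraTensorModule.cancelBaseChange R (R ⧸ 𝔮) k k L).symm hx
    rw [map_zero, AlgebraTensorModule.cancelBaseChange_symm_tmul] at this
    exact this
  have h2 : (1 : k) ⊗ₜ[FractionRing (R ⧸ 𝔮)]
      ((1 : FractionRing (R ⧸ 𝔮)) ⊗ₜ[R ⧸ 𝔮] ((1 : R ⧸ 𝔮) ⊗ₜ[R] x)) = 0 := by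
    have := congrArg (AlgebraTensorModule.cancelBaseChange (R ⧸ 𝔮) (FractionRing (R ⧸ 𝔮)) k k
      ((R ⧸ 𝔮) ⊗[R] L)).symm h1
    rw [map_zero, AlgebraTensorModule.cancelBaseChange_symm_tmul] at this
    exact this
  have h3 : (1 : FractionRing (R ⧸ 𝔮)) ⊗ₜ[R ⧸ 𝔮] ((1 : R ⧸ 𝔮) ⊗ₜ[R] x) = 0 := by
    apply Module.FaithfullyFlat.tensorProduct_mk_injective (A := FractionRing (R ⧸ 𝔮)) (B := k)
    rw [map_zero]
    exact h2
  obtain ⟨⟨s', hs'mem⟩, hs'⟩ := (IsLocalizedModule.eq_zero_iff (nonZeroDivisors (R ⧸ 𝔮))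
    (TensorProduct.mk (R ⧸ 𝔮) (FractionRing (R ⧸ 𝔮)) ((R ⧸ 𝔮) ⊗[R] L) 1)).mp h3
  obtain ⟨s, rfl⟩ := Ideal.Quotient.mk_surjective s'
  refine ⟨s, ?_, ?_⟩
  · intro hs
    have : (Ideal.Quotient.mk 𝔮 s) = 0 := Ideal.Quotient.eq_zero_iff_mem.mpr hs
    exact nonZeroDivisors.ne_zero hs'mem this
  · have h4 : (1 : R ⧸ 𝔮) ⊗ₜ[R] (s • x) = 0 := by
      have h5 : (Ideal.Quotient.mk 𝔮 s) • ((1 : R ⧸ 𝔮) ⊗ₜ[R] x) = 0 := hs'
      rw [TensorProduct.smul_tmul', smul_eq_mul, mul_one] at h5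
      rw [TensorProduct.tmul_smul, TensorProduct.smul_tmul', Algebra.smul_def, mul_one]
      exact h5
    have h6 : s • x ∈ LinearMap.ker (TensorProduct.mk R (R ⧸ 𝔮) L 1) := h4
    rw [LinearMap.ker_tensorProductMk] at h6
    exact h6

end LemmaK

section Step

variable {R : Type*} [CommRing R] (𝔮 : Ideal R) [𝔮.IsPrime]
  (k : Type*) [Field k] [Algebra R k] (hker : RingHom.ker (algebraMap R k) = 𝔮)
  {M : Type*} [AddCommGroup M] [Module R M] {ι : Type*} {Λ : ι → Type*}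
  [∀ j, AddCommGroup (Λ j)] [∀ j, Module R (Λ j)] [∀ j, Module.Flat R (Λ j)]
  (v : ∀ j, M →ₗ[R] Λ j)

include hker in
theorem step_prime (H0 : ∀ y : k ⊗[R] M, (∀ j, (v j).lTensor k y = 0) → y = 0)
    (I I' : Ideal R) (hI' : I' = 𝔮 * I) (hle : I' ≤ I) (ξ : ↥I ⊗[R] M)
    (hξ : ∀ j, (v j).lTensor ↥I ξ = 0) :
    ∃ s : R, s ∉ 𝔮 ∧ ∃ ξ' : ↥I' ⊗[R] M, (∀ j, (v j).lTensor ↥I' ξ' = 0) ∧
      ((Submodule.inclusion hle).rTensor M) ξ' = s • ξ := by
  -- the image of `ξ` in `(k ⊗ I) ⊗ M` vanishes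
  have hζ : ((TensorProduct.mk R k ↥I 1).rTensor M) ξ = 0 := by
    refine lTensor_jointly_injective_of_free (A := R) (R := k) (k ⊗[R] ↥I) v H0 _ ?_
    intro j
    rw [← LinearMap.comp_apply, LinearMap.lTensor_comp_rTensor, ← LinearMap.rTensor_comp_lTensor,
      LinearMap.comp_apply, hξ j, map_zero]
  have hassoc : (1 : k) ⊗ₜ[R] ξ = 0 := by
    have h1 : (TensorProduct.assoc R k ↥I M).toLinearMap ∘ₗ
        ((TensorProduct.mk R k ↥I 1).rTensor M) = TensorProduct.mk R k (↥I ⊗[R] M) 1 := by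
      apply TensorProduct.ext'
      intro a m
      simp
    have h2 := congrArg (TensorProduct.assoc R k ↥I M) hζ
    rw [map_zero] at h2
    have h3 := LinearMap.congr_fun h1 ξ
    rw [LinearMap.comp_apply] at h3
    rw [← TensorProduct.mk_apply, ← h3]
    exact h2
  obtain ⟨s, hs, hmem⟩ := exists_notMem_smul_mem_smul_top 𝔮 k hker ξ hassoc
  refine ⟨s, hs, ?_⟩
  have hrange : 𝔮 • (⊤ : Submodule R (↥I ⊗[R] M)) ≤
      LinearMap.range ((Submodule.inclusion hle).rTensor M) := by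
    rw [Submodule.smul_le]
    intro a ha z _
    induction z using TensorProduct.induction_on with
    | zero => rw [smul_zero]; exact Submodule.zero_mem _
    | tmul b m =>
      have hab : a * (b : R) ∈ I' := by
        rw [hI']
        exact Ideal.mul_mem_mul ha b.2
      refine ⟨(⟨a * (b : R), hab⟩ : ↥I') ⊗ₜ[R] m, ?_⟩
      rw [LinearMap.rTensor_tmul, TensorProduct.smul_tmul']
      rfl
    | add x y hx hy => rw [smul_add]; exact Submodule.add_mem _ (hx trivial) (hy trivial)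
  obtain ⟨ξ', hξ'⟩ := hrange hmem
  refine ⟨ξ', ?_, hξ'⟩
  intro j
  have hinj : Function.Injective ((Submodule.inclusion hle).rTensor (Λ j)) :=
    Module.Flat.rTensor_preserves_injective_linearMap _ (Submodule.inclusion_injective _)
  apply hinj
  rw [map_zero, ← LinearMap.comp_apply, LinearMap.rTensor_comp_lTensor,
    ← LinearMap.lTensor_comp_rTensor, LinearMap.comp_apply, hξ', map_smul, hξ j, smul_zero]

end Step

end Groth.Agent.Lib.Helper6.SepFam
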