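import Mathlib
import Groth.Agent.Lib.Helper6.FibCrit1

/-!
# The fibrewise criterion for separating families: noetherian modules (helper6)
-/

set_option autoImplicit false
set_option linter.style.haveILetI false
set_option linter.unusedSectionVars false
universe u v w

open TensorProduct

namespace Groth.Agent.Lib.Helper6.SepFam

section Filtration

variable {R : Type*} [CommRing R] (𝔮 : Ideal R) [𝔮.IsPrime]
  (k : Type*) [Field k] [Algebra R k] (hker : RingHom.ker (algebraMap R k) = 𝔮)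
  {M : Type*} [AddCommGroup M] [Module R M] {ι : Type*} {Λ : ι → Type*}
  [∀ j, AddCommGroup (Λ j)] [∀ j, Module R (Λ j)] [∀ j, Module.Flat R (Λ j)]
  (v : ∀ j, M →ₗ[R] Λ j)

theorem mulMap_mem_smul_top (I : Ideal R) (τ : ↥I ⊗[R] M) :
    mulMap I M τ ∈ I • (⊤ : Submodule R M) := by
  induction τ using TensorProduct.induction_on with
  | zero => rw [map_zero]; exact Submodule.zero_mem _
  | tmul a x =>
    have : mulMap I M (a ⊗ₜ[R] x) = (a : R) • x := by simp [mulMap]
    rw [this]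
    exact Submodule.smul_mem_smul a.2 trivial
  | add x y hx hy => rw [map_add]; exact Submodule.add_mem _ hx hy

include hker in
theorem exists_notMem_smul_mem_pow_smul_top
    (H0 : ∀ y : k ⊗[R] M, (∀ j, (v j).lTensor k y = 0) → y = 0)
    (n : M) (hn : ∀ j, v j n = 0) (m : ℕ) :
    ∃ s : R, s ∉ 𝔮 ∧ s • n ∈ (𝔮 ^ m) • (⊤ : Submodule R M) := by
  have key : ∀ m : ℕ, ∃ s : R, s ∉ 𝔮 ∧ ∃ τ : ↥(𝔮 ^ m) ⊗[R] M,
      (∀ j, (v j).lTensor ↥(𝔮 ^ m) τ = 0) ∧ mulMap (𝔮 ^ m) M τ = s • n := by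
    intro m
    induction m with
    | zero =>
      refine ⟨1, (Ideal.ne_top_iff_one 𝔮).mp (Ideal.IsPrime.ne_top inferInstance),
        (⟨1, by simp⟩ : ↥(𝔮 ^ 0)) ⊗ₜ[R] n, ?_, ?_⟩
      · intro j
        rw [LinearMap.lTensor_tmul, hn j, TensorProduct.tmul_zero]
      · simp [mulMap]
    | succ m ih =>
      obtain ⟨s, hs, τ, hτ1, hτ2⟩ := ih
      obtain ⟨s', hs', τ', hτ'1, hτ'2⟩ := step_prime 𝔮 k hker v H0 (𝔮 ^ m) (𝔮 ^ (m + 1))
        (pow_succ' 𝔮 m) (Ideal.pow_le_pow_right (Nat.le_succ m)) τ hτ1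
      refine ⟨s' * s, ?_, τ', hτ'1, ?_⟩
      · intro h
        rcases Ideal.IsPrime.mem_or_mem inferInstance h with h | h
        · exact hs' h
        · exact hs h
      · have h1 : mulMap (𝔮 ^ (m + 1)) M τ' = mulMap (𝔮 ^ m) M
            (((Submodule.inclusion (Ideal.pow_le_pow_right (Nat.le_succ m) :
              𝔮 ^ (m + 1) ≤ 𝔮 ^ m)).rTensor M) τ') := by
          simp only [mulMap, LinearMap.coe_comp, LinearEquiv.coe_coe, Function.comp_apply]
          rw [← LinearMap.comp_apply (LinearMap.rTensor M (𝔮 ^ m).subtype),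
            ← LinearMap.rTensor_comp, Submodule.subtype_comp_inclusion]
        rw [h1, hτ'2, map_smul, hτ2, smul_smul]
  obtain ⟨s, hs, τ, -, hτ⟩ := key m
  refine ⟨s, hs, ?_⟩
  rw [← hτ]
  exact mulMap_mem_smul_top _ τ

end Filtration

section Krull

variable {T : Type*} [CommRing T] [IsNoetherianRing T] (Q : Ideal T) [Q.IsPrime]
  {M : Type*} [AddCommGroup M] [Module T M] [Module.Finite T M]

/-- Krull's intersection theorem after localising at a prime -/
theorem exists_notMem_smul_eq_zero_of_forall_pow (y : M)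
    (h : ∀ m : ℕ, ∃ t : T, t ∉ Q ∧ t • y ∈ (Q ^ m) • (⊤ : Submodule T M)) :
    ∃ t : T, t ∉ Q ∧ t • y = 0 := by
  let Tq := Localization.AtPrime Q
  let Mq := LocalizedModule Q.primeCompl M
  let ℓ : M →ₗ[T] Mq := LocalizedModule.mkLinearMap Q.primeCompl M
  have hmem : ∀ (m : ℕ) (z : M), z ∈ (Q ^ m) • (⊤ : Submodule T M) →
      ℓ z ∈ ((IsLocalRing.maximalIdeal Tq) ^ m) • (⊤ : Submodule Tq Mq) := by
    intro m z hz
    refine Submodule.smul_induction_on hz ?_ ?_
    · intro a ha x _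
      have h1 : ℓ (a • x) = algebraMap T Tq a • ℓ x := by
        rw [map_smul, algebraMap_smul]
      rw [h1]
      refine Submodule.smul_mem_smul ?_ trivial
      rw [← Localization.AtPrime.map_eq_maximalIdeal, ← Ideal.map_pow]
      exact Ideal.mem_map_of_mem _ ha
    · intro x y hx hy
      rw [map_add]
      exact Submodule.add_mem _ hx hy
  have h0 : ℓ y = 0 := by
    have hbot := Ideal.iInf_pow_smul_eq_bot_of_isLocalRing (R := Tq) (M := Mq)
      (IsLocalRing.maximalIdeal Tq) (Ideal.IsPrime.ne_top inferInstance)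
    have hy : ℓ y ∈ (⨅ i : ℕ, (IsLocalRing.maximalIdeal Tq) ^ i • ⊤ : Submodule Tq Mq) := by
      rw [Submodule.mem_iInf]
      intro m
      obtain ⟨t, ht, hty⟩ := h m
      have h1 := hmem m _ hty
      have hu : IsUnit (algebraMap T Tq t) :=
        IsLocalization.map_units Tq (⟨t, ht⟩ : Q.primeCompl)
      have h2 : ℓ y = (↑(hu.unit⁻¹) : Tq) • ℓ (t • y) := by
        rw [map_smul, ← algebraMap_smul Tq t (ℓ y), smul_smul, IsUnit.val_inv_mul, one_smul]
      rw [h2]
      exact Submodule.smul_mem _ _ h1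
    rw [hbot] at hy
    exact (Submodule.mem_bot Tq).mp hy
  obtain ⟨⟨t, ht⟩, hty⟩ := (IsLocalizedModule.eq_zero_iff Q.primeCompl ℓ).mp h0
  exact ⟨t, ht, hty⟩

end Krull

section NoethFib

variable {R : Type u} [CommRing R] {T : Type u} [CommRing T] [Algebra R T] [IsNoetherianRing T]
  {M : Type u} [AddCommGroup M] [Module T M] [Module R M] [IsScalarTower R T M]
  [Module.Finite T M]
  {ι : Type*} {Λ : ι → Type u} [∀ j, AddCommGroup (Λ j)] [∀ j, Module T (Λ j)]
  [∀ j, Module R (Λ j)] [∀ j, IsScalarTower R T (Λ j)] [∀ j, Module.Flat R (Λ j)]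
  (v : ∀ j, M →ₗ[T] Λ j)

/-- **The fibrewise criterion, module form**: a family of maps from a finite module over a
noetherian `R`-algebra to `R`-flat modules is jointly injective as soon as it is so on all fibres
over `R`. -/
theorem eq_zero_of_fibrewise
    (hfib : ∀ (𝔮 : Ideal R) [𝔮.IsPrime], ∃ (k : Type u) (_ : Field k) (_ : Algebra R k),
      RingHom.ker (algebraMap R k) = 𝔮 ∧
      ∀ y : k ⊗[R] M, (∀ j, ((v j).restrictScalars R).lTensor k y = 0) → y = 0)
    (n : M) (hn : ∀ j, v j n = 0) : n = 0 := by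
  by_contra hne
  obtain ⟨K, hK⟩ : ∃ K : Submodule T M, K = ⨅ j, LinearMap.ker (v j) := ⟨_, rfl⟩
  have hKmem : ∀ z : M, z ∈ K ↔ ∀ j, v j z = 0 := by
    intro z
    rw [hK, Submodule.mem_iInf]
    exact forall_congr' fun j => LinearMap.mem_ker
  obtain ⟨Q, hQ, -⟩ := exists_le_isAssociatedPrime_of_isNoetherianRing T
    (⟨n, (hKmem n).mpr hn⟩ : K) (fun h => hne (congrArg Subtype.val h))
  obtain ⟨hQprime, y, hy⟩ := isAssociatedPrime_iff.mp hQ
  have hQmem : ∀ a : T, a ∈ Q ↔ a • (y : M) = 0 := by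
    intro a
    rw [hy, Submodule.mem_colon_singleton, Submodule.mem_bot]
    constructor
    · intro h; exact congrArg Subtype.val h
    · intro h; exact Subtype.ext h
  obtain ⟨𝔮, h𝔮⟩ : ∃ 𝔮 : Ideal R, 𝔮 = Q.comap (algebraMap R T) := ⟨_, rfl⟩
  haveI h𝔮prime : 𝔮.IsPrime := by rw [h𝔮]; exact Ideal.comap_isPrime _ _
  obtain ⟨k, _, _, hker, H0⟩ := hfib 𝔮
  have hyK : ∀ j, ((v j).restrictScalars R) (y : M) = 0 := fun j => (hKmem y).mp y.2 j
  have hall : ∀ m : ℕ, ∃ t : T, t ∉ Q ∧ t • (y : M) ∈ (Q ^ m) • (⊤ : Submodule T M) := by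
    intro m
    obtain ⟨s, hs, hmem⟩ := exists_notMem_smul_mem_pow_smul_top 𝔮 k hker
      (fun j => (v j).restrictScalars R) H0 (y : M) hyK m
    refine ⟨algebraMap R T s, ?_, ?_⟩
    · intro h
      apply hs
      rw [h𝔮]
      exact h
    · rw [algebraMap_smul]
      refine Submodule.smul_induction_on hmem ?_ ?_
      · intro a ha x _
        rw [← algebraMap_smul T a x]
        refine Submodule.smul_mem_smul ?_ trivial
        have h1 : algebraMap R T a ∈ (𝔮 ^ m).map (algebraMap R T) := Ideal.mem_map_of_mem _ ha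
        rw [Ideal.map_pow] at h1
        refine Ideal.pow_right_mono ?_ m h1
        rw [h𝔮]
        exact Ideal.map_comap_le
      · intro x z hx hz
        exact Submodule.add_mem _ hx hz
  obtain ⟨t, ht, hty⟩ := exists_notMem_smul_eq_zero_of_forall_pow Q (y : M) hall
  exact ht ((hQmem t).mpr hty)

end NoethFib

end Groth.Agent.Lib.Helper6.SepFam
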