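import Mathlib

/-!
# Descent of the affine separating condition to finitely generated subalgebras (helper6)
-/

set_option autoImplicit false
set_option linter.style.haveILetI false
set_option linter.unusedSectionVars false
universe u

open TensorProduct

namespace Groth.Agent.Lib.Helper6.SepFam

/-- the affine form of the separating condition on basic opens of `Spec D`, `D` a `C`-algebra -/
def AffSep (C : Type*) [CommRing C] (D : Type*) [CommRing D] [Algebra C D]
    {N : Type*} [AddCommGroup N] [Module C N] {ι : Type*} {G : ι → Type*}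
    [∀ i, AddCommGroup (G i)] [∀ i, Module C (G i)] (u : ∀ i, N →ₗ[C] G i) : Prop :=
  ∀ (f : D) (η : D ⊗[C] N), (∀ i, ∃ m : ℕ, f ^ m • (u i).lTensor D η = 0) → ∃ m : ℕ, f ^ m • η = 0

section Descent

variable {A C A' C' : Type u} [CommRing A] [CommRing C] [CommRing A'] [CommRing C']
  [Algebra A C] [Algebra A A'] [Algebra A C'] [Algebra C C'] [Algebra A' C']
  [IsScalarTower A C C'] [IsScalarTower A A' C'] [Algebra.IsPushout A A' C C']

section Psi

variable (C C') (B : Subalgebra A A') (D : Type u) [CommRing D] [Algebra C D] [Algebra B D] [Algebra A D]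
  [IsScalarTower A C D] [IsScalarTower A B D] [Algebra.IsPushout A B C D]

/-- the comparison map `D → C'` -/
noncomputable def psi : D →ₐ[C] C' :=
  let ψ₀ : D →ₐ[A] C' := Algebra.pushoutDesc D
    (IsScalarTower.toAlgHom A B C') (IsScalarTower.toAlgHom A C C') (fun _ _ => mul_comm _ _)
  { ψ₀.toRingHom with
    commutes' := fun c => Algebra.pushoutDesc_right D _ _ _ c }

theorem psi_algebraMap_B (b : B) :
    psi C C' B D (algebraMap B D b) = algebraMap A' C' (b : A') :=
  Algebra.pushoutDesc_left D (IsScalarTower.toAlgHom A B C')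
    (IsScalarTower.toAlgHom A C C') (fun _ _ => mul_comm _ _) b

variable (M : Type u) [AddCommGroup M] [Module C M] [Module A M] [IsScalarTower A C M]

/-- the comparison map `D ⊗ M → C' ⊗ M` -/
noncomputable def Psi : D ⊗[C] M →ₗ[C] C' ⊗[C] M :=
  (psi C C' B D).toLinearMap.rTensor M

theorem Psi_tmul (d : D) (m : M) :
    Psi C C' B D M (d ⊗ₜ m) = psi C C' B D d ⊗ₜ m := rfl

theorem Psi_smul (d : D) (ζ : D ⊗[C] M) :
    Psi C C' B D M (d • ζ) = psi C C' B D d • Psi C C' B D M ζ := by
  induction ζ using TensorProduct.induction_on with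
  | zero => simp
  | tmul d₁ m =>
    rw [TensorProduct.smul_tmul', Psi_tmul, Psi_tmul, TensorProduct.smul_tmul', smul_eq_mul,
      smul_eq_mul, map_mul]
  | add x y hx hy => rw [smul_add, map_add, hx, hy, map_add, smul_add]

theorem Psi_cancel (w : B ⊗[A] M) :
    Psi C C' B D M ((Algebra.IsPushout.cancelBaseChange A B C D M).symm w) =
      (Algebra.IsPushout.cancelBaseChange A A' C C' M).symm
        ((B.val.toLinearMap.rTensor M) w) := by
  induction w using TensorProduct.induction_on with
  | zero => simp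
  | tmul b m =>
    rw [Algebra.IsPushout.cancelBaseChange_symm_tmul, Psi_tmul, psi_algebraMap_B,
      LinearMap.rTensor_tmul, Algebra.IsPushout.cancelBaseChange_symm_tmul]
    rfl
  | add x y hx hy => rw [map_add, map_add, hx, hy, map_add, map_add]

theorem Psi_injective_of_flat [Module.Flat A M] : Function.Injective (Psi C C' B D M) := by
  have hinj : Function.Injective (B.val.toLinearMap.rTensor M) :=
    Module.Flat.rTensor_preserves_injective_linearMap _ Subtype.val_injective
  intro x y hxy
  obtain ⟨x', rfl⟩ := (Algebra.IsPushout.cancelBaseChange A B C D M).symm.surjective x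
  obtain ⟨y', rfl⟩ := (Algebra.IsPushout.cancelBaseChange A B C D M).symm.surjective y
  rw [Psi_cancel, Psi_cancel] at hxy
  rw [hinj ((Algebra.IsPushout.cancelBaseChange A A' C C' M).symm.injective hxy)]

theorem psi_equiv (w : B ⊗[A] C) :
    psi C C' B D (Algebra.IsPushout.equiv A B C D w) =
      Algebra.IsPushout.equiv A A' C C' ((B.val.toLinearMap.rTensor C) w) := by
  induction w using TensorProduct.induction_on with
  | zero => simp
  | tmul b c =>
    rw [Algebra.IsPushout.equiv_tmul, map_mul, psi_algebraMap_B, LinearMap.rTensor_tmul,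
      Algebra.IsPushout.equiv_tmul, AlgHom.commutes]
    rfl
  | add x y hx hy => rw [map_add, map_add, hx, hy, map_add, map_add]

end Psi

variable {N : Type u} [AddCommGroup N] [Module C N] [Module A N] [IsScalarTower A C N]
  {ι : Type*} {G : ι → Type u} [∀ i, AddCommGroup (G i)] [∀ i, Module C (G i)]
  [∀ i, Module A (G i)] [∀ i, IsScalarTower A C (G i)] [∀ i, Module.Flat A (G i)]
  (u : ∀ i, N →ₗ[C] G i)

theorem affSep_of_forall_fg
    (hB : ∀ (B : Subalgebra A A'), B.FG → ∃ (D : Type u) (_ : CommRing D) (_ : Algebra C D)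
      (_ : Algebra B D) (_ : Algebra A D) (_ : IsScalarTower A C D) (_ : IsScalarTower A B D)
      (_ : Algebra.IsPushout A B C D), AffSep C D u) :
    AffSep C C' u := by
  classical
  intro f η hη
  let eA' := Algebra.IsPushout.cancelBaseChange A A' C C' N
  let qA' := Algebra.IsPushout.equiv A A' C C'
  obtain ⟨P₁, hP₁fin, hP₁⟩ := TensorProduct.exists_finite_submodule_left_of_setFinite
    ({eA' η} : Set (A' ⊗[A] N)) (Set.finite_singleton _)
  obtain ⟨P₂, hP₂fin, hP₂⟩ := TensorProduct.exists_finite_submodule_left_of_setFinite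
    ({qA'.symm f} : Set (A' ⊗[A] C)) (Set.finite_singleton _)
  obtain ⟨S₁, hS₁⟩ := (Module.Finite.iff_fg.mp hP₁fin)
  obtain ⟨S₂, hS₂⟩ := (Module.Finite.iff_fg.mp hP₂fin)
  set B : Subalgebra A A' := Algebra.adjoin A ((S₁ ∪ S₂ : Finset A') : Set A') with hBdef
  have hBfg : B.FG := ⟨S₁ ∪ S₂, rfl⟩
  have hP₁B : P₁ ≤ Subalgebra.toSubmodule B := by
    rw [← hS₁, Submodule.span_le]
    intro x hx
    exact Algebra.subset_adjoin (by simp [Finset.mem_coe.mp hx])
  have hP₂B : P₂ ≤ Subalgebra.toSubmodule B := by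
    rw [← hS₂, Submodule.span_le]
    intro x hx
    exact Algebra.subset_adjoin (by simp [Finset.mem_coe.mp hx])
  obtain ⟨D, _, _, _, _, _, _, _, hD⟩ := hB B hBfg
  -- lifts of `η` and `f`
  obtain ⟨w₁, hw₁⟩ := hP₁ (Set.mem_singleton _)
  obtain ⟨w₂, hw₂⟩ := hP₂ (Set.mem_singleton _)
  let j₁ : P₁ →ₗ[A] B := Submodule.inclusion hP₁B
  let j₂ : P₂ →ₗ[A] B := Submodule.inclusion hP₂B
  have hj₁ : B.val.toLinearMap ∘ₗ j₁ = P₁.subtype := rfl
  have hj₂ : B.val.toLinearMap ∘ₗ j₂ = P₂.subtype := rfl
  set ηB : D ⊗[C] N := (Algebra.IsPushout.cancelBaseChange A B C D N).symm (j₁.rTensor N w₁)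
    with hηB
  set fB : D := Algebra.IsPushout.equiv A B C D (j₂.rTensor C w₂) with hfB
  have hΨη : Psi C C' B D N ηB = η := by
    rw [hηB, Psi_cancel, ← LinearMap.comp_apply, ← LinearMap.rTensor_comp, hj₁, hw₁]
    exact eA'.symm_apply_apply η
  have hψf : psi C C' B D fB = f := by
    rw [hfB, psi_equiv, ← LinearMap.comp_apply, ← LinearMap.rTensor_comp, hj₂, hw₂]
    exact qA'.apply_symm_apply f
  -- the hypothesis descends
  have hkill : ∀ i, ∃ m : ℕ, fB ^ m • (u i).lTensor D ηB = 0 := by
    intro i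
    obtain ⟨m, hm⟩ := hη i
    refine ⟨m, Psi_injective_of_flat C C' B D (G i) ?_⟩
    rw [map_zero, Psi_smul, map_pow, hψf]
    have hnat : Psi C C' B D (G i) ((u i).lTensor D ηB) =
        (u i).lTensor C' (Psi C C' B D N ηB) := by
      simp only [Psi]
      rw [← LinearMap.comp_apply, ← LinearMap.comp_apply, LinearMap.rTensor_comp_lTensor,
        LinearMap.lTensor_comp_rTensor]
    rw [hnat, hΨη, hm]
  obtain ⟨m, hm⟩ := hD fB ηB hkill
  refine ⟨m, ?_⟩
  rw [← hΨη, ← hψf, ← map_pow, ← Psi_smul, hm, map_zero]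

end Descent

end Groth.Agent.Lib.Helper6.SepFam
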