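import Mathlib
import Groth.Agent.Lib.Helper6.SepFam5
import Groth.Agent.Lib.Helper6.SepFam8
import Groth.Agent.Lib.Helper25.GFMod

/-!
# Strongly separating families and flat algebras: the domain case (helper6)
-/

set_option autoImplicit false
set_option linter.style.haveILetI false
set_option linter.unusedSectionVars false
universe u v w

open TensorProduct

namespace Groth.Agent.Lib.Helper6.SepFam

/-- the family is jointly injective after localising at every element of the base ring -/
def StrongSep {R : Type*} [CommRing R] {N : Type*} [AddCommGroup N] [Module R N] {ι : Type*}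
    {G : ι → Type*} [∀ i, AddCommGroup (G i)] [∀ i, Module R (G i)] (u : ∀ i, N →ₗ[R] G i) :
    Prop :=
  ∀ (c : R) (n : N), (∀ i, ∃ m : ℕ, c ^ m • u i n = 0) → ∃ m : ℕ, c ^ m • n = 0

/-- the family is jointly injective after tensoring with `S` -/
def JInj {R : Type*} [CommRing R] (S : Type*) [CommRing S] [Algebra R S]
    {N : Type*} [AddCommGroup N] [Module R N] {ι : Type*}
    {G : ι → Type*} [∀ i, AddCommGroup (G i)] [∀ i, Module R (G i)] (u : ∀ i, N →ₗ[R] G i) :
    Prop :=
  ∀ η : S ⊗[R] N, (∀ i, (u i).lTensor S η = 0) → η = 0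

section DomainCase

variable {R : Type u} [CommRing R] [IsDomain R] {S : Type u} [CommRing S] [Algebra R S]
  [Algebra.FiniteType R S]
  {N : Type v} [AddCommGroup N] [Module R N] {ι : Type*} {G : ι → Type w}
  [∀ i, AddCommGroup (G i)] [∀ i, Module R (G i)] (u : ∀ i, N →ₗ[R] G i)

/-- Over a domain, an element killed by a strongly separating family after tensoring with a finite
type algebra is killed by a power of a nonzero element (generic freeness). -/
theorem exists_pow_smul_eq_zero_of_strongSep (hu : StrongSep u) (ζ : S ⊗[R] N)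
    (hζ : ∀ i, (u i).lTensor S ζ = 0) : ∃ g : R, g ≠ 0 ∧ ∃ m : ℕ, g ^ m • ζ = 0 := by
  obtain ⟨g, -, hg, hGF⟩ := Groth.Agent.Lib.Helper25.GFMod.exists_GF R S S 1 one_ne_zero
  haveI hfree : Module.Free (Localization.Away g) (LocalizedModule (Submonoid.powers g) S) :=
    (hGF g dvd_rfl).1
  refine ⟨g, hg, ?_⟩
  let ℓ : S →ₗ[R] LocalizedModule (Submonoid.powers g) S :=
    LocalizedModule.mkLinearMap (Submonoid.powers g) S
  -- joint injectivity over the localisation of the base
  have H0 : ∀ y : Localization.Away g ⊗[R] N,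
      (∀ i, (u i).lTensor (Localization.Away g) y = 0) → y = 0 := by
    intro y hy
    obtain ⟨⟨n, s⟩, hs⟩ := IsLocalizedModule.surj (Submonoid.powers g)
      (TensorProduct.mk R (Localization.Away g) N 1) y
    have hn : ∃ m : ℕ, g ^ m • n = 0 := by
      apply hu g n
      intro i
      have h1 : TensorProduct.mk R (Localization.Away g) (G i) 1 (u i n) = 0 := by
        have h2 : (u i).lTensor (Localization.Away g)
            (TensorProduct.mk R (Localization.Away g) N 1 n) = 0 := by
          rw [← hs]
          change (u i).lTensor (Localization.Away g) ((s : R) • y) = 0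
          rw [map_smul, hy i, smul_zero]
        exact h2
      obtain ⟨⟨c, hcmem⟩, hc⟩ := (IsLocalizedModule.eq_zero_iff (Submonoid.powers g)
        (TensorProduct.mk R (Localization.Away g) (G i) 1)).mp h1
      obtain ⟨m, hm⟩ := (Submonoid.mem_powers_iff _ _).mp hcmem
      refine ⟨m, ?_⟩
      rw [hm]
      exact hc
    obtain ⟨m, hm⟩ := hn
    have h3 : TensorProduct.mk R (Localization.Away g) N 1 n = 0 :=
      (IsLocalizedModule.eq_zero_iff (Submonoid.powers g)
        (TensorProduct.mk R (Localization.Away g) N 1)).mpr ⟨⟨g ^ m, m, rfl⟩, hm⟩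
    rw [h3] at hs
    exact IsLocalizedModule.smul_injective (TensorProduct.mk R (Localization.Away g) N 1) s
      (by simpa using hs)
  have hζ' : ∀ i, (u i).lTensor (LocalizedModule (Submonoid.powers g) S) (ℓ.rTensor N ζ) = 0 := by
    intro i
    rw [← LinearMap.comp_apply, LinearMap.lTensor_comp_rTensor, ← LinearMap.rTensor_comp_lTensor,
      LinearMap.comp_apply, hζ i, map_zero]
  have h0 : ℓ.rTensor N ζ = 0 :=
    lTensor_jointly_injective_of_free (A := R) (R := Localization.Away g)
      (LocalizedModule (Submonoid.powers g) S) u H0 _ hζ'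
  haveI : IsLocalizedModule (Submonoid.powers g) (AlgebraTensorModule.rTensor R N ℓ) :=
    inferInstance
  obtain ⟨⟨c, hcmem⟩, hc⟩ := (IsLocalizedModule.eq_zero_iff (Submonoid.powers g)
    (AlgebraTensorModule.rTensor R N ℓ)).mp h0
  obtain ⟨m, hm⟩ := (Submonoid.mem_powers_iff _ _).mp hcmem
  refine ⟨m, ?_⟩
  rw [hm]
  exact hc

end DomainCase

end Groth.Agent.Lib.Helper6.SepFam
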