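import Mathlib
import Groth.Agent.Lib.Helper6.SepFam10

/-!
# Strongly separating families: change of base ring and torsion (helper6)
-/

set_option autoImplicit false
set_option linter.style.haveILetI false
set_option linter.unusedSectionVars false
universe u v w

open TensorProduct

namespace Groth.Agent.Lib.Helper6.SepFam

section Cancel

variable (R S A B : Type*) [CommRing R] [CommRing S] [CommRing A] [CommRing B]
  [Algebra R S] [Algebra R A] [Algebra R B] [Algebra A B] [Algebra S B]
  [IsScalarTower R A B] [IsScalarTower R S B] [Algebra.IsPushout R S A B]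
  {M M' : Type*} [AddCommGroup M] [Module R M] [Module A M] [IsScalarTower R A M]
  [AddCommGroup M'] [Module R M'] [Module A M'] [IsScalarTower R A M']

theorem cancel_nat (v : M →ₗ[A] M') (w : S ⊗[R] M) :
    v.lTensor B ((Algebra.IsPushout.cancelBaseChange R S A B M).symm w) =
      (Algebra.IsPushout.cancelBaseChange R S A B M').symm
        ((v.restrictScalars R).lTensor S w) := by
  induction w using TensorProduct.induction_on with
  | zero => simp
  | tmul s m =>
    rw [Algebra.IsPushout.cancelBaseChange_symm_tmul, LinearMap.lTensor_tmul,
      LinearMap.lTensor_tmul, Algebra.IsPushout.cancelBaseChange_symm_tmul]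
    rfl
  | add x y hx hy => rw [map_add, map_add, hx, hy, map_add, map_add]

theorem cancel_smul (r : R) (w : S ⊗[R] M) :
    (Algebra.IsPushout.cancelBaseChange R S A B M).symm (r • w) =
      algebraMap R A r • (Algebra.IsPushout.cancelBaseChange R S A B M).symm w := by
  induction w using TensorProduct.induction_on with
  | zero => simp
  | tmul s m =>
    rw [TensorProduct.smul_tmul', Algebra.IsPushout.cancelBaseChange_symm_tmul,
      Algebra.IsPushout.cancelBaseChange_symm_tmul, TensorProduct.smul_tmul', Algebra.smul_def,
      map_mul, ← IsScalarTower.algebraMap_apply, IsScalarTower.algebraMap_apply R A B,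
      Algebra.smul_def]
  | add x y hx hy => rw [smul_add, map_add, hx, hy, map_add, smul_add]

end Cancel

section Tors

variable {R : Type*} [CommRing R] (S : Type*) [CommRing S] [Algebra R S] [Module.Flat R S]
  (N : Type*) [AddCommGroup N] [Module R N]

/-- For flat `S` and a finitely generated ideal `I`, an element of `S ⊗ N` killed by `I` comes
from `S ⊗ N[I]`. -/
theorem mem_range_lTensor_torsionBySet (I : Ideal R) (hI : I.FG) (η : S ⊗[R] N)
    (hη : ∀ a ∈ I, a • η = 0) :
    η ∈ LinearMap.range ((Submodule.torsionBySet R N (I : Set R)).subtype.lTensor S) := by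
  classical
  obtain ⟨t, ht⟩ := hI
  let φ : N →ₗ[R] (t → N) := LinearMap.pi fun j => LinearMap.lsmul R N (j : R)
  have hex : Function.Exact (Submodule.torsionBySet R N (I : Set R)).subtype φ := by
    intro x
    constructor
    · intro hx
      refine ⟨⟨x, ?_⟩, rfl⟩
      rw [← ht, ← Submodule.torsionBySet_eq_torsionBySet_span, Submodule.mem_torsionBySet_iff]
      intro a
      have := congr_fun hx ⟨a.1, a.2⟩
      exact this
    · rintro ⟨y, rfl⟩
      funext j
      have hy := y.2
      rw [Submodule.mem_torsionBySet_iff] at hy
      exact hy ⟨j.1, by rw [← ht]; exact Ideal.subset_span j.2⟩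
  have hex' := Module.Flat.lTensor_exact S hex
  rw [← LinearMap.exact_iff.mp hex', LinearMap.mem_ker]
  apply (TensorProduct.piRight R R S (fun _ : t => N)).injective
  rw [map_zero]
  funext j
  have key : ∀ z : S ⊗[R] N, TensorProduct.piRight R R S (fun _ : t => N) (φ.lTensor S z) j =
      (j : R) • z := by
    intro z
    induction z using TensorProduct.induction_on with
    | zero => simp
    | tmul s n =>
      rw [LinearMap.lTensor_tmul, TensorProduct.piRight_apply, TensorProduct.piRightHom_tmul]
      change s ⊗ₜ[R] ((j : R) • n) = _
      rw [TensorProduct.tmul_smul]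
    | add x y hx hy => rw [map_add, map_add, Pi.add_apply, hx, hy, smul_add]
  rw [key, Pi.zero_apply]
  exact hη _ (by rw [← ht]; exact Ideal.subset_span j.2)

end Tors

end Groth.Agent.Lib.Helper6.SepFam
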