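import Mathlib
import Groth.Agent.Lib.Helper6.FibCrit2
import Groth.Agent.Lib.Helper6.SepFam11

/-!
# The fibrewise criterion for separating families: the absolute case (helper6)
-/

set_option autoImplicit false
set_option linter.style.haveILetI false
set_option linter.unusedSectionVars false
universe u v w

open TensorProduct

namespace Groth.Agent.Lib.Helper6.SepFam

section FlatTensor

variable (R : Type u) [CommRing R] (T₀ : Type u) [CommRing T₀] [Algebra R T₀]
  (T : Type u) [CommRing T] [Algebra T₀ T] [Algebra R T] [IsScalarTower R T₀ T] [Module.Flat T₀ T]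
  (L : Type u) [AddCommGroup L] [Module T₀ L] [Module R L] [IsScalarTower R T₀ L]
  [Module.Flat R L]

/-- a flat base change of an `R`-flat `T₀`-module is `R`-flat -/
theorem flat_tensor_of_flat : Module.Flat R (T ⊗[T₀] L) := by
  rw [Module.Flat.iff_lTensor_preserves_injective_linearMap]
  intro P' P _ _ _ _ f hf
  have h1 : Function.Injective (f.lTensor L) :=
    Module.Flat.lTensor_preserves_injective_linearMap f hf
  have h2 : Function.Injective ((AlgebraTensorModule.lTensor T₀ L f).lTensor T) :=
    Module.Flat.lTensor_preserves_injective_linearMap _ h1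
  have hcomm : ∀ z : (T ⊗[T₀] L) ⊗[R] P',
      AlgebraTensorModule.assoc R T₀ T T L P (f.lTensor (T ⊗[T₀] L) z) =
        (AlgebraTensorModule.lTensor T₀ L f).lTensor T
          (AlgebraTensorModule.assoc R T₀ T T L P' z) := by
    intro z
    induction z using TensorProduct.induction_on with
    | zero => simp
    | tmul x p =>
      induction x using TensorProduct.induction_on with
      | zero => simp
      | tmul t l => rfl
      | add x y hx hy =>
        rw [TensorProduct.add_tmul, map_add, map_add, hx, hy, map_add, map_add]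
    | add x y hx hy => rw [map_add, map_add, hx, hy, map_add, map_add]
  intro a b hab
  apply (AlgebraTensorModule.assoc R T₀ T T L P').injective
  apply h2
  rw [← hcomm, ← hcomm, hab]

end FlatTensor

section LocL

variable {T₀ : Type*} [CommRing T₀] (c : T₀) (D : Type*) [AddCommGroup D] [Module T₀ D]
  (N : Type*) [AddCommGroup N] [Module T₀ N]

/-- `D ⊗ N → D ⊗ N[1/c]` is a localisation -/
theorem isLocalizedModule_lTensor_mk :
    IsLocalizedModule (Submonoid.powers c)
      ((TensorProduct.mk T₀ (Localization.Away c) N 1).lTensor D) := by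
  have h : (TensorProduct.mk T₀ (Localization.Away c) N 1).lTensor D =
      (TensorProduct.leftComm T₀ (Localization.Away c) D N).toLinearMap ∘ₗ
        (TensorProduct.mk T₀ (Localization.Away c) (D ⊗[T₀] N) 1) := by
    apply TensorProduct.ext'
    intro d n
    simp
  rw [h]
  exact IsLocalizedModule.of_linearEquiv (Submonoid.powers c)
    (TensorProduct.mk T₀ (Localization.Away c) (D ⊗[T₀] N) 1)
    (TensorProduct.leftComm T₀ (Localization.Away c) D N)

end LocL

section Absolute

variable {R : Type u} [CommRing R] {T₀ : Type u} [CommRing T₀] [Algebra R T₀]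
  [IsNoetherianRing T₀]
  {N₀ : Type u} [AddCommGroup N₀] [Module T₀ N₀] [Module R N₀] [IsScalarTower R T₀ N₀]
  [Module.Finite T₀ N₀]
  {ι : Type*} {G : ι → Type u} [∀ j, AddCommGroup (G j)] [∀ j, Module T₀ (G j)]
  [∀ j, Module R (G j)] [∀ j, IsScalarTower R T₀ (G j)] [∀ j, Module.Flat R (G j)]
  (u : ∀ j, N₀ →ₗ[T₀] G j)

attribute [local instance] Algebra.TensorProduct.rightAlgebra in
/-- **The fibrewise criterion, absolute form.** -/
theorem strongSep_of_fibrewise
    (hfib : ∀ (𝔮 : Ideal R) [𝔮.IsPrime], ∃ (k : Type u) (_ : Field k) (_ : Algebra R k),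
      RingHom.ker (algebraMap R k) = 𝔮 ∧ AffSep T₀ (T₀ ⊗[R] k) u) :
    StrongSep u := by
  intro c n hn
  haveI hflat : ∀ j, Module.Flat R (Localization.Away c ⊗[T₀] G j) := fun j =>
    flat_tensor_of_flat R T₀ (Localization.Away c) (G j)
  let v : ∀ j, Localization.Away c ⊗[T₀] N₀ →ₗ[Localization.Away c]
      Localization.Away c ⊗[T₀] G j := fun j =>
    AlgebraTensorModule.lTensor (Localization.Away c) (Localization.Away c) (u j)
  have hv : ∀ j (z : Localization.Away c ⊗[T₀] N₀), v j z = (u j).lTensor _ z := fun _ _ => rfl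
  have key : (1 : Localization.Away c) ⊗ₜ[T₀] n = 0 := by
    refine eq_zero_of_fibrewise (R := R) (T := Localization.Away c) v ?_ _ ?_
    · intro 𝔮 _
      obtain ⟨k, _, _, hker, hAff⟩ := hfib 𝔮
      refine ⟨k, inferInstance, inferInstance, hker, ?_⟩
      intro y hy
      obtain ⟨ζ, hζdef⟩ : ∃ ζ : (T₀ ⊗[R] k) ⊗[T₀] (Localization.Away c ⊗[T₀] N₀),
        ζ = (Algebra.IsPushout.cancelBaseChange R k T₀ (T₀ ⊗[R] k)
          (Localization.Away c ⊗[T₀] N₀)).symm y := ⟨_, rfl⟩
      have hζ : ∀ j, ((u j).lTensor (Localization.Away c)).lTensor (T₀ ⊗[R] k) ζ = 0 := by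
        intro j
        rw [hζdef, cancel_nat R k T₀ (T₀ ⊗[R] k) ((u j).lTensor (Localization.Away c)) y]
        have h1 : ((u j).lTensor (Localization.Away c)).restrictScalars R =
            (v j).restrictScalars R := rfl
        rw [h1, hy j, map_zero]
      -- the localisation maps
      haveI hlocN := isLocalizedModule_lTensor_mk c (T₀ ⊗[R] k) N₀
      haveI hlocG := fun j => isLocalizedModule_lTensor_mk c (T₀ ⊗[R] k) (G j)
      obtain ⟨⟨η₀, s⟩, hs⟩ := IsLocalizedModule.surj (Submonoid.powers c)
        ((TensorProduct.mk T₀ (Localization.Away c) N₀ 1).lTensor (T₀ ⊗[R] k)) ζ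
      have hkill : ∀ j, ∃ m : ℕ, (algebraMap T₀ (T₀ ⊗[R] k) c) ^ m •
          (u j).lTensor (T₀ ⊗[R] k) η₀ = 0 := by
        intro j
        have h1 : ((TensorProduct.mk T₀ (Localization.Away c) (G j) 1).lTensor (T₀ ⊗[R] k))
            ((u j).lTensor (T₀ ⊗[R] k) η₀) = 0 := by
          have h2 : (TensorProduct.mk T₀ (Localization.Away c) (G j) 1) ∘ₗ (u j) =
              ((u j).lTensor (Localization.Away c)) ∘ₗ
                (TensorProduct.mk T₀ (Localization.Away c) N₀ 1) := by
            ext x
            simp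
          rw [← LinearMap.comp_apply, ← LinearMap.lTensor_comp, h2, LinearMap.lTensor_comp,
            LinearMap.comp_apply, ← hs]
          change ((u j).lTensor (Localization.Away c)).lTensor (T₀ ⊗[R] k) ((s : T₀) • ζ) = 0
          rw [map_smul, hζ j, smul_zero]
        obtain ⟨⟨c', hcmem⟩, hc⟩ := (IsLocalizedModule.eq_zero_iff (Submonoid.powers c)
          ((TensorProduct.mk T₀ (Localization.Away c) (G j) 1).lTensor (T₀ ⊗[R] k))).mp h1
        obtain ⟨m, hm⟩ := (Submonoid.mem_powers_iff _ _).mp hcmem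
        refine ⟨m, ?_⟩
        rw [← map_pow, algebraMap_smul, hm]
        exact hc
      obtain ⟨m, hm⟩ := hAff _ η₀ hkill
      rw [← map_pow, algebraMap_smul] at hm
      have h3 : ((TensorProduct.mk T₀ (Localization.Away c) N₀ 1).lTensor (T₀ ⊗[R] k)) η₀ = 0 :=
        (IsLocalizedModule.eq_zero_iff (Submonoid.powers c) _).mpr ⟨⟨c ^ m, m, rfl⟩, hm⟩
      rw [h3] at hs
      have hζ0 : ζ = 0 := IsLocalizedModule.smul_injective
        ((TensorProduct.mk T₀ (Localization.Away c) N₀ 1).lTensor (T₀ ⊗[R] k)) s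
        (by simpa using hs)
      rw [hζdef] at hζ0
      exact (LinearEquiv.map_eq_zero_iff _).mp hζ0
    · intro j
      rw [hv, LinearMap.lTensor_tmul]
      obtain ⟨m, hm⟩ := hn j
      exact (IsLocalizedModule.eq_zero_iff (Submonoid.powers c)
        (TensorProduct.mk T₀ (Localization.Away c) (G j) 1)).mpr ⟨⟨c ^ m, m, rfl⟩, hm⟩
  obtain ⟨⟨c', hcmem⟩, hc⟩ := (IsLocalizedModule.eq_zero_iff (Submonoid.powers c)
    (TensorProduct.mk T₀ (Localization.Away c) N₀ 1)).mp key
  obtain ⟨m, hm⟩ := (Submonoid.mem_powers_iff _ _).mp hcmem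
  refine ⟨m, ?_⟩
  rw [hm]
  exact hc

end Absolute

end Groth.Agent.Lib.Helper6.SepFam
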