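import Mathlib
import Groth.Agent.Lib.Helper6.SepFam11

/-!
# Strongly separating families and flat finite type algebras over a noetherian ring (helper6)
-/

set_option autoImplicit false
set_option linter.style.haveILetI false
set_option linter.unusedSectionVars false
universe u v w

open TensorProduct

namespace Groth.Agent.Lib.Helper6.SepFam

section QuotCase

attribute [local instance] Algebra.TensorProduct.rightAlgebra

variable {R : Type u} [CommRing R] (𝔭 : Ideal R) [𝔭.IsPrime] {S : Type u} [CommRing S]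
  [Algebra R S] [Algebra.FiniteType R S]
  {M : Type v} [AddCommGroup M] [Module R M] [Module (R ⧸ 𝔭) M] [IsScalarTower R (R ⧸ 𝔭) M]
  {ι : Type*} {Λ : ι → Type w}
  [∀ i, AddCommGroup (Λ i)] [∀ i, Module R (Λ i)] [∀ i, Module (R ⧸ 𝔭) (Λ i)]
  [∀ i, IsScalarTower R (R ⧸ 𝔭) (Λ i)] (v : ∀ i, M →ₗ[R] Λ i)

/-- the case of modules killed by a prime ideal -/
theorem exists_notMem_pow_smul_eq_zero (hv : StrongSep v) (ζ₀ : S ⊗[R] M)
    (hζ₀ : ∀ i, (v i).lTensor S ζ₀ = 0) : ∃ c : R, c ∉ 𝔭 ∧ ∃ m : ℕ, c ^ m • ζ₀ = 0 := by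
  have hsurj : Function.Surjective (algebraMap R (R ⧸ 𝔭)) := Ideal.Quotient.mk_surjective
  let v' : ∀ i, M →ₗ[R ⧸ 𝔭] Λ i := fun i => (v i).extendScalarsOfSurjective hsurj
  have hv' : StrongSep v' := by
    intro c n hn
    obtain ⟨c, rfl⟩ := hsurj c
    have h1 : ∀ i, ∃ m : ℕ, c ^ m • v i n = 0 := by
      intro i
      obtain ⟨m, hm⟩ := hn i
      refine ⟨m, ?_⟩
      rw [← map_pow, algebraMap_smul] at hm
      exact hm
    obtain ⟨m, hm⟩ := hv c n h1
    refine ⟨m, ?_⟩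
    rw [← map_pow, algebraMap_smul]
    exact hm
  obtain ⟨ζ, hζdef⟩ : ∃ ζ : ((R ⧸ 𝔭) ⊗[R] S) ⊗[R ⧸ 𝔭] M,
      ζ = (Algebra.IsPushout.cancelBaseChange R S (R ⧸ 𝔭) ((R ⧸ 𝔭) ⊗[R] S) M).symm ζ₀ := ⟨_, rfl⟩
  have hζ : ∀ i, (v' i).lTensor ((R ⧸ 𝔭) ⊗[R] S) ζ = 0 := by
    intro i
    rw [hζdef, cancel_nat R S (R ⧸ 𝔭) ((R ⧸ 𝔭) ⊗[R] S) (v' i) ζ₀]
    have : (v' i).restrictScalars R = v i := rfl
    rw [this, hζ₀ i, map_zero]
  obtain ⟨g, hg, m, hm⟩ := exists_pow_smul_eq_zero_of_strongSep v' hv' ζ hζ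
  obtain ⟨c, rfl⟩ := hsurj g
  refine ⟨c, ?_, m, ?_⟩
  · intro hc
    exact hg (Ideal.Quotient.eq_zero_iff_mem.mpr hc)
  · apply (Algebra.IsPushout.cancelBaseChange R S (R ⧸ 𝔭) ((R ⧸ 𝔭) ⊗[R] S) M).symm.injective
    rw [cancel_smul, map_pow, ← hζdef, map_zero]
    exact hm

end QuotCase

section Noeth

variable {R : Type u} [CommRing R] [IsNoetherianRing R] {S : Type u} [CommRing S]
  [Algebra R S] [Algebra.FiniteType R S] [Module.Flat R S]
  {N : Type v} [AddCommGroup N] [Module R N] {ι : Type*} {G : ι → Type w}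
  [∀ i, AddCommGroup (G i)] [∀ i, Module R (G i)] (u : ∀ i, N →ₗ[R] G i)

theorem jInj_of_strongSep_of_isNoetherianRing (hu : StrongSep u) : JInj S u := by
  intro η hη
  by_contra hne
  haveI : IsNoetherianRing S := Algebra.FiniteType.isNoetherianRing R S
  obtain ⟨K, hK⟩ : ∃ K : Submodule S (S ⊗[R] N),
      K = ⨅ i, LinearMap.ker ((u i).baseChange S) := ⟨_, rfl⟩
  have hKmem : ∀ z : S ⊗[R] N, z ∈ K ↔ ∀ i, (u i).lTensor S z = 0 := by
    intro z
    rw [hK, Submodule.mem_iInf]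
    refine forall_congr' fun i => ?_
    rw [LinearMap.mem_ker, LinearMap.baseChange_eq_ltensor]
  have hηK : η ∈ K := (hKmem η).mpr hη
  obtain ⟨P, hP, -⟩ := exists_le_isAssociatedPrime_of_isNoetherianRing S (⟨η, hηK⟩ : K)
    (fun h => hne (congrArg Subtype.val h))
  obtain ⟨hPprime, y, hy⟩ := isAssociatedPrime_iff.mp hP
  have hPmem : ∀ a : S, a ∈ P ↔ a • (y : S ⊗[R] N) = 0 := by
    intro a
    rw [hy, Submodule.mem_colon_singleton, Submodule.mem_bot]
    constructor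
    · intro h; exact congrArg Subtype.val h
    · intro h; exact Subtype.ext h
  obtain ⟨𝔭, h𝔭⟩ : ∃ 𝔭 : Ideal R, 𝔭 = P.comap (algebraMap R S) := ⟨_, rfl⟩
  haveI h𝔭prime : 𝔭.IsPrime := by rw [h𝔭]; exact Ideal.comap_isPrime _ _
  have hkill : ∀ a ∈ 𝔭, a • (y : S ⊗[R] N) = 0 := by
    intro a ha
    rw [h𝔭, Ideal.mem_comap, hPmem, algebraMap_smul] at ha
    exact ha
  obtain ⟨ζ₀, hζ₀⟩ := mem_range_lTensor_torsionBySet S N 𝔭
    ((isNoetherianRing_iff_ideal_fg R).mp inferInstance 𝔭) y hkill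
  -- module structures over the quotient
  have hNt : Module.IsTorsionBySet R (Submodule.torsionBySet R N (𝔭 : Set R)) (𝔭 : Set R) :=
    Submodule.torsionBySet_isTorsionBySet _
  have hGt : ∀ i, Module.IsTorsionBySet R (Submodule.torsionBySet R (G i) (𝔭 : Set R))
      (𝔭 : Set R) := fun i => Submodule.torsionBySet_isTorsionBySet _
  letI modN : Module (R ⧸ 𝔭) (Submodule.torsionBySet R N (𝔭 : Set R)) := hNt.module
  letI modG : ∀ i, Module (R ⧸ 𝔭) (Submodule.torsionBySet R (G i) (𝔭 : Set R)) :=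
    fun i => (hGt i).module
  haveI twN : IsScalarTower R (R ⧸ 𝔭) (Submodule.torsionBySet R N (𝔭 : Set R)) :=
    hNt.isScalarTower
  haveI twG : ∀ i, IsScalarTower R (R ⧸ 𝔭) (Submodule.torsionBySet R (G i) (𝔭 : Set R)) :=
    fun i => (hGt i).isScalarTower
  -- the restricted family
  have hmaps : ∀ i, ∀ x : Submodule.torsionBySet R N (𝔭 : Set R),
      u i x ∈ Submodule.torsionBySet R (G i) (𝔭 : Set R) := by
    intro i x
    rw [Submodule.mem_torsionBySet_iff]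
    intro a
    have hx := x.2
    rw [Submodule.mem_torsionBySet_iff] at hx
    rw [← map_smul, hx a, map_zero]
  let v : ∀ i, Submodule.torsionBySet R N (𝔭 : Set R) →ₗ[R]
      Submodule.torsionBySet R (G i) (𝔭 : Set R) := fun i =>
    LinearMap.codRestrict _ ((u i).comp (Submodule.torsionBySet R N (𝔭 : Set R)).subtype)
      (hmaps i)
  have hv : StrongSep v := by
    intro c n hn
    have h1 : ∀ i, ∃ m : ℕ, c ^ m • u i (n : N) = 0 := by
      intro i
      obtain ⟨m, hm⟩ := hn i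
      exact ⟨m, congrArg Subtype.val hm⟩
    obtain ⟨m, hm⟩ := hu c n h1
    exact ⟨m, Subtype.ext hm⟩
  have hvζ : ∀ i, (v i).lTensor S ζ₀ = 0 := by
    intro i
    have hinj : Function.Injective
        ((Submodule.torsionBySet R (G i) (𝔭 : Set R)).subtype.lTensor S) :=
      Module.Flat.lTensor_preserves_injective_linearMap _ (Submodule.injective_subtype _)
    apply hinj
    rw [map_zero, ← LinearMap.comp_apply, ← LinearMap.lTensor_comp]
    have hcomp : (Submodule.torsionBySet R (G i) (𝔭 : Set R)).subtype ∘ₗ v i =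
        (u i) ∘ₗ (Submodule.torsionBySet R N (𝔭 : Set R)).subtype := rfl
    rw [hcomp, LinearMap.lTensor_comp, LinearMap.comp_apply, hζ₀]
    exact (hKmem y).mp y.2 i
  obtain ⟨c, hc, m, hm⟩ := exists_notMem_pow_smul_eq_zero 𝔭 v hv ζ₀ hvζ
  apply hc
  have h2 : c ^ m • (y : S ⊗[R] N) = 0 := by
    rw [← hζ₀, ← map_smul, hm, map_zero]
  have h3 : algebraMap R S (c ^ m) ∈ P := by
    rw [hPmem, algebraMap_smul]
    exact h2
  have h4 : c ^ m ∈ 𝔭 := by rw [h𝔭]; exact h3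
  exact h𝔭prime.mem_of_pow_mem m h4

end Noeth

end Groth.Agent.Lib.Helper6.SepFam
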