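import Mathlib
import Groth.Agent.Lib.Helper6.SepFam12
import Groth.Agent.Lib.Helper18.FlL

/-!
# Strongly separating families stay separating after flat finitely presented base change (helper6)
-/

set_option autoImplicit false
set_option linter.style.haveILetI false
set_option linter.unusedSectionVars false
universe u v w

open TensorProduct

namespace Groth.Agent.Lib.Helper6.SepFam

variable {C : Type u} [CommRing C] {D : Type u} [CommRing D] [Algebra C D]
  {N : Type v} [AddCommGroup N] [Module C N] {ι : Type*} {G : ι → Type w}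
  [∀ i, AddCommGroup (G i)] [∀ i, Module C (G i)] (u : ∀ i, N →ₗ[C] G i)

theorem jInj_of_strongSep_of_flat_of_finitePresentation [Algebra.FinitePresentation C D]
    [Module.Flat C D] (hu : StrongSep u) : JInj D u := by
  obtain ⟨R₀, _, _, S₀, _, _, _, _, _, _, hft, hft', hflat, hpo⟩ :=
    Groth.Agent.Lib.Helper18.Fl.exists_finiteType_int_flat_algebra_model C D
  haveI : IsNoetherianRing R₀ := Algebra.FiniteType.isNoetherianRing ℤ R₀
  haveI hpo' : Algebra.IsPushout R₀ S₀ C D := Algebra.IsPushout.symm hpo
  letI modN : Module R₀ N := Module.compHom N (algebraMap R₀ C)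
  haveI twN : IsScalarTower R₀ C N := IsScalarTower.of_algebraMap_smul (fun _ _ => rfl)
  letI modG : ∀ i, Module R₀ (G i) := fun i => Module.compHom (G i) (algebraMap R₀ C)
  haveI twG : ∀ i, IsScalarTower R₀ C (G i) := fun i =>
    IsScalarTower.of_algebraMap_smul (fun _ _ => rfl)
  let u₀ : ∀ i, N →ₗ[R₀] G i := fun i => (u i).restrictScalars R₀
  have hu₀ : StrongSep u₀ := by
    intro c n hn
    have h1 : ∀ i, ∃ m : ℕ, (algebraMap R₀ C c) ^ m • u i n = 0 := by
      intro i
      obtain ⟨m, hm⟩ := hn i
      refine ⟨m, ?_⟩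
      rw [← map_pow, algebraMap_smul]
      exact hm
    obtain ⟨m, hm⟩ := hu (algebraMap R₀ C c) n h1
    refine ⟨m, ?_⟩
    rw [← map_pow, algebraMap_smul] at hm
    exact hm
  have hJ : JInj S₀ u₀ := jInj_of_strongSep_of_isNoetherianRing u₀ hu₀
  intro η hη
  obtain ⟨w, hw⟩ : ∃ w : S₀ ⊗[R₀] N, w = Algebra.IsPushout.cancelBaseChange R₀ S₀ C D N η :=
    ⟨_, rfl⟩
  have hηw : η = (Algebra.IsPushout.cancelBaseChange R₀ S₀ C D N).symm w := by
    rw [hw, LinearEquiv.symm_apply_apply]
  have hw0 : w = 0 := by
    apply hJ
    intro i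
    apply (Algebra.IsPushout.cancelBaseChange R₀ S₀ C D (G i)).symm.injective
    rw [map_zero]
    have := cancel_nat R₀ S₀ C D (u i) w
    rw [← hηw, hη i] at this
    exact this.symm
  rw [hηw, hw0, map_zero]

/-- **Core**: a strongly separating family satisfies the affine separating condition for every
flat finitely presented algebra. -/
theorem affSep_of_strongSep_of_flat_of_finitePresentation [Algebra.FinitePresentation C D]
    [Module.Flat C D] (hu : StrongSep u) : AffSep C D u := by
  intro f η hη
  haveI : Algebra.FinitePresentation D (Localization.Away f) :=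
    IsLocalization.Away.finitePresentation f
  haveI : Algebra.FinitePresentation C (Localization.Away f) :=
    Algebra.FinitePresentation.trans C D (Localization.Away f)
  haveI : Module.Flat D (Localization.Away f) := IsLocalization.flat _ (Submonoid.powers f)
  haveI : Module.Flat C (Localization.Away f) := Module.Flat.trans C D (Localization.Away f)
  have hJ : JInj (Localization.Away f) u :=
    jInj_of_strongSep_of_flat_of_finitePresentation u hu
  let ℓ : D →ₗ[D] Localization.Away f := Algebra.linearMap D (Localization.Away f)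
  haveI hℓ : IsLocalizedModule (Submonoid.powers f) ℓ := inferInstance
  have hnat : ∀ i (z : D ⊗[C] N), (u i).lTensor (Localization.Away f)
      (AlgebraTensorModule.rTensor C N ℓ z) =
      AlgebraTensorModule.rTensor C (G i) ℓ ((u i).lTensor D z) := by
    intro i z
    induction z using TensorProduct.induction_on with
    | zero => simp
    | tmul d n => rfl
    | add x y hx hy => rw [map_add, map_add, map_add, map_add, hx, hy]
  have h0 : AlgebraTensorModule.rTensor C N ℓ η = 0 := by
    apply hJ
    intro i
    rw [hnat]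
    obtain ⟨m, hm⟩ := hη i
    exact (IsLocalizedModule.eq_zero_iff (Submonoid.powers f)
      (AlgebraTensorModule.rTensor C (G i) ℓ)).mpr ⟨⟨f ^ m, m, rfl⟩, hm⟩
  obtain ⟨⟨c, hcmem⟩, hc⟩ := (IsLocalizedModule.eq_zero_iff (Submonoid.powers f)
    (AlgebraTensorModule.rTensor C N ℓ)).mp h0
  obtain ⟨m, hm⟩ := (Submonoid.mem_powers_iff _ _).mp hcmem
  refine ⟨m, ?_⟩
  rw [hm]
  exact hc

end Groth.Agent.Lib.Helper6.SepFam
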