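import Mathlib
import Groth.Agent.Lib.Helper6.SepFam13

/-!
# The affine separating condition: change of rings and field extensions (helper6)
-/

set_option autoImplicit false
set_option linter.style.haveILetI false
set_option linter.unusedSectionVars false
universe u v w

open TensorProduct

namespace Groth.Agent.Lib.Helper6.SepFam

section Transport

variable {D : Type*} [CommRing D] {ι : Type*}
  {P P' : Type*} [AddCommGroup P] [Module D P] [AddCommGroup P'] [Module D P']
  {Q Q' : ι → Type*} [∀ j, AddCommGroup (Q j)] [∀ j, Module D (Q j)]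
  [∀ j, AddCommGroup (Q' j)] [∀ j, Module D (Q' j)]

theorem strongSep_of_linearEquiv (a : ∀ j, P →ₗ[D] Q j) (a' : ∀ j, P' →ₗ[D] Q' j)
    (e : P ≃ₗ[D] P') (eQ : ∀ j, Q j ≃ₗ[D] Q' j) (hnat : ∀ j x, eQ j (a j x) = a' j (e x))
    (h : StrongSep a) : StrongSep a' := by
  intro c n hn
  have h1 : ∀ j, ∃ m : ℕ, c ^ m • a j (e.symm n) = 0 := by
    intro j
    obtain ⟨m, hm⟩ := hn j
    refine ⟨m, (eQ j).injective ?_⟩
    rw [map_smul, hnat, LinearEquiv.apply_symm_apply, hm, map_zero]
  obtain ⟨m, hm⟩ := h c (e.symm n) h1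
  refine ⟨m, e.symm.injective ?_⟩
  rw [map_smul, hm, map_zero]

end Transport

section BC

variable {C : Type*} [CommRing C] {T₀ : Type*} [CommRing T₀] [Algebra C T₀]
  {D : Type*} [CommRing D] [Algebra T₀ D] [Algebra C D] [IsScalarTower C T₀ D]
  {N : Type*} [AddCommGroup N] [Module C N] {ι : Type*} {G : ι → Type*}
  [∀ j, AddCommGroup (G j)] [∀ j, Module C (G j)] (u : ∀ j, N →ₗ[C] G j)

theorem affSep_iff_strongSep :
    AffSep C D u ↔ StrongSep (fun j => AlgebraTensorModule.lTensor D D (u j)) := Iff.rfl

theorem cancelBaseChange_nat (j : ι) (ζ : D ⊗[T₀] (T₀ ⊗[C] N)) :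
    AlgebraTensorModule.cancelBaseChange C T₀ D D (G j)
      ((AlgebraTensorModule.lTensor T₀ T₀ (u j)).lTensor D ζ) =
    (u j).lTensor D (AlgebraTensorModule.cancelBaseChange C T₀ D D N ζ) := by
  induction ζ using TensorProduct.induction_on with
  | zero => simp
  | tmul d x =>
    induction x using TensorProduct.induction_on with
    | zero => simp
    | tmul t n => rfl
    | add x y hx hy =>
      rw [TensorProduct.tmul_add, map_add, map_add, hx, hy, map_add, map_add]
  | add x y hx hy => rw [map_add, map_add, hx, hy, map_add, map_add]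

theorem affSep_baseChange_iff :
    AffSep T₀ D (fun j => AlgebraTensorModule.lTensor T₀ T₀ (u j)) ↔ AffSep C D u := by
  rw [affSep_iff_strongSep, affSep_iff_strongSep]
  constructor
  · intro h
    refine strongSep_of_linearEquiv _ _ (AlgebraTensorModule.cancelBaseChange C T₀ D D N)
      (fun j => AlgebraTensorModule.cancelBaseChange C T₀ D D (G j)) ?_ h
    intro j x
    exact cancelBaseChange_nat u j x
  · intro h
    refine strongSep_of_linearEquiv _ _ (AlgebraTensorModule.cancelBaseChange C T₀ D D N).symm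
      (fun j => (AlgebraTensorModule.cancelBaseChange C T₀ D D (G j)).symm) ?_ h
    intro j x
    rw [LinearEquiv.symm_apply_eq]
    have := cancelBaseChange_nat u j
      ((AlgebraTensorModule.cancelBaseChange C T₀ D D N).symm x)
    rw [LinearEquiv.apply_symm_apply] at this
    exact this.symm

end BC

section TR

variable {C : Type*} [CommRing C] {D D' : Type*} [CommRing D] [CommRing D'] [Algebra C D]
  [Algebra C D']
  {N : Type*} [AddCommGroup N] [Module C N] {ι : Type*} {G : ι → Type*}
  [∀ j, AddCommGroup (G j)] [∀ j, Module C (G j)] (u : ∀ j, N →ₗ[C] G j)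

theorem rTensor_algEquiv_smul (σ : D' ≃ₐ[C] D) (X : Type*) [AddCommGroup X] [Module C X]
    (d' : D') (z : D' ⊗[C] X) :
    (LinearEquiv.rTensor X σ.toLinearEquiv) (d' • z) =
      σ d' • (LinearEquiv.rTensor X σ.toLinearEquiv) z := by
  induction z using TensorProduct.induction_on with
  | zero => simp
  | tmul d₁ x =>
    rw [TensorProduct.smul_tmul', LinearEquiv.rTensor_tmul, LinearEquiv.rTensor_tmul,
      TensorProduct.smul_tmul', smul_eq_mul, smul_eq_mul]
    simp
  | add x y hx hy => rw [smul_add, map_add, hx, hy, map_add, smul_add]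

theorem rTensor_algEquiv_lTensor (σ : D' ≃ₐ[C] D) (j : ι) (z : D' ⊗[C] N) :
    (LinearEquiv.rTensor (G j) σ.toLinearEquiv) ((u j).lTensor D' z) =
      (u j).lTensor D ((LinearEquiv.rTensor N σ.toLinearEquiv) z) := by
  induction z using TensorProduct.induction_on with
  | zero => simp
  | tmul d₁ x => rfl
  | add x y hx hy => rw [map_add, map_add, hx, hy, map_add, map_add]

/-- the affine separating condition is invariant under isomorphisms of algebras -/
theorem affSep_of_algEquiv (σ : D ≃ₐ[C] D') (h : AffSep C D u) : AffSep C D' u := by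
  intro f' η' hη'
  have h1 : ∀ j, ∃ m : ℕ, (σ.symm f') ^ m •
      (u j).lTensor D ((LinearEquiv.rTensor N σ.symm.toLinearEquiv) η') = 0 := by
    intro j
    obtain ⟨m, hm⟩ := hη' j
    refine ⟨m, ?_⟩
    rw [← rTensor_algEquiv_lTensor, ← map_pow, ← rTensor_algEquiv_smul, hm, map_zero]
  obtain ⟨m, hm⟩ := h _ _ h1
  refine ⟨m, (LinearEquiv.rTensor N σ.symm.toLinearEquiv).injective ?_⟩
  rw [rTensor_algEquiv_smul, map_pow, hm, map_zero]

end TR

section FieldExt

variable {A : Type u} [CommRing A] {C : Type u} [CommRing C] [Algebra A C]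
  {N : Type u} [AddCommGroup N] [Module C N] {ι : Type*} {G : ι → Type u}
  [∀ j, AddCommGroup (G j)] [∀ j, Module C (G j)] (u : ∀ j, N →ₗ[C] G j)
  (k k' : Type u) [Field k] [Field k'] [Algebra A k] [Algebra A k'] [Algebra k k']
  [IsScalarTower A k k']

attribute [local instance] Algebra.TensorProduct.rightAlgebra in
/-- the affine separating condition on a fibre is invariant under extension of the field -/
theorem affSep_field_extension (h : AffSep C (C ⊗[A] k) u) : AffSep C (C ⊗[A] k') u := by
  have hss : StrongSep (fun j => AlgebraTensorModule.lTensor (C ⊗[A] k) (C ⊗[A] k) (u j)) :=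
    (affSep_iff_strongSep u).mp h
  have h1 : AffSep (C ⊗[A] k) ((C ⊗[A] k) ⊗[k] k')
      (fun j => AlgebraTensorModule.lTensor (C ⊗[A] k) (C ⊗[A] k) (u j)) := by
    refine affSep_of_forall_fg (A := k) (C := C ⊗[A] k) (A' := k')
      (C' := (C ⊗[A] k) ⊗[k] k') _ ?_
    intro Bsub hBfg
    haveI : Algebra.FiniteType k ↥Bsub := (Subalgebra.fg_iff_finiteType Bsub).mp hBfg
    haveI : Algebra.FinitePresentation k ↥Bsub := Algebra.FinitePresentation.of_finiteType.mp
      inferInstance
    refine ⟨(C ⊗[A] k) ⊗[k] ↥Bsub, inferInstance, inferInstance, inferInstance, inferInstance,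
      inferInstance, inferInstance, inferInstance, ?_⟩
    exact affSep_of_strongSep_of_flat_of_finitePresentation _ hss
  have h2 : AffSep C ((C ⊗[A] k) ⊗[k] k') u := (affSep_baseChange_iff u).mp h1
  exact affSep_of_algEquiv u (Algebra.IsPushout.cancelBaseChangeAlg A C k (C ⊗[A] k) k') h2

end FieldExt

end Groth.Agent.Lib.Helper6.SepFam
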