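import Mathlib

/-!
# A common field extension of a field over `A` and a residue field of an `A`-algebra (helper6)
-/

set_option autoImplicit false
set_option linter.style.haveILetI false
set_option linter.unusedSectionVars false
universe u v w

open TensorProduct

namespace Groth.Agent.Lib.Helper6.SepFam

theorem exists_compositum {A B : Type u} [CommRing A] [CommRing B] [Algebra A B] (𝔮 : Ideal B)
    [𝔮.IsPrime] (k : Type u) [Field k] [Algebra A k]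
    (hker : RingHom.ker (algebraMap A k) = 𝔮.comap (algebraMap A B)) :
    ∃ (k' : Type u) (_ : Field k') (_ : Algebra B k') (_ : Algebra k k') (_ : Algebra A k')
      (_ : IsScalarTower A k k') (_ : IsScalarTower A B k'),
      RingHom.ker (algebraMap B k') = 𝔮 := by
  classical
  obtain ⟨𝔭, h𝔭⟩ : ∃ 𝔭 : Ideal A, 𝔭 = 𝔮.comap (algebraMap A B) := ⟨_, rfl⟩
  haveI : 𝔭.IsPrime := by rw [h𝔭]; exact Ideal.comap_isPrime _ _
  have hle : ∀ a ∈ 𝔭, algebraMap A k a = 0 := by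
    intro a ha
    rw [h𝔭, ← hker] at ha
    exact ha
  letI alg1 : Algebra (A ⧸ 𝔭) k := (Ideal.Quotient.lift 𝔭 (algebraMap A k) hle).toAlgebra
  haveI tw1 : IsScalarTower A (A ⧸ 𝔭) k := IsScalarTower.of_algebraMap_eq (fun _ => rfl)
  have hinj1 : Function.Injective (algebraMap (A ⧸ 𝔭) k) := by
    rw [injective_iff_map_eq_zero]
    intro a ha
    obtain ⟨a, rfl⟩ := Ideal.Quotient.mk_surjective a
    rw [Ideal.Quotient.eq_zero_iff_mem, h𝔭, ← hker]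
    exact ha
  have hle2 : 𝔭 ≤ 𝔮.comap (algebraMap A B) := h𝔭.le
  letI alg2 : Algebra (A ⧸ 𝔭) (FractionRing (B ⧸ 𝔮)) :=
    ((algebraMap (B ⧸ 𝔮) (FractionRing (B ⧸ 𝔮))).comp
      (Ideal.quotientMap 𝔮 (algebraMap A B) hle2)).toAlgebra
  haveI tw2 : IsScalarTower A (A ⧸ 𝔭) (FractionRing (B ⧸ 𝔮)) :=
    IsScalarTower.of_algebraMap_eq (fun _ => rfl)
  have hinj2 : Function.Injective (algebraMap (A ⧸ 𝔭) (FractionRing (B ⧸ 𝔮))) := by
    refine (IsFractionRing.injective (B ⧸ 𝔮) (FractionRing (B ⧸ 𝔮))).comp ?_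
    exact Ideal.quotientMap_injective' (H := hle2) h𝔭.ge
  haveI hN0 : Nontrivial (k ⊗[A ⧸ 𝔭] FractionRing (B ⧸ 𝔮)) :=
    Algebra.TensorProduct.nontrivial_of_algebraMap_injective_of_isDomain (A ⧸ 𝔭) k
      (FractionRing (B ⧸ 𝔮)) hinj1 hinj2
  haveI : TensorProduct.CompatibleSMul (A ⧸ 𝔭) A k (FractionRing (B ⧸ 𝔮)) :=
    TensorProduct.CompatibleSMul.isScalarTower
  haveI hN : Nontrivial (k ⊗[A] FractionRing (B ⧸ 𝔮)) :=
    (Algebra.TensorProduct.mapOfCompatibleSMul (A ⧸ 𝔭) A A k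
      (FractionRing (B ⧸ 𝔮))).toRingHom.domain_nontrivial
  obtain ⟨𝔪, h𝔪⟩ := Ideal.exists_maximal (k ⊗[A] FractionRing (B ⧸ 𝔮))
  letI fld : Field ((k ⊗[A] FractionRing (B ⧸ 𝔮)) ⧸ 𝔪) := Ideal.Quotient.field 𝔪
  let φk : k →+* (k ⊗[A] FractionRing (B ⧸ 𝔮)) ⧸ 𝔪 :=
    (Ideal.Quotient.mk 𝔪).comp Algebra.TensorProduct.includeLeftRingHom
  let φκ : FractionRing (B ⧸ 𝔮) →+* (k ⊗[A] FractionRing (B ⧸ 𝔮)) ⧸ 𝔪 :=
    (Ideal.Quotient.mk 𝔪).comp
      (Algebra.TensorProduct.includeRight (R := A) (A := k)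
        (B := FractionRing (B ⧸ 𝔮))).toRingHom
  letI algB : Algebra B ((k ⊗[A] FractionRing (B ⧸ 𝔮)) ⧸ 𝔪) :=
    (φκ.comp (algebraMap B (FractionRing (B ⧸ 𝔮)))).toAlgebra
  have twB : IsScalarTower A B ((k ⊗[A] FractionRing (B ⧸ 𝔮)) ⧸ 𝔪) := by
    refine IsScalarTower.of_algebraMap_eq (fun a => ?_)
    change Ideal.Quotient.mk 𝔪 (algebraMap A (k ⊗[A] FractionRing (B ⧸ 𝔮)) a) =
      Ideal.Quotient.mk 𝔪 ((1 : k) ⊗ₜ[A]
        (algebraMap B (FractionRing (B ⧸ 𝔮)) (algebraMap A B a)))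
    rw [← IsScalarTower.algebraMap_apply A B (FractionRing (B ⧸ 𝔮)),
      Algebra.TensorProduct.algebraMap_apply,
      Algebra.algebraMap_eq_smul_one, Algebra.algebraMap_eq_smul_one (A := FractionRing (B ⧸ 𝔮)),
      TensorProduct.smul_tmul]
  refine ⟨(k ⊗[A] FractionRing (B ⧸ 𝔮)) ⧸ 𝔪, fld, algB, inferInstance, inferInstance,
    inferInstance, twB, ?_⟩
  ext b
  rw [RingHom.mem_ker]
  change φκ (algebraMap B (FractionRing (B ⧸ 𝔮)) b) = 0 ↔ b ∈ 𝔮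
  rw [map_eq_zero_iff φκ φκ.injective,
    IsScalarTower.algebraMap_apply B (B ⧸ 𝔮) (FractionRing (B ⧸ 𝔮)),
    map_eq_zero_iff _ (IsFractionRing.injective (B ⧸ 𝔮) (FractionRing (B ⧸ 𝔮))),
    Ideal.Quotient.algebraMap_eq, Ideal.Quotient.eq_zero_iff_mem]

end Groth.Agent.Lib.Helper6.SepFam
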