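import Mathlib
import Groth.Agent.Lib.Helper6.FibCrit3
import Groth.Agent.Lib.Helper6.FibCrit4
import Groth.Agent.Lib.Helper6.FibCrit5

/-!
# The fibrewise criterion for separating families: the relative case (helper6)
-/

set_option autoImplicit false
set_option linter.style.haveILetI false
set_option linter.unusedSectionVars false
universe u v w

open TensorProduct

namespace Groth.Agent.Lib.Helper6.SepFam

variable {A : Type u} [CommRing A] {C : Type u} [CommRing C] [Algebra A C] [IsNoetherianRing C]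
  {N : Type u} [AddCommGroup N] [Module C N] [Module A N] [IsScalarTower A C N]
  [Module.Finite C N]
  {ι : Type*} {G : ι → Type u} [∀ j, AddCommGroup (G j)] [∀ j, Module C (G j)]
  [∀ j, Module A (G j)] [∀ j, IsScalarTower A C (G j)] [∀ j, Module.Flat A (G j)]
  (u : ∀ j, N →ₗ[C] G j)

attribute [local instance] Algebra.TensorProduct.rightAlgebra in
/-- the case of a finite type base change -/
theorem affSep_finiteType_of_fibrewise
    (hfib : ∀ (𝔭 : Ideal A) [𝔭.IsPrime], ∃ (k : Type u) (_ : Field k) (_ : Algebra A k),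
      RingHom.ker (algebraMap A k) = 𝔭 ∧ AffSep C (C ⊗[A] k) u)
    (B : Type u) [CommRing B] [Algebra A B] [Algebra.FiniteType A B] :
    AffSep C (C ⊗[A] B) u := by
  haveI : IsNoetherianRing (C ⊗[A] B) := Algebra.FiniteType.isNoetherianRing C (C ⊗[A] B)
  haveI hflat : ∀ j, Module.Flat B ((C ⊗[A] B) ⊗[C] G j) := fun j =>
    Module.Flat.of_linearEquiv (Algebra.IsPushout.cancelBaseChange A B C (C ⊗[A] B) (G j))
  rw [affSep_iff_strongSep]
  refine strongSep_of_fibrewise (R := B) (T₀ := C ⊗[A] B)
    (fun j => AlgebraTensorModule.lTensor (C ⊗[A] B) (C ⊗[A] B) (u j)) ?_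
  intro 𝔮 _
  obtain ⟨k, _, _, hker, hAff⟩ := hfib (𝔮.comap (algebraMap A B))
  obtain ⟨k', _, _, _, _, _, _, hker'⟩ := exists_compositum 𝔮 k hker
  refine ⟨k', inferInstance, inferInstance, hker', ?_⟩
  have h1 : AffSep C (C ⊗[A] k') u := affSep_field_extension u k k' hAff
  have h2 : AffSep C ((C ⊗[A] B) ⊗[B] k') u :=
    affSep_of_algEquiv u (Algebra.IsPushout.cancelBaseChangeAlg A C B (C ⊗[A] B) k').symm h1
  exact (affSep_baseChange_iff u).mpr h2

/-- **The fibrewise criterion for the affine separating condition.** -/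
theorem affSep_of_fibrewise
    (hfib : ∀ (𝔭 : Ideal A) [𝔭.IsPrime], ∃ (k : Type u) (_ : Field k) (_ : Algebra A k),
      RingHom.ker (algebraMap A k) = 𝔭 ∧ AffSep C (C ⊗[A] k) u)
    {A' C' : Type u} [CommRing A'] [CommRing C'] [Algebra A A'] [Algebra A C'] [Algebra C C']
    [Algebra A' C'] [IsScalarTower A C C'] [IsScalarTower A A' C'] [Algebra.IsPushout A A' C C'] :
    AffSep C C' u := by
  refine affSep_of_forall_fg (A := A) (C := C) (A' := A') (C' := C') u ?_
  intro Bsub hBfg
  haveI : Algebra.FiniteType A ↥Bsub := (Subalgebra.fg_iff_finiteType Bsub).mp hBfg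
  letI := Algebra.TensorProduct.rightAlgebra (R := A) (A := C) (B := ↥Bsub)
  refine ⟨C ⊗[A] ↥Bsub, inferInstance, inferInstance, inferInstance, inferInstance,
    inferInstance, inferInstance, inferInstance, ?_⟩
  exact affSep_finiteType_of_fibrewise u hfib ↥Bsub

end Groth.Agent.Lib.Helper6.SepFam
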