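import Mathlib
import Groth.Agent.Lib.Helper12.FlatMod1

/-!
# Separating families of homomorphisms of quasi-coherent modules: affine reduction (helper6)
-/

set_option autoImplicit false
set_option linter.style.haveILetI false
set_option linter.unusedSectionVars false
universe u

open CategoryTheory CategoryTheory.Limits AlgebraicGeometry TopologicalSpace Opposite TensorProduct
open Groth.Agent.Lib.Helper29.QCoh

namespace Groth.Agent.Lib.Helper6.SepFam

variable {X X' : Scheme.{u}}

/-- a section vanishing locally vanishes -/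
theorem eq_zero_of_locally {F : X.Modules} {V : X.Opens} (t : Γ(F, V))
    (h : ∀ x ∈ V, ∃ (U : X.Opens) (hUV : U ≤ V), x ∈ U ∧ res F hUV t = 0) : t = 0 := by
  refine eq_zero_of_germ_eq_zero F t fun x hx => ?_
  obtain ⟨U, hUV, hxU, h0⟩ := h x hx
  have h1 : F.presheaf.germ U x hxU (res F hUV t) = F.presheaf.germ V x hx t :=
    TopCat.Presheaf.germ_res_apply F.presheaf (homOfLE hUV) x hxU t
  rw [← h1, h0, map_zero]

/-- Separating families (sections form). -/
def Separating {F : X.Modules} {ι : Type*} (G : ι → X.Modules) (u : ∀ i, F ⟶ G i) : Prop :=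
  ∀ (V : X.Opens) (t : Γ(F, V)), (∀ i, (u i).app V t = 0) → t = 0

variable (g : X' ⟶ X) {F : X.Modules} [F.IsQuasicoherent] {ι : Type*} (G : ι → X.Modules)
  [∀ i, (G i).IsQuasicoherent] (u : ∀ i, F ⟶ G i)

/-- Reduction of the separating property of a pulled-back family to affine pairs. -/
theorem separating_pullback_of_affine_pairs
    (H : ∀ (U : X'.Opens) (_ : IsAffineOpen U) (W : X.Opens) (_ : IsAffineOpen W)
      (e : U ≤ g ⁻¹ᵁ W),
      letI := (g.appLE W U e).hom.toAlgebra
      ∀ s : Γ(X', U) ⊗[Γ(X, W)] Γ(F, W),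
        (∀ i, LinearMap.lTensor Γ(X', U) (appₗ (u i) W) s = 0) → s = 0) :
    Separating (fun i => (Scheme.Modules.pullback g).obj (G i))
      (fun i => (Scheme.Modules.pullback g).map (u i)) := by
  intro V t ht
  refine eq_zero_of_locally t fun x hx => ?_
  obtain ⟨U₀, W, hU₀, hW, hxU₀, hU₀W⟩ := exists_affine_pair g x
  obtain ⟨U, hU, hxU, hUsub⟩ := exists_isAffineOpen_mem_and_subset (x := x) (U := U₀ ⊓ V)
    ⟨hxU₀, hx⟩
  have hUV : U ≤ V := hUsub.trans inf_le_right
  have e : U ≤ g ⁻¹ᵁ W := (hUsub.trans inf_le_left).trans hU₀W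
  refine ⟨U, hUV, hxU, ?_⟩
  letI := (g.appLE W U e).hom.toAlgebra
  have key := H U hU W hW e
    (pullbackSectionsEquiv g F hU hW e (res ((Scheme.Modules.pullback g).obj F) hUV t)) ?_
  · exact (pullbackSectionsEquiv g F hU hW e).injective (key.trans (map_zero _).symm)
  · intro i
    rw [← Groth.Agent.Lib.Helper12.H12FlatLim.pullbackSectionsEquiv_map g (u i) hU hW e, app_res,
      ht i, map_zero, map_zero]

end Groth.Agent.Lib.Helper6.SepFam
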