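import Mathlib
import Groth.Agent.Lib.Helper6.SepFam1
import Groth.Agent.Lib.Helper6.SepFam8

/-!
# Separating families on a pullback: the affine condition on basic opens (helper6)
-/

set_option autoImplicit false
set_option linter.style.haveILetI false
set_option linter.unusedSectionVars false
universe u

open CategoryTheory CategoryTheory.Limits AlgebraicGeometry TopologicalSpace Opposite TensorProduct
open Groth.Agent.Lib.Helper29.QCoh

namespace Groth.Agent.Lib.Helper6.SepFam

variable {X X' : Scheme.{u}} (g : X' ⟶ X) {F : X.Modules} [F.IsQuasicoherent] {ι : Type*}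
  (G : ι → X.Modules) [∀ i, (G i).IsQuasicoherent] (u : ∀ i, F ⟶ G i)

omit [F.IsQuasicoherent] in
theorem res_eq_zero_of_pow_smul_eq_zero {Y : Scheme.{u}} (M : Y.Modules) {U : Y.Opens}
    (f : Γ(Y, U)) (m : Γ(M, U)) (n : ℕ) (h : f ^ n • m = 0) :
    res M (Y.basicOpen_le f) m = 0 := by
  have h2 : res M (Y.basicOpen_le f) (f ^ n • m) = 0 := by rw [h, map_zero]
  rw [res_smul, map_pow] at h2
  have hunit : IsUnit (Y.presheaf.map (homOfLE (Y.basicOpen_le f)).op f) :=
    Y.toRingedSpace.isUnit_res_basicOpen f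
  exact eq_zero_of_isUnit_smul (hunit.pow n) h2

set_option maxRecDepth 8000 in
theorem affSep_of_separating_pullback
    (h : Separating (fun i => (Scheme.Modules.pullback g).obj (G i))
      (fun i => (Scheme.Modules.pullback g).map (u i)))
    {U : X'.Opens} (hU : IsAffineOpen U) {W : X.Opens} (hW : IsAffineOpen W) (e : U ≤ g ⁻¹ᵁ W) :
    letI := (g.appLE W U e).hom.toAlgebra
    AffSep Γ(X, W) Γ(X', U) (fun i => appₗ (u i) W) := by
  letI := (g.appLE W U e).hom.toAlgebra
  intro f η hη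
  obtain ⟨E, hE⟩ : ∃ E', E' = pullbackSectionsEquiv g F hU hW e := ⟨_, rfl⟩
  obtain ⟨η', hη'⟩ : ∃ η'', η'' = E.symm η := ⟨_, rfl⟩
  have hEη : E η' = η := by rw [hη']; exact E.apply_symm_apply η
  have hτ : res ((Scheme.Modules.pullback g).obj F) (X'.basicOpen_le f) η' = 0 := by
    apply h (X'.basicOpen f)
    intro i
    obtain ⟨m, hm⟩ := hη i
    change ((Scheme.Modules.pullback g).map (u i)).app (X'.basicOpen f)
      (res ((Scheme.Modules.pullback g).obj F) (X'.basicOpen_le f) η') = 0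
    rw [app_res]
    refine res_eq_zero_of_pow_smul_eq_zero _ f _ m ?_
    apply (pullbackSectionsEquiv g (G i) hU hW e).injective
    rw [map_smul, Groth.Agent.Lib.Helper12.H12FlatLim.pullbackSectionsEquiv_map g (u i) hU hW e,
      ← hE, hEη, map_zero]
    exact hm
  obtain ⟨n, hn⟩ := exists_pow_smul_eq_zero ((Scheme.Modules.pullback g).obj F) hU f η' hτ
  refine ⟨n, ?_⟩
  rw [← hEη, ← map_smul, hn, map_zero]

set_option maxRecDepth 8000 in
theorem separating_pullback_of_affSep
    (H : ∀ x' : X', ∃ (U : X'.Opens) (_ : IsAffineOpen U) (W : X.Opens) (_ : IsAffineOpen W)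
      (e : U ≤ g ⁻¹ᵁ W), x' ∈ U ∧
      (letI := (g.appLE W U e).hom.toAlgebra
       AffSep Γ(X, W) Γ(X', U) (fun i => appₗ (u i) W))) :
    Separating (fun i => (Scheme.Modules.pullback g).obj (G i))
      (fun i => (Scheme.Modules.pullback g).map (u i)) := by
  intro V t ht
  refine eq_zero_of_locally t fun x' hx' => ?_
  obtain ⟨U, hU, W, hW, e, hxU, hAff⟩ := H x'
  letI := (g.appLE W U e).hom.toAlgebra
  obtain ⟨f, hfV, hxf⟩ := hU.exists_basicOpen_le ⟨x', hx'⟩ hxU
  refine ⟨X'.basicOpen f, hfV, hxf, ?_⟩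
  obtain ⟨M', hM'⟩ : ∃ M'' : X'.Modules, M'' = (Scheme.Modules.pullback g).obj F := ⟨_, rfl⟩
  subst hM'
  obtain ⟨τ, hτ⟩ : ∃ τ', τ' = res ((Scheme.Modules.pullback g).obj F) hfV t := ⟨_, rfl⟩
  rw [← hτ]
  obtain ⟨r, η', hr⟩ := exists_pow_smul_eq_res ((Scheme.Modules.pullback g).obj F) hU f τ
  obtain ⟨E, hE⟩ : ∃ E', E' = pullbackSectionsEquiv g F hU hW e := ⟨_, rfl⟩
  have hkill : ∀ i, ∃ m : ℕ, f ^ m • (appₗ (u i) W).lTensor Γ(X', U) (E η') = 0 := by
    intro i
    have h1 : res ((Scheme.Modules.pullback g).obj (G i)) (X'.basicOpen_le f)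
        (((Scheme.Modules.pullback g).map (u i)).app U η') = 0 := by
      rw [← app_res, ← hr, app_smul']
      have h2 : ((Scheme.Modules.pullback g).map (u i)).app (X'.basicOpen f) τ = 0 := by
        rw [hτ, app_res]
        have := ht i
        change ((Scheme.Modules.pullback g).map (u i)).app V t = 0 at this
        rw [this, map_zero]
      rw [h2, smul_zero]
    obtain ⟨m, hm⟩ := exists_pow_smul_eq_zero ((Scheme.Modules.pullback g).obj (G i)) hU f _ h1
    refine ⟨m, ?_⟩
    rw [hE, ← Groth.Agent.Lib.Helper12.H12FlatLim.pullbackSectionsEquiv_map g (u i) hU hW e,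
      ← map_smul, hm, map_zero]
  obtain ⟨n, hn⟩ := hAff f (E η') hkill
  have hn' : f ^ n • η' = 0 := by
    apply E.injective
    rw [map_smul, hn, map_zero]
  have h3 : res ((Scheme.Modules.pullback g).obj F) (X'.basicOpen_le f) η' = 0 :=
    res_eq_zero_of_pow_smul_eq_zero _ f η' n hn'
  rw [h3] at hr
  have hunit : IsUnit (X'.presheaf.map (homOfLE (X'.basicOpen_le f)).op f) :=
    X'.toRingedSpace.isUnit_res_basicOpen f
  exact eq_zero_of_isUnit_smul (hunit.pow r) hr

end Groth.Agent.Lib.Helper6.SepFam
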