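import Mathlib
import Groth.Agent.Lib.Helper6.SepFam7
import Groth.Agent.Lib.Helper6.SepFam13

/-!
# Separating families are stable under flat base change locally of finite presentation (helper6)
-/

set_option autoImplicit false
set_option linter.style.haveILetI false
set_option linter.unusedSectionVars false
universe u

open CategoryTheory CategoryTheory.Limits AlgebraicGeometry TopologicalSpace Opposite TensorProduct
open Groth.Agent.Lib.Helper29.QCoh

namespace Groth.Agent.Lib.Helper6.SepFam

variable {X X' : Scheme.{u}} {F : X.Modules} [F.IsQuasicoherent] {ι : Type*}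
  (G : ι → X.Modules) [∀ i, (G i).IsQuasicoherent] (u : ∀ i, F ⟶ G i)

/-- a separating family is strongly separating on sections over an affine open -/
theorem strongSep_of_separating (h : Separating G u) {W : X.Opens} (hW : IsAffineOpen W) :
    StrongSep (R := Γ(X, W)) (fun i => appₗ (u i) W) := by
  intro c n hn
  have hτ : res F (X.basicOpen_le c) n = 0 := by
    apply h (X.basicOpen c)
    intro i
    obtain ⟨m, hm⟩ := hn i
    rw [app_res]
    exact res_eq_zero_of_pow_smul_eq_zero (G i) c _ m hm
  exact exists_pow_smul_eq_zero F hW c n hτ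

theorem separating_pullback_of_flat_of_locallyOfFinitePresentation (g : X' ⟶ X) [Flat g]
    [LocallyOfFinitePresentation g] (h : Separating G u) :
    Separating (fun i => (Scheme.Modules.pullback g).obj (G i))
      (fun i => (Scheme.Modules.pullback g).map (u i)) := by
  refine separating_pullback_of_affSep g G u ?_
  intro x'
  obtain ⟨U, W, hU, hW, hxU, e⟩ := exists_affine_pair g x'
  refine ⟨U, hU, W, hW, e, hxU, ?_⟩
  letI := (g.appLE W U e).hom.toAlgebra
  haveI hfl : Module.Flat Γ(X, W) Γ(X', U) :=
    HasRingHomProperty.appLE (P := @Flat) g inferInstance ⟨W, hW⟩ ⟨U, hU⟩ e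
  haveI hfp : Algebra.FinitePresentation Γ(X, W) Γ(X', U) :=
    HasRingHomProperty.appLE (P := @LocallyOfFinitePresentation) g inferInstance ⟨W, hW⟩
      ⟨U, hU⟩ e
  exact affSep_of_strongSep_of_flat_of_finitePresentation _ (strongSep_of_separating G u h hW)

end Groth.Agent.Lib.Helper6.SepFam
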