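import Mathlib
import Groth.Agent.Lib.Helper6.SepFam7
import Groth.Agent.Lib.Helper18.GFl5
import Groth.Agent.Lib.Helper18.FlO
import Groth.Agent.Lib.Helper8.FlatAffine

/-!
# Separating families: base change to `A'` from finitely generated subalgebras (helper6)
-/

set_option autoImplicit false
set_option linter.style.haveILetI false
set_option linter.unusedSectionVars false
universe u

open CategoryTheory CategoryTheory.Limits AlgebraicGeometry TopologicalSpace Opposite TensorProduct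
open Groth.Agent.Lib.Helper29.QCoh Groth.Agent.Lib.Helper18

namespace Groth.Agent.Lib.Helper6.SepFam

variable {X : Scheme.{u}}

/-- sections of an affine base change over the affine open `fst⁻¹ W ⊓ snd⁻¹ ⊤` form a pushout -/
theorem isAffineOpen_and_isPushout_sections {A B : CommRingCat.{u}} (a : A ⟶ B) (p : X ⟶ Spec A)
    {W : X.Opens} (hW : IsAffineOpen W)
    (hpW : pullback.fst p (Spec.map a) ⁻¹ᵁ W ⊓ pullback.snd p (Spec.map a) ⁻¹ᵁ ⊤ ≤
      pullback.fst p (Spec.map a) ⁻¹ᵁ W)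
    (hqT : pullback.fst p (Spec.map a) ⁻¹ᵁ W ⊓ pullback.snd p (Spec.map a) ⁻¹ᵁ ⊤ ≤
      pullback.snd p (Spec.map a) ⁻¹ᵁ ⊤) :
    IsAffineOpen (pullback.fst p (Spec.map a) ⁻¹ᵁ W ⊓ pullback.snd p (Spec.map a) ⁻¹ᵁ ⊤) ∧
      IsPushout a ((Scheme.ΓSpecIso A).inv ≫ p.appLE ⊤ W le_top)
        ((Scheme.ΓSpecIso B).inv ≫ (pullback.snd p (Spec.map a)).appLE ⊤ _ hqT)
        ((pullback.fst p (Spec.map a)).appLE W _ hpW) := by
  set g := Spec.map a with hg
  have H : IsPullback (pullback.fst p g) (pullback.snd p g) p g := IsPullback.of_hasPullback _ _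
  have hTA : IsAffineOpen (⊤ : (Spec A).Opens) := isAffineOpen_top _
  have hTK : IsAffineOpen (⊤ : (Spec B).Opens) := isAffineOpen_top _
  have hUST : (⊤ : (Spec B).Opens) ≤ g ⁻¹ᵁ ⊤ := le_top
  have hWT : W ≤ p ⁻¹ᵁ ⊤ := le_top
  have hUYaff := GFl.isAffineOpen_of_isPullback H hTA hTK hW hUST hWT rfl
  have hpo := GFl.isPushout_appLE_of_isPullback H hTA hTK hW hUST hWT rfl
  refine ⟨hUYaff, ?_⟩
  have hnat : (g.appLE ⊤ ⊤ hUST) ≫ (Scheme.ΓSpecIso B).hom = (Scheme.ΓSpecIso A).hom ≫ a := by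
    have h1 := Scheme.ΓSpecIso_naturality a
    have h2 : g.appLE ⊤ ⊤ hUST = g.appTop := Fl.appLE_top_top g hUST
    rw [h2]
    exact h1
  refine hpo.flip.of_iso (Scheme.ΓSpecIso A) (Scheme.ΓSpecIso B) (Iso.refl _) (Iso.refl _) hnat
    ?_ ?_ ?_
  · simp only [Iso.refl_hom, Category.comp_id, Iso.hom_inv_id_assoc]
  · simp only [Iso.refl_hom, Category.comp_id, Iso.hom_inv_id_assoc]
    rfl
  · simp only [Iso.refl_hom, Category.comp_id, Category.id_comp]
    rfl

set_option maxHeartbeats 1600000 in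
set_option maxRecDepth 8000 in
theorem separating_baseChange_of_forall_finiteType_subalgebra (A A' : CommRingCat.{u})
    (φ : A ⟶ A') (p : X ⟶ Spec A) (F : X.Modules) [F.IsQuasicoherent] {ι : Type u}
    (G : ι → X.Modules) [∀ i, (G i).IsQuasicoherent]
    (hG : ∀ i, FlatMod.IsFlatOver p (G i)) (u : ∀ i, F ⟶ G i)
    (hfg : ∀ (B : CommRingCat.{u}) (a : A ⟶ B) (b : B ⟶ A'), a ≫ b = φ →
      Function.Injective b.hom → a.hom.FiniteType →
      Separating
        (fun i => (Scheme.Modules.pullback (pullback.fst p (Spec.map a))).obj (G i))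
        (fun i => (Scheme.Modules.pullback (pullback.fst p (Spec.map a))).map (u i))) :
    Separating
      (fun i => (Scheme.Modules.pullback (pullback.fst p (Spec.map φ))).obj (G i))
      (fun i => (Scheme.Modules.pullback (pullback.fst p (Spec.map φ))).map (u i)) := by
  refine separating_pullback_of_affSep (pullback.fst p (Spec.map φ)) G u ?_
  intro z
  obtain ⟨W, hW, hxW, -⟩ := exists_isAffineOpen_mem_and_subset
    (x := pullback.fst p (Spec.map φ) z) (U := ⊤) trivial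
  have hpW : pullback.fst p (Spec.map φ) ⁻¹ᵁ W ⊓ pullback.snd p (Spec.map φ) ⁻¹ᵁ ⊤ ≤
      pullback.fst p (Spec.map φ) ⁻¹ᵁ W := inf_le_left
  have hqT : pullback.fst p (Spec.map φ) ⁻¹ᵁ W ⊓ pullback.snd p (Spec.map φ) ⁻¹ᵁ ⊤ ≤
      pullback.snd p (Spec.map φ) ⁻¹ᵁ ⊤ := inf_le_right
  obtain ⟨hUYaff, hpoA⟩ := isAffineOpen_and_isPushout_sections φ p hW hpW hqT
  refine ⟨_, hUYaff, W, hW, hpW, ⟨hxW, trivial⟩, ?_⟩
  -- algebra structures
  set UY := pullback.fst p (Spec.map φ) ⁻¹ᵁ W ⊓ pullback.snd p (Spec.map φ) ⁻¹ᵁ ⊤ with hUY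
  let φA : A ⟶ Γ(X, W) := (Scheme.ΓSpecIso A).inv ≫ p.appLE ⊤ W le_top
  let φK : A' ⟶ Γ(pullback p (Spec.map φ), UY) :=
    (Scheme.ΓSpecIso A').inv ≫ (pullback.snd p (Spec.map φ)).appLE ⊤ UY hqT
  letI algAA' : Algebra ↑A ↑A' := φ.hom.toAlgebra
  letI algAC : Algebra ↑A Γ(X, W) := φA.hom.toAlgebra
  letI algKC₀ : Algebra ↑A' Γ(pullback p (Spec.map φ), UY) := φK.hom.toAlgebra
  letI algCC₀ : Algebra Γ(X, W) Γ(pullback p (Spec.map φ), UY) :=
    ((pullback.fst p (Spec.map φ)).appLE W UY hpW).hom.toAlgebra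
  letI algAC₀ : Algebra ↑A Γ(pullback p (Spec.map φ), UY) :=
    (((pullback.fst p (Spec.map φ)).appLE W UY hpW).hom.comp φA.hom).toAlgebra
  haveI tw1 : IsScalarTower ↑A Γ(X, W) Γ(pullback p (Spec.map φ), UY) :=
    IsScalarTower.of_algebraMap_eq (fun _ => rfl)
  haveI tw2 : IsScalarTower ↑A ↑A' Γ(pullback p (Spec.map φ), UY) :=
    IsScalarTower.of_algebraMap_eq (fun r => by
      have hw := hpoA.w
      exact (congr($(hw).hom r)).symm)
  haveI hpo' : Algebra.IsPushout ↑A ↑A' Γ(X, W) Γ(pullback p (Spec.map φ), UY) :=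
    CommRingCat.isPushout_iff_isPushout.mp hpoA
  letI modAF : Module ↑A Γ(F, W) := Module.compHom _ φA.hom
  haveI twF : IsScalarTower ↑A Γ(X, W) Γ(F, W) :=
    IsScalarTower.of_algebraMap_smul (fun _ _ => rfl)
  letI modAG : ∀ i, Module ↑A Γ(G i, W) := fun i => Module.compHom _ φA.hom
  haveI twG : ∀ i, IsScalarTower ↑A Γ(X, W) Γ(G i, W) := fun i =>
    IsScalarTower.of_algebraMap_smul (fun _ _ => rfl)
  haveI hflatG : ∀ i, Module.Flat ↑A Γ(G i, W) := by
    intro i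
    letI modΓ : Module Γ(Spec A, ⊤) Γ(G i, W) := Module.compHom _ (p.appLE ⊤ W le_top).hom
    haveI : Module.Flat Γ(Spec A, ⊤) Γ(G i, W) :=
      Groth.Agent.Lib.Helper8.FlatAffine.flat_sections_of_isFlatOverAt p (G i) hW
        (isAffineOpen_top _) le_top (fun x _ => hG i x)
    exact Fl.flat_of_ringEquiv (Scheme.ΓSpecIso A).symm.commRingCatIsoToRingEquiv
      (fun _ _ => rfl)
  refine affSep_of_forall_fg (A := ↑A) (C := Γ(X, W)) (A' := ↑A')
    (C' := Γ(pullback p (Spec.map φ), UY)) (fun i => appₗ (u i) W) ?_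
  intro Bsub hBfg
  -- the factorisation `A → B → A'`
  let a : A ⟶ CommRingCat.of ↥Bsub := CommRingCat.ofHom (algebraMap ↑A ↥Bsub)
  let b : CommRingCat.of ↥Bsub ⟶ A' := CommRingCat.ofHom Bsub.val.toRingHom
  have hab : a ≫ b = φ := by
    ext r
    rfl
  have hbinj : Function.Injective b.hom := Subtype.val_injective
  have haft : a.hom.FiniteType := by
    change (algebraMap ↑A ↥Bsub).FiniteType
    rw [RingHom.finiteType_algebraMap]
    exact (Subalgebra.fg_iff_finiteType Bsub).mp hBfg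
  have hsep := hfg _ a b hab hbinj haft
  have hpWB : pullback.fst p (Spec.map a) ⁻¹ᵁ W ⊓ pullback.snd p (Spec.map a) ⁻¹ᵁ ⊤ ≤
      pullback.fst p (Spec.map a) ⁻¹ᵁ W := inf_le_left
  have hqTB : pullback.fst p (Spec.map a) ⁻¹ᵁ W ⊓ pullback.snd p (Spec.map a) ⁻¹ᵁ ⊤ ≤
      pullback.snd p (Spec.map a) ⁻¹ᵁ ⊤ := inf_le_right
  obtain ⟨hUYBaff, hpoB⟩ := isAffineOpen_and_isPushout_sections a p hW hpWB hqTB
  have hAffB := affSep_of_separating_pullback (pullback.fst p (Spec.map a)) G u hsep hUYBaff hW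
    hpWB
  set UYB := pullback.fst p (Spec.map a) ⁻¹ᵁ W ⊓ pullback.snd p (Spec.map a) ⁻¹ᵁ ⊤ with hUYB
  let φKB : CommRingCat.of ↥Bsub ⟶ Γ(pullback p (Spec.map a), UYB) :=
    (Scheme.ΓSpecIso (CommRingCat.of ↥Bsub)).inv ≫
      (pullback.snd p (Spec.map a)).appLE ⊤ UYB hqTB
  letI algBD : Algebra ↥Bsub Γ(pullback p (Spec.map a), UYB) := φKB.hom.toAlgebra
  letI algCD : Algebra Γ(X, W) Γ(pullback p (Spec.map a), UYB) :=
    ((pullback.fst p (Spec.map a)).appLE W UYB hpWB).hom.toAlgebra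
  letI algAD : Algebra ↑A Γ(pullback p (Spec.map a), UYB) :=
    (((pullback.fst p (Spec.map a)).appLE W UYB hpWB).hom.comp φA.hom).toAlgebra
  haveI tw3 : IsScalarTower ↑A Γ(X, W) Γ(pullback p (Spec.map a), UYB) :=
    IsScalarTower.of_algebraMap_eq (fun _ => rfl)
  haveI tw4 : IsScalarTower ↑A ↥Bsub Γ(pullback p (Spec.map a), UYB) :=
    IsScalarTower.of_algebraMap_eq (fun r => by
      have hw := hpoB.w
      exact (congr($(hw).hom r)).symm)
  haveI hpoB' : Algebra.IsPushout ↑A ↥Bsub Γ(X, W) Γ(pullback p (Spec.map a), UYB) :=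
    CommRingCat.isPushout_iff_isPushout.mp hpoB
  exact ⟨Γ(pullback p (Spec.map a), UYB), inferInstance, algCD, algBD, algAD, tw3, tw4, hpoB',
    hAffB⟩

end Groth.Agent.Lib.Helper6.SepFam
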