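import Mathlib
import Groth.Agent.Lib.Helper6.SepFam9
import Groth.Agent.Lib.Helper6.SepFam14

/-!
# Separating families over a field are universally separating (helper6)
-/

set_option autoImplicit false
set_option linter.style.haveILetI false
set_option linter.unusedSectionVars false
universe u

open CategoryTheory CategoryTheory.Limits AlgebraicGeometry TopologicalSpace Opposite TensorProduct
open Groth.Agent.Lib.Helper29.QCoh Groth.Agent.Lib.Helper18

namespace Groth.Agent.Lib.Helper6.SepFam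

variable {X : Scheme.{u}}

/-- sections of a base change over the affine open `fst⁻¹ W ⊓ snd⁻¹ T` form a pushout -/
theorem isAffineOpen_and_isPushout_sections' {A : CommRingCat.{u}} {S' : Scheme.{u}}
    (p : X ⟶ Spec A) (q : S' ⟶ Spec A)
    {W : X.Opens} (hW : IsAffineOpen W) {T : S'.Opens} (hT : IsAffineOpen T)
    (hpW : pullback.fst p q ⁻¹ᵁ W ⊓ pullback.snd p q ⁻¹ᵁ T ≤ pullback.fst p q ⁻¹ᵁ W)
    (hqT : pullback.fst p q ⁻¹ᵁ W ⊓ pullback.snd p q ⁻¹ᵁ T ≤ pullback.snd p q ⁻¹ᵁ T) :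
    IsAffineOpen (pullback.fst p q ⁻¹ᵁ W ⊓ pullback.snd p q ⁻¹ᵁ T) ∧
      IsPushout ((Scheme.ΓSpecIso A).inv ≫ q.appLE ⊤ T le_top)
        ((Scheme.ΓSpecIso A).inv ≫ p.appLE ⊤ W le_top)
        ((pullback.snd p q).appLE T _ hqT)
        ((pullback.fst p q).appLE W _ hpW) := by
  have H : IsPullback (pullback.fst p q) (pullback.snd p q) p q := IsPullback.of_hasPullback _ _
  have hTA : IsAffineOpen (⊤ : (Spec A).Opens) := isAffineOpen_top _
  have hUST : T ≤ q ⁻¹ᵁ ⊤ := le_top
  have hWT : W ≤ p ⁻¹ᵁ ⊤ := le_top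
  have hUYaff := GFl.isAffineOpen_of_isPullback H hTA hT hW hUST hWT rfl
  have hpo := GFl.isPushout_appLE_of_isPullback H hTA hT hW hUST hWT rfl
  refine ⟨hUYaff, ?_⟩
  refine hpo.flip.of_iso (Scheme.ΓSpecIso A) (Iso.refl _) (Iso.refl _) (Iso.refl _) ?_ ?_ ?_ ?_
  · simp only [Iso.refl_hom, Category.comp_id, Iso.hom_inv_id_assoc]
  · simp only [Iso.refl_hom, Category.comp_id, Iso.hom_inv_id_assoc]
  · simp only [Iso.refl_hom, Category.comp_id, Category.id_comp]
  · simp only [Iso.refl_hom, Category.comp_id, Category.id_comp]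

attribute [local instance] Algebra.TensorProduct.rightAlgebra in
set_option maxHeartbeats 1600000 in
set_option maxRecDepth 8000 in
theorem separating_baseChange_over_field {k : Type u} [Field k] {S' : Scheme.{u}}
    (p : X ⟶ Spec (CommRingCat.of k)) (q : S' ⟶ Spec (CommRingCat.of k))
    (F : X.Modules) [F.IsQuasicoherent] {ι : Type u}
    (G : ι → X.Modules) [∀ i, (G i).IsQuasicoherent] (u : ∀ i, F ⟶ G i)
    (h : Separating G u) :
    Separating
      (fun i => (Scheme.Modules.pullback (pullback.fst p q)).obj (G i))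
      (fun i => (Scheme.Modules.pullback (pullback.fst p q)).map (u i)) := by
  refine separating_pullback_of_affSep (pullback.fst p q) G u ?_
  intro z
  obtain ⟨W, hW, hxW, -⟩ := exists_isAffineOpen_mem_and_subset
    (x := pullback.fst p q z) (U := ⊤) trivial
  obtain ⟨T, hT, hxT, -⟩ := exists_isAffineOpen_mem_and_subset
    (x := pullback.snd p q z) (U := ⊤) trivial
  have hpW : pullback.fst p q ⁻¹ᵁ W ⊓ pullback.snd p q ⁻¹ᵁ T ≤ pullback.fst p q ⁻¹ᵁ W :=
    inf_le_left
  have hqT : pullback.fst p q ⁻¹ᵁ W ⊓ pullback.snd p q ⁻¹ᵁ T ≤ pullback.snd p q ⁻¹ᵁ T :=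
    inf_le_right
  obtain ⟨hUYaff, hpoA⟩ := isAffineOpen_and_isPushout_sections' p q hW hT hpW hqT
  refine ⟨_, hUYaff, W, hW, hpW, ⟨hxW, hxT⟩, ?_⟩
  -- algebra structures
  set UY := pullback.fst p q ⁻¹ᵁ W ⊓ pullback.snd p q ⁻¹ᵁ T with hUY
  let φA : CommRingCat.of k ⟶ Γ(X, W) :=
    (Scheme.ΓSpecIso (CommRingCat.of k)).inv ≫ p.appLE ⊤ W le_top
  let φK : CommRingCat.of k ⟶ Γ(S', T) :=
    (Scheme.ΓSpecIso (CommRingCat.of k)).inv ≫ q.appLE ⊤ T le_top
  letI algAA' : Algebra k Γ(S', T) := φK.hom.toAlgebra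
  letI algAC : Algebra k Γ(X, W) := φA.hom.toAlgebra
  letI algKC₀ : Algebra Γ(S', T) Γ(pullback p q, UY) :=
    ((pullback.snd p q).appLE T UY hqT).hom.toAlgebra
  letI algCC₀ : Algebra Γ(X, W) Γ(pullback p q, UY) :=
    ((pullback.fst p q).appLE W UY hpW).hom.toAlgebra
  letI algAC₀ : Algebra k Γ(pullback p q, UY) :=
    (((pullback.fst p q).appLE W UY hpW).hom.comp φA.hom).toAlgebra
  haveI tw1 : IsScalarTower k Γ(X, W) Γ(pullback p q, UY) :=
    IsScalarTower.of_algebraMap_eq (fun _ => rfl)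
  haveI tw2 : IsScalarTower k Γ(S', T) Γ(pullback p q, UY) :=
    IsScalarTower.of_algebraMap_eq (fun r => by
      have hw := hpoA.w
      exact (congr($(hw).hom r)).symm)
  haveI hpo' : Algebra.IsPushout k Γ(S', T) Γ(X, W) Γ(pullback p q, UY) :=
    CommRingCat.isPushout_iff_isPushout.mp hpoA
  letI modAF : Module k Γ(F, W) := Module.compHom _ φA.hom
  haveI twF : IsScalarTower k Γ(X, W) Γ(F, W) :=
    IsScalarTower.of_algebraMap_smul (fun _ _ => rfl)
  letI modAG : ∀ i, Module k Γ(G i, W) := fun i => Module.compHom _ φA.hom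
  haveI twG : ∀ i, IsScalarTower k Γ(X, W) Γ(G i, W) := fun i =>
    IsScalarTower.of_algebraMap_smul (fun _ _ => rfl)
  have hss : StrongSep (R := Γ(X, W)) (fun i => appₗ (u i) W) := strongSep_of_separating G u h hW
  refine affSep_of_forall_fg (A := k) (C := Γ(X, W)) (A' := Γ(S', T))
    (C' := Γ(pullback p q, UY)) (fun i => appₗ (u i) W) ?_
  intro Bsub hBfg
  haveI : Algebra.FiniteType k ↥Bsub := (Subalgebra.fg_iff_finiteType Bsub).mp hBfg
  haveI : Algebra.FinitePresentation k ↥Bsub := Algebra.FinitePresentation.of_finiteType.mp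
    inferInstance
  refine ⟨Γ(X, W) ⊗[k] ↥Bsub, inferInstance, inferInstance, inferInstance, inferInstance,
    inferInstance, inferInstance, inferInstance, ?_⟩
  exact affSep_of_strongSep_of_flat_of_finitePresentation _ hss

end Groth.Agent.Lib.Helper6.SepFam
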