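import Mathlib

/-!
# An affine-local criterion for schematically dominant families (helper6)
-/

set_option autoImplicit false
set_option linter.style.haveILetI false
set_option linter.unusedSectionVars false
universe u

open CategoryTheory CategoryTheory.Limits AlgebraicGeometry TopologicalSpace Opposite

namespace Groth.Agent.Lib.Helper6.SepFam

/-- a section of the structure sheaf vanishing locally vanishes -/
theorem sec_eq_zero_of_locally {Y : Scheme.{u}} {V : Y.Opens} (t : Γ(Y, V))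
    (h : ∀ x ∈ V, ∃ (U : Y.Opens) (hUV : U ≤ V), x ∈ U ∧
      Y.presheaf.map (homOfLE hUV).op t = 0) : t = 0 := by
  choose U hUV hxU h0 using h
  refine Y.sheaf.eq_of_locally_eq' (fun x : V => U x.1 x.2) V (fun x => homOfLE (hUV x.1 x.2)) ?_
    t 0 ?_
  · intro x hx
    exact Opens.mem_iSup.mpr ⟨⟨x, hx⟩, hxU x hx⟩
  · intro x
    rw [map_zero]
    exact h0 x.1 x.2

/-- restriction to a basic open kills exactly the elements killed by a power -/
theorem res_basicOpen_eq_zero_iff {Y : Scheme.{u}} {U : Y.Opens} (hU : IsAffineOpen U)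
    (f η : Γ(Y, U)) :
    Y.presheaf.map (homOfLE (Y.basicOpen_le f)).op η = 0 ↔ ∃ m : ℕ, f ^ m * η = 0 := by
  haveI := hU.isLocalization_basicOpen f
  have h := IsLocalization.map_eq_zero_iff (Submonoid.powers f) Γ(Y, Y.basicOpen f) η
  constructor
  · intro h0
    obtain ⟨⟨c, hcmem⟩, hc⟩ := h.mp h0
    obtain ⟨m, hm⟩ := (Submonoid.mem_powers_iff _ _).mp hcmem
    exact ⟨m, by rw [hm]; exact hc⟩
  · rintro ⟨m, hm⟩
    exact h.mpr ⟨⟨f ^ m, m, rfl⟩, hm⟩

theorem schDominant_of_affine_local {X' : Scheme.{u}} {κ : Type*} (Y : κ → Scheme.{u})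
    (hm : ∀ j, Y j ⟶ X')
    (H : ∀ x' : X', ∃ (U : X'.Opens) (_ : IsAffineOpen U), x' ∈ U ∧
      ∀ d η : Γ(X', U), (∀ j (Y' : (Y j).Opens) (_ : IsAffineOpen Y') (e : Y' ≤ hm j ⁻¹ᵁ U),
          ∃ m : ℕ, ((hm j).appLE U Y' e).hom d ^ m * ((hm j).appLE U Y' e).hom η = 0) →
        ∃ m : ℕ, d ^ m * η = 0) :
    ∀ (V : X'.Opens) (t : Γ(X', V)), (∀ j, (hm j).app V t = 0) → t = 0 := by
  intro V t ht
  refine sec_eq_zero_of_locally t fun x' hx' => ?_
  obtain ⟨U, hU, hxU, HU⟩ := H x'
  obtain ⟨f, hfV, hxf⟩ := hU.exists_basicOpen_le ⟨x', hx'⟩ hxU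
  refine ⟨X'.basicOpen f, hfV, hxf, ?_⟩
  haveI hloc := hU.isLocalization_basicOpen f
  obtain ⟨τ, hτ⟩ : ∃ τ : Γ(X', X'.basicOpen f), τ = X'.presheaf.map (homOfLE hfV).op t :=
    ⟨_, rfl⟩
  rw [← hτ]
  obtain ⟨⟨η, ⟨c, hcmem⟩⟩, hη⟩ := IsLocalization.surj (Submonoid.powers f) τ
  have hη' : τ * algebraMap Γ(X', U) Γ(X', X'.basicOpen f) c =
      X'.presheaf.map (homOfLE (X'.basicOpen_le f)).op η := hη
  have hkill : ∃ m : ℕ, f ^ m * η = 0 := by
    apply HU f η
    intro j Y' hY' e
    have key : (Y j).presheaf.map (homOfLE ((Y j).basicOpen_le (((hm j).appLE U Y' e).hom f))).op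
        (((hm j).appLE U Y' e).hom η) = 0 := by
      have hle : (Y j).basicOpen (((hm j).appLE U Y' e).hom f) ≤ hm j ⁻¹ᵁ X'.basicOpen f := by
        rw [Scheme.basicOpen_appLE]
        exact inf_le_right
      -- both sides factor through `appLE (basicOpen f)`
      have h1 : (Y j).presheaf.map
          (homOfLE ((Y j).basicOpen_le (((hm j).appLE U Y' e).hom f))).op
          (((hm j).appLE U Y' e).hom η) =
          ((hm j).appLE (X'.basicOpen f) _ hle).hom
            (X'.presheaf.map (homOfLE (X'.basicOpen_le f)).op η) := by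
        rw [← CommRingCat.comp_apply, ← CommRingCat.comp_apply, Scheme.Hom.appLE_map,
          Scheme.Hom.map_appLE]
      have h2 : ((hm j).appLE (X'.basicOpen f) _ hle).hom τ = 0 := by
        have h3 : ((hm j).appLE (X'.basicOpen f) _ hle).hom τ =
            ((hm j).appLE V _ (hle.trans ((Opens.map (hm j).base).map (homOfLE hfV)).le)).hom t := by
          rw [hτ, ← CommRingCat.comp_apply, Scheme.Hom.map_appLE]
        rw [h3]
        have h4 : (hm j).appLE V ((Y j).basicOpen (((hm j).appLE U Y' e).hom f))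
            (hle.trans ((Opens.map (hm j).base).map (homOfLE hfV)).le) =
            (hm j).app V ≫ (Y j).presheaf.map (homOfLE
              (hle.trans ((Opens.map (hm j).base).map (homOfLE hfV)).le)).op := rfl
        rw [h4, CommRingCat.comp_apply, ht j, map_zero]
      rw [h1, ← hη', map_mul, h2, zero_mul]
    obtain ⟨m, hm'⟩ := (res_basicOpen_eq_zero_iff hY' _ _).mp key
    exact ⟨m, hm'⟩
  have h0 : X'.presheaf.map (homOfLE (X'.basicOpen_le f)).op η = 0 :=
    (res_basicOpen_eq_zero_iff hU f η).mpr hkill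
  rw [h0] at hη'
  have hunit : IsUnit (algebraMap Γ(X', U) Γ(X', X'.basicOpen f) c) :=
    IsLocalization.map_units _ (⟨c, hcmem⟩ : Submonoid.powers f)
  exact (hunit.mul_left_eq_zero).mp hη'

end Groth.Agent.Lib.Helper6.SepFam
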