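import Mathlib
import Groth.Agent.Lib.Helper6.SepFam14
import Groth.Agent.Lib.Helper6.SepFam16
import Groth.Agent.Lib.Helper18.GFl5

/-!
# Schematically dominant families are stable under flat base change locally of finite
presentation (helper6)
-/

set_option autoImplicit false
set_option linter.style.haveILetI false
set_option linter.unusedSectionVars false
universe u

open CategoryTheory CategoryTheory.Limits AlgebraicGeometry TopologicalSpace Opposite TensorProduct
open Groth.Agent.Lib.Helper29.QCoh Groth.Agent.Lib.Helper18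

namespace Groth.Agent.Lib.Helper6.SepFam

variable {X : Scheme.{u}} {ι : Type u} (Z : ι → Scheme.{u}) (f : ∀ i, Z i ⟶ X)

/-- affine opens of the members of the family lying over `W` -/
def AffOver (W : X.Opens) : Type u :=
  Σ i, {Z' : (Z i).Opens // IsAffineOpen Z' ∧ Z' ≤ f i ⁻¹ᵁ W}

/-- the ring of sections of a member of `AffOver` -/
abbrev AffOver.ring {W : X.Opens} (j : AffOver Z f W) : Type u := Γ(Z j.1, j.2.1)

noncomputable instance AffOver.algebra {W : X.Opens} (j : AffOver Z f W) :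
    Algebra Γ(X, W) (AffOver.ring Z f j) :=
  ((f j.1).appLE W j.2.1 j.2.2.2).hom.toAlgebra

variable {Z f}

theorem strongSep_of_schDominant
    (h : ∀ (V : X.Opens) (t : Γ(X, V)), (∀ i, (f i).app V t = 0) → t = 0)
    {W : X.Opens} (hW : IsAffineOpen W) :
    StrongSep (R := Γ(X, W))
      (fun j : AffOver Z f W => Algebra.linearMap Γ(X, W) (AffOver.ring Z f j)) := by
  intro c n hn
  have key : X.presheaf.map (homOfLE (X.basicOpen_le c)).op n = 0 := by
    apply h (X.basicOpen c)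
    intro i
    refine sec_eq_zero_of_locally _ fun z hz => ?_
    obtain ⟨Z', hZ', hzZ', hZ'W₀⟩ := exists_isAffineOpen_mem_and_subset (x := z)
      (U := f i ⁻¹ᵁ W) (X.basicOpen_le c hz)
    have hZ'W : Z' ≤ f i ⁻¹ᵁ W := hZ'W₀
    obtain ⟨m, hm⟩ := hn ⟨i, Z', hZ', hZ'W⟩
    have hm' : ((f i).appLE W Z' hZ'W).hom c ^ m * ((f i).appLE W Z' hZ'W).hom n = 0 := by
      letI : Algebra Γ(X, W) Γ(Z i, Z') := ((f i).appLE W Z' hZ'W).hom.toAlgebra
      have : c ^ m • (algebraMap Γ(X, W) Γ(Z i, Z') n) = 0 := hm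
      rw [Algebra.smul_def, map_pow] at this
      exact this
    have hle : (Z i).basicOpen (((f i).appLE W Z' hZ'W).hom c) ≤ f i ⁻¹ᵁ X.basicOpen c := by
      rw [Scheme.basicOpen_appLE]
      exact inf_le_right
    refine ⟨(Z i).basicOpen (((f i).appLE W Z' hZ'W).hom c), hle, ?_, ?_⟩
    · rw [Scheme.basicOpen_appLE]
      exact ⟨hzZ', hz⟩
    · have h0 := (res_basicOpen_eq_zero_iff hZ' _ _).mpr ⟨m, hm'⟩
      rw [← h0, ← CommRingCat.comp_apply, ← CommRingCat.comp_apply, ← CommRingCat.comp_apply,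
        Scheme.Hom.appLE_map]
      have h1 : (f i).app (X.basicOpen c) ≫ (Z i).presheaf.map (homOfLE hle).op =
          (f i).appLE (X.basicOpen c) _ hle := rfl
      rw [h1, Scheme.Hom.map_appLE]
  obtain ⟨m, hm⟩ := (res_basicOpen_eq_zero_iff hW c n).mp key
  exact ⟨m, hm⟩

variable (Z f) in
set_option maxHeartbeats 1600000 in
theorem schDominant_baseChange_of_flat_lfp {X' : Scheme.{u}} (g : X' ⟶ X) [Flat g]
    [LocallyOfFinitePresentation g]
    (h : ∀ (V : X.Opens) (t : Γ(X, V)), (∀ i, (f i).app V t = 0) → t = 0) :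
    ∀ (V : X'.Opens) (t : Γ(X', V)), (∀ i, (pullback.snd (f i) g).app V t = 0) → t = 0 := by
  refine schDominant_of_affine_local (fun i => pullback (f i) g)
    (fun i => pullback.snd (f i) g) ?_
  intro x'
  obtain ⟨U, W, hU, hW, hxU, e⟩ := exists_affine_pair g x'
  refine ⟨U, hU, hxU, ?_⟩
  intro d η hdη
  letI algCD : Algebra Γ(X, W) Γ(X', U) := (g.appLE W U e).hom.toAlgebra
  haveI hfl : Module.Flat Γ(X, W) Γ(X', U) :=
    HasRingHomProperty.appLE (P := @Flat) g inferInstance ⟨W, hW⟩ ⟨U, hU⟩ e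
  haveI hfp : Algebra.FinitePresentation Γ(X, W) Γ(X', U) :=
    HasRingHomProperty.appLE (P := @LocallyOfFinitePresentation) g inferInstance ⟨W, hW⟩
      ⟨U, hU⟩ e
  have hss := strongSep_of_schDominant h hW
  have hAff : AffSep Γ(X, W) Γ(X', U)
      (fun j : AffOver Z f W => Algebra.linearMap Γ(X, W) (AffOver.ring Z f j)) :=
    affSep_of_strongSep_of_flat_of_finitePresentation _ hss
  have hkill : ∀ j : AffOver Z f W, ∃ m : ℕ, d ^ m •
      (Algebra.linearMap Γ(X, W) (AffOver.ring Z f j)).lTensor Γ(X', U) (η ⊗ₜ 1) = 0 := by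
    rintro ⟨i, Z', hZ', hZ'W⟩
    have H : IsPullback (pullback.fst (f i) g) (pullback.snd (f i) g) (f i) g :=
      IsPullback.of_hasPullback _ _
    have hYaff := GFl.isAffineOpen_of_isPullback H hW hU hZ' e hZ'W rfl
    have hpo := (GFl.isPushout_appLE_of_isPullback H hW hU hZ' e hZ'W rfl).flip
    have hYle : pullback.fst (f i) g ⁻¹ᵁ Z' ⊓ pullback.snd (f i) g ⁻¹ᵁ U ≤
        pullback.snd (f i) g ⁻¹ᵁ U := inf_le_right
    have hYle' : pullback.fst (f i) g ⁻¹ᵁ Z' ⊓ pullback.snd (f i) g ⁻¹ᵁ U ≤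
        pullback.fst (f i) g ⁻¹ᵁ Z' := inf_le_left
    obtain ⟨m, hm⟩ := hdη i _ hYaff hYle
    refine ⟨m, ?_⟩
    set Y' := pullback.fst (f i) g ⁻¹ᵁ Z' ⊓ pullback.snd (f i) g ⁻¹ᵁ U with hY'
    letI algCA : Algebra Γ(X, W) Γ(Z i, Z') := ((f i).appLE W Z' hZ'W).hom.toAlgebra
    letI algDB : Algebra Γ(X', U) Γ(pullback (f i) g, Y') :=
      ((pullback.snd (f i) g).appLE U Y' hYle).hom.toAlgebra
    letI algAB : Algebra Γ(Z i, Z') Γ(pullback (f i) g, Y') :=
      ((pullback.fst (f i) g).appLE Z' Y' hYle').hom.toAlgebra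
    letI algCB : Algebra Γ(X, W) Γ(pullback (f i) g, Y') :=
      (((pullback.snd (f i) g).appLE U Y' hYle).hom.comp (g.appLE W U e).hom).toAlgebra
    haveI tw1 : IsScalarTower Γ(X, W) Γ(X', U) Γ(pullback (f i) g, Y') :=
      IsScalarTower.of_algebraMap_eq (fun _ => rfl)
    haveI tw2 : IsScalarTower Γ(X, W) Γ(Z i, Z') Γ(pullback (f i) g, Y') :=
      IsScalarTower.of_algebraMap_eq (fun r => by
        have hw := hpo.w
        exact congr($(hw).hom r))
    haveI hpo' : Algebra.IsPushout Γ(X, W) Γ(X', U) Γ(Z i, Z') Γ(pullback (f i) g, Y') :=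
      CommRingCat.isPushout_iff_isPushout.mp hpo
    apply (Algebra.IsPushout.equiv Γ(X, W) Γ(X', U) Γ(Z i, Z')
      Γ(pullback (f i) g, Y')).injective
    rw [map_zero, LinearMap.lTensor_tmul, TensorProduct.smul_tmul', Algebra.IsPushout.equiv_tmul,
      Algebra.linearMap_apply, map_one, map_one, mul_one, smul_eq_mul, map_mul, map_pow]
    exact hm
  obtain ⟨m, hm⟩ := hAff d (η ⊗ₜ 1) hkill
  refine ⟨m, ?_⟩
  have h1 := congrArg (TensorProduct.rid Γ(X, W) Γ(X', U)) hm
  rw [TensorProduct.smul_tmul', TensorProduct.rid_tmul, one_smul, map_zero, smul_eq_mul] at h1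
  exact h1

end Groth.Agent.Lib.Helper6.SepFam
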