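import Mathlib
import Groth.Agent.Lib.Helper6.SepFam15
import Groth.Agent.Lib.Helper6.SepFam17

/-!
# Schematically dominant families over a field are universally schematically dominant (helper6)
-/

set_option autoImplicit false
set_option linter.style.haveILetI false
set_option linter.unusedSectionVars false
universe u

open CategoryTheory CategoryTheory.Limits AlgebraicGeometry TopologicalSpace Opposite TensorProduct
open Groth.Agent.Lib.Helper29.QCoh Groth.Agent.Lib.Helper18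

namespace Groth.Agent.Lib.Helper6.SepFam

variable {X : Scheme.{u}} {ι : Type u} (Z : ι → Scheme.{u}) (f : ∀ i, Z i ⟶ X)

set_option maxHeartbeats 1600000 in
/-- general skeleton: base change of a family along `g`, given the affine separating condition on
affine pairs -/
theorem schDominant_of_isPullback_of_affSep {X' : Scheme.{u}} (g : X' ⟶ X)
    (Y : ι → Scheme.{u}) (a : ∀ i, Y i ⟶ Z i) (b : ∀ i, Y i ⟶ X')
    (H : ∀ i, IsPullback (a i) (b i) (f i) g)
    (hloc : ∀ x' : X', ∃ (U : X'.Opens) (_ : IsAffineOpen U) (W : X.Opens) (_ : IsAffineOpen W)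
      (e : U ≤ g ⁻¹ᵁ W), x' ∈ U ∧
      (letI := (g.appLE W U e).hom.toAlgebra
       AffSep Γ(X, W) Γ(X', U)
        (fun j : AffOver Z f W => Algebra.linearMap Γ(X, W) (AffOver.ring Z f j)))) :
    ∀ (V : X'.Opens) (t : Γ(X', V)), (∀ i, (b i).app V t = 0) → t = 0 := by
  refine schDominant_of_affine_local Y b ?_
  intro x'
  obtain ⟨U, hU, W, hW, e, hxU, hAff⟩ := hloc x'
  refine ⟨U, hU, hxU, ?_⟩
  intro d η hdη
  letI algCD : Algebra Γ(X, W) Γ(X', U) := (g.appLE W U e).hom.toAlgebra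
  have hkill : ∀ j : AffOver Z f W, ∃ m : ℕ, d ^ m •
      (Algebra.linearMap Γ(X, W) (AffOver.ring Z f j)).lTensor Γ(X', U) (η ⊗ₜ 1) = 0 := by
    rintro ⟨i, Z', hZ', hZ'W⟩
    have hYaff := GFl.isAffineOpen_of_isPullback (H i) hW hU hZ' e hZ'W rfl
    have hpo := (GFl.isPushout_appLE_of_isPullback (H i) hW hU hZ' e hZ'W rfl).flip
    have hYle : a i ⁻¹ᵁ Z' ⊓ b i ⁻¹ᵁ U ≤ b i ⁻¹ᵁ U := inf_le_right
    have hYle' : a i ⁻¹ᵁ Z' ⊓ b i ⁻¹ᵁ U ≤ a i ⁻¹ᵁ Z' := inf_le_left
    obtain ⟨m, hm⟩ := hdη i _ hYaff hYle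
    refine ⟨m, ?_⟩
    set Y' := a i ⁻¹ᵁ Z' ⊓ b i ⁻¹ᵁ U with hY'
    letI algCA : Algebra Γ(X, W) Γ(Z i, Z') := ((f i).appLE W Z' hZ'W).hom.toAlgebra
    letI algDB : Algebra Γ(X', U) Γ(Y i, Y') := ((b i).appLE U Y' hYle).hom.toAlgebra
    letI algAB : Algebra Γ(Z i, Z') Γ(Y i, Y') := ((a i).appLE Z' Y' hYle').hom.toAlgebra
    letI algCB : Algebra Γ(X, W) Γ(Y i, Y') :=
      (((b i).appLE U Y' hYle).hom.comp (g.appLE W U e).hom).toAlgebra
    haveI tw1 : IsScalarTower Γ(X, W) Γ(X', U) Γ(Y i, Y') :=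
      IsScalarTower.of_algebraMap_eq (fun _ => rfl)
    haveI tw2 : IsScalarTower Γ(X, W) Γ(Z i, Z') Γ(Y i, Y') :=
      IsScalarTower.of_algebraMap_eq (fun r => by
        have hw := hpo.w
        exact congr($(hw).hom r))
    haveI hpo' : Algebra.IsPushout Γ(X, W) Γ(X', U) Γ(Z i, Z') Γ(Y i, Y') :=
      CommRingCat.isPushout_iff_isPushout.mp hpo
    apply (Algebra.IsPushout.equiv Γ(X, W) Γ(X', U) Γ(Z i, Z') Γ(Y i, Y')).injective
    rw [map_zero, LinearMap.lTensor_tmul, TensorProduct.smul_tmul', Algebra.IsPushout.equiv_tmul,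
      Algebra.linearMap_apply, map_one, map_one, mul_one, smul_eq_mul, map_mul, map_pow]
    exact hm
  obtain ⟨m, hm⟩ := hAff d (η ⊗ₜ 1) hkill
  refine ⟨m, ?_⟩
  have h1 := congrArg (TensorProduct.rid Γ(X, W) Γ(X', U)) hm
  rw [TensorProduct.smul_tmul', TensorProduct.rid_tmul, one_smul, map_zero, smul_eq_mul] at h1
  exact h1

/-- the base change of `f i` along the projection `X ×_k S' ⟶ X` -/
theorem isPullback_map_fst {K S' : Scheme.{u}} (p : X ⟶ K) (q : S' ⟶ K) {Z₀ : Scheme.{u}}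
    (f₀ : Z₀ ⟶ X) :
    IsPullback (pullback.fst (f₀ ≫ p) q)
      (pullback.map (f₀ ≫ p) q p q f₀ (𝟙 S') (𝟙 _) (Category.comp_id _)
        ((Category.comp_id _).trans (Category.id_comp _).symm))
      f₀ (pullback.fst p q) := by
  have hbig : IsPullback (pullback.snd (f₀ ≫ p) q) (pullback.fst (f₀ ≫ p) q) q (f₀ ≫ p) :=
    (IsPullback.of_hasPullback (f₀ ≫ p) q).flip
  have hright : IsPullback (pullback.snd p q) (pullback.fst p q) q p :=
    (IsPullback.of_hasPullback p q).flip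
  have hsnd : pullback.map (f₀ ≫ p) q p q f₀ (𝟙 S') (𝟙 _) (Category.comp_id _)
      ((Category.comp_id _).trans (Category.id_comp _).symm) ≫ pullback.snd p q =
      pullback.snd (f₀ ≫ p) q := by
    rw [pullback.map, pullback.lift_snd, Category.comp_id]
  have hfst : pullback.map (f₀ ≫ p) q p q f₀ (𝟙 S') (𝟙 _) (Category.comp_id _)
      ((Category.comp_id _).trans (Category.id_comp _).symm) ≫ pullback.fst p q =
      pullback.fst (f₀ ≫ p) q ≫ f₀ := by
    rw [pullback.map, pullback.lift_fst]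
  rw [← hsnd] at hbig
  exact (IsPullback.of_right hbig hfst hright).flip

attribute [local instance] Algebra.TensorProduct.rightAlgebra in
set_option maxHeartbeats 1600000 in
theorem schDominant_baseChange_over_field {k : Type u} [Field k] {S' : Scheme.{u}}
    (p : X ⟶ Spec (CommRingCat.of k)) (q : S' ⟶ Spec (CommRingCat.of k))
    (h : ∀ (V : X.Opens) (t : Γ(X, V)), (∀ i, (f i).app V t = 0) → t = 0) :
    ∀ (V : (pullback p q).Opens) (t : Γ(pullback p q, V)),
      (∀ i, (pullback.map (f i ≫ p) q p q (f i) (𝟙 S') (𝟙 _) (Category.comp_id _)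
        ((Category.comp_id _).trans (Category.id_comp _).symm)).app V t = 0) → t = 0 := by
  refine schDominant_of_isPullback_of_affSep Z f (pullback.fst p q)
    (fun i => pullback (f i ≫ p) q) (fun i => pullback.fst (f i ≫ p) q)
    (fun i => pullback.map (f i ≫ p) q p q (f i) (𝟙 S') (𝟙 _) (Category.comp_id _)
        ((Category.comp_id _).trans (Category.id_comp _).symm))
    (fun i => isPullback_map_fst p q (f i)) ?_
  intro z
  obtain ⟨W, hW, hxW, -⟩ := exists_isAffineOpen_mem_and_subset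
    (x := pullback.fst p q z) (U := ⊤) trivial
  obtain ⟨T, hT, hxT, -⟩ := exists_isAffineOpen_mem_and_subset
    (x := pullback.snd p q z) (U := ⊤) trivial
  have hpW : pullback.fst p q ⁻¹ᵁ W ⊓ pullback.snd p q ⁻¹ᵁ T ≤ pullback.fst p q ⁻¹ᵁ W :=
    inf_le_left
  have hqT : pullback.fst p q ⁻¹ᵁ W ⊓ pullback.snd p q ⁻¹ᵁ T ≤ pullback.snd p q ⁻¹ᵁ T :=
    inf_le_right
  obtain ⟨hUYaff, hpoA⟩ := isAffineOpen_and_isPushout_sections' p q hW hT hpW hqT
  refine ⟨_, hUYaff, W, hW, hpW, ⟨hxW, hxT⟩, ?_⟩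
  -- algebra structures
  set UY := pullback.fst p q ⁻¹ᵁ W ⊓ pullback.snd p q ⁻¹ᵁ T with hUY
  let φA : CommRingCat.of k ⟶ Γ(X, W) :=
    (Scheme.ΓSpecIso (CommRingCat.of k)).inv ≫ p.appLE ⊤ W le_top
  let φK : CommRingCat.of k ⟶ Γ(S', T) :=
    (Scheme.ΓSpecIso (CommRingCat.of k)).inv ≫ q.appLE ⊤ T le_top
  letI algAA' : Algebra k Γ(S', T) := φK.hom.toAlgebra
  letI algAC : Algebra k Γ(X, W) := φA.hom.toAlgebra
  letI algKC₀ : Algebra Γ(S', T) Γ(pullback p q, UY) :=
    ((pullback.snd p q).appLE T UY hqT).hom.toAlgebra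
  letI algCC₀ : Algebra Γ(X, W) Γ(pullback p q, UY) :=
    ((pullback.fst p q).appLE W UY hpW).hom.toAlgebra
  letI algAC₀ : Algebra k Γ(pullback p q, UY) :=
    (((pullback.fst p q).appLE W UY hpW).hom.comp φA.hom).toAlgebra
  haveI tw1 : IsScalarTower k Γ(X, W) Γ(pullback p q, UY) :=
    IsScalarTower.of_algebraMap_eq (fun _ => rfl)
  haveI tw2 : IsScalarTower k Γ(S', T) Γ(pullback p q, UY) :=
    IsScalarTower.of_algebraMap_eq (fun r => by
      have hw := hpoA.w
      exact (congr($(hw).hom r)).symm)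
  haveI hpo' : Algebra.IsPushout k Γ(S', T) Γ(X, W) Γ(pullback p q, UY) :=
    CommRingCat.isPushout_iff_isPushout.mp hpoA
  letI modAG : ∀ j : AffOver Z f W, Module k (AffOver.ring Z f j) :=
    fun j => Module.compHom _ φA.hom
  haveI twG : ∀ j : AffOver Z f W, IsScalarTower k Γ(X, W) (AffOver.ring Z f j) := fun j =>
    IsScalarTower.of_algebraMap_smul (fun _ _ => rfl)
  have hss := strongSep_of_schDominant h hW
  refine affSep_of_forall_fg (A := k) (C := Γ(X, W)) (A' := Γ(S', T))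
    (C' := Γ(pullback p q, UY))
    (fun j : AffOver Z f W => Algebra.linearMap Γ(X, W) (AffOver.ring Z f j)) ?_
  intro Bsub hBfg
  haveI : Algebra.FiniteType k ↥Bsub := (Subalgebra.fg_iff_finiteType Bsub).mp hBfg
  haveI : Algebra.FinitePresentation k ↥Bsub := Algebra.FinitePresentation.of_finiteType.mp
    inferInstance
  refine ⟨Γ(X, W) ⊗[k] ↥Bsub, inferInstance, inferInstance, inferInstance, inferInstance,
    inferInstance, inferInstance, inferInstance, ?_⟩
  exact affSep_of_strongSep_of_flat_of_finitePresentation _ hss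

end Groth.Agent.Lib.Helper6.SepFam
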