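import Mathlib
import Groth.Agent.Lib.Helper6.SepFam18

/-!
# From schematic dominance of a base-changed family to the affine separating condition (helper6)
-/

set_option autoImplicit false
set_option linter.style.haveILetI false
set_option linter.unusedSectionVars false
universe u

open CategoryTheory CategoryTheory.Limits AlgebraicGeometry TopologicalSpace Opposite TensorProduct
open Groth.Agent.Lib.Helper29.QCoh Groth.Agent.Lib.Helper18

namespace Groth.Agent.Lib.Helper6.SepFam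

variable {X : Scheme.{u}} {ι : Type u} (Z : ι → Scheme.{u}) (f : ∀ i, Z i ⟶ X)

set_option maxHeartbeats 1600000 in
theorem affSep_of_schDominant_of_isPullback {X' : Scheme.{u}} (g : X' ⟶ X)
    (Y : ι → Scheme.{u}) (a : ∀ i, Y i ⟶ Z i) (b : ∀ i, Y i ⟶ X')
    (H : ∀ i, IsPullback (a i) (b i) (f i) g)
    (h : ∀ (V : X'.Opens) (t : Γ(X', V)), (∀ i, (b i).app V t = 0) → t = 0)
    {U : X'.Opens} (hU : IsAffineOpen U) {W : X.Opens} (hW : IsAffineOpen W) (e : U ≤ g ⁻¹ᵁ W) :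
    letI := (g.appLE W U e).hom.toAlgebra
    AffSep Γ(X, W) Γ(X', U)
      (fun j : AffOver Z f W => Algebra.linearMap Γ(X, W) (AffOver.ring Z f j)) := by
  letI algCD : Algebra Γ(X, W) Γ(X', U) := (g.appLE W U e).hom.toAlgebra
  intro d η hη
  obtain ⟨η', hη'⟩ : ∃ η' : Γ(X', U), η' = TensorProduct.rid Γ(X, W) Γ(X', U) η := ⟨_, rfl⟩
  have hηη' : η = η' ⊗ₜ 1 := by
    apply (TensorProduct.rid Γ(X, W) Γ(X', U)).injective
    rw [TensorProduct.rid_tmul, one_smul, hη']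
  have key : X'.presheaf.map (homOfLE (X'.basicOpen_le d)).op η' = 0 := by
    apply h (X'.basicOpen d)
    intro i
    refine sec_eq_zero_of_locally _ fun y hy => ?_
    have hyU : b i y ∈ U := X'.basicOpen_le d hy
    have hzW : a i y ∈ f i ⁻¹ᵁ W := by
      change f i (a i y) ∈ W
      have h1 : f i (a i y) = g (b i y) := by
        rw [← Scheme.Hom.comp_apply, ← Scheme.Hom.comp_apply, (H i).w]
      rw [h1]
      exact e hyU
    obtain ⟨Z', hZ', hzZ', hZ'W₀⟩ := exists_isAffineOpen_mem_and_subset (x := a i y)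
      (U := f i ⁻¹ᵁ W) hzW
    have hZ'W : Z' ≤ f i ⁻¹ᵁ W := hZ'W₀
    have hYaff := GFl.isAffineOpen_of_isPullback (H i) hW hU hZ' e hZ'W rfl
    have hpo := (GFl.isPushout_appLE_of_isPullback (H i) hW hU hZ' e hZ'W rfl).flip
    have hYle : a i ⁻¹ᵁ Z' ⊓ b i ⁻¹ᵁ U ≤ b i ⁻¹ᵁ U := inf_le_right
    have hYle' : a i ⁻¹ᵁ Z' ⊓ b i ⁻¹ᵁ U ≤ a i ⁻¹ᵁ Z' := inf_le_left
    obtain ⟨m, hm⟩ := hη ⟨i, Z', hZ', hZ'W⟩
    set Y' := a i ⁻¹ᵁ Z' ⊓ b i ⁻¹ᵁ U with hY'
    have hm' : ((b i).appLE U Y' hYle).hom d ^ m * ((b i).appLE U Y' hYle).hom η' = 0 := by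
      letI algCA : Algebra Γ(X, W) Γ(Z i, Z') := ((f i).appLE W Z' hZ'W).hom.toAlgebra
      letI algDB : Algebra Γ(X', U) Γ(Y i, Y') := ((b i).appLE U Y' hYle).hom.toAlgebra
      letI algAB : Algebra Γ(Z i, Z') Γ(Y i, Y') := ((a i).appLE Z' Y' hYle').hom.toAlgebra
      letI algCB : Algebra Γ(X, W) Γ(Y i, Y') :=
        (((b i).appLE U Y' hYle).hom.comp (g.appLE W U e).hom).toAlgebra
      haveI tw1 : IsScalarTower Γ(X, W) Γ(X', U) Γ(Y i, Y') :=
        IsScalarTower.of_algebraMap_eq (fun _ => rfl)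
      haveI tw2 : IsScalarTower Γ(X, W) Γ(Z i, Z') Γ(Y i, Y') :=
        IsScalarTower.of_algebraMap_eq (fun r => by
          have hw := hpo.w
          exact congr($(hw).hom r))
      haveI hpo' : Algebra.IsPushout Γ(X, W) Γ(X', U) Γ(Z i, Z') Γ(Y i, Y') :=
        CommRingCat.isPushout_iff_isPushout.mp hpo
      have h2 := congrArg (Algebra.IsPushout.equiv Γ(X, W) Γ(X', U) Γ(Z i, Z') Γ(Y i, Y')) hm
      rw [hηη', map_zero, LinearMap.lTensor_tmul, TensorProduct.smul_tmul',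
        Algebra.IsPushout.equiv_tmul, Algebra.linearMap_apply, map_one, map_one, mul_one,
        smul_eq_mul, map_mul, map_pow] at h2
      exact h2
    have hle : (Y i).basicOpen (((b i).appLE U Y' hYle).hom d) ≤ b i ⁻¹ᵁ X'.basicOpen d := by
      rw [Scheme.basicOpen_appLE]
      exact inf_le_right
    refine ⟨(Y i).basicOpen (((b i).appLE U Y' hYle).hom d), hle, ?_, ?_⟩
    · rw [Scheme.basicOpen_appLE]
      exact ⟨⟨hzZ', hyU⟩, hy⟩
    · have h0 := (res_basicOpen_eq_zero_iff hYaff _ _).mpr ⟨m, hm'⟩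
      rw [← h0, ← CommRingCat.comp_apply, ← CommRingCat.comp_apply, ← CommRingCat.comp_apply,
        Scheme.Hom.appLE_map]
      have h1 : (b i).app (X'.basicOpen d) ≫ (Y i).presheaf.map (homOfLE hle).op =
          (b i).appLE (X'.basicOpen d) _ hle := rfl
      rw [h1, Scheme.Hom.map_appLE]
  obtain ⟨m, hm⟩ := (res_basicOpen_eq_zero_iff hU d η').mp key
  refine ⟨m, ?_⟩
  rw [hηη', TensorProduct.smul_tmul', smul_eq_mul, hm, TensorProduct.zero_tmul]

end Groth.Agent.Lib.Helper6.SepFam
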