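import Mathlib
import Groth.Agent.Lib.Helper6.SepFam22
import Groth.Agent.Lib.Helper6.FibCrit6

/-!
# The fibrewise criterion for schematically dominant families: extracting the fibre condition
(helper6)
-/

set_option autoImplicit false
set_option linter.style.haveILetI false
set_option linter.unusedSectionVars false
universe u

open CategoryTheory CategoryTheory.Limits AlgebraicGeometry TopologicalSpace Opposite TensorProduct
open Groth.Agent.Lib.Helper29.QCoh Groth.Agent.Lib.Helper18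

namespace Groth.Agent.Lib.Helper6.SepFam

theorem top_le_preimage_fromSpecResidueField {S : Scheme.{u}} {S₀ : S.Opens} (s : S)
    (hs : s ∈ S₀) :
    (⊤ : (Spec (S.residueField s)).Opens) ≤ S.fromSpecResidueField s ⁻¹ᵁ S₀ := by
  intro y _
  change S.fromSpecResidueField s y ∈ S₀
  rw [Scheme.fromSpecResidueField_apply]
  exact hs

theorem appLE_fromSpecResidueField_eq_zero_iff {S : Scheme.{u}} {S₀ : S.Opens} (s : S)
    (hs : s ∈ S₀) (a : Γ(S, S₀)) :
    ((S.fromSpecResidueField s).appLE S₀ ⊤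
      (top_le_preimage_fromSpecResidueField s hs)).hom a = 0 ↔ s ∉ S.basicOpen a := by
  rw [← AlgebraicGeometry.basicOpen_eq_bot_iff]
  have hb := Scheme.basicOpen_appLE (S.fromSpecResidueField s) ⊤ S₀
    (top_le_preimage_fromSpecResidueField s hs) a
  rw [hb]
  obtain ⟨y₀⟩ : Nonempty (Spec (S.residueField s)) := inferInstance
  constructor
  · intro h hmem
    have h1 : y₀ ∈ (⊤ : (Spec (S.residueField s)).Opens) ⊓
        S.fromSpecResidueField s ⁻¹ᵁ S.basicOpen a := by
      refine ⟨trivial, ?_⟩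
      change S.fromSpecResidueField s y₀ ∈ S.basicOpen a
      rw [Scheme.fromSpecResidueField_apply]
      exact hmem
    rw [h] at h1
    exact h1
  · intro h
    rw [eq_bot_iff]
    rintro y ⟨-, hy⟩
    change S.fromSpecResidueField s y ∈ S.basicOpen a at hy
    rw [Scheme.fromSpecResidueField_apply] at hy
    exact (h hy).elim

variable {X S : Scheme.{u}} {ι : Type u} (Z : ι → Scheme.{u}) (f : ∀ i, Z i ⟶ X)

set_option maxHeartbeats 1600000 in
/-- the affine separating condition on a fibre -/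
theorem affSep_fibre (p : X ⟶ S) {S₀ : S.Opens} (hS₀ : IsAffineOpen S₀) {W : X.Opens}
    (hW : IsAffineOpen W) (hWS : W ≤ p ⁻¹ᵁ S₀) (s : S) (hs : s ∈ S₀)
    (hfib : ∀ (V : (pullback p (S.fromSpecResidueField s)).Opens)
      (t : Γ(pullback p (S.fromSpecResidueField s), V)),
      (∀ i, (pullback.map (f i ≫ p) (S.fromSpecResidueField s) p (S.fromSpecResidueField s)
        (f i) (𝟙 _) (𝟙 _) (Category.comp_id _)
        ((Category.comp_id _).trans (Category.id_comp _).symm)).app V t = 0) → t = 0) :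
    letI := (p.appLE S₀ W hWS).hom.toAlgebra
    ∃ (_ : Algebra Γ(S, S₀) (S.residueField s)),
      (∀ a : Γ(S, S₀), algebraMap Γ(S, S₀) (S.residueField s) a = 0 ↔ s ∉ S.basicOpen a) ∧
      AffSep Γ(X, W) (Γ(X, W) ⊗[Γ(S, S₀)] (S.residueField s))
        (fun j : AffOver Z f W => Algebra.linearMap Γ(X, W) (AffOver.ring Z f j)) := by
  letI algAC : Algebra Γ(S, S₀) Γ(X, W) := (p.appLE S₀ W hWS).hom.toAlgebra
  obtain ⟨q, hq⟩ : ∃ q : Spec (S.residueField s) ⟶ S, q = S.fromSpecResidueField s := ⟨_, rfl⟩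
  rw [← hq] at hfib
  have hT : (⊤ : (Spec (S.residueField s)).Opens) ≤ q ⁻¹ᵁ S₀ := by
    rw [hq]
    exact top_le_preimage_fromSpecResidueField s hs
  have H : IsPullback (pullback.fst p q) (pullback.snd p q) p q := IsPullback.of_hasPullback p q
  have hUaff := GFl.isAffineOpen_of_isPullback H hS₀ (isAffineOpen_top _) hW hT hWS rfl
  have hpo := GFl.isPushout_appLE_of_isPullback H hS₀ (isAffineOpen_top _) hW hT hWS rfl
  have hpW : pullback.fst p q ⁻¹ᵁ W ⊓ pullback.snd p q ⁻¹ᵁ ⊤ ≤ pullback.fst p q ⁻¹ᵁ W :=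
    inf_le_left
  have hqT : pullback.fst p q ⁻¹ᵁ W ⊓ pullback.snd p q ⁻¹ᵁ ⊤ ≤ pullback.snd p q ⁻¹ᵁ ⊤ :=
    inf_le_right
  have hAff := affSep_of_schDominant_of_isPullback Z f (pullback.fst p q)
    (fun i => pullback (f i ≫ p) q) (fun i => pullback.fst (f i ≫ p) q)
    (fun i => pullback.map (f i ≫ p) q p q (f i) (𝟙 _) (𝟙 _) (Category.comp_id _)
        ((Category.comp_id _).trans (Category.id_comp _).symm))
    (fun i => isPullback_map_fst p q (f i)) hfib hUaff hW hpW
  set U := pullback.fst p q ⁻¹ᵁ W ⊓ pullback.snd p q ⁻¹ᵁ ⊤ with hU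
  let φAk : Γ(S, S₀) ⟶ S.residueField s :=
    q.appLE S₀ ⊤ hT ≫ (Scheme.ΓSpecIso (S.residueField s)).hom
  let φkD : S.residueField s ⟶ Γ(pullback p q, U) :=
    (Scheme.ΓSpecIso (S.residueField s)).inv ≫ (pullback.snd p q).appLE ⊤ U hqT
  have hpo2 : IsPushout (p.appLE S₀ W hWS) φAk ((pullback.fst p q).appLE W U hpW) φkD := by
    refine hpo.of_iso (Iso.refl _) (Iso.refl _) (Scheme.ΓSpecIso (S.residueField s))
      (Iso.refl _) ?_ ?_ ?_ ?_
    · simp only [Iso.refl_hom, Category.comp_id, Category.id_comp]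
    · simp only [Iso.refl_hom, Category.id_comp, φAk]
    · simp only [Iso.refl_hom, Category.comp_id, Category.id_comp]
      rfl
    · simp only [Iso.refl_hom, Category.comp_id, φkD, Iso.hom_inv_id_assoc]
      rfl
  letI algAk : Algebra Γ(S, S₀) (S.residueField s) := φAk.hom.toAlgebra
  letI algkD : Algebra (S.residueField s) Γ(pullback p q, U) := φkD.hom.toAlgebra
  letI algCD : Algebra Γ(X, W) Γ(pullback p q, U) :=
    ((pullback.fst p q).appLE W U hpW).hom.toAlgebra
  letI algAD : Algebra Γ(S, S₀) Γ(pullback p q, U) :=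
    (((pullback.fst p q).appLE W U hpW).hom.comp (p.appLE S₀ W hWS).hom).toAlgebra
  haveI tw1 : IsScalarTower Γ(S, S₀) Γ(X, W) Γ(pullback p q, U) :=
    IsScalarTower.of_algebraMap_eq (fun _ => rfl)
  haveI tw2 : IsScalarTower Γ(S, S₀) (S.residueField s) Γ(pullback p q, U) :=
    IsScalarTower.of_algebraMap_eq (fun r => by
      have hw := hpo2.w
      exact congr($(hw).hom r))
  haveI hpo' : Algebra.IsPushout Γ(S, S₀) Γ(X, W) (S.residueField s) Γ(pullback p q, U) :=
    CommRingCat.isPushout_iff_isPushout.mp hpo2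
  refine ⟨algAk, ?_, ?_⟩
  · intro a
    change (Scheme.ΓSpecIso (S.residueField s)).hom.hom ((q.appLE S₀ ⊤ hT).hom a) = 0 ↔ _
    have hinj : Function.Injective (Scheme.ΓSpecIso (S.residueField s)).hom.hom :=
      (Scheme.ΓSpecIso (S.residueField s)).commRingCatIsoToRingEquiv.injective
    rw [map_eq_zero_iff _ hinj]
    subst hq
    exact appLE_fromSpecResidueField_eq_zero_iff s hs a
  · exact affSep_of_algEquiv _
      (Algebra.IsPushout.equiv Γ(S, S₀) Γ(X, W) (S.residueField s) Γ(pullback p q, U)).symm hAff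

end Groth.Agent.Lib.Helper6.SepFam
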