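import Mathlib
import Groth.Prelude.Def_CInt
import Groth.Agent.Lib.Helper6.FibCrit7

/-!
# Schematic density on the fibres: affine charts of a fibre (helper6)
-/

set_option autoImplicit false
set_option linter.style.haveILetI false
set_option linter.unusedSectionVars false
universe u

open CategoryTheory CategoryTheory.Limits AlgebraicGeometry TopologicalSpace Opposite TensorProduct
open Groth.Agent.Lib.Helper18

namespace Groth.Agent.Lib.Helper6.FibDense

/-- prime avoidance: in a Noetherian ring `F`, if the image of an ideal `J` of `C` has trivial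
annihilator then some element of `J` maps to a nonzerodivisor. -/
theorem exists_mem_map_mem_nonZeroDivisors {C F : Type*} [CommRing C] [CommRing F]
    [IsNoetherianRing F] (φ : C →+* F) (J : Ideal C)
    (hJ : ∀ t : F, (∀ g ∈ J, φ g * t = 0) → t = 0) : ∃ h ∈ J, φ h ∈ nonZeroDivisors F := by
  classical
  by_contra hcon
  push Not at hcon
  have hfin : (associatedPrimes F F).Finite := associatedPrimes.finite F F
  have hsub : (J : Set C) ⊆ ⋃ p ∈ (hfin.toFinset : Set (Ideal F)),
      (((fun p : Ideal F => p.comap φ) p : Ideal C) : Set C) := by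
    intro g hg
    have h1 : φ g ∈ ((nonZeroDivisors F : Set F))ᶜ := hcon g hg
    rw [← biUnion_associatedPrimes_eq_compl_nonZeroDivisors] at h1
    simp only [Set.mem_iUnion] at h1 ⊢
    obtain ⟨p, hp, hgp⟩ := h1
    exact ⟨p, by simpa using hp, hgp⟩
  obtain ⟨p, hp, hJp⟩ := (Ideal.subset_union_prime (f := fun p : Ideal F => p.comap φ) ⊥ ⊥
    (fun p hp _ _ => by
      have : p ∈ associatedPrimes F F := by simpa using hp
      haveI := this.isPrime
      exact Ideal.comap_isPrime φ p)).1 hsub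
  have hp' : IsAssociatedPrime p F := (by simpa using hp : p ∈ associatedPrimes F F)
  obtain ⟨hprime, x, hx⟩ := isAssociatedPrime_iff.1 hp'
  have hx0 : x = 0 := by
    apply hJ
    intro g hg
    have h2 : φ g ∈ p := hJp hg
    have : φ g ∈ Submodule.colon (⊥ : Submodule F F) {x} := by rw [← hx]; exact h2
    rw [Submodule.mem_colon_singleton, Submodule.mem_bot] at this
    exact this
  apply hprime.ne_top
  rw [hx, hx0]
  rw [Ideal.eq_top_iff_one, Submodule.mem_colon_singleton]
  simp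

/-- an open containing, near every point, the nonvanishing locus of a nonzerodivisor on an affine
open neighbourhood is schematically dense. -/
theorem isSchematicallyDense_of_forall_exists_nonZeroDivisor {X : Scheme.{u}} (U : X.Opens)
    (h : ∀ x : X, ∃ (W : X.Opens) (_ : IsAffineOpen W) (r : Γ(X, W)), x ∈ W ∧
      r ∈ nonZeroDivisors Γ(X, W) ∧ X.basicOpen r ≤ U) :
    CInt.IsSchematicallyDense U := by
  intro V
  rw [injective_iff_map_eq_zero]
  intro t ht
  refine TopCat.Presheaf.section_ext X.sheaf V t 0 ?_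
  intro x hx
  obtain ⟨W₀, hW₀, r, hxW₀, hr, hrU⟩ := h x
  obtain ⟨W, hW, hxW, hWV⟩ := (Opens.isBasis_iff_nbhd.1 X.isBasis_affineOpens)
    (show x ∈ V ⊓ W₀ from ⟨hx, hxW₀⟩)
  have hWaff : IsAffineOpen W := hW
  have hWV' : W ≤ V := hWV.trans inf_le_left
  have hWW₀ : W ≤ W₀ := hWV.trans inf_le_right
  set tW : Γ(X, W) := X.presheaf.map (homOfLE hWV').op t with htW
  set sW : Γ(X, W) := X.presheaf.map (homOfLE hWW₀).op r with hsW
  have hle : X.basicOpen sW ≤ V ⊓ U := by
    rw [hsW, Scheme.basicOpen_res]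
    exact inf_le_inf hWV' hrU
  have H : X.presheaf.map (homOfLE (X.basicOpen_le sW)).op tW = 0 := by
    have h1 : X.presheaf.map (homOfLE (X.basicOpen_le sW)).op tW =
        X.presheaf.map (homOfLE hle).op
          (X.presheaf.map (homOfLE (inf_le_left : V ⊓ U ≤ V)).op t) := by
      rw [htW, ← CommRingCat.comp_apply, ← CommRingCat.comp_apply, ← Functor.map_comp,
        ← Functor.map_comp]
      rfl
    rw [h1, ht, map_zero]
  obtain ⟨n, hn⟩ :=
    exists_pow_mul_eq_zero_of_res_basicOpen_eq_zero_of_isAffineOpen X hWaff tW sW H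
  have h2 := congrArg (X.presheaf.germ W x hxW) hn
  rw [map_mul, map_pow, map_zero, htW, hsW, TopCat.Presheaf.germ_res_apply,
    TopCat.Presheaf.germ_res_apply] at h2
  rw [map_zero]
  have hs : X.presheaf.germ W₀ x hxW₀ r ∈ nonZeroDivisors (X.presheaf.stalk x) := by
    let _ := X.presheaf.algebra_section_stalk (U := W₀) ⟨x, hxW₀⟩
    have hloc := hW₀.isLocalization_stalk ⟨x, hxW₀⟩
    have h := IsLocalization.map_nonZeroDivisors_le
      (hW₀.primeIdealOf ⟨x, hxW₀⟩).asIdeal.primeCompl (X.presheaf.stalk x)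
    exact h ⟨r, hr, rfl⟩
  have h3 := pow_mem hs n
  rw [mul_comm] at h2
  exact (mul_right_mem_nonZeroDivisors_eq_zero_iff h3).1 h2

/-- regularity of `h ⊗ 1` on a pushout, in terms of the tensor product -/
lemma algebraMap_mem_nonZeroDivisors_iff {A κ C F : Type u} [CommRing A] [CommRing κ]
    [CommRing C] [CommRing F] [Algebra A κ] [Algebra A C] [Algebra κ F] [Algebra C F]
    [Algebra A F] [IsScalarTower A κ F] [IsScalarTower A C F]
    [Algebra.IsPushout A κ C F] (h : C) :
    algebraMap C F h ∈ nonZeroDivisors F ↔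
      Function.Injective (LinearMap.lTensor κ (LinearMap.mulLeft A h)) := by
  let e := Algebra.IsPushout.equiv A κ C F
  have hcomm : ∀ x : κ ⊗[A] C, e (LinearMap.lTensor κ (LinearMap.mulLeft A h) x) =
      algebraMap C F h * e x := by
    intro x
    induction x using TensorProduct.induction_on with
    | zero => simp
    | add a b ha hb => simp only [map_add, ha, hb, mul_add]
    | tmul k c =>
      rw [LinearMap.lTensor_tmul, LinearMap.mulLeft_apply, Algebra.IsPushout.equiv_tmul,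
        Algebra.IsPushout.equiv_tmul, map_mul]
      ring
  rw [mem_nonZeroDivisors_iff_right]
  constructor
  · intro hnz
    rw [injective_iff_map_eq_zero]
    intro x hx
    have h1 := hcomm x
    rw [hx, map_zero] at h1
    have h2 := hnz (e x) (by rw [mul_comm]; exact h1.symm)
    exact (map_eq_zero_iff e e.injective).mp h2
  · intro hinj t ht
    obtain ⟨x, rfl⟩ := e.surjective t
    have h1 : e (LinearMap.lTensor κ (LinearMap.mulLeft A h) x) = 0 := by
      rw [hcomm, mul_comm]; exact ht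
    have h3 : LinearMap.lTensor κ (LinearMap.mulLeft A h) x = 0 :=
      (map_eq_zero_iff e e.injective).mp h1
    rw [hinj (h3.trans (map_zero _).symm), map_zero]

open Groth.Agent.Lib.Helper6.SepFam in
set_option maxHeartbeats 1600000 in
/-- the affine chart `(f.fiberι y)⁻¹ W` of the fibre at `y` -/
theorem fibre_chart {X Y : Scheme.{u}} (f : X ⟶ Y) {Y₀ : Y.Opens} (hY₀ : IsAffineOpen Y₀)
    {W : X.Opens} (hW : IsAffineOpen W) (hWY : W ≤ f ⁻¹ᵁ Y₀) (y : Y) (hy : y ∈ Y₀) :
    letI := (f.appLE Y₀ W hWY).hom.toAlgebra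
    IsAffineOpen (f.fiberι y ⁻¹ᵁ W) ∧
    ∃ (_ : Algebra Γ(Y, Y₀) (Y.residueField y)),
      (∀ a : Γ(Y, Y₀), algebraMap Γ(Y, Y₀) (Y.residueField y) a = 0 ↔ y ∉ Y.basicOpen a) ∧
      ∀ h : Γ(X, W), ((f.fiberι y).appLE W (f.fiberι y ⁻¹ᵁ W) le_rfl).hom h ∈
          nonZeroDivisors Γ(f.fiber y, f.fiberι y ⁻¹ᵁ W) ↔
        Function.Injective
          (LinearMap.lTensor (Y.residueField y) (LinearMap.mulLeft Γ(Y, Y₀) h)) := by
  letI algAC : Algebra Γ(Y, Y₀) Γ(X, W) := (f.appLE Y₀ W hWY).hom.toAlgebra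
  obtain ⟨q, hq⟩ : ∃ q : Spec (Y.residueField y) ⟶ Y, q = Y.fromSpecResidueField y := ⟨_, rfl⟩
  have hT : (⊤ : (Spec (Y.residueField y)).Opens) ≤ q ⁻¹ᵁ Y₀ := by
    rw [hq]
    exact top_le_preimage_fromSpecResidueField y hy
  have H : IsPullback (f.fiberι y) (f.fiberToSpecResidueField y) f q := by
    rw [hq]
    exact IsPullback.of_hasPullback f (Y.fromSpecResidueField y)
  have hUY : f.fiberι y ⁻¹ᵁ W = f.fiberι y ⁻¹ᵁ W ⊓ f.fiberToSpecResidueField y ⁻¹ᵁ ⊤ := by
    rw [Scheme.Hom.preimage_top, inf_top_eq]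
  have hUaff := GFl.isAffineOpen_of_isPullback H hY₀ (isAffineOpen_top _) hW hT hWY hUY
  have hpo := GFl.isPushout_appLE_of_isPullback H hY₀ (isAffineOpen_top _) hW hT hWY hUY
  refine ⟨hUaff, ?_⟩
  set U := f.fiberι y ⁻¹ᵁ W with hU
  have hqT : U ≤ f.fiberToSpecResidueField y ⁻¹ᵁ ⊤ := by
    rw [Scheme.Hom.preimage_top]; exact le_top
  let φAk : Γ(Y, Y₀) ⟶ Y.residueField y :=
    q.appLE Y₀ ⊤ hT ≫ (Scheme.ΓSpecIso (Y.residueField y)).hom
  let φkD : Y.residueField y ⟶ Γ(f.fiber y, U) :=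
    (Scheme.ΓSpecIso (Y.residueField y)).inv ≫ (f.fiberToSpecResidueField y).appLE ⊤ U hqT
  have hpo2 : IsPushout (f.appLE Y₀ W hWY) φAk ((f.fiberι y).appLE W U le_rfl) φkD := by
    refine hpo.of_iso (Iso.refl _) (Iso.refl _) (Scheme.ΓSpecIso (Y.residueField y))
      (Iso.refl _) ?_ ?_ ?_ ?_
    · simp only [Iso.refl_hom, Category.comp_id, Category.id_comp]
    · simp only [Iso.refl_hom, Category.id_comp, φAk]
    · simp only [Iso.refl_hom, Category.comp_id, Category.id_comp]
      rfl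
    · simp only [Iso.refl_hom, Category.comp_id, φkD, Iso.hom_inv_id_assoc]
      rfl
  letI algAk : Algebra Γ(Y, Y₀) (Y.residueField y) := φAk.hom.toAlgebra
  letI algkD : Algebra (Y.residueField y) Γ(f.fiber y, U) := φkD.hom.toAlgebra
  letI algCD : Algebra Γ(X, W) Γ(f.fiber y, U) :=
    ((f.fiberι y).appLE W U le_rfl).hom.toAlgebra
  letI algAD : Algebra Γ(Y, Y₀) Γ(f.fiber y, U) :=
    (((f.fiberι y).appLE W U le_rfl).hom.comp (f.appLE Y₀ W hWY).hom).toAlgebra
  haveI tw1 : IsScalarTower Γ(Y, Y₀) Γ(X, W) Γ(f.fiber y, U) :=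
    IsScalarTower.of_algebraMap_eq (fun _ => rfl)
  haveI tw2 : IsScalarTower Γ(Y, Y₀) (Y.residueField y) Γ(f.fiber y, U) :=
    IsScalarTower.of_algebraMap_eq (fun r => by
      have hw := hpo2.w
      exact congr($(hw).hom r))
  haveI hpo' : Algebra.IsPushout Γ(Y, Y₀) Γ(X, W) (Y.residueField y) Γ(f.fiber y, U) :=
    CommRingCat.isPushout_iff_isPushout.mp hpo2
  haveI hpo'' : Algebra.IsPushout Γ(Y, Y₀) (Y.residueField y) Γ(X, W) Γ(f.fiber y, U) :=
    hpo'.symm
  refine ⟨algAk, ?_, ?_⟩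
  · intro a
    change (Scheme.ΓSpecIso (Y.residueField y)).hom.hom ((q.appLE Y₀ ⊤ hT).hom a) = 0 ↔ _
    have hinj : Function.Injective (Scheme.ΓSpecIso (Y.residueField y)).hom.hom :=
      (Scheme.ΓSpecIso (Y.residueField y)).commRingCatIsoToRingEquiv.injective
    rw [map_eq_zero_iff _ hinj]
    subst hq
    exact appLE_fromSpecResidueField_eq_zero_iff y hy a
  · intro h
    exact algebraMap_mem_nonZeroDivisors_iff (A := Γ(Y, Y₀)) (κ := Y.residueField y)
      (C := Γ(X, W)) (F := Γ(f.fiber y, U)) h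

end Groth.Agent.Lib.Helper6.FibDense
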