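import Mathlib
import Groth.Prelude.Def_CInt
import Groth.Agent.Lib.Helper6.FibDense1
import Groth.Agent.Lib.Helper6.FibDense3
import Groth.Agent.Lib.Lead.SchDense
import Groth.Agent.Lib27.FibInj.RegSeq2

/-!
# Fibrewise schematic density for flat morphisms locally of finite presentation: algebra (helper6)
-/

set_option autoImplicit false
set_option linter.style.haveILetI false
set_option linter.unusedSectionVars false
universe u

open CategoryTheory CategoryTheory.Limits AlgebraicGeometry TopologicalSpace Opposite TensorProduct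

namespace Groth.Agent.Lib.Helper6.FibDense

/-- membership in the prime ideal of a point of an affine open -/
theorem mem_primeIdealOf_iff {X : Scheme.{u}} {W : X.Opens} (hW : IsAffineOpen W) (x : X)
    (hx : x ∈ W) (a : Γ(X, W)) :
    a ∈ (hW.primeIdealOf ⟨x, hx⟩).asIdeal ↔ x ∉ X.basicOpen a := by
  rw [hW.primeIdealOf_eq_map_closedPoint, X.mem_basicOpen a x hx]
  change (X.presheaf.germ W x hx) a ∈ IsLocalRing.maximalIdeal (X.presheaf.stalk x) ↔ _
  rw [IsLocalRing.mem_maximalIdeal, mem_nonunits_iff]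

/-- change of field: regularity of `h` on `L ⊗ B` implies regularity on `κ(p) ⊗ B` -/
theorem injective_lTensor_residueField {A B : Type u} [CommRing A] [CommRing B] [Algebra A B]
    (h : B) (L : Type u) [Field L] [Algebra A L] (p : Ideal A) [p.IsPrime]
    (hp : ∀ a, algebraMap A L a = 0 ↔ a ∈ p)
    (hL : Function.Injective (LinearMap.lTensor L (LinearMap.mulLeft A h))) :
    Function.Injective (LinearMap.lTensor p.ResidueField (LinearMap.mulLeft A h)) := by
  let φ : p.ResidueField →+* L := Ideal.ResidueField.lift p (algebraMap A L)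
    (fun a ha => (hp a).mpr ha) (fun a ha => by
      change IsUnit (algebraMap A L a)
      rw [isUnit_iff_ne_zero]
      exact fun h0 => ha ((hp a).mp h0))
  letI algkL : Algebra p.ResidueField L := φ.toAlgebra
  haveI tw : IsScalarTower A p.ResidueField L := IsScalarTower.of_algebraMap_eq (fun a =>
    (Ideal.ResidueField.lift_algebraMap p (algebraMap A L) _ _ a).symm)
  let i : p.ResidueField →ₗ[A] L := (IsScalarTower.toAlgHom A p.ResidueField L).toLinearMap
  obtain ⟨r, hr⟩ := LinearMap.exists_leftInverse_of_injective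
    (Algebra.linearMap p.ResidueField L) (LinearMap.ker_eq_bot.mpr φ.injective)
  let r' : L →ₗ[A] p.ResidueField := r.restrictScalars A
  have hri : r'.comp i = LinearMap.id := by
    ext c
    exact LinearMap.congr_fun hr c
  have hιinj : Function.Injective (LinearMap.rTensor B i) := by
    have h1 : (LinearMap.rTensor B r').comp (LinearMap.rTensor B i) = LinearMap.id := by
      rw [← LinearMap.rTensor_comp, hri, LinearMap.rTensor_id]
    exact Function.LeftInverse.injective (g := LinearMap.rTensor B r')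
      (fun z => LinearMap.congr_fun h1 z)
  have hcomm : (LinearMap.lTensor L (LinearMap.mulLeft A h)).comp (LinearMap.rTensor B i) =
      (LinearMap.rTensor B i).comp (LinearMap.lTensor p.ResidueField (LinearMap.mulLeft A h)) := by
    rw [LinearMap.lTensor_comp_rTensor, LinearMap.rTensor_comp_lTensor]
  rw [injective_iff_map_eq_zero]
  intro w hw
  apply hιinj
  apply hL
  have := LinearMap.congr_fun hcomm w
  rw [LinearMap.comp_apply, LinearMap.comp_apply, hw, map_zero] at this
  rw [this, map_zero, map_zero]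

/-- regularity on the localized fibre module, from injectivity on the tensor product -/
theorem isSMulRegular_localizedModule_tensor {A B : Type u} [CommRing A] [CommRing B]
    [Algebra A B] (q : Ideal B) [q.IsPrime] (k : Type u) [CommRing k] [Algebra A k] (h : B)
    (hk : Function.Injective (LinearMap.lTensor k (LinearMap.mulLeft A h))) :
    IsSMulRegular (LocalizedModule q.primeCompl (B ⊗[A] k)) h := by
  have hreg : ∀ w : B ⊗[A] k, h • w = 0 → w = 0 := by
    intro w hw
    have key : ∀ w : B ⊗[A] k, h • w = (TensorProduct.comm A k B)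
        (LinearMap.lTensor k (LinearMap.mulLeft A h) ((TensorProduct.comm A k B).symm w)) := by
      intro w
      induction w using TensorProduct.induction_on with
      | zero => simp
      | add a b ha hb => simp only [smul_add, map_add, ha, hb]
      | tmul b c =>
        rw [TensorProduct.smul_tmul', TensorProduct.comm_symm_tmul, LinearMap.lTensor_tmul,
          TensorProduct.comm_tmul, LinearMap.mulLeft_apply, smul_eq_mul]
    rw [key] at hw
    have h1 := (TensorProduct.comm A k B).injective (hw.trans (map_zero _).symm)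
    have h2 := hk (h1.trans (map_zero _).symm)
    exact (TensorProduct.comm A k B).symm.injective (h2.trans (map_zero _).symm)
  have key : ∀ y : LocalizedModule q.primeCompl (B ⊗[A] k), h • y = 0 → y = 0 := by
    intro y hy
    induction y using LocalizedModule.induction_on with
    | _ w t =>
      rw [LocalizedModule.smul'_mk, mk_eq_zero_iff'] at hy
      obtain ⟨u, hu⟩ := hy
      rw [mk_eq_zero_iff']
      refine ⟨u, hreg _ ?_⟩
      rw [Submonoid.smul_def, smul_comm]
      exact hu
  intro y₁ y₂ hy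
  have hy' : h • y₁ = h • y₂ := hy
  exact sub_eq_zero.mp (key _ (by rw [smul_sub]; exact sub_eq_zero.mpr hy'))

/-- regularity on `B_q` gives a nonzerodivisor germ in the stalk -/
theorem germ_mem_nonZeroDivisors_of_isSMulRegular {X : Scheme.{u}} {W : X.Opens}
    (hW : IsAffineOpen W) (x : X) (hx : x ∈ W) (h : Γ(X, W))
    (hreg : IsSMulRegular
      (LocalizedModule (hW.primeIdealOf ⟨x, hx⟩).asIdeal.primeCompl Γ(X, W)) h) :
    X.presheaf.germ W x hx h ∈ nonZeroDivisors (X.presheaf.stalk x) := by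
  letI := X.presheaf.algebra_section_stalk (U := W) ⟨x, hx⟩
  haveI hloc := hW.isLocalization_stalk ⟨x, hx⟩
  let e := IsLocalizedModule.iso (hW.primeIdealOf ⟨x, hx⟩).asIdeal.primeCompl
    (Algebra.linearMap Γ(X, W) (X.presheaf.stalk x))
  have h1 : IsSMulRegular (X.presheaf.stalk x) h := (e.isSMulRegular_congr h).mp hreg
  rw [mem_nonZeroDivisors_iff_right]
  intro z hz
  rw [isSMulRegular_iff_right_eq_zero_of_smul] at h1
  apply h1
  rw [Algebra.smul_def, mul_comm]
  exact hz

/-- germ version of the local criterion for schematic density -/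
theorem isSchematicallyDense_of_forall_exists_germ_nonZeroDivisor {X : Scheme.{u}} (U : X.Opens)
    (h : ∀ x : X, ∃ (W₀ : X.Opens) (hxW₀ : x ∈ W₀) (r : Γ(X, W₀)),
      X.presheaf.germ W₀ x hxW₀ r ∈ nonZeroDivisors (X.presheaf.stalk x) ∧
      X.basicOpen r ≤ U) :
    CInt.IsSchematicallyDense U := by
  intro V
  rw [injective_iff_map_eq_zero]
  intro t ht
  refine TopCat.Presheaf.section_ext X.sheaf V t 0 ?_
  intro x hx
  obtain ⟨W₀, hxW₀, r, hs, hrU⟩ := h x
  obtain ⟨W, hW, hxW, hWV⟩ := (Opens.isBasis_iff_nbhd.1 X.isBasis_affineOpens)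
    (show x ∈ V ⊓ W₀ from ⟨hx, hxW₀⟩)
  have hWaff : IsAffineOpen W := hW
  have hWV' : W ≤ V := hWV.trans inf_le_left
  have hWW₀ : W ≤ W₀ := hWV.trans inf_le_right
  set tW : Γ(X, W) := X.presheaf.map (homOfLE hWV').op t with htW
  set sW : Γ(X, W) := X.presheaf.map (homOfLE hWW₀).op r with hsW
  have hle : X.basicOpen sW ≤ V ⊓ U := by
    rw [hsW, Scheme.basicOpen_res]
    exact inf_le_inf hWV' hrU
  have H : X.presheaf.map (homOfLE (X.basicOpen_le sW)).op tW = 0 := by
    have h1 : X.presheaf.map (homOfLE (X.basicOpen_le sW)).op tW =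
        X.presheaf.map (homOfLE hle).op
          (X.presheaf.map (homOfLE (inf_le_left : V ⊓ U ≤ V)).op t) := by
      rw [htW, ← CommRingCat.comp_apply, ← CommRingCat.comp_apply, ← Functor.map_comp,
        ← Functor.map_comp]
      rfl
    rw [h1, ht, map_zero]
  obtain ⟨n, hn⟩ :=
    exists_pow_mul_eq_zero_of_res_basicOpen_eq_zero_of_isAffineOpen X hWaff tW sW H
  have h2 := congrArg (X.presheaf.germ W x hxW) hn
  rw [map_mul, map_pow, map_zero, htW, hsW, TopCat.Presheaf.germ_res_apply,
    TopCat.Presheaf.germ_res_apply] at h2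
  rw [map_zero]
  have h3 := pow_mem hs n
  rw [mul_comm] at h2
  exact (mul_right_mem_nonZeroDivisors_eq_zero_iff h3).1 h2

open Groth.Agent.Lib.Lead.SchDense in
/-- a schematically dense trace on the fibre gives an element of `idealOf W U` regular on the
fibre chart -/
theorem exists_mem_idealOf_nonZeroDivisor_fibre {X Y : Scheme.{u}} (f : X ⟶ Y)
    [LocallyOfFiniteType f] (U : X.Opens) (y : Y)
    (hy : CInt.IsSchematicallyDense (f.fiberι y ⁻¹ᵁ U)) {W : X.Opens} (hW : IsAffineOpen W)
    (hWyaff : IsAffineOpen (f.fiberι y ⁻¹ᵁ W)) :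
    ∃ h ∈ idealOf W U, ((f.fiberι y).appLE W (f.fiberι y ⁻¹ᵁ W) le_rfl).hom h ∈
      nonZeroDivisors Γ(f.fiber y, f.fiberι y ⁻¹ᵁ W) := by
  haveI hlft : LocallyOfFiniteType (f.fiberToSpecResidueField y) :=
    MorphismProperty.pullback_snd (P := @LocallyOfFiniteType) f (Y.fromSpecResidueField y)
      inferInstance
  haveI : IsLocallyNoetherian (f.fiber y) :=
    LocallyOfFiniteType.isLocallyNoetherian (f.fiberToSpecResidueField y)
  haveI : IsNoetherianRing Γ(f.fiber y, f.fiberι y ⁻¹ᵁ W) :=
    IsLocallyNoetherian.component_noetherian ⟨_, hWyaff⟩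
  refine exists_mem_map_mem_nonZeroDivisors
    ((f.fiberι y).appLE W (f.fiberι y ⁻¹ᵁ W) le_rfl).hom (idealOf W U) ?_
  intro t ht
  apply hy (f.fiberι y ⁻¹ᵁ W)
  rw [map_zero]
  refine TopCat.Presheaf.section_ext (f.fiber y).sheaf _ _ 0 ?_
  intro x hx
  obtain ⟨g, hgU, hxg⟩ := hW.exists_basicOpen_le (V := U) ⟨f.fiberι y x, hx.2⟩ hx.1
  have hg := ht g hgU
  have hxD : x ∈ (f.fiber y).basicOpen
      (((f.fiberι y).appLE W (f.fiberι y ⁻¹ᵁ W) le_rfl).hom g) := by
    rw [Scheme.basicOpen_appLE]
    exact ⟨hx.1, hxg⟩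
  have hu : IsUnit ((f.fiber y).presheaf.germ (f.fiberι y ⁻¹ᵁ W) x hx.1
      (((f.fiberι y).appLE W (f.fiberι y ⁻¹ᵁ W) le_rfl).hom g)) :=
    ((f.fiber y).mem_basicOpen _ x hx.1).1 hxD
  have h1 := congrArg ((f.fiber y).presheaf.germ (f.fiberι y ⁻¹ᵁ W) x hx.1) hg
  rw [map_mul, map_zero] at h1
  have h2 := hu.mul_right_eq_zero.1 h1
  have h3 := TopCat.Presheaf.germ_res_apply (f.fiber y).presheaf
    (homOfLE (inf_le_left : f.fiberι y ⁻¹ᵁ W ⊓ f.fiberι y ⁻¹ᵁ U ≤ f.fiberι y ⁻¹ᵁ W)) x hx t
  change (f.fiber y).presheaf.germ (f.fiberι y ⁻¹ᵁ W ⊓ f.fiberι y ⁻¹ᵁ U) x hx _ =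
    (f.fiber y).presheaf.germ (f.fiberι y ⁻¹ᵁ W ⊓ f.fiberι y ⁻¹ᵁ U) x hx 0
  rw [map_zero]
  exact h3.trans h2

end Groth.Agent.Lib.Helper6.FibDense
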