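import Mathlib
import Groth.Agent.Lib.Helper29.QCohQcqs
import Groth.Agent.Lib.Helper29.QCohFP2
import Groth.Agent.Lib.Helper6.FibDense5

/-!
# Injectivity of `F → j_* j^* F`: local criterion via regular elements (helper6)
-/

set_option autoImplicit false
set_option linter.style.haveILetI false
set_option linter.unusedSectionVars false
universe u

open CategoryTheory CategoryTheory.Limits AlgebraicGeometry TopologicalSpace Opposite TensorProduct
open Groth.Agent.Lib.Helper29.QCoh

namespace Groth.Agent.Lib.Helper6.FibDense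

/-- restriction of sections of `F` to the trace of `U` is injective on every open -/
def RestrInj {X : Scheme.{u}} (F : X.Modules) (U : X.Opens) : Prop :=
  ∀ V : X.Opens, Function.Injective (F.presheaf.map (homOfLE (inf_le_left : V ⊓ U ≤ V)).op)

/-- local criterion: near every point there is a function, regular on the stalk of `F`, whose
nonvanishing locus lies in `U` -/
theorem restrInj_of_forall_exists_regular {X : Scheme.{u}} (F : X.Modules) [F.IsQuasicoherent]
    (U : X.Opens)
    (h : ∀ x : X, ∃ (W : X.Opens) (hxW : x ∈ W) (r : Γ(X, W)), X.basicOpen r ≤ U ∧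
      ∀ t : F.presheaf.stalk x, X.presheaf.germ W x hxW r • t = 0 → t = 0) :
    RestrInj F U := by
  intro V a b hab
  have hab' : res F (inf_le_left : V ⊓ U ≤ V) a = res F inf_le_left b := hab
  have h0 : res F (inf_le_left : V ⊓ U ≤ V) (a - b) = 0 := by rw [map_sub, hab', sub_self]
  suffices a - b = 0 from sub_eq_zero.mp this
  refine eq_zero_of_germ_eq_zero F _ fun x hx => ?_
  obtain ⟨W₀, hxW₀, r, hrU, hreg⟩ := h x
  obtain ⟨W, hW, hxW, hWV⟩ := exists_isAffineOpen_mem_and_subset (x := x) (U := V ⊓ W₀)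
    ⟨hx, hxW₀⟩
  have hWV' : W ≤ V := fun z hz => (hWV hz).1
  have hWW₀ : W ≤ W₀ := fun z hz => (hWV hz).2
  obtain ⟨t', ht'⟩ : ∃ t' : Γ(F, W), t' = res F hWV' (a - b) := ⟨_, rfl⟩
  obtain ⟨r', hr'⟩ : ∃ r' : Γ(X, W), r' = X.presheaf.map (homOfLE hWW₀).op r := ⟨_, rfl⟩
  have hle : X.basicOpen r' ≤ V ⊓ U := by
    rw [hr', Scheme.basicOpen_res]
    exact inf_le_inf hWV' hrU
  have H : res F (X.basicOpen_le r') t' = 0 := by
    rw [ht', res_res, ← res_res F (inf_le_left : V ⊓ U ≤ V) hle, h0, map_zero]
  obtain ⟨n, hn⟩ := exists_pow_smul_eq_zero F hW r' t' H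
  have h2 := congrArg (F.presheaf.germ W x hxW) hn
  rw [germ_smul, map_zero, ht', germ_res, map_pow] at h2
  have hgr : X.presheaf.germ W x hxW r' = X.presheaf.germ W₀ x hxW₀ r := by
    rw [hr']
    exact X.presheaf.germ_res_apply (homOfLE hWW₀) x hxW r
  rw [hgr] at h2
  clear hn
  induction n with
  | zero => simpa using h2
  | succ n ih =>
    apply ih
    apply hreg
    rw [← mul_smul, ← pow_succ']
    exact h2

/-- prime avoidance for modules: if the image of `J` has no common annihilated element in the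
finite module `N` over the Noetherian ring `R'`, some element of `J` acts regularly on `N` -/
theorem exists_mem_map_isSMulRegular {C R' : Type*} [CommRing C] [CommRing R']
    [IsNoetherianRing R'] (N : Type*) [AddCommGroup N] [Module R' N] [Module.Finite R' N]
    (φ : C →+* R') (J : Ideal C)
    (hJ : ∀ n : N, (∀ g ∈ J, φ g • n = 0) → n = 0) :
    ∃ h ∈ J, ∀ n : N, φ h • n = 0 → n = 0 := by
  classical
  by_contra hcon
  push Not at hcon
  have hfin : (associatedPrimes R' N).Finite := associatedPrimes.finite R' N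
  have hsub : (J : Set C) ⊆ ⋃ p ∈ (hfin.toFinset : Set (Ideal R')),
      (((fun p : Ideal R' => p.comap φ) p : Ideal C) : Set C) := by
    intro g hg
    obtain ⟨n, hn, hn0⟩ := hcon g hg
    have h1 : φ g ∈ {r : R' | ∃ x : N, x ≠ 0 ∧ r • x = 0} := ⟨n, hn0, hn⟩
    rw [← biUnion_associatedPrimes_eq_zero_divisors] at h1
    simp only [Set.mem_iUnion] at h1 ⊢
    obtain ⟨p, hp, hgp⟩ := h1
    exact ⟨p, by simpa using hp, hgp⟩
  obtain ⟨p, hp, hJp⟩ := (Ideal.subset_union_prime (f := fun p : Ideal R' => p.comap φ) ⊥ ⊥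
    (fun p hp _ _ => by
      have : p ∈ associatedPrimes R' N := by simpa using hp
      haveI := this.isPrime
      exact Ideal.comap_isPrime φ p)).1 hsub
  have hp' : IsAssociatedPrime p N := (by simpa using hp : p ∈ associatedPrimes R' N)
  obtain ⟨hprime, x, hx⟩ := isAssociatedPrime_iff.1 hp'
  have hx0 : x = 0 := by
    apply hJ
    intro g hg
    have h2 : φ g ∈ p := hJp hg
    have : φ g ∈ Submodule.colon (⊥ : Submodule R' N) {x} := by rw [← hx]; exact h2
    rw [Submodule.mem_colon_singleton, Submodule.mem_bot] at this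
    exact this
  apply hprime.ne_top
  rw [hx, hx0]
  rw [Ideal.eq_top_iff_one, Submodule.mem_colon_singleton]
  simp

/-- from injectivity of restriction to the trace of `U`: a regular element on an affine chart -/
theorem exists_mem_regular_of_restrInj {X : Scheme.{u}} (F : X.Modules) [F.IsQuasicoherent]
    (U : X.Opens) (hInj : RestrInj F U) {W : X.Opens} (hW : IsAffineOpen W)
    [IsNoetherianRing Γ(X, W)] [Module.Finite Γ(X, W) Γ(F, W)] {C : Type*} [CommRing C]
    (φ : C →+* Γ(X, W)) (J : Ideal C)
    (hcov : ∀ x ∈ W ⊓ U, ∃ g ∈ J, x ∈ X.basicOpen (φ g)) :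
    ∃ h ∈ J, ∀ n : Γ(F, W), φ h • n = 0 → n = 0 := by
  refine exists_mem_map_isSMulRegular Γ(F, W) φ J ?_
  intro n hn
  apply hInj W
  rw [map_zero]
  change res F (inf_le_left : W ⊓ U ≤ W) n = 0
  refine eq_zero_of_germ_eq_zero F _ fun x hx => ?_
  obtain ⟨g, hgJ, hxg⟩ := hcov x hx
  have h1 := congrArg (F.presheaf.germ W x hx.1) (hn g hgJ)
  rw [germ_smul, map_zero] at h1
  rw [germ_res]
  exact eq_zero_of_isUnit_smul (isUnit_germ_of_mem_basicOpen (φ g) x hx.1 hxg) h1

/-- regularity passes to localizations -/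
theorem isSMulRegular_localizedModule {B : Type*} [CommRing B] (S : Submonoid B) {P : Type*}
    [AddCommGroup P] [Module B P] (h : B) (hreg : ∀ w : P, h • w = 0 → w = 0) :
    IsSMulRegular (LocalizedModule S P) h := by
  have key : ∀ y : LocalizedModule S P, h • y = 0 → y = 0 := by
    intro y hy
    induction y using LocalizedModule.induction_on with
    | _ w t =>
      rw [LocalizedModule.smul'_mk, mk_eq_zero_iff'] at hy
      obtain ⟨u, hu⟩ := hy
      rw [mk_eq_zero_iff']
      refine ⟨u, hreg _ ?_⟩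
      rw [Submonoid.smul_def, smul_comm]
      exact hu
  intro y₁ y₂ hy
  have hy' : h • y₁ = h • y₂ := hy
  exact sub_eq_zero.mp (key _ (by rw [smul_sub]; exact sub_eq_zero.mpr hy'))

/-- regularity on the localized module of sections gives regularity on the stalk -/
theorem stalk_regular_of_localizedModule_regular {X : Scheme.{u}} (F : X.Modules)
    [F.IsQuasicoherent] {W : X.Opens} (hW : IsAffineOpen W) (x : X) (hx : x ∈ W) (h : Γ(X, W))
    (hreg : IsSMulRegular
      (LocalizedModule (hW.primeIdealOf ⟨x, hx⟩).asIdeal.primeCompl Γ(F, W)) h) :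
    ∀ t : F.presheaf.stalk x, X.presheaf.germ W x hx h • t = 0 → t = 0 := by
  letI := stalkModule F W x hx
  haveI := isLocalizedModule_germ F hW x hx
  let e := IsLocalizedModule.iso (hW.primeIdealOf ⟨x, hx⟩).asIdeal.primeCompl (germₗ F W x hx)
  have h1 : IsSMulRegular (F.presheaf.stalk x) h := (e.isSMulRegular_congr h).mp hreg
  intro t ht
  have h2 : h • t = h • (0 : F.presheaf.stalk x) := by
    rw [smul_zero]
    exact ht
  exact h1 h2

end Groth.Agent.Lib.Helper6.FibDense
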