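import Mathlib
import Groth.Prelude.Def_FlatCA
import Groth.Agent.Lib.Helper26.FiberAss
import Groth.Agent.Lib.Helper6.FibDense1

/-!
# The relative assassin in algebraic terms (helper6)

`RelAssAt R q N`: the elementary (tensor free) condition which says that the prime `q` of the
`R`-algebra `S` is a relative associated prime of the `S`-module `N` over `R`.
-/

set_option autoImplicit false
set_option linter.style.haveILetI false
set_option linter.unusedSectionVars false
universe u
open TensorProduct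

namespace Groth.Agent.Lib.Helper6.RelAss

open Groth.Agent.Lib.Helper26.FiberAss Groth.Agent.Lib.Helper6.FibDense

/-- elementary form of "`q` is a relative associated prime of `N` over `R`" -/
def RelAssAt (R : Type u) {S : Type u} [CommRing R] [CommRing S] [Algebra R S] (q : Ideal S)
    (N : Type u) [AddCommGroup N] [Module S N] : Prop :=
  ∃ m : N, ∀ c : S, c ∈ q ↔ ∃ (k : ℕ) (d : S), d ∉ q ∧
    (d * c ^ k) • m ∈ ((q.comap (algebraMap R S)).map (algebraMap R S)) • (⊤ : Submodule S N)

section noeth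

/-- in a Noetherian ring, a prime which is locally the radical of the annihilator of an element is
the annihilator of an element -/
theorem exists_ann_eq_of_weak {R' : Type*} [CommRing R'] [IsNoetherianRing R'] {N' : Type*}
    [AddCommGroup N'] [Module R' N'] (Q : Ideal R') [hQ : Q.IsPrime] (n₀ : N')
    (h : ∀ ρ : R', ρ ∈ Q ↔ ∃ (k : ℕ) (δ : R'), δ ∉ Q ∧ (δ * ρ ^ k) • n₀ = 0) :
    ∃ n : N', ∀ ρ : R', ρ ∈ Q ↔ ρ • n = 0 := by
  classical
  have hass : IsAssociatedPrime Q (LocalizedModule Q.primeCompl N') := by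
    refine ⟨hQ, LocalizedModule.mk n₀ 1, ?_⟩
    ext ρ
    rw [h ρ, Ideal.mem_radical_iff]
    constructor
    · rintro ⟨k, δ, hδ, e⟩
      refine ⟨k, ?_⟩
      rw [Submodule.mem_colon_singleton, Submodule.mem_bot, LocalizedModule.smul'_mk,
        mk_eq_zero_iff']
      refine ⟨⟨δ, hδ⟩, ?_⟩
      rw [Submonoid.smul_def, ← mul_smul]
      exact e
    · rintro ⟨k, e⟩
      rw [Submodule.mem_colon_singleton, Submodule.mem_bot, LocalizedModule.smul'_mk,
        mk_eq_zero_iff'] at e
      obtain ⟨u, hu⟩ := e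
      refine ⟨k, u.1, u.2, ?_⟩
      rw [mul_smul]
      exact hu
  obtain ⟨-, ξ, hξ⟩ := (isAssociatedPrime_iff).mp hass
  induction ξ using LocalizedModule.induction_on with
  | _ n s =>
    have hmem : ∀ ρ : R', ρ ∈ Q ↔ ∃ u : Q.primeCompl, u • (ρ • n) = 0 := by
      intro ρ
      have h1 := SetLike.ext_iff.mp hξ ρ
      rw [Submodule.mem_colon_singleton, Submodule.mem_bot, LocalizedModule.smul'_mk,
        mk_eq_zero_iff'] at h1
      exact h1
    obtain ⟨T, hT⟩ := (isNoetherianRing_iff_ideal_fg R').mp ‹_› Q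
    have hex : ∀ t ∈ T, ∃ u : Q.primeCompl, u • (t • n) = 0 := by
      intro t ht
      exact (hmem t).mp (hT ▸ Ideal.subset_span ht)
    choose! u hu using hex
    obtain ⟨U, hU⟩ : ∃ U : Q.primeCompl, U = ∏ t ∈ T, u t := ⟨_, rfl⟩
    refine ⟨(U : R') • n, fun ρ => ⟨fun hρ => ?_, fun hρ => ?_⟩⟩
    · have hle : Ideal.span (T : Set R') ≤
          LinearMap.ker (LinearMap.toSpanSingleton R' N' ((U : R') • n)) := by
        rw [Ideal.span_le]
        intro t ht
        rw [SetLike.mem_coe, LinearMap.mem_ker, LinearMap.toSpanSingleton_apply]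
        obtain ⟨w, hw⟩ : u t ∣ U := hU ▸ Finset.dvd_prod_of_mem u ht
        have h2 : (U : R') = (w : R') * (u t : R') := by
          rw [hw, mul_comm]; rfl
        rw [h2, smul_comm, mul_smul]
        have h3 := hu t ht
        rw [Submonoid.smul_def] at h3
        rw [h3, smul_zero]
      have := hle (hT.ge hρ)
      rwa [LinearMap.mem_ker, LinearMap.toSpanSingleton_apply] at this
    · have h1 : (ρ * (U : R')) ∈ Q := by
        rw [hmem]
        refine ⟨1, ?_⟩
        rw [one_smul, mul_smul]
        exact hρ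
      rcases hQ.mem_or_mem h1 with h2 | h2
      · exact h2
      · exact absurd h2 U.2

end noeth

section overS

variable {R S : Type u} [CommRing R] [CommRing S] [Algebra R S] (p : Ideal R) [p.IsPrime]
  (N : Type u) [AddCommGroup N] [Module S N] [Module R N] [IsScalarTower R S N]

/-- an element of `S` which is regular on the fibre module is not in a relative associated prime -/
theorem not_mem_of_regular (q : Ideal S) [hqp : q.IsPrime] (hq : q.comap (algebraMap R S) = p)
    (h : RelAssAt R q N) (s : S)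
    (hreg : ∀ w : N ⊗[R] p.ResidueField, s • w = 0 → w = 0) : s ∉ q := by
  obtain ⟨m, hm⟩ := h
  intro hs
  obtain ⟨k, d, hd, hmem⟩ := (hm s).mp hs
  rw [hq] at hmem
  have h1 : (d * s ^ k) • (m ⊗ₜ[R] (1 : p.ResidueField)) = 0 := by
    rw [smul_tmul_one_eq_zero_iff]
    refine ⟨1, fun h1 => (Ideal.IsPrime.ne_top inferInstance)
      ((Ideal.eq_top_iff_one p).mpr h1), ?_⟩
    rw [map_one, one_mul]
    exact hmem
  have hpow : ∀ (j : ℕ) (w : N ⊗[R] p.ResidueField), s ^ j • w = 0 → w = 0 := by
    intro j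
    induction j with
    | zero => intro w hw; rwa [pow_zero, one_smul] at hw
    | succ j ih =>
      intro w hw
      rw [pow_succ, mul_smul] at hw
      exact hreg w (ih _ hw)
  have h2 : d • (m ⊗ₜ[R] (1 : p.ResidueField)) = 0 := by
    apply hpow k
    rw [← mul_smul, mul_comm]
    exact h1
  rw [smul_tmul_one_eq_zero_iff] at h2
  obtain ⟨r, hr, hmem2⟩ := h2
  have hrq : algebraMap R S r ∉ q := fun h => hr (hq ▸ Ideal.mem_comap.mpr h)
  have h3 : (1 : S) ∈ q := by
    rw [hm 1]
    refine ⟨0, algebraMap R S r * d, fun h => ?_, ?_⟩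
    · rcases hqp.mem_or_mem h with h' | h'
      · exact hrq h'
      · exact hd h'
    · rw [hq, pow_zero, mul_one]
      exact hmem2
  exact hqp.ne_top ((Ideal.eq_top_iff_one q).mpr h3)

/-- a prime which is the annihilator of an element of the fibre module is a relative associated
prime -/
theorem relAssAt_of_ann (q : Ideal S) [hqp : q.IsPrime] (hq : q.comap (algebraMap R S) = p)
    (n : N ⊗[R] p.ResidueField) (hn : ∀ c : S, c ∈ q ↔ c • n = 0) : RelAssAt R q N := by
  obtain ⟨r, hr, m, hrm⟩ := exists_smul_eq_tmul_one p N n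
  have key : ∀ c : S, c • (m ⊗ₜ[R] (1 : p.ResidueField)) = 0 ↔ c ∈ q := by
    intro c
    rw [← hrm, smul_smul_eq_zero_iff p N hr, hn]
  have h1p : (1 : R) ∉ p := fun h => (Ideal.IsPrime.ne_top inferInstance)
    ((Ideal.eq_top_iff_one p).mpr h)
  refine ⟨m, fun c => ⟨fun hc => ?_, ?_⟩⟩
  · have h1 := (key c).mpr hc
    rw [smul_tmul_one_eq_zero_iff] at h1
    obtain ⟨r', hr', hmem⟩ := h1
    refine ⟨1, algebraMap R S r', fun h => hr' (hq ▸ Ideal.mem_comap.mpr h), ?_⟩
    rw [hq, pow_one]
    exact hmem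
  · rintro ⟨k, d, hd, hmem⟩
    rw [hq] at hmem
    have h1 : (d * c ^ k) • (m ⊗ₜ[R] (1 : p.ResidueField)) = 0 := by
      rw [smul_tmul_one_eq_zero_iff]
      refine ⟨1, h1p, ?_⟩
      rw [map_one, one_mul]
      exact hmem
    have h2 := (key _).mp h1
    rcases hqp.mem_or_mem h2 with h' | h'
    · exact absurd h' hd
    · exact hqp.mem_of_pow_mem k h'

end overS

end Groth.Agent.Lib.Helper6.RelAss
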