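import Mathlib
import Groth.Agent.Lib.Helper6.RelAss1

/-!
# Relative associated primes and associated primes of the fibre module (helper6)
-/

set_option autoImplicit false
set_option linter.style.haveILetI false
set_option linter.unusedSectionVars false
universe u
open TensorProduct

namespace Groth.Agent.Lib.Helper6.RelAss

open Groth.Agent.Lib.Helper26.FiberAss Groth.Agent.Lib.Helper6.FibDense

section fiberPrimes

variable {R S : Type u} [CommRing R] [CommRing S] [Algebra R S] (p : Ideal R) [p.IsPrime]
  (N : Type u) [AddCommGroup N] [Module S N] [Module R N] [IsScalarTower R S N]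

attribute [local instance] Algebra.TensorProduct.rightAlgebra

/-- the `S`-annihilator of an element of the fibre module, via `fiberModEquiv` -/
theorem includeRight_smul_eq_zero_iff (c : S) (z : FlatCA.fiberMod p S N) :
    ((Algebra.TensorProduct.includeRight (R := R) (A := p.ResidueField) (B := S) c : p.Fiber S)) • z
      = 0 ↔ c • fiberModEquiv p N z = 0 := by
  rw [includeRight_smul, ← map_smul, LinearEquiv.map_eq_zero_iff]

/-- contraction to `R` of a prime of the fibre ring -/
theorem comap_comap_includeRight (P : Ideal (p.Fiber S)) [hP : P.IsPrime] :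
    (P.comap (Algebra.TensorProduct.includeRight (R := R) (A := p.ResidueField)
      (B := S)).toRingHom).comap (algebraMap R S) = p := by
  have h1 := ((PrimeSpectrum.primesOverOrderIsoFiber R S p).symm ⟨P, hP⟩).2.2
  have h2 := h1.over
  rw [PrimeSpectrum.coe_primesOverOrderIsoFiber_symm_apply] at h2
  exact h2.symm

/-- a nonzero element of the fibre module has its annihilator contained in a relative associated
prime lying over `p` -/
theorem exists_relAssAt_of_ne_zero [Algebra.FiniteType R S] (n : N ⊗[R] p.ResidueField)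
    (hn : n ≠ 0) :
    ∃ q : Ideal S, q.IsPrime ∧ q.comap (algebraMap R S) = p ∧ (∀ c : S, c • n = 0 → c ∈ q) ∧
      RelAssAt R q N := by
  haveI : IsNoetherianRing (p.Fiber S) := Algebra.FiniteType.isNoetherianRing p.ResidueField _
  obtain ⟨n', hn'⟩ : ∃ n' : FlatCA.fiberMod p S N, fiberModEquiv p N n' = n :=
    (fiberModEquiv (S := S) p N).surjective n
  have hn'0 : n' ≠ 0 := by
    intro h0
    apply hn
    rw [← hn', h0, map_zero]
  obtain ⟨P, hP, hle⟩ := exists_le_isAssociatedPrime_of_isNoetherianRing (p.Fiber S) n' hn'0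
  obtain ⟨hPp, z, hz⟩ := (isAssociatedPrime_iff).mp hP
  haveI := hPp
  obtain ⟨q, hqdef⟩ : ∃ q : Ideal S, q = P.comap (Algebra.TensorProduct.includeRight (R := R)
    (A := p.ResidueField) (B := S)).toRingHom := ⟨_, rfl⟩
  haveI hqp : q.IsPrime := by rw [hqdef]; exact Ideal.comap_isPrime _ _
  have hq : q.comap (algebraMap R S) = p := by
    rw [hqdef]; exact comap_comap_includeRight p P
  refine ⟨q, hqp, hq, fun c hc => ?_, ?_⟩
  · rw [hqdef, Ideal.mem_comap]
    apply hle
    rw [Submodule.mem_colon_singleton, Submodule.mem_bot]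
    change (Algebra.TensorProduct.includeRight (R := R) (A := p.ResidueField) (B := S) c :
      p.Fiber S) • n' = 0
    rw [includeRight_smul_eq_zero_iff, hn']
    exact hc
  · refine relAssAt_of_ann p N q hq (fiberModEquiv p N z) fun c => ?_
    rw [← includeRight_smul_eq_zero_iff, hqdef, Ideal.mem_comap]
    have h1 := SetLike.ext_iff.mp hz
      (Algebra.TensorProduct.includeRight (R := R) (A := p.ResidueField) (B := S) c)
    rw [Submodule.mem_colon_singleton, Submodule.mem_bot] at h1
    exact h1

/-- a relative associated prime is the annihilator of an element of the fibre module -/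
theorem exists_ann_of_relAssAt [Algebra.FiniteType R S] (q : Ideal S) [hqp : q.IsPrime]
    (hq : q.comap (algebraMap R S) = p) (h : RelAssAt R q N) :
    ∃ n : N ⊗[R] p.ResidueField, ∀ c : S, c ∈ q ↔ c • n = 0 := by
  haveI : IsNoetherianRing (p.Fiber S) := Algebra.FiniteType.isNoetherianRing p.ResidueField _
  obtain ⟨m, hm⟩ := h
  haveI hlo : q.LiesOver p := ⟨hq.symm⟩
  obtain ⟨Q, hQdef⟩ : ∃ Q : PrimeSpectrum (p.Fiber S),
      Q = PrimeSpectrum.primesOverOrderIsoFiber R S p ⟨q, hqp, hlo⟩ := ⟨_, rfl⟩
  have hQq : Q.asIdeal.comap (Algebra.TensorProduct.includeRight (R := R) (A := p.ResidueField)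
      (B := S)).toRingHom = q := by
    have h1 := congrArg Subtype.val
      ((PrimeSpectrum.primesOverOrderIsoFiber R S p).symm_apply_apply ⟨q, hqp, hlo⟩)
    rw [← hQdef, PrimeSpectrum.coe_primesOverOrderIsoFiber_symm_apply] at h1
    exact h1
  have hincl : ∀ c : S, (Algebra.TensorProduct.includeRight (R := R) (A := p.ResidueField)
      (B := S) c : p.Fiber S) ∈ Q.asIdeal ↔ c ∈ q := by
    intro c
    rw [← hQq, Ideal.mem_comap]
    rfl
  have hlift : ∀ ρ : p.Fiber S, ∃ (u : p.Fiber S) (c : S), IsUnit u ∧
      u * ρ = Algebra.TensorProduct.includeRight (R := R) (A := p.ResidueField) (B := S) c := by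
    intro ρ
    obtain ⟨r, hr, c, hc⟩ := Ideal.Fiber.exists_smul_eq_one_tmul p ρ
    refine ⟨_, c, isUnit_includeRight_algebraMap p hr, ?_⟩
    rw [← smul_eq_includeRight_mul, hc]
    rfl
  obtain ⟨n₀, hn₀⟩ : ∃ n₀ : FlatCA.fiberMod p S N, n₀ = FlatCA.toFiberMod p S N m := ⟨_, rfl⟩
  have hkill : ∀ c : S, (Algebra.TensorProduct.includeRight (R := R) (A := p.ResidueField)
      (B := S) c : p.Fiber S) • n₀ = 0 ↔
      ∃ r ∉ p, (algebraMap R S r * c) • m ∈ (p.map (algebraMap R S)) • (⊤ : Submodule S N) := by
    intro c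
    rw [includeRight_smul_eq_zero_iff, hn₀, fiberModEquiv_toFiberMod, smul_tmul_one_eq_zero_iff]
  have h1p : (1 : R) ∉ p := fun h => (Ideal.IsPrime.ne_top inferInstance)
    ((Ideal.eq_top_iff_one p).mpr h)
  have hunit : ∀ u : p.Fiber S, IsUnit u → u ∉ Q.asIdeal := fun u hu h =>
    Q.2.ne_top (Ideal.eq_top_of_isUnit_mem _ h hu)
  have hweak : ∀ ρ : p.Fiber S, ρ ∈ Q.asIdeal ↔
      ∃ (k : ℕ) (δ : p.Fiber S), δ ∉ Q.asIdeal ∧ (δ * ρ ^ k) • n₀ = 0 := by
    intro ρ
    constructor
    · intro hρ
      obtain ⟨u, c, hu, huc⟩ := hlift ρ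
      have hc : c ∈ q := by
        rw [← hincl, ← huc]
        exact Q.asIdeal.mul_mem_left _ hρ
      obtain ⟨k, d, hd, hmem⟩ := (hm c).mp hc
      rw [hq] at hmem
      refine ⟨k, Algebra.TensorProduct.includeRight (R := R) (A := p.ResidueField) (B := S) d *
        u ^ k, fun h => ?_, ?_⟩
      · rcases Q.2.mem_or_mem h with h' | h'
        · exact hd ((hincl d).mp h')
        · exact hunit _ (hu.pow k) h'
      · have h2 : (Algebra.TensorProduct.includeRight (R := R) (A := p.ResidueField) (B := S) d *
            u ^ k) * ρ ^ k =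
            Algebra.TensorProduct.includeRight (R := R) (A := p.ResidueField) (B := S)
              (d * c ^ k) := by
          rw [map_mul, map_pow, ← huc, mul_pow, mul_assoc]
        rw [h2, hkill]
        refine ⟨1, h1p, ?_⟩
        rw [map_one, one_mul]
        exact hmem
    · rintro ⟨k, δ, hδ, e⟩
      by_contra hρ
      have h2 : δ * ρ ^ k ∉ Q.asIdeal := by
        intro h
        rcases Q.2.mem_or_mem h with h' | h'
        · exact hδ h'
        · exact hρ (Q.2.mem_of_pow_mem k h')
      obtain ⟨u', c', hu', huc'⟩ := hlift (δ * ρ ^ k)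
      have hc' : c' ∉ q := by
        rw [← hincl, ← huc']
        intro h
        rcases Q.2.mem_or_mem h with h' | h'
        · exact hunit _ hu' h'
        · exact h2 h'
      have h3 : (Algebra.TensorProduct.includeRight (R := R) (A := p.ResidueField) (B := S) c' :
          p.Fiber S) • n₀ = 0 := by
        rw [← huc', mul_smul, e, smul_zero]
      obtain ⟨r', hr', hmem'⟩ := (hkill c').mp h3
      have h4 : (1 : S) ∈ q := by
        rw [hm 1]
        refine ⟨0, algebraMap R S r' * c', fun h => ?_, ?_⟩
        · rcases hqp.mem_or_mem h with h' | h'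
          · exact hr' (hq ▸ Ideal.mem_comap.mpr h')
          · exact hc' h'
        · rw [hq, pow_zero, mul_one]
          exact hmem'
      exact hqp.ne_top ((Ideal.eq_top_iff_one q).mpr h4)
  haveI := Q.2
  obtain ⟨n', hn'⟩ := exists_ann_eq_of_weak Q.asIdeal n₀ hweak
  refine ⟨fiberModEquiv p N n', fun c => ?_⟩
  rw [← includeRight_smul_eq_zero_iff, ← hn', hincl]

end fiberPrimes

end Groth.Agent.Lib.Helper6.RelAss
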