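import Mathlib
import Groth.Agent.Lib.Helper6.RelAss2
import Groth.Agent.Lib.Helper25.GFMod

/-!
# Spreading out injectivity on the fibres, for maps of finite modules over a domain (helper6)
-/

set_option autoImplicit false
set_option linter.style.haveILetI false
set_option linter.unusedSectionVars false
universe u
open TensorProduct

namespace Groth.Agent.Lib.Helper6.RelAss

open Groth.Agent.Lib.Helper9.GenExact Groth.Agent.Lib.Helper25.GFMod
open Groth.Agent.Lib.Helper6.FibDense

/-- regularity of `s` on `N ⊗ κ` in terms of `lTensor` -/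
theorem regular_iff_injective_lTensor {R S : Type*} [CommRing R] [CommRing S] [Algebra R S]
    {N : Type*} [AddCommGroup N] [Module S N] [Module R N] [IsScalarTower R S N] (s : S)
    (κ : Type*) [CommRing κ] [Algebra R κ] :
    (∀ w : N ⊗[R] κ, s • w = 0 → w = 0) ↔
      Function.Injective (LinearMap.lTensor κ ((LinearMap.lsmul S N s).restrictScalars R)) := by
  let c := TensorProduct.comm R κ N
  have hc : ∀ z : κ ⊗[R] N,
      c (LinearMap.lTensor κ ((LinearMap.lsmul S N s).restrictScalars R) z) = s • c z := by
    intro z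
    induction z using TensorProduct.induction_on with
    | zero => simp
    | add a b ha hb => simp only [map_add, smul_add, ha, hb]
    | tmul k n =>
      rw [LinearMap.lTensor_tmul]
      change (s • n) ⊗ₜ[R] k = s • (n ⊗ₜ[R] k)
      rw [TensorProduct.smul_tmul']
  rw [injective_iff_map_eq_zero]
  constructor
  · intro h z hz
    have h1 := h (c z) (by rw [← hc, hz, map_zero])
    exact c.injective (h1.trans (map_zero _).symm)
  · intro h w hw
    obtain ⟨z, rfl⟩ := c.surjective w
    rw [← hc] at hw
    have h1 : LinearMap.lTensor κ ((LinearMap.lsmul S N s).restrictScalars R) z = 0 :=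
      c.injective (hw.trans (map_zero _).symm)
    rw [h _ h1, map_zero]

section spread

variable {R : Type u} [CommRing R] [IsDomain R] {S : Type u} [CommRing S] [Algebra R S]
  {P P' : Type u} [AddCommGroup P] [Module S P] [Module R P] [IsScalarTower R S P]
  [AddCommGroup P'] [Module S P'] [Module R P'] [IsScalarTower R S P']

/-- if `P_f` and `(P' / v P)_f` are free and the kernel of `v` dies in `P_f`, then `v` is injective
on all fibres over `D(f)` -/
theorem spread_core (v : P →ₗ[S] P') (f : R)
    [hfreeN : Module.Free (Localization.Away f)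
      (LocalizedModule (Submonoid.powers f) (P' ⧸ LinearMap.range v))]
    (hT : ∀ z : P, v z = 0 → ∃ m : ℕ, f ^ m • z = 0)
    (κ : Type u) [Field κ] [Algebra R κ] (hfκ : algebraMap R κ f ≠ 0) :
    Function.Injective (LinearMap.lTensor κ (v.restrictScalars R)) := by
  obtain ⟨Sf, hS⟩ : ∃ Sf : Submonoid R, Sf = Submonoid.powers f := ⟨_, rfl⟩
  subst hS
  have hflatN : Module.Flat R
      (LocalizedModule (Submonoid.powers f) (P' ⧸ LinearMap.range v)) := by
    have : Module.Flat (Localization.Away f)
        (LocalizedModule (Submonoid.powers f) (P' ⧸ LinearMap.range v)) := inferInstance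
    exact Module.Flat.trans R (Localization.Away f) _
  let vR : P →ₗ[R] P' := v.restrictScalars R
  let g₂ : P' →ₗ[R] (P' ⧸ LinearMap.range v) := (LinearMap.range v).mkQ.restrictScalars R
  have hex : Function.Exact vR g₂ := by
    intro c
    change (Submodule.Quotient.mk c : P' ⧸ LinearMap.range v) = 0 ↔ _
    rw [Submodule.Quotient.mk_eq_zero]
    constructor
    · rintro ⟨y, rfl⟩; exact ⟨y, rfl⟩
    · rintro ⟨y, rfl⟩; exact ⟨y, rfl⟩
  have hg₂s : Function.Surjective g₂ := fun c => by
    obtain ⟨h, rfl⟩ := Submodule.Quotient.mk_surjective _ c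
    exact ⟨h, rfl⟩
  let G₁ : LocalizedModule (Submonoid.powers f) P →ₗ[R] LocalizedModule (Submonoid.powers f) P' :=
    (LocalizedModule.map (Submonoid.powers f) vR).restrictScalars R
  let G₂ : LocalizedModule (Submonoid.powers f) P' →ₗ[R]
      LocalizedModule (Submonoid.powers f) (P' ⧸ LinearMap.range v) :=
    (LocalizedModule.map (Submonoid.powers f) g₂).restrictScalars R
  have hG₂s : Function.Surjective G₂ := LocalizedModule.map_surjective _ g₂ hg₂s
  have hGex : Function.Exact G₁ G₂ := LocalizedModule.map_exact _ vR g₂ hex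
  have hG₁i : Function.Injective G₁ := by
    rw [injective_iff_map_eq_zero]
    intro x hx
    induction x with | _ z s
    change LocalizedModule.map (Submonoid.powers f) vR (LocalizedModule.mk z s) = 0 at hx
    rw [LocalizedModule.map_mk] at hx
    obtain ⟨⟨_, m, rfl⟩, hm⟩ := (mk_eq_zero_iff' (Submonoid.powers f) _ _).mp hx
    have h5 : v (f ^ m • z) = 0 := by
      have : vR (f ^ m • z) = f ^ m • vR z := vR.map_smul _ _
      exact this.trans hm
    obtain ⟨m', hm'⟩ := hT _ h5
    rw [mk_eq_zero_iff']
    refine ⟨⟨f ^ (m' + m), m' + m, rfl⟩, ?_⟩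
    change f ^ (m' + m) • z = 0
    rw [pow_add, mul_smul]
    exact hm'
  have hB : Function.Injective (LinearMap.lTensor κ G₁) :=
    lTensor_injective_of_flat_coker G₁ G₂ hG₁i hGex hG₂s κ
  have hA := lTensor_mkLinearMap_injective f κ hfκ P
  have hcomm : (LinearMap.lTensor κ (LocalizedModule.mkLinearMap (Submonoid.powers f) P')).comp
      (LinearMap.lTensor κ vR) = (LinearMap.lTensor κ G₁).comp
      (LinearMap.lTensor κ (LocalizedModule.mkLinearMap (Submonoid.powers f) P)) := by
    rw [← LinearMap.lTensor_comp, ← LinearMap.lTensor_comp]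
    congr 1
    ext y
    simp [G₁, LocalizedModule.map_mk]
  have : Function.Injective ((LinearMap.lTensor κ
      (LocalizedModule.mkLinearMap (Submonoid.powers f) P')).comp (LinearMap.lTensor κ vR)) := by
    rw [hcomm]; exact hB.comp hA
  exact Function.Injective.of_comp this

variable [Algebra.FiniteType R S] [Module.Finite S P] [Module.Finite S P']

/-- if `v` is injective on the generic fibre, it is injective on the fibres over a nonempty open -/
theorem spread_injective (v : P →ₗ[S] P') (L : Type u) [Field L] [Algebra R L]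
    (hL : Function.Injective (algebraMap R L))
    (hgen : Function.Injective (LinearMap.lTensor L (v.restrictScalars R))) :
    ∃ f : R, f ≠ 0 ∧ ∀ (κ : Type u) [Field κ] [Algebra R κ], algebraMap R κ f ≠ 0 →
      Function.Injective (LinearMap.lTensor κ (v.restrictScalars R)) := by
  obtain ⟨g1, -, hg1, hGF1⟩ := exists_GF R S P 1 one_ne_zero
  obtain ⟨f, hd, hf, hGF2⟩ := exists_GF R S (P' ⧸ LinearMap.range v) g1 hg1
  haveI hfreeP := (hGF1 f hd).1
  haveI hfreeN := (hGF2 f dvd_rfl).1
  refine ⟨f, hf, ?_⟩
  have hflatP : Module.Flat R (LocalizedModule (Submonoid.powers f) P) := by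
    have : Module.Flat (Localization.Away f) (LocalizedModule (Submonoid.powers f) P) :=
      inferInstance
    exact Module.Flat.trans R (Localization.Away f) _
  have hT : ∀ z : P, v z = 0 → ∃ m : ℕ, f ^ m • z = 0 := by
    intro z hz
    have h1 : (1 : L) ⊗ₜ[R] z = 0 := by
      apply hgen
      rw [LinearMap.lTensor_tmul, map_zero]
      change (1 : L) ⊗ₜ[R] (v z) = 0
      rw [hz, tmul_zero]
    have h2 : (1 : L) ⊗ₜ[R] (LocalizedModule.mkLinearMap (Submonoid.powers f) P z) = 0 := by
      have := congrArg (LinearMap.lTensor L (LocalizedModule.mkLinearMap (Submonoid.powers f) P)) h1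
      rwa [LinearMap.lTensor_tmul, map_zero] at this
    have hinj := Module.Flat.rTensor_preserves_injective_linearMap
      (M := LocalizedModule (Submonoid.powers f) P) (Algebra.linearMap R L) hL
    have h3 : (1 : R) ⊗ₜ[R] (LocalizedModule.mkLinearMap (Submonoid.powers f) P z) = 0 := by
      apply hinj
      rw [LinearMap.rTensor_tmul, map_zero, Algebra.linearMap_apply, map_one]
      exact h2
    have h4 : LocalizedModule.mkLinearMap (Submonoid.powers f) P z = 0 := by
      have := congrArg (TensorProduct.lid R _) h3
      rwa [TensorProduct.lid_tmul, one_smul, map_zero] at this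
    obtain ⟨⟨_, m, rfl⟩, hm⟩ := (IsLocalizedModule.eq_zero_iff (Submonoid.powers f)
      (LocalizedModule.mkLinearMap (Submonoid.powers f) P)).mp h4
    exact ⟨m, hm⟩
  intro κ _ _ hfκ
  exact spread_core v f hT κ hfκ

end spread

end Groth.Agent.Lib.Helper6.RelAss
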