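import Mathlib
import Groth.Agent.Lib.Helper6.RelAss3
import Groth.Agent.Lib.Helper6.FibDense7

/-!
# Relative associated primes near the generic point: the case of a domain (helper6)
-/

set_option autoImplicit false
set_option linter.style.haveILetI false
set_option linter.unusedSectionVars false
universe u
open TensorProduct

namespace Groth.Agent.Lib.Helper6.RelAss

open Groth.Agent.Lib.Helper9.GenExact Groth.Agent.Lib.Helper25.GFMod
open Groth.Agent.Lib.Helper6.FibDense Groth.Agent.Lib.Helper26.FiberAss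

section dom

variable {R S : Type u} [CommRing R] [IsDomain R] [CommRing S] [Algebra R S]
  [Algebra.FiniteType R S]
  (N : Type u) [AddCommGroup N] [Module S N] [Module R N] [IsScalarTower R S N] [Module.Finite S N]

attribute [local instance] Algebra.TensorProduct.rightAlgebra

theorem algebraMap_residueField_injective_bot :
    Function.Injective (algebraMap R (⊥ : Ideal R).ResidueField) := by
  rw [injective_iff_map_eq_zero]
  intro a ha
  rw [Ideal.algebraMap_residueField_eq_zero] at ha
  exact ha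

/-- Stacks 05IL-type statement, domain case: if the relative associated primes over the generic
point avoid `V(J)`, so do those over a nonempty open -/
theorem chart1368_dom (J : Ideal S)
    (hgen : ∀ q : Ideal S, q.IsPrime → q.comap (algebraMap R S) = ⊥ → RelAssAt R q N → ¬ J ≤ q) :
    ∃ a : R, a ≠ 0 ∧ ∀ q : Ideal S, q.IsPrime → a ∉ q.comap (algebraMap R S) → RelAssAt R q N →
      ¬ J ≤ q := by
  haveI hbot : (⊥ : Ideal R).IsPrime := Ideal.isPrime_bot
  haveI : IsNoetherianRing ((⊥ : Ideal R).Fiber S) :=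
    Algebra.FiniteType.isNoetherianRing (⊥ : Ideal R).ResidueField _
  haveI : Module.Finite ((⊥ : Ideal R).Fiber S) (FlatCA.fiberMod (⊥ : Ideal R) S N) :=
    inferInstanceAs (Module.Finite ((⊥ : Ideal R).Fiber S) (((⊥ : Ideal R).Fiber S) ⊗[S] N))
  -- an element of `J` regular on the generic fibre
  obtain ⟨h, hhJ, hhreg⟩ := exists_mem_map_isSMulRegular (FlatCA.fiberMod (⊥ : Ideal R) S N)
    (Algebra.TensorProduct.includeRight (R := R) (A := (⊥ : Ideal R).ResidueField)
      (B := S)).toRingHom J (by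
    intro n' hn'
    by_contra hne
    have hn0 : fiberModEquiv (S := S) (⊥ : Ideal R) N n' ≠ 0 := by
      intro h0
      exact hne ((fiberModEquiv (S := S) (⊥ : Ideal R) N).injective (h0.trans (map_zero _).symm))
    obtain ⟨q, hqp, hq, hann, hrel⟩ := exists_relAssAt_of_ne_zero (S := S) (⊥ : Ideal R) N _ hn0
    refine hgen q hqp hq hrel fun g hg => hann g ?_
    rw [← includeRight_smul_eq_zero_iff]
    exact hn' g hg)
  have hregL : ∀ w : N ⊗[R] (⊥ : Ideal R).ResidueField, h • w = 0 → w = 0 := by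
    intro w hw
    obtain ⟨n', rfl⟩ := (fiberModEquiv (S := S) (⊥ : Ideal R) N).surjective w
    rw [← includeRight_smul_eq_zero_iff] at hw
    rw [hhreg n' hw, map_zero]
  obtain ⟨a, ha, hspread⟩ := spread_injective ((LinearMap.lsmul S N h))
    (⊥ : Ideal R).ResidueField algebraMap_residueField_injective_bot
    ((regular_iff_injective_lTensor h _).mp hregL)
  refine ⟨a, ha, fun q hqp haq hrel hJq => ?_⟩
  obtain ⟨p, hp⟩ : ∃ p : Ideal R, p = q.comap (algebraMap R S) := ⟨_, rfl⟩
  haveI : p.IsPrime := by rw [hp]; exact Ideal.comap_isPrime _ _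
  have h1 := hspread p.ResidueField (by
    rw [ne_eq, Ideal.algebraMap_residueField_eq_zero, hp]
    exact haq)
  have h2 := (regular_iff_injective_lTensor h _).mpr h1
  exact not_mem_of_regular p N q hp.symm hrel h h2 (hJq hhJ)

set_option maxHeartbeats 800000 in
/-- domain case: a relative associated prime over the generic point specialises to relative
associated primes over all points of a nonempty open -/
theorem chart1369_dom (q₀ : Ideal S) [hq₀p : q₀.IsPrime] (hq₀ : q₀.comap (algebraMap R S) = ⊥)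
    (h₀ : RelAssAt R q₀ N) :
    ∃ a : R, a ≠ 0 ∧ ∀ p : Ideal R, p.IsPrime → a ∉ p →
      ∃ q : Ideal S, q.IsPrime ∧ q.comap (algebraMap R S) = p ∧ q₀ ≤ q ∧ RelAssAt R q N := by
  haveI hbot : (⊥ : Ideal R).IsPrime := Ideal.isPrime_bot
  obtain ⟨n₃, hn₃⟩ := exists_ann_of_relAssAt (⊥ : Ideal R) N q₀ hq₀ h₀
  obtain ⟨r, hr, m₃, hrm⟩ := exists_smul_eq_tmul_one (⊥ : Ideal R) N n₃
  have key₀ : ∀ c : S, c ∈ q₀ ↔ c • (m₃ ⊗ₜ[R] (1 : (⊥ : Ideal R).ResidueField)) = 0 := by
    intro c
    rw [← hrm, smul_smul_eq_zero_iff (⊥ : Ideal R) N hr, hn₃]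
  have hne₀ : m₃ ⊗ₜ[R] (1 : (⊥ : Ideal R).ResidueField) ≠ 0 := by
    intro h0
    have : (1 : S) ∈ q₀ := by rw [key₀, h0, smul_zero]
    exact hq₀p.ne_top ((Ideal.eq_top_iff_one q₀).mpr this)
  -- the cyclic submodule generated by `m₃`
  obtain ⟨P₃, hP₃⟩ : ∃ P₃ : Submodule S N, P₃ = Submodule.span S {m₃} := ⟨_, rfl⟩
  have hm₃P : m₃ ∈ P₃ := hP₃ ▸ Submodule.mem_span_singleton_self m₃
  haveI : Module.Finite S P₃ := by rw [hP₃]; infer_instance
  obtain ⟨g1, -, hg1, hGF1⟩ := exists_GF R S P₃ 1 one_ne_zero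
  obtain ⟨a, hd, ha, hGF2⟩ := exists_GF R S (N ⧸ LinearMap.range P₃.subtype) g1 hg1
  haveI hfreeP := (hGF1 a hd).1
  haveI hfreeN := (hGF2 a dvd_rfl).1
  refine ⟨a, ha, fun p hpp hap => ?_⟩
  haveI := hpp
  have haκ : algebraMap R p.ResidueField a ≠ 0 := by
    rw [ne_eq, Ideal.algebraMap_residueField_eq_zero]; exact hap
  -- `q₀` kills `m₃ ⊗ 1` on the fibre over `p`
  have hkill : ∀ c ∈ q₀, c • (m₃ ⊗ₜ[R] (1 : p.ResidueField)) = 0 := by
    intro c hc
    have h1 := (key₀ c).mp hc
    rw [TensorProduct.smul_tmul', tmul_one_eq_zero_iff] at h1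
    obtain ⟨r', hr', hmem⟩ := h1
    rw [Submodule.bot_smul, Submodule.mem_bot] at hmem
    have hr'0 : r' ≠ 0 := fun h => hr' (h ▸ Submodule.zero_mem _)
    obtain ⟨z, hz⟩ : ∃ z : P₃, (z : N) = c • m₃ := ⟨⟨c • m₃, P₃.smul_mem c hm₃P⟩, rfl⟩
    have hrz : r' • z = 0 := by
      apply Subtype.ext
      rw [Submodule.coe_smul_of_tower, hz]
      exact hmem
    obtain ⟨j, hj⟩ := exists_pow_smul_eq_zero a ha z r' hr'0 hrz
    have hj' : a ^ j • (c • m₃) = 0 := by
      have := congrArg Subtype.val hj
      rwa [Submodule.coe_smul_of_tower, hz] at this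
    rw [TensorProduct.smul_tmul', tmul_one_eq_zero_iff]
    refine ⟨a ^ j, fun h => hap (hpp.mem_of_pow_mem j h), ?_⟩
    rw [hj']
    exact Submodule.zero_mem _
  -- `m₃ ⊗ 1` does not vanish on the fibre over `p`
  have hne : m₃ ⊗ₜ[R] (1 : p.ResidueField) ≠ 0 := by
    intro h0
    have hinj := spread_core P₃.subtype a (fun z hz => ⟨0, by
      rw [pow_zero, one_smul]; exact Subtype.ext hz⟩) p.ResidueField haκ
    obtain ⟨x₃, hx₃⟩ : ∃ x₃ : P₃, (x₃ : N) = m₃ := ⟨⟨m₃, hm₃P⟩, rfl⟩
    have h1 : (1 : p.ResidueField) ⊗ₜ[R] x₃ = 0 := by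
      apply hinj
      rw [LinearMap.lTensor_tmul, map_zero]
      change (1 : p.ResidueField) ⊗ₜ[R] (x₃ : N) = 0
      rw [hx₃]
      have := congrArg (TensorProduct.comm R N p.ResidueField) h0
      rwa [TensorProduct.comm_tmul, map_zero] at this
    have h2 : x₃ ⊗ₜ[R] (1 : p.ResidueField) = 0 := by
      have := congrArg (TensorProduct.comm R p.ResidueField P₃) h1
      rwa [TensorProduct.comm_tmul, map_zero] at this
    have hsub : ∀ z : P₃ ⊗[R] p.ResidueField, z = 0 := by
      intro z
      obtain ⟨r', hr', y, hy⟩ := exists_smul_eq_tmul_one p P₃ z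
      obtain ⟨s, hs⟩ : ∃ s : S, s • x₃ = y := by
        have hy2 : (y : N) ∈ Submodule.span S {m₃} := hP₃ ▸ y.2
        rw [Submodule.mem_span_singleton] at hy2
        obtain ⟨s, hs⟩ := hy2
        refine ⟨s, Subtype.ext ?_⟩
        rw [Submodule.coe_smul, hx₃]
        exact hs
      have h3 : r' • z = 0 := by
        rw [hy, ← hs, ← TensorProduct.smul_tmul', h2, smul_zero]
      exact eq_zero_of_smul_eq_zero p P₃ hr' z h3
    have hPa : Nontrivial (LocalizedModule (Submonoid.powers a) P₃) := by
      refine ⟨⟨LocalizedModule.mk x₃ 1, 0, fun h => ?_⟩⟩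
      obtain ⟨⟨_, j, rfl⟩, hj⟩ := (mk_eq_zero_iff' (Submonoid.powers a) x₃ 1).mp h
      have hj' : a ^ j • m₃ = 0 := by
        have := congrArg Subtype.val hj
        rw [Submonoid.smul_def] at this
        rwa [Submodule.coe_smul_of_tower, hx₃] at this
      apply hne₀
      apply eq_zero_of_smul_eq_zero (⊥ : Ideal R) N (r := a ^ j)
        (fun h => pow_ne_zero j ha ((Submodule.mem_bot R).mp h))
      rw [TensorProduct.smul_tmul', hj', zero_tmul]
    letI algRaκ : Algebra (Localization.Away a) p.ResidueField :=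
      (IsLocalization.Away.lift a (g := algebraMap R p.ResidueField)
        (isUnit_iff_ne_zero.mpr haκ)).toAlgebra
    haveI : IsScalarTower R (Localization.Away a) p.ResidueField :=
      IsScalarTower.of_algebraMap_eq (fun x => (IsLocalization.Away.lift_eq a _ x).symm)
    haveI : Nontrivial (p.ResidueField ⊗[Localization.Away a]
        (LocalizedModule (Submonoid.powers a) P₃)) := inferInstance
    have hbc : IsBaseChange (Localization.Away a)
        (LocalizedModule.mkLinearMap (Submonoid.powers a) P₃) :=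
      (isLocalizedModule_iff_isBaseChange (Submonoid.powers a) (Localization.Away a) _).mp
        inferInstance
    let e1 : p.ResidueField ⊗[Localization.Away a] ((Localization.Away a) ⊗[R] P₃) ≃ₗ[
        Localization.Away a] p.ResidueField ⊗[R] P₃ :=
      AlgebraTensorModule.cancelBaseChange R (Localization.Away a) (Localization.Away a)
        p.ResidueField P₃
    let e2 : p.ResidueField ⊗[Localization.Away a] ((Localization.Away a) ⊗[R] P₃) ≃ₗ[
        Localization.Away a] p.ResidueField ⊗[Localization.Away a]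
          (LocalizedModule (Submonoid.powers a) P₃) :=
      TensorProduct.congr (LinearEquiv.refl (Localization.Away a) p.ResidueField) hbc.equiv
    obtain ⟨w, hw⟩ := exists_ne (0 : p.ResidueField ⊗[Localization.Away a]
      (LocalizedModule (Submonoid.powers a) P₃))
    apply hw
    have h4 : e1 (e2.symm w) = 0 := by
      have := hsub (TensorProduct.comm R _ _ (e1 (e2.symm w)))
      exact (TensorProduct.comm R _ _).injective (this.trans (map_zero _).symm)
    have h5 : e2.symm w = 0 := e1.injective (h4.trans (map_zero _).symm)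
    exact e2.symm.injective (h5.trans (map_zero _).symm)
  obtain ⟨q, hqp, hq, hann, hrel⟩ := exists_relAssAt_of_ne_zero (S := S) p N _ hne
  exact ⟨q, hqp, hq, fun c hc => hann c (hkill c hc), hrel⟩

end dom

end Groth.Agent.Lib.Helper6.RelAss
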