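import Mathlib
import Groth.Agent.Lib.Helper6.RelAss4

/-!
# Relative associated primes and base change: algebra (helper6)
-/

set_option autoImplicit false
set_option linter.style.haveILetI false
set_option linter.unusedSectionVars false
universe u
open TensorProduct

namespace Groth.Agent.Lib.Helper6.RelAss

open Groth.Agent.Lib.Helper6.FibDense Groth.Agent.Lib.Helper26.FiberAss

section fieldExt

variable {A : Type*} [CommRing A] {M M₂ : Type*} [AddCommGroup M] [Module A M]
  [AddCommGroup M₂] [Module A M₂]
  (κ κ' : Type*) [Field κ] [Field κ'] [Algebra A κ] [Algebra A κ'] [Algebra κ κ']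
  [IsScalarTower A κ κ']

/-- injectivity on `κ ⊗ -` passes to a field extension -/
theorem injective_lTensor_of_fieldExt (g : M →ₗ[A] M₂)
    (h : Function.Injective (LinearMap.lTensor κ g)) :
    Function.Injective (LinearMap.lTensor κ' g) := by
  let G : κ ⊗[A] M →ₗ[κ] κ ⊗[A] M₂ := g.baseChange κ
  have hG : Function.Injective G := by
    intro a b hab
    apply h
    have h1 : ∀ z : κ ⊗[A] M, G z = LinearMap.lTensor κ g z := fun z => by
      simp only [G, LinearMap.baseChange_eq_ltensor]
    rw [← h1, ← h1, hab]
  have hG' : Function.Injective (LinearMap.lTensor κ' G) :=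
    Module.Flat.lTensor_preserves_injective_linearMap G hG
  let e₁ := AlgebraTensorModule.cancelBaseChange A κ κ' κ' M
  let e₂ := AlgebraTensorModule.cancelBaseChange A κ κ' κ' M₂
  have hnat : ∀ z : κ' ⊗[κ] (κ ⊗[A] M), e₂ (LinearMap.lTensor κ' G z) =
      LinearMap.lTensor κ' g (e₁ z) := by
    intro z
    induction z using TensorProduct.induction_on with
    | zero => simp
    | add a b ha hb => simp only [map_add, ha, hb]
    | tmul k' y =>
      induction y using TensorProduct.induction_on with
      | zero => simp
      | add a b ha hb => simp only [tmul_add, map_add, ha, hb]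
      | tmul k m =>
        rw [LinearMap.lTensor_tmul]
        change e₂ (k' ⊗ₜ[κ] (k ⊗ₜ[A] g m)) = LinearMap.lTensor κ' g (e₁ (k' ⊗ₜ[κ] (k ⊗ₜ[A] m)))
        rw [AlgebraTensorModule.cancelBaseChange_tmul, AlgebraTensorModule.cancelBaseChange_tmul,
          LinearMap.lTensor_tmul]
  rw [injective_iff_map_eq_zero]
  intro w hw
  obtain ⟨z, rfl⟩ := e₁.surjective w
  rw [← hnat] at hw
  have h2 : LinearMap.lTensor κ' G z = 0 := e₂.injective (hw.trans (map_zero _).symm)
  rw [hG' (h2.trans (map_zero _).symm), map_zero]

/-- `κ ⊗ M → κ' ⊗ M` is injective -/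
theorem injective_rTensor_fieldExt :
    Function.Injective (LinearMap.rTensor M
      ((IsScalarTower.toAlgHom A κ κ').toLinearMap)) := by
  obtain ⟨r, hr⟩ := LinearMap.exists_leftInverse_of_injective
    (Algebra.linearMap κ κ') (LinearMap.ker_eq_bot.mpr (algebraMap κ κ').injective)
  let r' : κ' →ₗ[A] κ := r.restrictScalars A
  have hri : r'.comp (IsScalarTower.toAlgHom A κ κ').toLinearMap = LinearMap.id := by
    ext c
    exact LinearMap.congr_fun hr c
  have h1 : (LinearMap.rTensor M r').comp
      (LinearMap.rTensor M (IsScalarTower.toAlgHom A κ κ').toLinearMap) = LinearMap.id := by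
    rw [← LinearMap.rTensor_comp, hri, LinearMap.rTensor_id]
  exact Function.LeftInverse.injective (g := LinearMap.rTensor M r')
    (fun z => LinearMap.congr_fun h1 z)

theorem rTensor_fieldExt_lTensor (g : M →ₗ[A] M₂) (z : κ ⊗[A] M) :
    LinearMap.lTensor κ' g
        (LinearMap.rTensor M ((IsScalarTower.toAlgHom A κ κ').toLinearMap) z) =
      LinearMap.rTensor M₂ ((IsScalarTower.toAlgHom A κ κ').toLinearMap)
        (LinearMap.lTensor κ g z) := by
  induction z using TensorProduct.induction_on with
  | zero => simp
  | add a b ha hb => simp only [map_add, ha, hb]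
  | tmul k m => simp

end fieldExt

section genReg

variable {R S : Type u} [CommRing R] [CommRing S] [Algebra R S] [Algebra.FiniteType R S]
  (p : Ideal R) [p.IsPrime]
  (N : Type u) [AddCommGroup N] [Module S N] [Module R N] [IsScalarTower R S N] [Module.Finite S N]

attribute [local instance] Algebra.TensorProduct.rightAlgebra

/-- if no relative associated prime over `p` contains `J`, some element of `J` is regular on the
fibre module over `p` -/
theorem exists_mem_regular_of_forall_relAssAt (J : Ideal S)
    (hgen : ∀ q : Ideal S, q.IsPrime → q.comap (algebraMap R S) = p → RelAssAt R q N → ¬ J ≤ q) :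
    ∃ h ∈ J, ∀ w : N ⊗[R] p.ResidueField, h • w = 0 → w = 0 := by
  haveI : IsNoetherianRing (p.Fiber S) :=
    Algebra.FiniteType.isNoetherianRing p.ResidueField _
  haveI : Module.Finite (p.Fiber S) (FlatCA.fiberMod p S N) :=
    inferInstanceAs (Module.Finite (p.Fiber S) ((p.Fiber S) ⊗[S] N))
  obtain ⟨h, hhJ, hhreg⟩ := exists_mem_map_isSMulRegular (FlatCA.fiberMod p S N)
    (Algebra.TensorProduct.includeRight (R := R) (A := p.ResidueField)
      (B := S)).toRingHom J (by
    intro n' hn'
    by_contra hne
    have hn0 : fiberModEquiv (S := S) p N n' ≠ 0 := by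
      intro h0
      exact hne ((fiberModEquiv (S := S) p N).injective (h0.trans (map_zero _).symm))
    obtain ⟨q, hqp, hq, hann, hrel⟩ := exists_relAssAt_of_ne_zero (S := S) p N _ hn0
    refine hgen q hqp hq hrel fun g hg => hann g ?_
    rw [← includeRight_smul_eq_zero_iff]
    exact hn' g hg)
  refine ⟨h, hhJ, fun w hw => ?_⟩
  obtain ⟨n', rfl⟩ := (fiberModEquiv (S := S) p N).surjective w
  rw [← includeRight_smul_eq_zero_iff] at hw
  rw [hhreg n' hw, map_zero]

end genReg

end Groth.Agent.Lib.Helper6.RelAss
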