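import Mathlib
import Groth.Agent.Lib.Helper6.RelAss9

/-!
# Relative associated primes and base change: the fibre modules (helper6)
-/

set_option autoImplicit false
set_option linter.style.haveILetI false
set_option linter.unusedSectionVars false
universe u
open TensorProduct

namespace Groth.Agent.Lib.Helper6.RelAss

open Groth.Agent.Lib.Helper6.FibDense Groth.Agent.Lib.Helper26.FiberAss

section BC

variable {A A' C C' : Type u} [CommRing A] [CommRing A'] [CommRing C] [CommRing C']
  [Algebra A A'] [Algebra A C] [Algebra A' C'] [Algebra C C'] [Algebra A C']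
  [IsScalarTower A A' C'] [IsScalarTower A C C'] [Algebra.IsPushout A A' C C']
  {M : Type u} [AddCommGroup M] [Module C M] [Module A M] [IsScalarTower A C M]
  {M' : Type u} [AddCommGroup M'] [Module C' M'] [Module A' M'] [IsScalarTower A' C' M']
  (e : M' ≃ₗ[C'] C' ⊗[C] M)
  (κ' : Type u) [Field κ'] [Algebra A' κ'] [Algebra A κ'] [IsScalarTower A A' κ']

/-- the fibre module of the base change, computed from the original module -/
noncomputable def Ebar : κ' ⊗[A] M ≃ₗ[A'] M' ⊗[A'] κ' :=
  (AlgebraTensorModule.cancelBaseChange A A' A' κ' M).symm ≪≫ₗ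
    TensorProduct.congr (LinearEquiv.refl A' κ')
      ((Algebra.IsPushout.cancelBaseChange A A' C C' M).symm ≪≫ₗ (e.symm.restrictScalars A')) ≪≫ₗ
    TensorProduct.comm A' κ' M'

theorem Ebar_tmul (k' : κ') (m : M) :
    Ebar (A := A) (A' := A') e κ' (k' ⊗ₜ[A] m) = e.symm ((1 : C') ⊗ₜ[C] m) ⊗ₜ[A'] k' := by
  simp [Ebar]

theorem Ebar_lTensor (c : C) (z : κ' ⊗[A] M) :
    Ebar (A := A) (A' := A') e κ' (LinearMap.lTensor κ' ((LinearMap.lsmul C M c).restrictScalars A) z) =
      algebraMap C C' c • Ebar (A := A) (A' := A') e κ' z := by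
  induction z using TensorProduct.induction_on with
  | zero => simp
  | add a b ha hb => simp only [map_add, smul_add, ha, hb]
  | tmul k' m =>
    rw [LinearMap.lTensor_tmul, Ebar_tmul, Ebar_tmul]
    change e.symm ((1 : C') ⊗ₜ[C] (c • m)) ⊗ₜ[A'] k' = _
    have h1 : (1 : C') ⊗ₜ[C] (c • m) = algebraMap C C' c • ((1 : C') ⊗ₜ[C] m) := by
      rw [TensorProduct.tmul_smul, TensorProduct.smul_tmul', TensorProduct.smul_tmul',
        algebraMap_smul]
    rw [h1, map_smul, TensorProduct.smul_tmul']

end BC

theorem comm_lTensor_lsmul {R S : Type*} [CommRing R] [CommRing S] [Algebra R S]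
    {N : Type*} [AddCommGroup N] [Module S N] [Module R N] [IsScalarTower R S N] (s : S)
    (κ : Type*) [CommRing κ] [Algebra R κ] (z : κ ⊗[R] N) :
    TensorProduct.comm R κ N
      (LinearMap.lTensor κ ((LinearMap.lsmul S N s).restrictScalars R) z) =
      s • TensorProduct.comm R κ N z := by
  induction z using TensorProduct.induction_on with
  | zero => simp
  | add a b ha hb => simp only [map_add, smul_add, ha, hb]
  | tmul k n =>
    rw [LinearMap.lTensor_tmul]
    change (s • n) ⊗ₜ[R] k = s • (n ⊗ₜ[R] k)
    rw [TensorProduct.smul_tmul']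

section BC2

variable {A A' C C' : Type u} [CommRing A] [CommRing A'] [CommRing C] [CommRing C']
  [Algebra A A'] [Algebra A C] [Algebra A' C'] [Algebra C C'] [Algebra A C']
  [IsScalarTower A A' C'] [IsScalarTower A C C'] [Algebra.IsPushout A A' C C']
  {M : Type u} [AddCommGroup M] [Module C M] [Module A M] [IsScalarTower A C M]
  {M' : Type u} [AddCommGroup M'] [Module C' M'] [Module A' M'] [IsScalarTower A' C' M']
  (e : M' ≃ₗ[C'] C' ⊗[C] M)
  (p' : Ideal A') [p'.IsPrime] (p : Ideal A) [p.IsPrime] (hp : p'.comap (algebraMap A A') = p)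

include e hp in
/-- regularity on the fibre module passes to the base change -/
theorem regular_baseChange (h : C)
    (hreg : ∀ w : M ⊗[A] p.ResidueField, h • w = 0 → w = 0) :
    ∀ w' : M' ⊗[A'] p'.ResidueField, algebraMap C C' h • w' = 0 → w' = 0 := by
  have hker : ∀ a : A, algebraMap A p'.ResidueField a = 0 ↔ a ∈ p := by
    intro a
    rw [IsScalarTower.algebraMap_apply A A' p'.ResidueField,
      Ideal.algebraMap_residueField_eq_zero, ← hp, Ideal.mem_comap]
  let σ : p.ResidueField →+* p'.ResidueField := Ideal.ResidueField.lift p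
    (algebraMap A p'.ResidueField) (fun a ha => (hker a).mpr ha) (fun a ha => by
      change IsUnit (algebraMap A p'.ResidueField a)
      rw [isUnit_iff_ne_zero]
      exact fun h0 => ha ((hker a).mp h0))
  letI algκκ' : Algebra p.ResidueField p'.ResidueField := σ.toAlgebra
  haveI tw2 : IsScalarTower A p.ResidueField p'.ResidueField :=
    IsScalarTower.of_algebraMap_eq (fun a =>
      (Ideal.ResidueField.lift_algebraMap p (algebraMap A p'.ResidueField) _ _ a).symm)
  have h1 := (regular_iff_injective_lTensor h p.ResidueField).mp hreg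
  have h2 := injective_lTensor_of_fieldExt p.ResidueField p'.ResidueField _ h1
  intro w' hw'
  obtain ⟨z, rfl⟩ := (Ebar (A := A) (A' := A') e p'.ResidueField).surjective w'
  rw [← Ebar_lTensor] at hw'
  have h3 := (Ebar (A := A) (A' := A') e p'.ResidueField).injective (hw'.trans (map_zero _).symm)
  rw [h2 (h3.trans (map_zero _).symm), map_zero]

include e hp in
/-- nonzero elements of the fibre module survive in the base change, with their annihilators -/
theorem exists_ne_zero_baseChange (n : M ⊗[A] p.ResidueField) (hn : n ≠ 0) :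
    ∃ n' : M' ⊗[A'] p'.ResidueField, n' ≠ 0 ∧
      ∀ c : C, c • n = 0 → algebraMap C C' c • n' = 0 := by
  have hker : ∀ a : A, algebraMap A p'.ResidueField a = 0 ↔ a ∈ p := by
    intro a
    rw [IsScalarTower.algebraMap_apply A A' p'.ResidueField,
      Ideal.algebraMap_residueField_eq_zero, ← hp, Ideal.mem_comap]
  let σ : p.ResidueField →+* p'.ResidueField := Ideal.ResidueField.lift p
    (algebraMap A p'.ResidueField) (fun a ha => (hker a).mpr ha) (fun a ha => by
      change IsUnit (algebraMap A p'.ResidueField a)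
      rw [isUnit_iff_ne_zero]
      exact fun h0 => ha ((hker a).mp h0))
  letI algκκ' : Algebra p.ResidueField p'.ResidueField := σ.toAlgebra
  haveI tw2 : IsScalarTower A p.ResidueField p'.ResidueField :=
    IsScalarTower.of_algebraMap_eq (fun a =>
      (Ideal.ResidueField.lift_algebraMap p (algebraMap A p'.ResidueField) _ _ a).symm)
  obtain ⟨z₀, hz₀⟩ : ∃ z₀ : p.ResidueField ⊗[A] M, TensorProduct.comm A _ _ z₀ = n :=
    (TensorProduct.comm A p.ResidueField M).surjective n
  obtain ⟨z₁, hz₁⟩ : ∃ z₁ : p'.ResidueField ⊗[A] M, z₁ = LinearMap.rTensor M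
    ((IsScalarTower.toAlgHom A p.ResidueField p'.ResidueField).toLinearMap) z₀ := ⟨_, rfl⟩
  refine ⟨Ebar (A := A) (A' := A') e p'.ResidueField z₁, fun h0 => hn ?_, fun c hc => ?_⟩
  · have h1 : z₁ = 0 := (Ebar (A := A) (A' := A') e p'.ResidueField).injective
      (h0.trans (map_zero _).symm)
    rw [hz₁] at h1
    have h2 : z₀ = 0 := injective_rTensor_fieldExt (M := M) p.ResidueField p'.ResidueField
      (h1.trans (map_zero _).symm)
    rw [← hz₀, h2, map_zero]
  · rw [← Ebar_lTensor, hz₁, rTensor_fieldExt_lTensor]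
    have h1 : LinearMap.lTensor p.ResidueField ((LinearMap.lsmul C M c).restrictScalars A) z₀ =
        0 := by
      apply (TensorProduct.comm A p.ResidueField M).injective
      rw [comm_lTensor_lsmul, hz₀, hc, map_zero]
    rw [h1, map_zero, map_zero]

include e hp in
/-- if no relative associated prime over `p` contains `J`, then no relative associated prime of
the base change over `p'` contains `J C'` -/
theorem not_le_of_relAssAt_baseChange [Algebra.FiniteType A C] [Module.Finite C M] (J : Ideal C)
    (hgen : ∀ q : Ideal C, q.IsPrime → q.comap (algebraMap A C) = p → RelAssAt A q M → ¬ J ≤ q)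
    (q' : Ideal C') [hq'p : q'.IsPrime] (hq' : q'.comap (algebraMap A' C') = p')
    (hrel : RelAssAt A' q' M') : ¬ J.map (algebraMap C C') ≤ q' := by
  obtain ⟨h, hhJ, hhreg⟩ := exists_mem_regular_of_forall_relAssAt p M J hgen
  have hreg' := regular_baseChange e p' p hp h hhreg
  intro hle
  exact not_mem_of_regular p' M' q' hq' hrel _ hreg' (hle (Ideal.mem_map_of_mem _ hhJ))

include e hp in
/-- a relative associated prime over `p` is dominated by a relative associated prime of the base
change over `p'` -/
theorem exists_relAssAt_baseChange [Algebra.FiniteType A C] [Algebra.FiniteType A' C']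
    (q : Ideal C) [hqp : q.IsPrime] (hq : q.comap (algebraMap A C) = p)
    (hrel : RelAssAt A q M) :
    ∃ q' : Ideal C', q'.IsPrime ∧ q'.comap (algebraMap A' C') = p' ∧
      q ≤ q'.comap (algebraMap C C') ∧ RelAssAt A' q' M' := by
  obtain ⟨n, hn⟩ := exists_ann_of_relAssAt p M q hq hrel
  have hn0 : n ≠ 0 := by
    intro h0
    have : (1 : C) ∈ q := by rw [hn, h0, smul_zero]
    exact hqp.ne_top ((Ideal.eq_top_iff_one q).mpr this)
  obtain ⟨n', hn'0, hn'⟩ := exists_ne_zero_baseChange e p' p hp n hn0
  obtain ⟨q', hq'p, hq', hann, hrel'⟩ := exists_relAssAt_of_ne_zero (S := C') p' M' n' hn'0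
  refine ⟨q', hq'p, hq', fun c hc => ?_, hrel'⟩
  rw [Ideal.mem_comap]
  exact hann _ (hn' c ((hn c).mp hc))

end BC2

end Groth.Agent.Lib.Helper6.RelAss
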