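import Mathlib
import Groth.Prelude.Def_MoreMor
import Groth.Agent.Lib.Helper6.RelAss1
import Groth.Agent.Lib.Helper29.QCohBasic
import Groth.Agent.Lib27.FibInj.LocLemmas

/-!
# The relative assassin on an affine chart (helper6)
-/

set_option autoImplicit false
set_option linter.style.haveILetI false
set_option linter.unusedSectionVars false
universe u

open CategoryTheory CategoryTheory.Limits AlgebraicGeometry TopologicalSpace Opposite
open Groth.Agent.Lib.Helper29.QCoh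

namespace Groth.Agent.Lib.Helper6.RelAss

/-- `IC • N` computed over the base ring -/
theorem mem_map_smul_top_iff' {R S : Type*} [CommRing R] [CommRing S] [Algebra R S] (I : Ideal R)
    (N : Type*) [AddCommGroup N] [Module S N] [Module R N] [IsScalarTower R S N] (x : N) :
    x ∈ (I.map (algebraMap R S)) • (⊤ : Submodule S N) ↔ x ∈ I • (⊤ : Submodule R N) := by
  constructor
  · intro hx
    refine Submodule.smul_induction_on hx (fun a ha n _ => ?_) (fun x y hx hy => add_mem hx hy)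
    suffices key : ∀ n : N, a • n ∈ I • (⊤ : Submodule R N) from key n
    refine Submodule.span_induction (p := fun a _ => ∀ n : N, a • n ∈ I • (⊤ : Submodule R N))
      ?_ ?_ ?_ ?_ ha
    · rintro _ ⟨r, hr, rfl⟩ n
      rw [algebraMap_smul]
      exact Submodule.smul_mem_smul hr Submodule.mem_top
    · intro n; rw [zero_smul]; exact zero_mem _
    · intro a b _ _ ha hb n
      rw [add_smul]; exact add_mem (ha n) (hb n)
    · intro c a _ ha n
      rw [smul_eq_mul, mul_comm, mul_smul]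
      exact ha (c • n)
  · intro hx
    refine Submodule.smul_induction_on hx (fun a ha n _ => ?_) (fun x y hx hy => add_mem hx hy)
    rw [← algebraMap_smul S a n]
    exact Submodule.smul_mem_smul (Ideal.mem_map_of_mem _ ha) Submodule.mem_top

theorem mem_primeIdealOf_iff_germ {X : Scheme.{u}} {W : X.Opens} (hW : IsAffineOpen W) (x : X)
    (hx : x ∈ W) (a : Γ(X, W)) :
    a ∈ (hW.primeIdealOf ⟨x, hx⟩).asIdeal ↔
      X.presheaf.germ W x hx a ∈ IsLocalRing.maximalIdeal (X.presheaf.stalk x) := by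
  rw [hW.primeIdealOf_eq_map_closedPoint]
  rfl

theorem isUnit_germ_of_notMem {X : Scheme.{u}} {W : X.Opens} (hW : IsAffineOpen W) (x : X)
    (hx : x ∈ W) (a : Γ(X, W)) (ha : a ∉ (hW.primeIdealOf ⟨x, hx⟩).asIdeal) :
    IsUnit (X.presheaf.germ W x hx a) := by
  rw [mem_primeIdealOf_iff_germ, IsLocalRing.mem_maximalIdeal, mem_nonunits_iff, not_not] at ha
  exact ha

set_option maxHeartbeats 1600000 in
/-- the relative assassin in terms of an affine chart -/
theorem mem_relAss_iff {X Y : Scheme.{u}} (f : X ⟶ Y) (F : X.Modules) [F.IsQuasicoherent]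
    {Y₀ : Y.Opens} (hY₀ : IsAffineOpen Y₀) {W : X.Opens} (hW : IsAffineOpen W)
    (hWY : W ≤ f ⁻¹ᵁ Y₀) (x : X) (hx : x ∈ W) :
    letI := (f.appLE Y₀ W hWY).hom.toAlgebra
    x ∈ MoreMor.relAss f F ↔
      RelAssAt Γ(Y, Y₀) (hW.primeIdealOf ⟨x, hx⟩).asIdeal Γ(F, W) := by
  letI algAC : Algebra Γ(Y, Y₀) Γ(X, W) := (f.appLE Y₀ W hWY).hom.toAlgebra
  letI modCF := stalkModule F W x hx
  letI algCO : Algebra Γ(X, W) (X.presheaf.stalk x) :=
    TopCat.Presheaf.algebra_section_stalk X.presheaf ⟨x, hx⟩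
  haveI twCO : IsScalarTower Γ(X, W) (X.presheaf.stalk x) (F.presheaf.stalk x) :=
    IsScalarTower.of_algebraMap_smul (fun c t => rfl)
  haveI hlocO : IsLocalization.AtPrime (X.presheaf.stalk x)
      (hW.primeIdealOf ⟨x, hx⟩).asIdeal := hW.isLocalization_stalk ⟨x, hx⟩
  haveI hlocF : IsLocalizedModule (hW.primeIdealOf ⟨x, hx⟩).asIdeal.primeCompl
      (germₗ F W x hx) := isLocalizedModule_germ F hW x hx
  -- the ideal generated by the maximal ideal of the base point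
  have hideal : Ideal.map (f.stalkMap x).hom
      (IsLocalRing.maximalIdeal (Y.presheaf.stalk (f x))) =
      ((((hW.primeIdealOf ⟨x, hx⟩).asIdeal.comap (algebraMap Γ(Y, Y₀) Γ(X, W))).map
        (algebraMap Γ(Y, Y₀) Γ(X, W))).map (algebraMap Γ(X, W) (X.presheaf.stalk x))) := by
    have h1 : (hW.primeIdealOf ⟨x, hx⟩).asIdeal.comap (algebraMap Γ(Y, Y₀) Γ(X, W)) =
        (hY₀.primeIdealOf ⟨f x, hWY hx⟩).asIdeal :=
      congrArg PrimeSpectrum.asIdeal (IsAffineOpen.comap_primeIdealOf_appLE Y₀ hY₀ W hW hWY hx)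
    letI algAO : Algebra Γ(Y, Y₀) (Y.presheaf.stalk (f x)) :=
      TopCat.Presheaf.algebra_section_stalk Y.presheaf ⟨f x, hWY hx⟩
    haveI : IsLocalization.AtPrime (Y.presheaf.stalk (f x))
        (hY₀.primeIdealOf ⟨f x, hWY hx⟩).asIdeal := hY₀.isLocalization_stalk ⟨f x, hWY hx⟩
    have key : ∀ a : Γ(Y, Y₀), f.stalkMap x (Y.presheaf.germ Y₀ (f x) (hWY hx) a) =
        X.presheaf.germ W x hx (f.appLE Y₀ W hWY a) := by
      intro a
      rw [Scheme.Hom.germ_stalkMap_apply, Scheme.Hom.appLE, CommRingCat.comp_apply,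
        X.presheaf.germ_res_apply]
    have h2 := IsLocalization.AtPrime.map_eq_maximalIdeal
      (hY₀.primeIdealOf ⟨f x, hWY hx⟩).asIdeal (Y.presheaf.stalk (f x))
    rw [h1, ← h2, Ideal.map_map, Ideal.map_map]
    congr 1
    ext a
    exact key a
  obtain ⟨𝔭, h𝔭⟩ : ∃ 𝔭 : Ideal Γ(X, W), 𝔭 = ((hW.primeIdealOf ⟨x, hx⟩).asIdeal.comap
    (algebraMap Γ(Y, Y₀) Γ(X, W))).map (algebraMap Γ(Y, Y₀) Γ(X, W)) := ⟨_, rfl⟩
  rw [← h𝔭] at hideal
  obtain ⟨K, hK⟩ : ∃ K : Submodule (X.presheaf.stalk x) (F.presheaf.stalk x),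
      K = (Ideal.map (f.stalkMap x).hom (IsLocalRing.maximalIdeal (Y.presheaf.stalk (f x)))) •
        (⊤ : Submodule (X.presheaf.stalk x) (F.presheaf.stalk x)) := ⟨_, rfl⟩
  have hKmem : ∀ m : Γ(F, W), F.presheaf.germ W x hx m ∈ K ↔
      ∃ d : Γ(X, W), d ∉ (hW.primeIdealOf ⟨x, hx⟩).asIdeal ∧
        d • m ∈ 𝔭 • (⊤ : Submodule Γ(X, W) Γ(F, W)) := by
    intro m
    rw [hK, hideal, mem_map_smul_top_iff']
    have h1 := Groth.Agent.Lib27.FibInj.isLoc_mem_smul_top_iff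
      (hW.primeIdealOf ⟨x, hx⟩).asIdeal.primeCompl (germₗ F W x hx) 𝔭 m
    change germₗ F W x hx m ∈ _ ↔ _
    rw [h1]
    constructor
    · rintro ⟨s, hs⟩; exact ⟨s.1, s.2, hs⟩
    · rintro ⟨d, hd, hs⟩; exact ⟨⟨d, hd⟩, hs⟩
  have hU : ∀ (u : X.presheaf.stalk x), IsUnit u → ∀ t : F.presheaf.stalk x,
      u • t ∈ K ↔ t ∈ K := by
    intro u hu t
    constructor
    · intro h
      obtain ⟨v, rfl⟩ := hu
      have := K.smul_mem (↑v⁻¹ : X.presheaf.stalk x) h
      rwa [smul_smul, Units.inv_mul, one_smul] at this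
    · intro h; exact K.smul_mem u h
  have hG : ∀ (c : Γ(X, W)) (k : ℕ) (m : Γ(F, W)),
      (X.presheaf.germ W x hx c) ^ k • F.presheaf.germ W x hx m ∈ K ↔
        ∃ d : Γ(X, W), d ∉ (hW.primeIdealOf ⟨x, hx⟩).asIdeal ∧
          (d * c ^ k) • m ∈ 𝔭 • (⊤ : Submodule Γ(X, W) Γ(F, W)) := by
    intro c k m
    rw [← map_pow, ← germ_smul, hKmem]
    simp only [mul_smul]
  have hrad : ∀ (z : X.presheaf.stalk x) (t : F.presheaf.stalk x),
      z ∈ ((⊥ : Submodule (X.presheaf.stalk x) (F.presheaf.stalk x ⧸ K)).colon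
        {(Submodule.Quotient.mk t : F.presheaf.stalk x ⧸ K)}).radical ↔
      ∃ k : ℕ, z ^ k • t ∈ K := by
    intro z t
    rw [Ideal.mem_radical_iff]
    refine exists_congr fun k => ?_
    rw [Submodule.mem_colon_singleton, Submodule.mem_bot, ← Submodule.Quotient.mk_smul,
      Submodule.Quotient.mk_eq_zero]
  change IsAssociatedPrime (IsLocalRing.maximalIdeal (X.presheaf.stalk x))
    (F.presheaf.stalk x ⧸ (Ideal.map (f.stalkMap x).hom
      (IsLocalRing.maximalIdeal (Y.presheaf.stalk (f x)))) •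
        (⊤ : Submodule (X.presheaf.stalk x) (F.presheaf.stalk x))) ↔ _
  rw [← hK]
  unfold RelAssAt
  rw [← h𝔭]
  constructor
  · rintro ⟨-, tbar, htbar⟩
    obtain ⟨t, rfl⟩ := Submodule.Quotient.mk_surjective _ tbar
    obtain ⟨⟨m, s⟩, hs⟩ := IsLocalizedModule.surj
      (hW.primeIdealOf ⟨x, hx⟩).asIdeal.primeCompl (germₗ F W x hx) t
    have hs' : X.presheaf.germ W x hx s.1 • t = F.presheaf.germ W x hx m := hs
    have hsu : IsUnit (X.presheaf.germ W x hx s.1) := isUnit_germ_of_notMem hW x hx s.1 s.2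
    refine ⟨m, fun c => ?_⟩
    rw [mem_primeIdealOf_iff_germ, htbar, hrad]
    constructor
    · rintro ⟨k, hk⟩
      have h1 := (hU _ hsu _).mpr hk
      rw [smul_comm, hs', hG] at h1
      obtain ⟨d, hd, hmem⟩ := h1
      exact ⟨k, d, hd, hmem⟩
    · rintro ⟨k, d, hd, hmem⟩
      refine ⟨k, ?_⟩
      have h1 := (hG c k m).mpr ⟨d, hd, hmem⟩
      rw [← hs', smul_comm] at h1
      exact (hU _ hsu _).mp h1
  · rintro ⟨m, hm⟩
    refine ⟨inferInstance, Submodule.Quotient.mk (F.presheaf.germ W x hx m), ?_⟩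
    ext z
    rw [hrad]
    obtain ⟨⟨c, s⟩, hzs⟩ := IsLocalization.surj (hW.primeIdealOf ⟨x, hx⟩).asIdeal.primeCompl z
    have hzs' : z * X.presheaf.germ W x hx s.1 = X.presheaf.germ W x hx c := hzs
    have hsu : IsUnit (X.presheaf.germ W x hx s.1) := isUnit_germ_of_notMem hW x hx s.1 s.2
    have hz1 : z ∈ IsLocalRing.maximalIdeal (X.presheaf.stalk x) ↔
        c ∈ (hW.primeIdealOf ⟨x, hx⟩).asIdeal := by
      rw [mem_primeIdealOf_iff_germ, ← hzs']
      exact (Ideal.mul_unit_mem_iff_mem _ hsu).symm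
    have hz2 : ∀ k : ℕ, z ^ k • F.presheaf.germ W x hx m ∈ K ↔
        (X.presheaf.germ W x hx c) ^ k • F.presheaf.germ W x hx m ∈ K := by
      intro k
      rw [← hzs', mul_pow, mul_comm, mul_smul]
      exact (hU _ (hsu.pow k) _).symm
    rw [hz1, hm c]
    constructor
    · rintro ⟨k, d, hd, hmem⟩
      exact ⟨k, (hz2 k).mpr ((hG c k m).mpr ⟨d, hd, hmem⟩)⟩
    · rintro ⟨k, hk⟩
      obtain ⟨d, hd, hmem⟩ := (hG c k m).mp ((hz2 k).mp hk)
      exact ⟨k, d, hd, hmem⟩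

end Groth.Agent.Lib.Helper6.RelAss
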