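import Mathlib
import Groth.Prelude.Def_MoreMor
import Groth.Agent.Lib.Helper6.RelAss10
import Groth.Agent.Lib.Helper6.RelAss7
import Groth.Agent.Lib.Helper6.FibDense5
import Groth.Agent.Lib.Helper29.QCohFinite
import Groth.Agent.Lib.Helper29.QCohPullback
import Groth.Agent.Lib.Helper18.GFl5
import Groth.Agent.Lib.Lead.SchDense

/-!
# The relative assassin of a fibre and base change (EGA IV 4.2.7 type statement) (helper6)
-/

set_option autoImplicit false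
set_option linter.style.haveILetI false
set_option linter.unusedSectionVars false
universe u

open CategoryTheory CategoryTheory.Limits AlgebraicGeometry TopologicalSpace Opposite TensorProduct
open Groth.Agent.Lib.Helper29.QCoh Groth.Agent.Lib.Helper6.FibDense Groth.Agent.Lib.Helper18
open Groth.Agent.Lib.Lead.SchDense

namespace Groth.Agent.Lib.Helper6.RelAss

theorem eq_of_primeIdealOf_eq' {Y : Scheme.{u}} {Y₀ : Y.Opens} (hY₀ : IsAffineOpen Y₀) (y y' : Y)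
    (hy : y ∈ Y₀) (hy' : y' ∈ Y₀)
    (h : (hY₀.primeIdealOf ⟨y, hy⟩).asIdeal = (hY₀.primeIdealOf ⟨y', hy'⟩).asIdeal) : y = y' := by
  have h1 : hY₀.primeIdealOf ⟨y, hy⟩ = hY₀.primeIdealOf ⟨y', hy'⟩ := PrimeSpectrum.ext h
  have h2 := congrArg hY₀.fromSpec h1
  rwa [hY₀.fromSpec_primeIdealOf, hY₀.fromSpec_primeIdealOf] at h2

set_option maxHeartbeats 3200000 in
set_option maxRecDepth 4000 in
/-- one affine chart of S9780 -/
theorem chart9780 {X S X' S' : Scheme.{u}} (f : X ⟶ S) [LocallyOfFiniteType f] (F : X.Modules)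
    [F.IsQuasicoherent] [F.IsFiniteType] (U : X.Opens) (g : S' ⟶ S) (f' : X' ⟶ S') (g' : X' ⟶ X)
    (hc : IsPullback g' f' f g)
    {S₀ : S.Opens} (hS₀ : IsAffineOpen S₀) {S'₀ : S'.Opens} (hS'₀ : IsAffineOpen S'₀)
    (hSS : S'₀ ≤ g ⁻¹ᵁ S₀) {W : X.Opens} (hW : IsAffineOpen W) (hWS : W ≤ f ⁻¹ᵁ S₀)
    (s' : S') (hs' : s' ∈ S'₀) :
    ((∀ x ∈ MoreMor.relAss f F, x ∈ W → f x = g s' → x ∈ U) →
      ∀ x' ∈ MoreMor.relAss f' ((Scheme.Modules.pullback g').obj F), x' ∈ g' ⁻¹ᵁ W → f' x' = s' →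
        x' ∈ g' ⁻¹ᵁ U) ∧
    (∀ x ∈ MoreMor.relAss f F, x ∈ W → f x = g s' →
      ∃ x' ∈ MoreMor.relAss f' ((Scheme.Modules.pullback g').obj F), f' x' = s' ∧
        (x' ∈ g' ⁻¹ᵁ U → x ∈ U)) := by
  haveI hlft' : LocallyOfFiniteType f' :=
    MorphismProperty.of_isPullback (P := @LocallyOfFiniteType) hc inferInstance
  obtain ⟨W', hW'def⟩ : ∃ W' : X'.Opens, W' = g' ⁻¹ᵁ W ⊓ f' ⁻¹ᵁ S'₀ := ⟨_, rfl⟩
  have hW'W : W' ≤ g' ⁻¹ᵁ W := by rw [hW'def]; exact inf_le_left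
  have hW'S' : W' ≤ f' ⁻¹ᵁ S'₀ := by rw [hW'def]; exact inf_le_right
  have hW' : IsAffineOpen W' := GFl.isAffineOpen_of_isPullback hc hS₀ hS'₀ hW hSS hWS hW'def
  have hpo := GFl.isPushout_appLE_of_isPullback hc hS₀ hS'₀ hW hSS hWS hW'def
  letI algAC : Algebra Γ(S, S₀) Γ(X, W) := (f.appLE S₀ W hWS).hom.toAlgebra
  letI algAA' : Algebra Γ(S, S₀) Γ(S', S'₀) := (g.appLE S₀ S'₀ hSS).hom.toAlgebra
  letI algA'C' : Algebra Γ(S', S'₀) Γ(X', W') := (f'.appLE S'₀ W' hW'S').hom.toAlgebra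
  letI algCC' : Algebra Γ(X, W) Γ(X', W') := (g'.appLE W W' hW'W).hom.toAlgebra
  letI algAC' : Algebra Γ(S, S₀) Γ(X', W') :=
    ((g'.appLE W W' hW'W).hom.comp (f.appLE S₀ W hWS).hom).toAlgebra
  haveI tw1 : IsScalarTower Γ(S, S₀) Γ(X, W) Γ(X', W') :=
    IsScalarTower.of_algebraMap_eq (fun _ => rfl)
  haveI tw2 : IsScalarTower Γ(S, S₀) Γ(S', S'₀) Γ(X', W') :=
    IsScalarTower.of_algebraMap_eq (fun r => by
      have hw := hpo.w
      exact congr($(hw).hom r))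
  haveI hpo1 : Algebra.IsPushout Γ(S, S₀) Γ(X, W) Γ(S', S'₀) Γ(X', W') :=
    CommRingCat.isPushout_iff_isPushout.mp hpo
  haveI hpo2 : Algebra.IsPushout Γ(S, S₀) Γ(S', S'₀) Γ(X, W) Γ(X', W') := hpo1.symm
  letI modAM : Module Γ(S, S₀) Γ(F, W) := Module.compHom _ (f.appLE S₀ W hWS).hom
  haveI twM : IsScalarTower Γ(S, S₀) Γ(X, W) Γ(F, W) :=
    IsScalarTower.of_algebraMap_smul (fun r m => rfl)
  letI modA'M' : Module Γ(S', S'₀) Γ((Scheme.Modules.pullback g').obj F, W') :=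
    Module.compHom _ (f'.appLE S'₀ W' hW'S').hom
  haveI twM' : IsScalarTower Γ(S', S'₀) Γ(X', W') Γ((Scheme.Modules.pullback g').obj F, W') :=
    IsScalarTower.of_algebraMap_smul (fun r m => rfl)
  haveI hft : Algebra.FiniteType Γ(S, S₀) Γ(X, W) :=
    HasRingHomProperty.appLE (P := @LocallyOfFiniteType) f inferInstance ⟨S₀, hS₀⟩ ⟨W, hW⟩ hWS
  haveI hft' : Algebra.FiniteType Γ(S', S'₀) Γ(X', W') :=
    HasRingHomProperty.appLE (P := @LocallyOfFiniteType) f' inferInstance ⟨S'₀, hS'₀⟩ ⟨W', hW'⟩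
      hW'S'
  haveI hMfin : Module.Finite Γ(X, W) Γ(F, W) := module_finite_of_isFiniteType F hW
  have e : Γ((Scheme.Modules.pullback g').obj F, W') ≃ₗ[Γ(X', W')]
      Γ(X', W') ⊗[Γ(X, W)] Γ(F, W) := pullbackSectionsEquiv g' F hW' hW hW'W
  obtain ⟨p', hp'⟩ : ∃ p' : Ideal Γ(S', S'₀), p' = (hS'₀.primeIdealOf ⟨s', hs'⟩).asIdeal :=
    ⟨_, rfl⟩
  haveI hp'p : p'.IsPrime := by rw [hp']; infer_instance
  obtain ⟨p, hpdef⟩ : ∃ p : Ideal Γ(S, S₀), p = (hS₀.primeIdealOf ⟨g s', hSS hs'⟩).asIdeal :=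
    ⟨_, rfl⟩
  haveI hpp : p.IsPrime := by rw [hpdef]; infer_instance
  have hp : p'.comap (algebraMap Γ(S, S₀) Γ(S', S'₀)) = p := by
    rw [hp', hpdef]
    exact congrArg PrimeSpectrum.asIdeal
      (IsAffineOpen.comap_primeIdealOf_appLE S₀ hS₀ S'₀ hS'₀ hSS hs')
  -- primes of points of `W` over `g s'`
  have hpx : ∀ (x : X) (hxW : x ∈ W), f x = g s' →
      (hW.primeIdealOf ⟨x, hxW⟩).asIdeal.comap (algebraMap Γ(S, S₀) Γ(X, W)) = p := by
    intro x hxW hfx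
    have h1 := congrArg PrimeSpectrum.asIdeal
      (IsAffineOpen.comap_primeIdealOf_appLE S₀ hS₀ W hW hWS hxW)
    refine h1.trans ?_
    rw [hpdef]
    congr 2
    exact Subtype.ext hfx
  have hpx' : ∀ (x' : X') (hx'W' : x' ∈ W'), f' x' = s' →
      (hW'.primeIdealOf ⟨x', hx'W'⟩).asIdeal.comap (algebraMap Γ(S', S'₀) Γ(X', W')) = p' := by
    intro x' hx'W' hfx'
    have h1 := congrArg PrimeSpectrum.asIdeal
      (IsAffineOpen.comap_primeIdealOf_appLE S'₀ hS'₀ W' hW' hW'S' hx'W')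
    refine h1.trans ?_
    rw [hp']
    congr 2
    exact Subtype.ext hfx'
  have hqx' : ∀ (x' : X') (hx'W' : x' ∈ W'),
      (hW'.primeIdealOf ⟨x', hx'W'⟩).asIdeal.comap (algebraMap Γ(X, W) Γ(X', W')) =
        (hW.primeIdealOf ⟨g' x', hW'W hx'W'⟩).asIdeal := by
    intro x' hx'W'
    exact congrArg PrimeSpectrum.asIdeal
      (IsAffineOpen.comap_primeIdealOf_appLE W hW W' hW' hW'W hx'W')
  constructor
  · intro hU x' hx'rel hx'W hfx'
    have hx'W' : x' ∈ W' := by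
      rw [hW'def]
      refine ⟨hx'W, ?_⟩
      change f' x' ∈ S'₀
      rw [hfx']; exact hs'
    have hrel' := (mem_relAss_iff f' ((Scheme.Modules.pullback g').obj F) hS'₀ hW' hW'S' x'
      hx'W').mp hx'rel
    have hnle := not_le_of_relAssAt_baseChange e p' p hp (idealOf W U) (by
      intro q hq hqp hrel hle
      obtain ⟨x, hxW, hxq⟩ := exists_point_of_prime' hW ⟨q, hq⟩
      have hxq' : (hW.primeIdealOf ⟨x, hxW⟩).asIdeal = q := congrArg PrimeSpectrum.asIdeal hxq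
      have hxrel : x ∈ MoreMor.relAss f F := by
        rw [mem_relAss_iff f F hS₀ hW hWS x hxW, hxq']
        exact hrel
      have hfx : f x = g s' := by
        apply eq_of_primeIdealOf_eq' hS₀ _ _ (hWS hxW) (hSS hs')
        rw [← hpdef, ← hqp, ← hxq']
        exact (congrArg PrimeSpectrum.asIdeal
          (IsAffineOpen.comap_primeIdealOf_appLE S₀ hS₀ W hW hWS hxW)).symm
      have hxU := hU x hxrel hxW hfx
      obtain ⟨c, hcU, hxc⟩ := hW.exists_basicOpen_le (V := U) ⟨x, hxU⟩ hxW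
      have h1 : c ∈ q := hle hcU
      rw [← hxq', mem_primeIdealOf_iff hW x hxW] at h1
      exact h1 hxc) (hW'.primeIdealOf ⟨x', hx'W'⟩).asIdeal (hpx' x' hx'W' hfx') hrel'
    rw [Ideal.map_le_iff_le_comap, SetLike.not_le_iff_exists] at hnle
    obtain ⟨c, hcU, hcq⟩ := hnle
    rw [hqx' x' hx'W', mem_primeIdealOf_iff hW _ (hW'W hx'W'), not_not] at hcq
    exact hcU hcq
  · intro x hxrel hxW hfx
    have hrel := (mem_relAss_iff f F hS₀ hW hWS x hxW).mp hxrel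
    obtain ⟨q', hq'p, hq', hle, hrel'⟩ := exists_relAssAt_baseChange e p' p hp
      (hW.primeIdealOf ⟨x, hxW⟩).asIdeal (hpx x hxW hfx) hrel
    obtain ⟨x', hx'W', hx'q⟩ := exists_point_of_prime' hW' ⟨q', hq'p⟩
    have hx'q' : (hW'.primeIdealOf ⟨x', hx'W'⟩).asIdeal = q' :=
      congrArg PrimeSpectrum.asIdeal hx'q
    refine ⟨x', ?_, ?_, ?_⟩
    · rw [mem_relAss_iff f' ((Scheme.Modules.pullback g').obj F) hS'₀ hW' hW'S' x' hx'W', hx'q']
      exact hrel'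
    · apply eq_of_primeIdealOf_eq' hS'₀ _ _ (hW'S' hx'W') hs'
      rw [← hp', ← hq', ← hx'q']
      exact (congrArg PrimeSpectrum.asIdeal
        (IsAffineOpen.comap_primeIdealOf_appLE S'₀ hS'₀ W' hW' hW'S' hx'W')).symm
    · intro hx'U
      have hgx'U : g' x' ∈ U := hx'U
      obtain ⟨c, hcU, hxc⟩ := hW.exists_basicOpen_le (V := U) ⟨g' x', hgx'U⟩ (hW'W hx'W')
      have h1 : c ∉ (hW.primeIdealOf ⟨g' x', hW'W hx'W'⟩).asIdeal := by
        rw [mem_primeIdealOf_iff hW _ (hW'W hx'W'), not_not]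
        exact hxc
      rw [← hqx' x' hx'W', hx'q'] at h1
      have h2 : c ∉ (hW.primeIdealOf ⟨x, hxW⟩).asIdeal := fun h => h1 (hle h)
      rw [mem_primeIdealOf_iff hW x hxW, not_not] at h2
      exact hcU h2

end Groth.Agent.Lib.Helper6.RelAss
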