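import Mathlib
import Groth.Agent.Lib.Helper6.RelAss4

/-!
# Relative associated primes near the generic point: rings with prime nilradical (helper6)
-/

set_option autoImplicit false
set_option linter.style.haveILetI false
set_option linter.unusedSectionVars false
universe u
open TensorProduct

namespace Groth.Agent.Lib.Helper6.RelAss

section red

variable {A C : Type u} [CommRing A] [CommRing C] [Algebra A C] (M : Type u) [AddCommGroup M]
  [Module C M] (n : Ideal A)

/-- membership in `pC • M` can be tested modulo `nC • M` when `n ≤ p` -/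
theorem mem_smul_top_quotient_iff (p : Ideal A) (hnp : n ≤ p) (x : M) :
    x ∈ (p.map (algebraMap A C)) • (⊤ : Submodule C M) ↔
      (Submodule.Quotient.mk x : M ⧸ (n.map (algebraMap A C)) • (⊤ : Submodule C M)) ∈
        ((p.map (Ideal.Quotient.mk n)).map (algebraMap (A ⧸ n) (C ⧸ n.map (algebraMap A C)))) •
          (⊤ : Submodule (C ⧸ n.map (algebraMap A C))
            (M ⧸ (n.map (algebraMap A C)) • (⊤ : Submodule C M))) := by
  have hfact : (p.map (Ideal.Quotient.mk n)).map
      (algebraMap (A ⧸ n) (C ⧸ n.map (algebraMap A C))) =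
      (p.map (algebraMap A C)).map (Ideal.Quotient.mk (n.map (algebraMap A C))) := by
    rw [Ideal.map_map, Ideal.map_map]
    rfl
  rw [hfact]
  constructor
  · intro hx
    refine Submodule.smul_induction_on hx (fun c hc y _ => ?_) (fun y₁ y₂ h₁ h₂ => ?_)
    · rw [← Module.Quotient.mk_smul_mk]
      exact Submodule.smul_mem_smul (Ideal.mem_map_of_mem _ hc) Submodule.mem_top
    · rw [Submodule.Quotient.mk_add]
      exact add_mem h₁ h₂
  · intro hx
    have key : ∀ y ∈ ((p.map (algebraMap A C)).map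
        (Ideal.Quotient.mk (n.map (algebraMap A C)))) •
        (⊤ : Submodule (C ⧸ n.map (algebraMap A C))
          (M ⧸ (n.map (algebraMap A C)) • (⊤ : Submodule C M))),
        ∃ x' ∈ (p.map (algebraMap A C)) • (⊤ : Submodule C M),
          (Submodule.Quotient.mk x' : M ⧸ (n.map (algebraMap A C)) • (⊤ : Submodule C M)) = y := by
      intro y hy
      refine Submodule.smul_induction_on hy (fun c hc y _ => ?_) (fun y₁ y₂ h₁ h₂ => ?_)
      · obtain ⟨c', hc', rfl⟩ := (Ideal.mem_map_iff_of_surjective _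
          Ideal.Quotient.mk_surjective).mp hc
        obtain ⟨y', rfl⟩ := Submodule.Quotient.mk_surjective _ y
        exact ⟨c' • y', Submodule.smul_mem_smul hc' Submodule.mem_top, rfl⟩
      · obtain ⟨x₁, hx₁, rfl⟩ := h₁
        obtain ⟨x₂, hx₂, rfl⟩ := h₂
        exact ⟨x₁ + x₂, add_mem hx₁ hx₂, rfl⟩
    obtain ⟨x', hx', he⟩ := key _ hx
    have h1 : x' - x ∈ (n.map (algebraMap A C)) • (⊤ : Submodule C M) := by
      rw [← Submodule.Quotient.mk_eq_zero, Submodule.Quotient.mk_sub, he, sub_self]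
    have h2 : x' - x ∈ (p.map (algebraMap A C)) • (⊤ : Submodule C M) :=
      Submodule.smul_mono_left (Ideal.map_mono hnp) h1
    have h3 : x = x' - (x' - x) := by abel
    rw [h3]
    exact sub_mem hx' h2

/-- relative associated primes can be computed modulo an ideal contained in all primes -/
theorem relAssAt_quotient_iff (hn : ∀ p : Ideal A, p.IsPrime → n ≤ p)
    (Q : Ideal (C ⧸ n.map (algebraMap A C))) [hQ : Q.IsPrime] :
    RelAssAt A (Q.comap (Ideal.Quotient.mk (n.map (algebraMap A C)))) M ↔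
      RelAssAt (A ⧸ n) Q (M ⧸ (n.map (algebraMap A C)) • (⊤ : Submodule C M)) := by
  obtain ⟨q, hq⟩ : ∃ q : Ideal C, q = Q.comap (Ideal.Quotient.mk (n.map (algebraMap A C))) :=
    ⟨_, rfl⟩
  haveI hqp : q.IsPrime := by rw [hq]; exact Ideal.comap_isPrime _ _
  obtain ⟨p, hp⟩ : ∃ p : Ideal A, p = q.comap (algebraMap A C) := ⟨_, rfl⟩
  haveI hpp : p.IsPrime := by rw [hp]; exact Ideal.comap_isPrime _ _
  have hpbar : Q.comap (algebraMap (A ⧸ n) (C ⧸ n.map (algebraMap A C))) =
      p.map (Ideal.Quotient.mk n) := by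
    have h1 : p = (Q.comap (algebraMap (A ⧸ n) (C ⧸ n.map (algebraMap A C)))).comap
        (Ideal.Quotient.mk n) := by
      rw [hp, hq, Ideal.comap_comap, Ideal.comap_comap]
      rfl
    rw [h1, Ideal.map_comap_of_surjective _ Ideal.Quotient.mk_surjective]
  have hmemq : ∀ c : C, Ideal.Quotient.mk (n.map (algebraMap A C)) c ∈ Q ↔ c ∈ q := by
    intro c; rw [hq, Ideal.mem_comap]
  have hwit : ∀ m : M,
      (∀ c : C, c ∈ q ↔ ∃ (k : ℕ) (d : C), d ∉ q ∧
        (d * c ^ k) • m ∈ (p.map (algebraMap A C)) • (⊤ : Submodule C M)) ↔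
      (∀ c : C ⧸ n.map (algebraMap A C), c ∈ Q ↔ ∃ (k : ℕ) (d : C ⧸ n.map (algebraMap A C)),
        d ∉ Q ∧ (d * c ^ k) • (Submodule.Quotient.mk m :
          M ⧸ (n.map (algebraMap A C)) • (⊤ : Submodule C M)) ∈
        ((p.map (Ideal.Quotient.mk n)).map
          (algebraMap (A ⧸ n) (C ⧸ n.map (algebraMap A C)))) •
          (⊤ : Submodule (C ⧸ n.map (algebraMap A C))
            (M ⧸ (n.map (algebraMap A C)) • (⊤ : Submodule C M)))) := by
    intro m
    have hstep : ∀ (c d : C) (k : ℕ),
        (Ideal.Quotient.mk (n.map (algebraMap A C)) d *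
          Ideal.Quotient.mk (n.map (algebraMap A C)) c ^ k) • (Submodule.Quotient.mk m :
          M ⧸ (n.map (algebraMap A C)) • (⊤ : Submodule C M)) ∈
        ((p.map (Ideal.Quotient.mk n)).map
          (algebraMap (A ⧸ n) (C ⧸ n.map (algebraMap A C)))) •
          (⊤ : Submodule (C ⧸ n.map (algebraMap A C))
            (M ⧸ (n.map (algebraMap A C)) • (⊤ : Submodule C M))) ↔
        (d * c ^ k) • m ∈ (p.map (algebraMap A C)) • (⊤ : Submodule C M) := by
      intro c d k
      rw [← map_pow, ← map_mul, Module.Quotient.mk_smul_mk,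
        ← mem_smul_top_quotient_iff M n p (hn p hpp)]
    constructor
    · intro h c
      obtain ⟨c, rfl⟩ := Ideal.Quotient.mk_surjective c
      rw [hmemq, h c]
      constructor
      · rintro ⟨k, d, hd, hmem⟩
        exact ⟨k, Ideal.Quotient.mk _ d, fun h' => hd ((hmemq d).mp h'), (hstep c d k).mpr hmem⟩
      · rintro ⟨k, d, hd, hmem⟩
        obtain ⟨d, rfl⟩ := Ideal.Quotient.mk_surjective d
        exact ⟨k, d, fun h' => hd ((hmemq d).mpr h'), (hstep c d k).mp hmem⟩
    · intro h c
      rw [← hmemq, h]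
      constructor
      · rintro ⟨k, d, hd, hmem⟩
        obtain ⟨d, rfl⟩ := Ideal.Quotient.mk_surjective d
        exact ⟨k, d, fun h' => hd ((hmemq d).mpr h'), (hstep c d k).mp hmem⟩
      · rintro ⟨k, d, hd, hmem⟩
        exact ⟨k, Ideal.Quotient.mk _ d, fun h' => hd ((hmemq d).mp h'), (hstep c d k).mpr hmem⟩
  unfold RelAssAt
  rw [← hq, ← hp, hpbar]
  constructor
  · rintro ⟨m, hm⟩
    exact ⟨Submodule.Quotient.mk m, (hwit m).mp hm⟩
  · rintro ⟨m, hm⟩
    obtain ⟨m, rfl⟩ := Submodule.Quotient.mk_surjective _ m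
    exact ⟨m, (hwit m).mpr hm⟩

end red

end Groth.Agent.Lib.Helper6.RelAss
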