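import Mathlib
import Groth.Agent.Lib.Helper6.RelAss5

/-!
# Relative associated primes near the generic point: charts over an irreducible base (helper6)
-/

set_option autoImplicit false
set_option linter.style.haveILetI false
set_option linter.unusedSectionVars false
universe u
open TensorProduct

namespace Groth.Agent.Lib.Helper6.RelAss

section chart

variable {A C : Type u} [CommRing A] [CommRing C] [Algebra A C] [Algebra.FiniteType A C]
  (M : Type u) [AddCommGroup M] [Module C M] [Module.Finite C M]

private theorem comp_eq :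
    (Ideal.Quotient.mk ((nilradical A).map (algebraMap A C))).comp (algebraMap A C) =
      (algebraMap (A ⧸ nilradical A) (C ⧸ (nilradical A).map (algebraMap A C))).comp
        (Ideal.Quotient.mk (nilradical A)) := rfl

private theorem map_le_of_isPrime (q : Ideal C) [hq : q.IsPrime] :
    (nilradical A).map (algebraMap A C) ≤ q := by
  rw [Ideal.map_le_iff_le_comap]
  exact nilradical_le_prime _

private theorem comap_map_mk (q : Ideal C) [hq : q.IsPrime] :
    (q.map (Ideal.Quotient.mk ((nilradical A).map (algebraMap A C)))).comap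
      (Ideal.Quotient.mk ((nilradical A).map (algebraMap A C))) = q := by
  rw [Ideal.comap_map_of_surjective _ Ideal.Quotient.mk_surjective, ← RingHom.ker_eq_comap_bot,
    Ideal.mk_ker, sup_eq_left]
  exact map_le_of_isPrime (A := A) q

private theorem isPrime_map_mk (q : Ideal C) [hq : q.IsPrime] :
    (q.map (Ideal.Quotient.mk ((nilradical A).map (algebraMap A C)))).IsPrime := by
  apply Ideal.map_isPrime_of_surjective Ideal.Quotient.mk_surjective
  rw [Ideal.mk_ker]
  exact map_le_of_isPrime (A := A) q

set_option maxHeartbeats 800000 in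
/-- if the relative associated primes over the generic point avoid `V(J)`, so do those over a
nonempty open -/
theorem chart1368 (hn : (nilradical A).IsPrime) (J : Ideal C)
    (hgen : ∀ q : Ideal C, q.IsPrime → q.comap (algebraMap A C) = nilradical A →
      RelAssAt A q M → ¬ J ≤ q) :
    ∃ a : A, ¬ IsNilpotent a ∧ ∀ q : Ideal C, q.IsPrime → a ∉ q.comap (algebraMap A C) →
      RelAssAt A q M → ¬ J ≤ q := by
  haveI := hn
  obtain ⟨n, hndef⟩ : ∃ n : Ideal A, n = nilradical A := ⟨_, rfl⟩
  letI modAM : Module (A ⧸ nilradical A)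
      (M ⧸ ((nilradical A).map (algebraMap A C)) • (⊤ : Submodule C M)) :=
    Module.compHom _ (algebraMap (A ⧸ nilradical A) (C ⧸ (nilradical A).map (algebraMap A C)))
  haveI tw : IsScalarTower (A ⧸ nilradical A) (C ⧸ (nilradical A).map (algebraMap A C))
      (M ⧸ ((nilradical A).map (algebraMap A C)) • (⊤ : Submodule C M)) :=
    IsScalarTower.of_algebraMap_smul (fun r m => rfl)
  haveI : IsDomain (A ⧸ nilradical A) := Ideal.Quotient.isDomain _
  haveI hftA : Algebra.FiniteType A (C ⧸ (nilradical A).map (algebraMap A C)) :=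
    Algebra.FiniteType.of_surjective
      (Ideal.Quotient.mkₐ A ((nilradical A).map (algebraMap A C)))
      (Ideal.Quotient.mkₐ_surjective A _)
  haveI hft : Algebra.FiniteType (A ⧸ nilradical A) (C ⧸ (nilradical A).map (algebraMap A C)) :=
    Algebra.FiniteType.of_restrictScalars_finiteType A _ _
  haveI hfinC : Module.Finite C (M ⧸ ((nilradical A).map (algebraMap A C)) •
      (⊤ : Submodule C M)) := inferInstance
  haveI hfin : Module.Finite (C ⧸ (nilradical A).map (algebraMap A C))
      (M ⧸ ((nilradical A).map (algebraMap A C)) • (⊤ : Submodule C M)) :=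
    Module.Finite.of_restrictScalars_finite C _ _
  obtain ⟨abar, habar, hconcl⟩ := chart1368_dom (R := A ⧸ nilradical A)
    (S := C ⧸ (nilradical A).map (algebraMap A C))
    (M ⧸ ((nilradical A).map (algebraMap A C)) • (⊤ : Submodule C M))
    (J.map (Ideal.Quotient.mk ((nilradical A).map (algebraMap A C)))) (by
      intro Q hQ hQbot hrel
      haveI := hQ
      rw [Ideal.map_le_iff_le_comap]
      refine hgen _ (Ideal.comap_isPrime _ _) ?_
        ((relAssAt_quotient_iff M (nilradical A) (fun p hp => nilradical_le_prime p) Q).mpr hrel)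
      rw [Ideal.comap_comap, comp_eq, ← Ideal.comap_comap, hQbot, ← RingHom.ker_eq_comap_bot,
        Ideal.mk_ker])
  obtain ⟨a, rfl⟩ := Ideal.Quotient.mk_surjective abar
  refine ⟨a, fun ha => habar ?_, fun q hq haq hrel hJq => ?_⟩
  · rw [Ideal.Quotient.eq_zero_iff_mem]
    exact (mem_nilradical).mpr ha
  · haveI := hq
    haveI := isPrime_map_mk (A := A) q
    refine hconcl (q.map (Ideal.Quotient.mk ((nilradical A).map (algebraMap A C)))) inferInstance
      ?_ ?_ (Ideal.map_mono hJq)
    · intro h
      apply haq
      have h1 : a ∈ ((q.map (Ideal.Quotient.mk ((nilradical A).map (algebraMap A C)))).comap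
          (algebraMap (A ⧸ nilradical A) (C ⧸ (nilradical A).map (algebraMap A C)))).comap
          (Ideal.Quotient.mk (nilradical A)) := h
      rw [Ideal.comap_comap, ← comp_eq, ← Ideal.comap_comap, comap_map_mk] at h1
      exact h1
    · rw [← relAssAt_quotient_iff M (nilradical A) (fun p hp => nilradical_le_prime p),
        comap_map_mk]
      exact hrel

set_option maxHeartbeats 800000 in
/-- a relative associated prime over the generic point specialises to relative associated primes
over all points of a nonempty open -/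
theorem chart1369 (hn : (nilradical A).IsPrime) (q₀ : Ideal C) [hq₀p : q₀.IsPrime]
    (hq₀ : q₀.comap (algebraMap A C) = nilradical A) (h₀ : RelAssAt A q₀ M) :
    ∃ a : A, ¬ IsNilpotent a ∧ ∀ p : Ideal A, p.IsPrime → a ∉ p →
      ∃ q : Ideal C, q.IsPrime ∧ q.comap (algebraMap A C) = p ∧ q₀ ≤ q ∧ RelAssAt A q M := by
  haveI := hn
  letI modAM : Module (A ⧸ nilradical A)
      (M ⧸ ((nilradical A).map (algebraMap A C)) • (⊤ : Submodule C M)) :=
    Module.compHom _ (algebraMap (A ⧸ nilradical A) (C ⧸ (nilradical A).map (algebraMap A C)))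
  haveI tw : IsScalarTower (A ⧸ nilradical A) (C ⧸ (nilradical A).map (algebraMap A C))
      (M ⧸ ((nilradical A).map (algebraMap A C)) • (⊤ : Submodule C M)) :=
    IsScalarTower.of_algebraMap_smul (fun r m => rfl)
  haveI : IsDomain (A ⧸ nilradical A) := Ideal.Quotient.isDomain _
  haveI hftA : Algebra.FiniteType A (C ⧸ (nilradical A).map (algebraMap A C)) :=
    Algebra.FiniteType.of_surjective
      (Ideal.Quotient.mkₐ A ((nilradical A).map (algebraMap A C)))
      (Ideal.Quotient.mkₐ_surjective A _)
  haveI hft : Algebra.FiniteType (A ⧸ nilradical A) (C ⧸ (nilradical A).map (algebraMap A C)) :=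
    Algebra.FiniteType.of_restrictScalars_finiteType A _ _
  haveI hfinC : Module.Finite C (M ⧸ ((nilradical A).map (algebraMap A C)) •
      (⊤ : Submodule C M)) := inferInstance
  haveI hfin : Module.Finite (C ⧸ (nilradical A).map (algebraMap A C))
      (M ⧸ ((nilradical A).map (algebraMap A C)) • (⊤ : Submodule C M)) :=
    Module.Finite.of_restrictScalars_finite C _ _
  haveI hQ₀p := isPrime_map_mk (A := A) q₀
  have hQ₀bot : (q₀.map (Ideal.Quotient.mk ((nilradical A).map (algebraMap A C)))).comap
      (algebraMap (A ⧸ nilradical A) (C ⧸ (nilradical A).map (algebraMap A C))) = ⊥ := by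
    rw [eq_bot_iff]
    intro x hx
    obtain ⟨x, rfl⟩ := Ideal.Quotient.mk_surjective x
    have h1 : x ∈ ((q₀.map (Ideal.Quotient.mk ((nilradical A).map (algebraMap A C)))).comap
        (algebraMap (A ⧸ nilradical A) (C ⧸ (nilradical A).map (algebraMap A C)))).comap
        (Ideal.Quotient.mk (nilradical A)) := hx
    rw [Ideal.comap_comap, ← comp_eq, ← Ideal.comap_comap, comap_map_mk, hq₀] at h1
    rw [Ideal.mem_bot, Ideal.Quotient.eq_zero_iff_mem]
    exact h1
  have hrel₀ : RelAssAt (A ⧸ nilradical A)
      (q₀.map (Ideal.Quotient.mk ((nilradical A).map (algebraMap A C))))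
      (M ⧸ ((nilradical A).map (algebraMap A C)) • (⊤ : Submodule C M)) := by
    rw [← relAssAt_quotient_iff M (nilradical A) (fun p hp => nilradical_le_prime p),
      comap_map_mk]
    exact h₀
  obtain ⟨abar, habar, hconcl⟩ := chart1369_dom (R := A ⧸ nilradical A)
    (S := C ⧸ (nilradical A).map (algebraMap A C))
    (M ⧸ ((nilradical A).map (algebraMap A C)) • (⊤ : Submodule C M))
    (q₀.map (Ideal.Quotient.mk ((nilradical A).map (algebraMap A C)))) hQ₀bot hrel₀
  obtain ⟨a, rfl⟩ := Ideal.Quotient.mk_surjective abar
  refine ⟨a, fun ha => habar ?_, fun p hp hap => ?_⟩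
  · rw [Ideal.Quotient.eq_zero_iff_mem]
    exact (mem_nilradical).mpr ha
  · haveI := hp
    have hker : RingHom.ker (Ideal.Quotient.mk (nilradical A)) ≤ p := by
      rw [Ideal.mk_ker]; exact nilradical_le_prime p
    have hpcm : (p.map (Ideal.Quotient.mk (nilradical A))).comap
        (Ideal.Quotient.mk (nilradical A)) = p := by
      rw [Ideal.comap_map_of_surjective _ Ideal.Quotient.mk_surjective,
        ← RingHom.ker_eq_comap_bot, sup_eq_left]
      exact hker
    have hpbar : (p.map (Ideal.Quotient.mk (nilradical A))).IsPrime :=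
      Ideal.map_isPrime_of_surjective Ideal.Quotient.mk_surjective hker
    obtain ⟨Q, hQp, hQ, hle, hrel⟩ := hconcl (p.map (Ideal.Quotient.mk (nilradical A))) hpbar
      (fun h => hap (by
        have : a ∈ (p.map (Ideal.Quotient.mk (nilradical A))).comap
          (Ideal.Quotient.mk (nilradical A)) := h
        rwa [hpcm] at this))
    haveI := hQp
    refine ⟨Q.comap (Ideal.Quotient.mk ((nilradical A).map (algebraMap A C))),
      Ideal.comap_isPrime _ _, ?_, ?_, ?_⟩
    · rw [Ideal.comap_comap, comp_eq, ← Ideal.comap_comap, hQ, hpcm]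
    · rw [← comap_map_mk (A := A) q₀]
      exact Ideal.comap_mono hle
    · exact (relAssAt_quotient_iff M (nilradical A) (fun p hp => nilradical_le_prime p) Q).mpr
        hrel

end chart

end Groth.Agent.Lib.Helper6.RelAss
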