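import Mathlib
import Groth.Agent.Lib.Helper6.RelAss6
import Groth.Agent.Lib.Helper12.ConstrTop

/-!
# Relative associated primes: the locus `Ass(fibre) ∩ V(J) = ∅` is constructible over a Noetherian
base ring (helper6)
-/

set_option autoImplicit false
set_option linter.style.haveILetI false
set_option linter.unusedSectionVars false
universe u
open TensorProduct

namespace Groth.Agent.Lib.Helper6.RelAss

section quot

variable {A C : Type u} [CommRing A] [CommRing C] [Algebra A C] (M : Type u) [AddCommGroup M]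
  [Module C M] (n : Ideal A)

/-- relative associated primes containing `nC` can be computed modulo `n` -/
theorem relAssAt_quotient_iff' (Q : Ideal (C ⧸ n.map (algebraMap A C))) [hQ : Q.IsPrime] :
    RelAssAt A (Q.comap (Ideal.Quotient.mk (n.map (algebraMap A C)))) M ↔
      RelAssAt (A ⧸ n) Q (M ⧸ (n.map (algebraMap A C)) • (⊤ : Submodule C M)) := by
  obtain ⟨q, hq⟩ : ∃ q : Ideal C, q = Q.comap (Ideal.Quotient.mk (n.map (algebraMap A C))) :=
    ⟨_, rfl⟩
  haveI hqp : q.IsPrime := by rw [hq]; exact Ideal.comap_isPrime _ _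
  obtain ⟨p, hp⟩ : ∃ p : Ideal A, p = q.comap (algebraMap A C) := ⟨_, rfl⟩
  haveI hpp : p.IsPrime := by rw [hp]; exact Ideal.comap_isPrime _ _
  have hnp : n ≤ p := by
    intro a ha
    rw [hp, hq, Ideal.mem_comap, Ideal.mem_comap]
    have : Ideal.Quotient.mk (n.map (algebraMap A C)) (algebraMap A C a) = 0 := by
      rw [Ideal.Quotient.eq_zero_iff_mem]
      exact Ideal.mem_map_of_mem _ ha
    rw [this]
    exact Q.zero_mem
  have hpbar : Q.comap (algebraMap (A ⧸ n) (C ⧸ n.map (algebraMap A C))) =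
      p.map (Ideal.Quotient.mk n) := by
    have h1 : p = (Q.comap (algebraMap (A ⧸ n) (C ⧸ n.map (algebraMap A C)))).comap
        (Ideal.Quotient.mk n) := by
      rw [hp, hq, Ideal.comap_comap, Ideal.comap_comap]
      rfl
    rw [h1, Ideal.map_comap_of_surjective _ Ideal.Quotient.mk_surjective]
  have hmemq : ∀ c : C, Ideal.Quotient.mk (n.map (algebraMap A C)) c ∈ Q ↔ c ∈ q := by
    intro c; rw [hq, Ideal.mem_comap]
  have hwit : ∀ m : M,
      (∀ c : C, c ∈ q ↔ ∃ (k : ℕ) (d : C), d ∉ q ∧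
        (d * c ^ k) • m ∈ (p.map (algebraMap A C)) • (⊤ : Submodule C M)) ↔
      (∀ c : C ⧸ n.map (algebraMap A C), c ∈ Q ↔ ∃ (k : ℕ) (d : C ⧸ n.map (algebraMap A C)),
        d ∉ Q ∧ (d * c ^ k) • (Submodule.Quotient.mk m :
          M ⧸ (n.map (algebraMap A C)) • (⊤ : Submodule C M)) ∈
        ((p.map (Ideal.Quotient.mk n)).map
          (algebraMap (A ⧸ n) (C ⧸ n.map (algebraMap A C)))) •
          (⊤ : Submodule (C ⧸ n.map (algebraMap A C))
            (M ⧸ (n.map (algebraMap A C)) • (⊤ : Submodule C M)))) := by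
    intro m
    have hstep : ∀ (c d : C) (k : ℕ),
        (Ideal.Quotient.mk (n.map (algebraMap A C)) d *
          Ideal.Quotient.mk (n.map (algebraMap A C)) c ^ k) • (Submodule.Quotient.mk m :
          M ⧸ (n.map (algebraMap A C)) • (⊤ : Submodule C M)) ∈
        ((p.map (Ideal.Quotient.mk n)).map
          (algebraMap (A ⧸ n) (C ⧸ n.map (algebraMap A C)))) •
          (⊤ : Submodule (C ⧸ n.map (algebraMap A C))
            (M ⧸ (n.map (algebraMap A C)) • (⊤ : Submodule C M))) ↔
        (d * c ^ k) • m ∈ (p.map (algebraMap A C)) • (⊤ : Submodule C M) := by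
      intro c d k
      rw [← map_pow, ← map_mul, Module.Quotient.mk_smul_mk,
        ← mem_smul_top_quotient_iff M n p hnp]
    constructor
    · intro h c
      obtain ⟨c, rfl⟩ := Ideal.Quotient.mk_surjective c
      rw [hmemq, h c]
      constructor
      · rintro ⟨k, d, hd, hmem⟩
        exact ⟨k, Ideal.Quotient.mk _ d, fun h' => hd ((hmemq d).mp h'), (hstep c d k).mpr hmem⟩
      · rintro ⟨k, d, hd, hmem⟩
        obtain ⟨d, rfl⟩ := Ideal.Quotient.mk_surjective d
        exact ⟨k, d, fun h' => hd ((hmemq d).mpr h'), (hstep c d k).mp hmem⟩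
    · intro h c
      rw [← hmemq, h]
      constructor
      · rintro ⟨k, d, hd, hmem⟩
        obtain ⟨d, rfl⟩ := Ideal.Quotient.mk_surjective d
        exact ⟨k, d, fun h' => hd ((hmemq d).mpr h'), (hstep c d k).mp hmem⟩
      · rintro ⟨k, d, hd, hmem⟩
        exact ⟨k, Ideal.Quotient.mk _ d, fun h' => hd ((hmemq d).mp h'), (hstep c d k).mpr hmem⟩
  unfold RelAssAt
  rw [← hq, ← hp, hpbar]
  constructor
  · rintro ⟨m, hm⟩
    exact ⟨Submodule.Quotient.mk m, (hwit m).mp hm⟩
  · rintro ⟨m, hm⟩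
    obtain ⟨m, rfl⟩ := Submodule.Quotient.mk_surjective _ m
    exact ⟨m, (hwit m).mpr hm⟩

end quot

section chartP

variable {A C : Type u} [CommRing A] [CommRing C] [Algebra A C] [Algebra.FiniteType A C]
  (M : Type u) [AddCommGroup M] [Module C M] [Module.Finite C M] (P : Ideal A)

private theorem comp_eqP :
    (Ideal.Quotient.mk (P.map (algebraMap A C))).comp (algebraMap A C) =
      (algebraMap (A ⧸ P) (C ⧸ P.map (algebraMap A C))).comp
        (Ideal.Quotient.mk P) := rfl

private theorem map_le_of_le {P : Ideal A} (q : Ideal C) (hPq : P ≤ q.comap (algebraMap A C)) :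
    P.map (algebraMap A C) ≤ q := by
  rw [Ideal.map_le_iff_le_comap]
  exact hPq

private theorem comap_map_mkP {P : Ideal A} (q : Ideal C) (hPq : P ≤ q.comap (algebraMap A C)) :
    (q.map (Ideal.Quotient.mk (P.map (algebraMap A C)))).comap
      (Ideal.Quotient.mk (P.map (algebraMap A C))) = q := by
  rw [Ideal.comap_map_of_surjective _ Ideal.Quotient.mk_surjective, ← RingHom.ker_eq_comap_bot,
    Ideal.mk_ker, sup_eq_left]
  exact map_le_of_le q hPq

private theorem isPrime_map_mkP {P : Ideal A} (q : Ideal C) [hq : q.IsPrime]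
    (hPq : P ≤ q.comap (algebraMap A C)) :
    (q.map (Ideal.Quotient.mk (P.map (algebraMap A C)))).IsPrime := by
  apply Ideal.map_isPrime_of_surjective Ideal.Quotient.mk_surjective
  rw [Ideal.mk_ker]
  exact map_le_of_le q hPq

set_option maxHeartbeats 800000 in
/-- if the relative associated primes over the prime `P` avoid `V(J)`, so do those over a
nonempty open of `V(P)` -/
theorem chart1368_P [hP : P.IsPrime] (J : Ideal C)
    (hgen : ∀ q : Ideal C, q.IsPrime → q.comap (algebraMap A C) = P →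
      RelAssAt A q M → ¬ J ≤ q) :
    ∃ a : A, a ∉ P ∧ ∀ q : Ideal C, q.IsPrime → P ≤ q.comap (algebraMap A C) →
      a ∉ q.comap (algebraMap A C) → RelAssAt A q M → ¬ J ≤ q := by
  letI modAM : Module (A ⧸ P)
      (M ⧸ (P.map (algebraMap A C)) • (⊤ : Submodule C M)) :=
    Module.compHom _ (algebraMap (A ⧸ P) (C ⧸ P.map (algebraMap A C)))
  haveI tw : IsScalarTower (A ⧸ P) (C ⧸ P.map (algebraMap A C))
      (M ⧸ (P.map (algebraMap A C)) • (⊤ : Submodule C M)) :=
    IsScalarTower.of_algebraMap_smul (fun r m => rfl)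
  haveI : IsDomain (A ⧸ P) := Ideal.Quotient.isDomain _
  haveI hftA : Algebra.FiniteType A (C ⧸ P.map (algebraMap A C)) :=
    Algebra.FiniteType.of_surjective
      (Ideal.Quotient.mkₐ A (P.map (algebraMap A C)))
      (Ideal.Quotient.mkₐ_surjective A _)
  haveI hft : Algebra.FiniteType (A ⧸ P) (C ⧸ P.map (algebraMap A C)) :=
    Algebra.FiniteType.of_restrictScalars_finiteType A _ _
  haveI hfinC : Module.Finite C (M ⧸ (P.map (algebraMap A C)) •
      (⊤ : Submodule C M)) := inferInstance
  haveI hfin : Module.Finite (C ⧸ P.map (algebraMap A C))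
      (M ⧸ (P.map (algebraMap A C)) • (⊤ : Submodule C M)) :=
    Module.Finite.of_restrictScalars_finite C _ _
  obtain ⟨abar, habar, hconcl⟩ := chart1368_dom (R := A ⧸ P)
    (S := C ⧸ P.map (algebraMap A C))
    (M ⧸ (P.map (algebraMap A C)) • (⊤ : Submodule C M))
    (J.map (Ideal.Quotient.mk (P.map (algebraMap A C)))) (by
      intro Q hQ hQbot hrel
      haveI := hQ
      rw [Ideal.map_le_iff_le_comap]
      refine hgen _ (Ideal.comap_isPrime _ _) ?_
        ((relAssAt_quotient_iff' M P Q).mpr hrel)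
      rw [Ideal.comap_comap, comp_eqP, ← Ideal.comap_comap, hQbot, ← RingHom.ker_eq_comap_bot,
        Ideal.mk_ker])
  obtain ⟨a, rfl⟩ := Ideal.Quotient.mk_surjective abar
  refine ⟨a, fun ha => habar ?_, fun q hq hPq haq hrel hJq => ?_⟩
  · rw [Ideal.Quotient.eq_zero_iff_mem]
    exact ha
  · haveI := hq
    haveI := isPrime_map_mkP q hPq
    refine hconcl (q.map (Ideal.Quotient.mk (P.map (algebraMap A C)))) inferInstance
      ?_ ?_ (Ideal.map_mono hJq)
    · intro h
      apply haq
      have h1 : a ∈ ((q.map (Ideal.Quotient.mk (P.map (algebraMap A C)))).comap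
          (algebraMap (A ⧸ P) (C ⧸ P.map (algebraMap A C)))).comap
          (Ideal.Quotient.mk P) := h
      rw [Ideal.comap_comap, ← comp_eqP, ← Ideal.comap_comap, comap_map_mkP q hPq] at h1
      exact h1
    · rw [← relAssAt_quotient_iff' M P, comap_map_mkP q hPq]
      exact hrel

set_option maxHeartbeats 800000 in
/-- a relative associated prime over the prime `P` specialises to relative associated primes
over all points of a nonempty open of `V(P)` -/
theorem chart1369_P [hP : P.IsPrime] (q₀ : Ideal C) [hq₀p : q₀.IsPrime]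
    (hq₀ : q₀.comap (algebraMap A C) = P) (h₀ : RelAssAt A q₀ M) :
    ∃ a : A, a ∉ P ∧ ∀ p : Ideal A, p.IsPrime → P ≤ p → a ∉ p →
      ∃ q : Ideal C, q.IsPrime ∧ q.comap (algebraMap A C) = p ∧ q₀ ≤ q ∧ RelAssAt A q M := by
  letI modAM : Module (A ⧸ P)
      (M ⧸ (P.map (algebraMap A C)) • (⊤ : Submodule C M)) :=
    Module.compHom _ (algebraMap (A ⧸ P) (C ⧸ P.map (algebraMap A C)))
  haveI tw : IsScalarTower (A ⧸ P) (C ⧸ P.map (algebraMap A C))
      (M ⧸ (P.map (algebraMap A C)) • (⊤ : Submodule C M)) :=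
    IsScalarTower.of_algebraMap_smul (fun r m => rfl)
  haveI : IsDomain (A ⧸ P) := Ideal.Quotient.isDomain _
  haveI hftA : Algebra.FiniteType A (C ⧸ P.map (algebraMap A C)) :=
    Algebra.FiniteType.of_surjective
      (Ideal.Quotient.mkₐ A (P.map (algebraMap A C)))
      (Ideal.Quotient.mkₐ_surjective A _)
  haveI hft : Algebra.FiniteType (A ⧸ P) (C ⧸ P.map (algebraMap A C)) :=
    Algebra.FiniteType.of_restrictScalars_finiteType A _ _
  haveI hfinC : Module.Finite C (M ⧸ (P.map (algebraMap A C)) •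
      (⊤ : Submodule C M)) := inferInstance
  haveI hfin : Module.Finite (C ⧸ P.map (algebraMap A C))
      (M ⧸ (P.map (algebraMap A C)) • (⊤ : Submodule C M)) :=
    Module.Finite.of_restrictScalars_finite C _ _
  have hPq₀ : P ≤ q₀.comap (algebraMap A C) := hq₀.ge
  haveI hQ₀p := isPrime_map_mkP q₀ hPq₀
  have hQ₀bot : (q₀.map (Ideal.Quotient.mk (P.map (algebraMap A C)))).comap
      (algebraMap (A ⧸ P) (C ⧸ P.map (algebraMap A C))) = ⊥ := by
    rw [eq_bot_iff]
    intro x hx
    obtain ⟨x, rfl⟩ := Ideal.Quotient.mk_surjective x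
    have h1 : x ∈ ((q₀.map (Ideal.Quotient.mk (P.map (algebraMap A C)))).comap
        (algebraMap (A ⧸ P) (C ⧸ P.map (algebraMap A C)))).comap
        (Ideal.Quotient.mk P) := hx
    rw [Ideal.comap_comap, ← comp_eqP, ← Ideal.comap_comap, comap_map_mkP q₀ hPq₀, hq₀] at h1
    rw [Ideal.mem_bot, Ideal.Quotient.eq_zero_iff_mem]
    exact h1
  have hrel₀ : RelAssAt (A ⧸ P)
      (q₀.map (Ideal.Quotient.mk (P.map (algebraMap A C))))
      (M ⧸ (P.map (algebraMap A C)) • (⊤ : Submodule C M)) := by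
    rw [← relAssAt_quotient_iff' M P, comap_map_mkP q₀ hPq₀]
    exact h₀
  obtain ⟨abar, habar, hconcl⟩ := chart1369_dom (R := A ⧸ P)
    (S := C ⧸ P.map (algebraMap A C))
    (M ⧸ (P.map (algebraMap A C)) • (⊤ : Submodule C M))
    (q₀.map (Ideal.Quotient.mk (P.map (algebraMap A C)))) hQ₀bot hrel₀
  obtain ⟨a, rfl⟩ := Ideal.Quotient.mk_surjective abar
  refine ⟨a, fun ha => habar ?_, fun p hp hPp hap => ?_⟩
  · rw [Ideal.Quotient.eq_zero_iff_mem]
    exact ha
  · haveI := hp
    have hker : RingHom.ker (Ideal.Quotient.mk P) ≤ p := by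
      rw [Ideal.mk_ker]; exact hPp
    have hpcm : (p.map (Ideal.Quotient.mk P)).comap
        (Ideal.Quotient.mk P) = p := by
      rw [Ideal.comap_map_of_surjective _ Ideal.Quotient.mk_surjective,
        ← RingHom.ker_eq_comap_bot, sup_eq_left]
      exact hker
    have hpbar : (p.map (Ideal.Quotient.mk P)).IsPrime :=
      Ideal.map_isPrime_of_surjective Ideal.Quotient.mk_surjective hker
    obtain ⟨Q, hQp, hQ, hle, hrel⟩ := hconcl (p.map (Ideal.Quotient.mk P)) hpbar
      (fun h => hap (by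
        have : a ∈ (p.map (Ideal.Quotient.mk P)).comap
          (Ideal.Quotient.mk P) := h
        rwa [hpcm] at this))
    haveI := hQp
    refine ⟨Q.comap (Ideal.Quotient.mk (P.map (algebraMap A C))),
      Ideal.comap_isPrime _ _, ?_, ?_, ?_⟩
    · rw [Ideal.comap_comap, comp_eqP, ← Ideal.comap_comap, hQ, hpcm]
    · rw [← comap_map_mkP q₀ hPq₀]
      exact Ideal.comap_mono hle
    · exact (relAssAt_quotient_iff' M P Q).mpr hrel

end chartP

end Groth.Agent.Lib.Helper6.RelAss
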