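import Mathlib
import Groth.Agent.Lib.Helper6.RelAss4

/-!
# Generic points of the fibres of the closure of a relative associated point are relative
associated points near that point: the case of a domain (helper6)
-/

set_option autoImplicit false
set_option linter.style.haveILetI false
set_option linter.unusedSectionVars false
universe u
open TensorProduct

namespace Groth.Agent.Lib.Helper6.RelAss

open Groth.Agent.Lib.Helper9.GenExact Groth.Agent.Lib.Helper25.GFMod
open Groth.Agent.Lib.Helper6.FibDense Groth.Agent.Lib.Helper26.FiberAss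

section dom

variable {R S : Type u} [CommRing R] [IsDomain R] [CommRing S] [Algebra R S]
  [Algebra.FiniteType R S]
  (N : Type u) [AddCommGroup N] [Module S N] [Module R N] [IsScalarTower R S N] [Module.Finite S N]

attribute [local instance] Algebra.TensorProduct.rightAlgebra

set_option maxHeartbeats 1600000 in
/-- domain case: near the generic point of the base, every prime `q ⊇ q₀` which is minimal among
the primes containing `q₀` over its image in the base is a relative associated prime -/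
theorem chart1446_dom (q₀ : Ideal S) [hq₀p : q₀.IsPrime] (hq₀ : q₀.comap (algebraMap R S) = ⊥)
    (h₀ : RelAssAt R q₀ N) :
    ∃ a : R, a ≠ 0 ∧ ∀ q : Ideal S, q.IsPrime → a ∉ q.comap (algebraMap R S) → q₀ ≤ q →
      (∀ q'' : Ideal S, q''.IsPrime → q₀ ≤ q'' → q'' ≤ q →
        q''.comap (algebraMap R S) = q.comap (algebraMap R S) → q'' = q) → RelAssAt R q N := by
  haveI hbot : (⊥ : Ideal R).IsPrime := Ideal.isPrime_bot
  obtain ⟨n₃, hn₃⟩ := exists_ann_of_relAssAt (⊥ : Ideal R) N q₀ hq₀ h₀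
  obtain ⟨r, hr, m₃, hrm⟩ := exists_smul_eq_tmul_one (⊥ : Ideal R) N n₃
  have key₀ : ∀ c : S, c ∈ q₀ ↔ c • (m₃ ⊗ₜ[R] (1 : (⊥ : Ideal R).ResidueField)) = 0 := by
    intro c
    rw [← hrm, smul_smul_eq_zero_iff (⊥ : Ideal R) N hr, hn₃]
  -- the cyclic submodule generated by `m₃`
  obtain ⟨P₃, hP₃⟩ : ∃ P₃ : Submodule S N, P₃ = Submodule.span S {m₃} := ⟨_, rfl⟩
  have hm₃P : m₃ ∈ P₃ := hP₃ ▸ Submodule.mem_span_singleton_self m₃
  haveI : Module.Finite S P₃ := by rw [hP₃]; infer_instance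
  obtain ⟨g1, -, hg1, hGF1⟩ := exists_GF R S P₃ 1 one_ne_zero
  obtain ⟨a, hd, ha, hGF2⟩ := exists_GF R S (N ⧸ LinearMap.range P₃.subtype) g1 hg1
  haveI hfreeP := (hGF1 a hd).1
  haveI hfreeN := (hGF2 a dvd_rfl).1
  refine ⟨a, ha, fun q hqp haq hq₀q hmin => ?_⟩
  haveI := hqp
  obtain ⟨p, hp⟩ : ∃ p : Ideal R, p = q.comap (algebraMap R S) := ⟨_, rfl⟩
  haveI hpp : p.IsPrime := by rw [hp]; exact Ideal.comap_isPrime _ _
  have hap : a ∉ p := by rw [hp]; exact haq
  have hpq : p.map (algebraMap R S) ≤ q := by rw [hp]; exact Ideal.map_comap_le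
  have hrq : ∀ r' : R, r' ∉ p → algebraMap R S r' ∉ q := fun r' hr' h =>
    hr' (by rw [hp]; exact Ideal.mem_comap.mpr h)
  have haκ : algebraMap R p.ResidueField a ≠ 0 := by
    rw [ne_eq, Ideal.algebraMap_residueField_eq_zero]; exact hap
  -- `q₀` kills `m₃ ⊗ 1` on the fibre over `p`
  have hkill : ∀ c ∈ q₀, c • (m₃ ⊗ₜ[R] (1 : p.ResidueField)) = 0 := by
    intro c hc
    have h1 := (key₀ c).mp hc
    rw [TensorProduct.smul_tmul', tmul_one_eq_zero_iff] at h1
    obtain ⟨r', hr', hmem⟩ := h1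
    rw [Submodule.bot_smul, Submodule.mem_bot] at hmem
    have hr'0 : r' ≠ 0 := fun h => hr' (h ▸ Submodule.zero_mem _)
    obtain ⟨z, hz⟩ : ∃ z : P₃, (z : N) = c • m₃ := ⟨⟨c • m₃, P₃.smul_mem c hm₃P⟩, rfl⟩
    have hrz : r' • z = 0 := by
      apply Subtype.ext
      rw [Submodule.coe_smul_of_tower, hz]
      exact hmem
    obtain ⟨j, hj⟩ := exists_pow_smul_eq_zero a ha z r' hr'0 hrz
    have hj' : a ^ j • (c • m₃) = 0 := by
      have := congrArg Subtype.val hj
      rwa [Submodule.coe_smul_of_tower, hz] at this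
    rw [TensorProduct.smul_tmul', tmul_one_eq_zero_iff]
    refine ⟨a ^ j, fun h => hap (hpp.mem_of_pow_mem j h), ?_⟩
    rw [hj']
    exact Submodule.zero_mem _
  have hinj := spread_core P₃.subtype a (fun z hz => ⟨0, by
    rw [pow_zero, one_smul]; exact Subtype.ext hz⟩) p.ResidueField haκ
  obtain ⟨x₃, hx₃⟩ : ∃ x₃ : P₃, (x₃ : N) = m₃ := ⟨⟨m₃, hm₃P⟩, rfl⟩
  -- elements of `p • P₃` are multiples of `m₃` by elements of `pS`
  have hpP : ∀ z ∈ p • (⊤ : Submodule R P₃), ∃ t ∈ p.map (algebraMap R S), (z : N) = t • m₃ := by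
    intro z hz
    refine Submodule.smul_induction_on (p := fun z : P₃ => ∃ t ∈ p.map (algebraMap R S),
      (z : N) = t • m₃) hz ?_ ?_
    · intro r' hr' y _
      have hy2 : (y : N) ∈ Submodule.span S {m₃} := hP₃ ▸ y.2
      rw [Submodule.mem_span_singleton] at hy2
      obtain ⟨s, hs⟩ := hy2
      refine ⟨algebraMap R S r' * s, Ideal.mul_mem_right _ _ (Ideal.mem_map_of_mem _ hr'), ?_⟩
      rw [Submodule.coe_smul_of_tower, ← hs, mul_smul, algebraMap_smul]
    · rintro y z ⟨t₁, ht₁, h₁⟩ ⟨t₂, ht₂, h₂⟩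
      refine ⟨t₁ + t₂, Ideal.add_mem _ ht₁ ht₂, ?_⟩
      rw [Submodule.coe_add, h₁, h₂, add_smul]
  -- the annihilator of `m₃ ⊗ 1` on the fibre over `p`
  have hconv : ∀ c : S, c • (m₃ ⊗ₜ[R] (1 : p.ResidueField)) = 0 →
      ∃ r' ∉ p, algebraMap R S r' * c ∈ q₀ ⊔ p.map (algebraMap R S) := by
    intro c hc
    rw [TensorProduct.smul_tmul'] at hc
    have h1 : (1 : p.ResidueField) ⊗ₜ[R] (c • x₃) = 0 := by
      apply hinj
      rw [LinearMap.lTensor_tmul, map_zero]
      change (1 : p.ResidueField) ⊗ₜ[R] ((c • x₃ : P₃) : N) = 0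
      rw [Submodule.coe_smul, hx₃]
      have := congrArg (TensorProduct.comm R N p.ResidueField) hc
      rwa [TensorProduct.comm_tmul, map_zero] at this
    have h2 : (c • x₃) ⊗ₜ[R] (1 : p.ResidueField) = 0 := by
      have := congrArg (TensorProduct.comm R p.ResidueField P₃) h1
      rwa [TensorProduct.comm_tmul, map_zero] at this
    rw [tmul_one_eq_zero_iff] at h2
    obtain ⟨r', hr', hmem⟩ := h2
    obtain ⟨t, ht, hzt⟩ := hpP _ hmem
    rw [Submodule.coe_smul_of_tower, Submodule.coe_smul, hx₃] at hzt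
    refine ⟨r', hr', ?_⟩
    have h3 : (algebraMap R S r' * c - t) • m₃ = 0 := by
      rw [sub_smul, mul_smul, algebraMap_smul, hzt, sub_self]
    have h4 : algebraMap R S r' * c - t ∈ q₀ := by
      rw [key₀, TensorProduct.smul_tmul', h3, zero_tmul]
    have h5 : algebraMap R S r' * c = (algebraMap R S r' * c - t) + t := by ring
    rw [h5]
    exact Submodule.add_mem_sup h4 ht
  have h1p : (1 : R) ∉ p := fun h => hpp.ne_top ((Ideal.eq_top_iff_one p).mpr h)
  refine ⟨m₃, fun c => ⟨fun hc => ?_, ?_⟩⟩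
  · -- `c ∈ q`: some `d c^k` with `d ∉ q` lies in `q₀ + pS`
    have hex : ∃ (k : ℕ) (d : S), d ∉ q ∧ d * c ^ k ∈ q₀ ⊔ p.map (algebraMap R S) := by
      by_contra hcon
      push Not at hcon
      have hdisj : Disjoint ((q₀ ⊔ p.map (algebraMap R S) : Ideal S) : Set S)
          ((q.primeCompl ⊔ Submonoid.powers c : Submonoid S) : Set S) := by
        rw [Set.disjoint_left]
        intro s hs hsM
        obtain ⟨d, hd', z, hz, rfl⟩ := Submonoid.mem_sup.mp hsM
        obtain ⟨k, rfl⟩ := hz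
        exact hcon k d hd' hs
      obtain ⟨q'', hq''p, hle, hdis⟩ := Ideal.exists_le_prime_disjoint _ _ hdisj
      have hq''q : q'' ≤ q := by
        intro s hs
        by_contra hsq
        exact Set.disjoint_left.mp hdis hs
          (SetLike.mem_coe.mpr (Submonoid.mem_sup_left hsq))
      have hq₀q'' : q₀ ≤ q'' := le_sup_left.trans hle
      have hcomap : q''.comap (algebraMap R S) = q.comap (algebraMap R S) := by
        apply le_antisymm (Ideal.comap_mono hq''q)
        rw [← hp, ← Ideal.map_le_iff_le_comap]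
        exact le_sup_right.trans hle
      have heq := hmin q'' hq''p hq₀q'' hq''q hcomap
      rw [heq] at hdis
      exact Set.disjoint_left.mp hdis hc
        (SetLike.mem_coe.mpr (Submonoid.mem_sup_right (Submonoid.mem_powers c)))
    obtain ⟨k, d, hd', hmem⟩ := hex
    obtain ⟨u, hu, t, ht, hut⟩ := Submodule.mem_sup.mp hmem
    have h1 := hkill u hu
    rw [smul_tmul_one_eq_zero_iff] at h1
    obtain ⟨r', hr', hmem'⟩ := h1
    refine ⟨k, algebraMap R S r' * d, fun h => ?_, ?_⟩
    · rcases hqp.mem_or_mem h with h' | h'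
      · exact hrq r' hr' h'
      · exact hd' h'
    · rw [← hp]
      have h2 : (algebraMap R S r' * d * c ^ k) • m₃ =
          (algebraMap R S r' * u) • m₃ + (algebraMap R S r' * t) • m₃ := by
        rw [← add_smul, ← mul_add, hut, mul_assoc]
      rw [h2]
      refine Submodule.add_mem _ hmem' ?_
      exact Submodule.smul_mem_smul (Ideal.mul_mem_left _ _ ht) Submodule.mem_top
  · rintro ⟨k, d, hd', hmem⟩
    rw [← hp] at hmem
    have h1 : (d * c ^ k) • (m₃ ⊗ₜ[R] (1 : p.ResidueField)) = 0 := by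
      rw [smul_tmul_one_eq_zero_iff]
      refine ⟨1, h1p, ?_⟩
      rw [map_one, one_mul]
      exact hmem
    obtain ⟨r', hr', h2⟩ := hconv _ h1
    have h3 : algebraMap R S r' * (d * c ^ k) ∈ q := (sup_le hq₀q hpq) h2
    rcases hqp.mem_or_mem h3 with h' | h'
    · exact absurd h' (hrq r' hr')
    · rcases hqp.mem_or_mem h' with h'' | h''
      · exact absurd h'' hd'
      · exact hqp.mem_of_pow_mem k h''

end dom

end Groth.Agent.Lib.Helper6.RelAss
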