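import Mathlib
import Groth.Agent.Lib.Helper6.RelAss13
import Groth.Agent.Lib.Helper6.RelAss18

/-!
# Generic points of the fibres of the closure of a relative associated point are relative
associated points near that point: charts (helper6)
-/

set_option autoImplicit false
set_option linter.style.haveILetI false
set_option linter.unusedSectionVars false
universe u
open TensorProduct

namespace Groth.Agent.Lib.Helper6.RelAss

section chartP

variable {A C : Type u} [CommRing A] [CommRing C] [Algebra A C] [Algebra.FiniteType A C]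
  (M : Type u) [AddCommGroup M] [Module C M] [Module.Finite C M] (P : Ideal A)

private theorem comp_eqP' :
    (Ideal.Quotient.mk (P.map (algebraMap A C))).comp (algebraMap A C) =
      (algebraMap (A ⧸ P) (C ⧸ P.map (algebraMap A C))).comp
        (Ideal.Quotient.mk P) := rfl

private theorem map_le_of_le' {P : Ideal A} (q : Ideal C) (hPq : P ≤ q.comap (algebraMap A C)) :
    P.map (algebraMap A C) ≤ q := by
  rw [Ideal.map_le_iff_le_comap]
  exact hPq

private theorem comap_map_mkP' {P : Ideal A} (q : Ideal C) (hPq : P ≤ q.comap (algebraMap A C)) :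
    (q.map (Ideal.Quotient.mk (P.map (algebraMap A C)))).comap
      (Ideal.Quotient.mk (P.map (algebraMap A C))) = q := by
  rw [Ideal.comap_map_of_surjective _ Ideal.Quotient.mk_surjective, ← RingHom.ker_eq_comap_bot,
    Ideal.mk_ker, sup_eq_left]
  exact map_le_of_le' q hPq

private theorem isPrime_map_mkP' {P : Ideal A} (q : Ideal C) [hq : q.IsPrime]
    (hPq : P ≤ q.comap (algebraMap A C)) :
    (q.map (Ideal.Quotient.mk (P.map (algebraMap A C)))).IsPrime := by
  apply Ideal.map_isPrime_of_surjective Ideal.Quotient.mk_surjective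
  rw [Ideal.mk_ker]
  exact map_le_of_le' q hPq

set_option maxHeartbeats 1600000 in
/-- near the prime `P` of the base, every prime `q ⊇ q₀` which is minimal among the primes
containing `q₀` over its image in the base is a relative associated prime -/
theorem chart1446_P [hP : P.IsPrime] (q₀ : Ideal C) [hq₀p : q₀.IsPrime]
    (hq₀ : q₀.comap (algebraMap A C) = P) (h₀ : RelAssAt A q₀ M) :
    ∃ a : A, a ∉ P ∧ ∀ q : Ideal C, q.IsPrime → a ∉ q.comap (algebraMap A C) → q₀ ≤ q →
      (∀ q'' : Ideal C, q''.IsPrime → q₀ ≤ q'' → q'' ≤ q →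
        q''.comap (algebraMap A C) = q.comap (algebraMap A C) → q'' = q) → RelAssAt A q M := by
  letI modAM : Module (A ⧸ P)
      (M ⧸ (P.map (algebraMap A C)) • (⊤ : Submodule C M)) :=
    Module.compHom _ (algebraMap (A ⧸ P) (C ⧸ P.map (algebraMap A C)))
  haveI tw : IsScalarTower (A ⧸ P) (C ⧸ P.map (algebraMap A C))
      (M ⧸ (P.map (algebraMap A C)) • (⊤ : Submodule C M)) :=
    IsScalarTower.of_algebraMap_smul (fun r m => rfl)
  haveI : IsDomain (A ⧸ P) := Ideal.Quotient.isDomain _
  haveI hftA : Algebra.FiniteType A (C ⧸ P.map (algebraMap A C)) :=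
    Algebra.FiniteType.of_surjective
      (Ideal.Quotient.mkₐ A (P.map (algebraMap A C)))
      (Ideal.Quotient.mkₐ_surjective A _)
  haveI hft : Algebra.FiniteType (A ⧸ P) (C ⧸ P.map (algebraMap A C)) :=
    Algebra.FiniteType.of_restrictScalars_finiteType A _ _
  haveI hfinC : Module.Finite C (M ⧸ (P.map (algebraMap A C)) •
      (⊤ : Submodule C M)) := inferInstance
  haveI hfin : Module.Finite (C ⧸ P.map (algebraMap A C))
      (M ⧸ (P.map (algebraMap A C)) • (⊤ : Submodule C M)) :=
    Module.Finite.of_restrictScalars_finite C _ _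
  have hPq₀ : P ≤ q₀.comap (algebraMap A C) := hq₀.ge
  haveI hQ₀p := isPrime_map_mkP' q₀ hPq₀
  have hQ₀bot : (q₀.map (Ideal.Quotient.mk (P.map (algebraMap A C)))).comap
      (algebraMap (A ⧸ P) (C ⧸ P.map (algebraMap A C))) = ⊥ := by
    rw [eq_bot_iff]
    intro x hx
    obtain ⟨x, rfl⟩ := Ideal.Quotient.mk_surjective x
    have h1 : x ∈ ((q₀.map (Ideal.Quotient.mk (P.map (algebraMap A C)))).comap
        (algebraMap (A ⧸ P) (C ⧸ P.map (algebraMap A C)))).comap
        (Ideal.Quotient.mk P) := hx
    rw [Ideal.comap_comap, ← comp_eqP', ← Ideal.comap_comap, comap_map_mkP' q₀ hPq₀, hq₀] at h1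
    rw [Ideal.mem_bot, Ideal.Quotient.eq_zero_iff_mem]
    exact h1
  have hrel₀ : RelAssAt (A ⧸ P)
      (q₀.map (Ideal.Quotient.mk (P.map (algebraMap A C))))
      (M ⧸ (P.map (algebraMap A C)) • (⊤ : Submodule C M)) := by
    rw [← relAssAt_quotient_iff' M P, comap_map_mkP' q₀ hPq₀]
    exact h₀
  obtain ⟨abar, habar, hconcl⟩ := chart1446_dom (R := A ⧸ P)
    (S := C ⧸ P.map (algebraMap A C))
    (M ⧸ (P.map (algebraMap A C)) • (⊤ : Submodule C M))
    (q₀.map (Ideal.Quotient.mk (P.map (algebraMap A C)))) hQ₀bot hrel₀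
  obtain ⟨a, rfl⟩ := Ideal.Quotient.mk_surjective abar
  refine ⟨a, fun ha => habar ?_, fun q hq haq hq₀q hmin => ?_⟩
  · rw [Ideal.Quotient.eq_zero_iff_mem]
    exact ha
  · haveI := hq
    have hPq : P ≤ q.comap (algebraMap A C) := hq₀ ▸ Ideal.comap_mono hq₀q
    haveI hQp := isPrime_map_mkP' q hPq
    rw [← comap_map_mkP' q hPq, relAssAt_quotient_iff' M P]
    refine hconcl (q.map (Ideal.Quotient.mk (P.map (algebraMap A C)))) hQp ?_
      (Ideal.map_mono hq₀q) ?_
    · intro h
      apply haq
      have h1 : a ∈ ((q.map (Ideal.Quotient.mk (P.map (algebraMap A C)))).comap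
          (algebraMap (A ⧸ P) (C ⧸ P.map (algebraMap A C)))).comap
          (Ideal.Quotient.mk P) := h
      rw [Ideal.comap_comap, ← comp_eqP', ← Ideal.comap_comap, comap_map_mkP' q hPq] at h1
      exact h1
    · intro Q'' hQ''p hQ₀Q'' hQ''Q hcomap
      haveI := hQ''p
      have h1 : Q''.comap (Ideal.Quotient.mk (P.map (algebraMap A C))) = q := by
        refine hmin _ (Ideal.comap_isPrime _ _) ?_ ?_ ?_
        · rw [← comap_map_mkP' q₀ hPq₀]
          exact Ideal.comap_mono hQ₀Q''
        · conv_rhs => rw [← comap_map_mkP' q hPq]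
          exact Ideal.comap_mono hQ''Q
        · conv_rhs => rw [← comap_map_mkP' q hPq]
          rw [Ideal.comap_comap, Ideal.comap_comap, comp_eqP', ← Ideal.comap_comap,
            ← Ideal.comap_comap, hcomap]
      rw [← h1, Ideal.map_comap_of_surjective _ Ideal.Quotient.mk_surjective]

end chartP

end Groth.Agent.Lib.Helper6.RelAss
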