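import Mathlib
import Groth.Prelude.Def_MoreMor
import Groth.Agent.Lib.Helper6.RelAss19
import Groth.Agent.Lib.Helper6.RelAss11
import Groth.Agent.Lib.Helper6.RelAss7
import Groth.Agent.Lib.Helper6.FibDense5
import Groth.Agent.Lib.Helper29.QCohFinite

/-!
# Generic points of the fibres of the closure of a relative associated point are relative
associated points near that point (S1446) (helper6)
-/

set_option autoImplicit false
set_option linter.style.haveILetI false
set_option linter.unusedSectionVars false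
universe u

open CategoryTheory CategoryTheory.Limits AlgebraicGeometry TopologicalSpace Opposite Topology
open Groth.Agent.Lib.Helper29.QCoh Groth.Agent.Lib.Helper6.FibDense

namespace Groth.Agent.Lib.Helper6.RelAss

/-- specialisation of points of an affine open in terms of their primes -/
theorem primeIdealOf_le_iff_specializes {X : Scheme.{u}} {W : X.Opens} (hW : IsAffineOpen W)
    (y x : X) (hy : y ∈ W) (hx : x ∈ W) :
    (hW.primeIdealOf ⟨y, hy⟩).asIdeal ≤ (hW.primeIdealOf ⟨x, hx⟩).asIdeal ↔ y ⤳ x := by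
  constructor
  · intro h
    rw [specializes_iff_forall_open]
    intro O hO hxO
    obtain ⟨g, hgO, hxg⟩ := hW.exists_basicOpen_le (V := ⟨O, hO⟩) ⟨x, hxO⟩ hx
    have h1 : g ∉ (hW.primeIdealOf ⟨y, hy⟩).asIdeal := fun h' => by
      have := h h'
      rw [mem_primeIdealOf_iff hW x hx] at this
      exact this hxg
    rw [mem_primeIdealOf_iff hW y hy, not_not] at h1
    exact hgO h1
  · intro h a ha
    rw [mem_primeIdealOf_iff hW y hy] at ha
    rw [mem_primeIdealOf_iff hW x hx]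
    exact fun hxa => ha (h.mem_open (X.basicOpen a).2 hxa)

set_option maxHeartbeats 1600000 in
/-- **S1446** -/
theorem exists_open_generic_points_relAss {X S : Scheme.{u}} (f : X ⟶ S) [LocallyOfFiniteType f]
    (F : X.Modules) [F.IsQuasicoherent] [F.IsFiniteType] (ξ : X)
    (hξ : ξ ∈ MoreMor.relAss f F) :
    ∃ V : Set ↑X, V ⊆ closure {ξ} ∧
      IsOpen (Subtype.val ⁻¹' V : Set ↑(closure ({ξ} : Set ↑X))) ∧ V.Nonempty ∧
      ∀ (x : X) (hx : x ∈ V), (∃ C ∈ irreducibleComponents ↑(V ∩ f ⁻¹' {f x}),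
        IsGenericPoint (⟨x, hx, rfl⟩ : ↑(V ∩ f ⁻¹' {f x})) C) → x ∈ MoreMor.relAss f F := by
  obtain ⟨Y₀, hY₀, hsY₀, -⟩ := exists_isAffineOpen_mem_and_subset (x := f ξ) (U := ⊤) trivial
  obtain ⟨W, hW, hξW, hWY⟩ := exists_isAffineOpen_mem_and_subset (x := ξ) (U := f ⁻¹ᵁ Y₀) hsY₀
  letI algAC : Algebra Γ(S, Y₀) Γ(X, W) := (f.appLE Y₀ W hWY).hom.toAlgebra
  haveI hft : Algebra.FiniteType Γ(S, Y₀) Γ(X, W) :=
    HasRingHomProperty.appLE (P := @LocallyOfFiniteType) f inferInstance ⟨Y₀, hY₀⟩ ⟨W, hW⟩ hWY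
  haveI hMfin : Module.Finite Γ(X, W) Γ(F, W) := module_finite_of_isFiniteType F hW
  have hcomap : ∀ (x : X) (hxW : x ∈ W),
      (hW.primeIdealOf ⟨x, hxW⟩).asIdeal.comap (algebraMap Γ(S, Y₀) Γ(X, W)) =
        (hY₀.primeIdealOf ⟨f x, hWY hxW⟩).asIdeal := fun x hxW =>
    congrArg PrimeSpectrum.asIdeal (IsAffineOpen.comap_primeIdealOf_appLE Y₀ hY₀ W hW hWY hxW)
  have h₀ := (mem_relAss_iff f F hY₀ hW hWY ξ hξW).mp hξ
  obtain ⟨a, haP, hconcl⟩ := chart1446_P Γ(F, W) (hY₀.primeIdealOf ⟨f ξ, hsY₀⟩).asIdeal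
    (hW.primeIdealOf ⟨ξ, hξW⟩).asIdeal (hcomap ξ hξW) h₀
  obtain ⟨O, hOdef⟩ : ∃ O : X.Opens, O = W ⊓ f ⁻¹ᵁ (S.basicOpen a) := ⟨_, rfl⟩
  have hmemO : ∀ x : X, x ∈ O ↔ x ∈ W ∧ f x ∈ S.basicOpen a := by
    intro x; rw [hOdef]; rfl
  refine ⟨closure {ξ} ∩ (O : Set X), Set.inter_subset_left, ?_, ?_, ?_⟩
  · have : (Subtype.val ⁻¹' (closure {ξ} ∩ (O : Set X)) : Set ↑(closure ({ξ} : Set ↑X))) =
        Subtype.val ⁻¹' (O : Set X) := by
      ext z
      exact ⟨fun h => h.2, fun h => ⟨z.2, h⟩⟩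
    rw [this]
    exact O.2.preimage continuous_subtype_val
  · refine ⟨ξ, subset_closure rfl, (hmemO ξ).mpr ⟨hξW, ?_⟩⟩
    rw [mem_primeIdealOf_iff hY₀ (f ξ) hsY₀] at haP
    exact not_not.mp haP
  · rintro x ⟨hxZ, hxO⟩ ⟨C, hC, hgen⟩
    obtain ⟨hxW, hfxa⟩ := (hmemO x).mp hxO
    rw [mem_relAss_iff f F hY₀ hW hWY x hxW]
    have hξx : ξ ⤳ x := specializes_iff_mem_closure.mpr hxZ
    refine hconcl _ inferInstance ?_ ?_ ?_
    · rw [hcomap x hxW, mem_primeIdealOf_iff hY₀ (f x) (hWY hxW), not_not]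
      exact hfxa
    · exact (primeIdealOf_le_iff_specializes hW ξ x hξW hxW).mpr hξx
    · intro q'' hq''p hq₀q'' hq''q hcm
      obtain ⟨x'', hx''W, hx''q⟩ := exists_point_of_prime' hW ⟨q'', hq''p⟩
      have hx''q' : (hW.primeIdealOf ⟨x'', hx''W⟩).asIdeal = q'' :=
        congrArg PrimeSpectrum.asIdeal hx''q
      have hξx'' : ξ ⤳ x'' := by
        rw [← primeIdealOf_le_iff_specializes hW ξ x'' hξW hx''W, hx''q']
        exact hq₀q''
      have hx''x : x'' ⤳ x := by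
        rw [← primeIdealOf_le_iff_specializes hW x'' x hx''W hxW, hx''q']
        exact hq''q
      have hfx'' : f x'' = f x := by
        apply eq_of_primeIdealOf_eq' hY₀ _ _ (hWY hx''W) (hWY hxW)
        rw [← hcomap x'' hx''W, ← hcomap x hxW, hx''q']
        exact hcm
      have hx''V : x'' ∈ closure {ξ} ∩ (O : Set X) :=
        ⟨specializes_iff_mem_closure.mp hξx'', (hmemO x'').mpr ⟨hx''W, hfx'' ▸ hfxa⟩⟩
      -- work in the subspace
      obtain ⟨T, hTdef⟩ : ∃ T : Set X, T = (closure {ξ} ∩ (O : Set X)) ∩ f ⁻¹' {f x} :=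
        ⟨_, rfl⟩
      have hind : IsInducing (Subtype.val : ↑((closure {ξ} ∩ (O : Set X)) ∩ f ⁻¹' {f x}) → X) :=
        IsInducing.subtypeVal
      let xT : ↑((closure {ξ} ∩ (O : Set X)) ∩ f ⁻¹' {f x}) := ⟨x, ⟨hxZ, hxO⟩, rfl⟩
      let x''T : ↑((closure {ξ} ∩ (O : Set X)) ∩ f ⁻¹' {f x}) := ⟨x'', hx''V, hfx''⟩
      have hspT : x''T ⤳ xT := hind.specializes_iff.mp hx''x
      have hCcl : closure {xT} = C := hgen.def
      have hsub : C ⊆ closure {x''T} := by
        rw [← hCcl]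
        exact closure_minimal (Set.singleton_subset_iff.mpr
          (specializes_iff_mem_closure.mp hspT)) isClosed_closure
      have hirr : IsIrreducible (closure ({x''T} : Set _)) := isIrreducible_singleton.closure
      have hle : closure {x''T} ⊆ C := hC.2 hirr hsub
      have hx''C : x''T ∈ closure {xT} := hCcl ▸ hle (subset_closure rfl)
      have hspT' : xT ⤳ x''T := specializes_iff_mem_closure.mpr hx''C
      have hsp' : x ⤳ x'' := hind.specializes_iff.mpr hspT'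
      have heq : x'' = x := (hx''x.antisymm hsp').eq
      subst heq
      exact hx''q'.symm

end Groth.Agent.Lib.Helper6.RelAss
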