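import Mathlib

/-!
# Supports of tensor products over local rings; going down for flat finite modules (helper6)
-/

set_option autoImplicit false
set_option linter.style.haveILetI false
set_option linter.unusedSectionVars false
universe u
open TensorProduct

namespace Groth.Agent.Lib.Helper6.SuppMax

section Local

variable {R : Type u} [CommRing R] [IsLocalRing R]

/-- over a local ring, the tensor product of two finite modules is nonzero iff both are -/
theorem nontrivial_tensor_iff (P M : Type u) [AddCommGroup P] [Module R P] [Module.Finite R P]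
    [AddCommGroup M] [Module R M] [Module.Finite R M] :
    Nontrivial (P ⊗[R] M) ↔ Nontrivial P ∧ Nontrivial M := by
  constructor
  · intro h
    constructor
    · by_contra hP
      rw [not_nontrivial_iff_subsingleton] at hP
      exact (not_subsingleton_iff_nontrivial.mpr h) inferInstance
    · by_contra hM
      rw [not_nontrivial_iff_subsingleton] at hM
      exact (not_subsingleton_iff_nontrivial.mpr h) inferInstance
  · rintro ⟨hP, hM⟩
    have e := AlgebraTensorModule.distribBaseChange R (IsLocalRing.ResidueField R) P M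
    have h1 : Nontrivial (IsLocalRing.ResidueField R ⊗[R] P) := by
      rw [← not_subsingleton_iff_nontrivial, IsLocalRing.subsingleton_tensorProduct]
      exact not_subsingleton_iff_nontrivial.mpr hP
    have h2 : Nontrivial (IsLocalRing.ResidueField R ⊗[R] M) := by
      rw [← not_subsingleton_iff_nontrivial, IsLocalRing.subsingleton_tensorProduct]
      exact not_subsingleton_iff_nontrivial.mpr hM
    have h3 : Nontrivial ((IsLocalRing.ResidueField R ⊗[R] P) ⊗[IsLocalRing.ResidueField R]
        (IsLocalRing.ResidueField R ⊗[R] M)) :=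
      (Module.FaithfullyFlat.nontrivial_tensorProduct_iff_right (IsLocalRing.ResidueField R)
        (IsLocalRing.ResidueField R ⊗[R] P)).mpr h2
    have h4 : Nontrivial (IsLocalRing.ResidueField R ⊗[R] (P ⊗[R] M)) :=
      e.toEquiv.nontrivial
    rw [← not_subsingleton_iff_nontrivial] at h4 ⊢
    rwa [IsLocalRing.subsingleton_tensorProduct] at h4

end Local

section LocalHom

variable {R R' : Type u} [CommRing R] [IsLocalRing R] [CommRing R'] [IsLocalRing R'] [Algebra R R']
  [IsLocalHom (algebraMap R R')]

/-- base change of a finite module along a local homomorphism is nonzero iff the module is -/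
theorem nontrivial_baseChange_iff (E : Type u) [AddCommGroup E] [Module R E] [Module.Finite R E] :
    Nontrivial (R' ⊗[R] E) ↔ Nontrivial E := by
  constructor
  · intro h
    by_contra hE
    rw [not_nontrivial_iff_subsingleton] at hE
    exact (not_subsingleton_iff_nontrivial.mpr h) inferInstance
  · intro hE
    have h1 : Nontrivial (IsLocalRing.ResidueField R ⊗[R] E) := by
      rw [← not_subsingleton_iff_nontrivial, IsLocalRing.subsingleton_tensorProduct]
      exact not_subsingleton_iff_nontrivial.mpr hE
    have h2 : Nontrivial (IsLocalRing.ResidueField R' ⊗[IsLocalRing.ResidueField R]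
        (IsLocalRing.ResidueField R ⊗[R] E)) :=
      (Module.FaithfullyFlat.nontrivial_tensorProduct_iff_right (IsLocalRing.ResidueField R)
        (IsLocalRing.ResidueField R')).mpr h1
    have e1 := AlgebraTensorModule.cancelBaseChange R (IsLocalRing.ResidueField R)
      (IsLocalRing.ResidueField R') (IsLocalRing.ResidueField R') E
    have e2 := AlgebraTensorModule.cancelBaseChange R R'
      (IsLocalRing.ResidueField R') (IsLocalRing.ResidueField R') E
    have h3 : Nontrivial (IsLocalRing.ResidueField R' ⊗[R] E) := e1.symm.toEquiv.nontrivial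
    have h4 : Nontrivial (IsLocalRing.ResidueField R' ⊗[R'] (R' ⊗[R] E)) :=
      e2.toEquiv.nontrivial
    by_contra hT
    rw [not_nontrivial_iff_subsingleton] at hT
    exact (not_subsingleton_iff_nontrivial.mpr h4) inferInstance

end LocalHom

section GoingDown

variable {A C : Type u} [CommRing A] [CommRing C] [Algebra A C]
  {M : Type u} [AddCommGroup M] [Module C M] [Module.Finite C M]
  (q : Ideal C) [hq : q.IsPrime]
  {Mq : Type u} [AddCommGroup Mq] [Module C Mq] [Module A Mq] [IsScalarTower A C Mq]
  (g : M →ₗ[C] Mq) [IsLocalizedModule q.primeCompl g]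

include g in
/-- Nakayama for the localised module -/
theorem exists_notMem_smul_top [Nontrivial Mq] (p' : Ideal A)
    (hle : p' ≤ q.comap (algebraMap A C)) :
    ∃ m : Mq, m ∉ p' • (⊤ : Submodule A Mq) := by
  by_contra hcon
  push Not at hcon
  obtain ⟨e⟩ : Nonempty (LocalizedModule q.primeCompl M ≃ₗ[C] Mq) :=
    ⟨IsLocalizedModule.iso q.primeCompl g⟩
  obtain ⟨J, hJ⟩ : ∃ J : Ideal (Localization.AtPrime q),
      J = Ideal.map (algebraMap C (Localization.AtPrime q)) (Ideal.map (algebraMap A C) p') :=
    ⟨_, rfl⟩
  have hJle : J ≤ IsLocalRing.maximalIdeal (Localization.AtPrime q) := by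
    rw [hJ, ← IsLocalization.AtPrime.map_eq_maximalIdeal q (Localization.AtPrime q)]
    apply Ideal.map_mono
    rw [Ideal.map_le_iff_le_comap]
    exact hle
  have hkey : ∀ y : Mq, y ∈ p' • (⊤ : Submodule A Mq) →
      e.symm y ∈ J • (⊤ : Submodule (Localization.AtPrime q) (LocalizedModule q.primeCompl M)) := by
    intro y hy
    refine Submodule.smul_induction_on (p := fun y => e.symm y ∈
      J • (⊤ : Submodule (Localization.AtPrime q) (LocalizedModule q.primeCompl M))) hy ?_ ?_
    · intro a ha y' _
      rw [← algebraMap_smul C a y', map_smul,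
        ← algebraMap_smul (Localization.AtPrime q) (algebraMap A C a) (e.symm y')]
      refine Submodule.smul_mem_smul ?_ Submodule.mem_top
      rw [hJ]
      exact Ideal.mem_map_of_mem _ (Ideal.mem_map_of_mem _ ha)
    · intro y₁ y₂ h₁ h₂
      rw [map_add]
      exact add_mem h₁ h₂
  have htop : (⊤ : Submodule (Localization.AtPrime q) (LocalizedModule q.primeCompl M)) ≤
      J • ⊤ := by
    intro x _
    have := hkey (e x) (hcon (e x))
    rwa [LinearEquiv.symm_apply_apply] at this
  have hbot := Submodule.eq_bot_of_le_smul_of_le_jacobson_bot J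
    (⊤ : Submodule (Localization.AtPrime q) (LocalizedModule q.primeCompl M))
    Module.Finite.fg_top htop (by
      rw [IsLocalRing.jacobson_eq_maximalIdeal ⊥ bot_ne_top]
      exact hJle)
  haveI : Subsingleton (LocalizedModule q.primeCompl M) :=
    (Submodule.subsingleton_iff (Localization.AtPrime q)).mp
      (subsingleton_iff_bot_eq_top.mp hbot.symm)
  haveI : Subsingleton Mq := e.symm.toEquiv.subsingleton
  exact not_subsingleton Mq inferInstance

include g in
/-- **going down for a finite module whose localisation is flat over the base**: below a prime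
`q` of the support with `M_q` flat over `A`, every prime `p' ⊆ q ∩ A` is the contraction of a
prime `q' ⊆ q` of the support -/
theorem exists_prime_le_of_flat [Module.Flat A Mq] [Nontrivial Mq] (p' : Ideal A)
    [hp' : p'.IsPrime] (hle : p' ≤ q.comap (algebraMap A C)) :
    ∃ q' : Ideal C, q'.IsPrime ∧ q' ≤ q ∧ q'.comap (algebraMap A C) = p' ∧
      Module.annihilator C M ≤ q' := by
  obtain ⟨m, hm⟩ := exists_notMem_smul_top q g p' hle
  -- the element `t = m ⊗ 1` of `M_q ⊗ κ(p')` is nonzero
  have hinj : Function.Injective (LinearMap.lTensor Mq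
      ((IsScalarTower.toAlgHom A (A ⧸ p') p'.ResidueField).toLinearMap)) :=
    Module.Flat.lTensor_preserves_injective_linearMap _
      (Ideal.injective_algebraMap_quotient_residueField p')
  have ht0 : m ⊗ₜ[A] (1 : p'.ResidueField) ≠ 0 := by
    intro h0
    have h1 : LinearMap.lTensor Mq ((IsScalarTower.toAlgHom A (A ⧸ p')
        p'.ResidueField).toLinearMap) (m ⊗ₜ[A] (1 : A ⧸ p')) = 0 := by
      rw [LinearMap.lTensor_tmul]
      change m ⊗ₜ[A] (algebraMap (A ⧸ p') p'.ResidueField 1) = 0
      rw [map_one]
      exact h0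
    have h2 : m ⊗ₜ[A] (1 : A ⧸ p') = 0 := hinj (h1.trans (map_zero _).symm)
    have h3 := congrArg (TensorProduct.tensorQuotEquivQuotSMul Mq p') h2
    rw [map_zero, show (1 : A ⧸ p') = Ideal.Quotient.mk p' (1 : A) from (map_one _).symm,
      TensorProduct.tensorQuotEquivQuotSMul_tmul_mk,
      one_smul, Submodule.Quotient.mk_eq_zero] at h3
    exact hm h3
  obtain ⟨t, htdef⟩ : ∃ t : Mq ⊗[A] p'.ResidueField, t = m ⊗ₜ[A] (1 : p'.ResidueField) :=
    ⟨_, rfl⟩
  have hsmul : ∀ c : C, c • t = (c • m) ⊗ₜ[A] (1 : p'.ResidueField) := fun c => by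
    rw [htdef, TensorProduct.smul_tmul']
  obtain ⟨I, hI⟩ : ∃ I : Ideal C, I = (⊥ : Submodule C (Mq ⊗[A] p'.ResidueField)).colon {t} :=
    ⟨_, rfl⟩
  have hmemI : ∀ c : C, c ∈ I ↔ c • t = 0 := fun c => by
    rw [hI, Submodule.mem_colon_singleton, Submodule.mem_bot]
  -- `I ≤ q`
  have hIq : I ≤ q := by
    intro c hc
    by_contra hcq
    obtain ⟨u, hu⟩ := (IsLocalizedModule.map_units (S := q.primeCompl) g ⟨c, hcq⟩).exists_left_inv
    have h1 : LinearMap.rTensor p'.ResidueField (u.restrictScalars A)
        ((c • m) ⊗ₜ[A] (1 : p'.ResidueField)) = m ⊗ₜ[A] (1 : p'.ResidueField) := by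
      rw [LinearMap.rTensor_tmul]
      congr 1
      have := LinearMap.congr_fun hu m
      exact this
    rw [← hsmul, (hmemI c).mp hc, map_zero] at h1
    exact ht0 h1.symm
  obtain ⟨q', hq'min, hq'q⟩ := Ideal.exists_minimalPrimes_le hIq
  haveI hq'p : q'.IsPrime := hq'min.1.1
  have hIq' : I ≤ q' := hq'min.1.2
  refine ⟨q', hq'p, hq'q, le_antisymm ?_ ?_, ?_⟩
  · -- `q' ∩ A ≤ p'`
    intro a ha
    by_contra hap
    obtain ⟨y, hyI, hxy⟩ := Ideal.exists_mul_mem_of_mem_minimalPrimes hq'min
      (Ideal.mem_comap.mp ha)
    rw [hmemI, mul_smul, algebraMap_smul] at hxy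
    have hb : algebraMap A p'.ResidueField a ≠ 0 := by
      rw [ne_eq, Ideal.algebraMap_residueField_eq_zero]
      exact hap
    have hkey : ∀ z : Mq ⊗[A] p'.ResidueField,
        LinearMap.lTensor Mq (LinearMap.mulLeft A ((algebraMap A p'.ResidueField a)⁻¹))
          (a • z) = z := by
      intro z
      induction z using TensorProduct.induction_on with
      | zero => simp
      | add z₁ z₂ h₁ h₂ => rw [smul_add, map_add, h₁, h₂]
      | tmul m' k =>
        rw [TensorProduct.smul_tmul', TensorProduct.smul_tmul, LinearMap.lTensor_tmul,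
          LinearMap.mulLeft_apply, Algebra.smul_def, ← mul_assoc, inv_mul_cancel₀ hb, one_mul]
    have h2 := hkey (y • t)
    rw [hxy, map_zero] at h2
    exact hyI ((hmemI y).mpr h2.symm)
  · -- `p' ≤ q' ∩ A`
    intro a ha
    rw [Ideal.mem_comap]
    apply hIq'
    rw [hmemI, algebraMap_smul, htdef, TensorProduct.smul_tmul', TensorProduct.smul_tmul,
      Algebra.smul_def, mul_one, (Ideal.algebraMap_residueField_eq_zero).mpr ha,
      TensorProduct.tmul_zero]
  · -- the annihilator of `M` kills `t`
    intro c hc
    apply hIq'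
    rw [hmemI, hsmul]
    have h1 : c • m = 0 := by
      obtain ⟨⟨m', s⟩, hms⟩ := IsLocalizedModule.surj q.primeCompl g m
      apply IsLocalizedModule.smul_injective g s
      change s • (c • m) = s • (0 : Mq)
      rw [smul_zero, smul_comm, hms, ← map_smul, Module.mem_annihilator.mp hc m', map_zero]
    rw [h1, TensorProduct.zero_tmul]

end GoingDown

end Groth.Agent.Lib.Helper6.SuppMax
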