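import Mathlib
import Groth.Prelude.Def_CohB1
import Groth.Prelude.Def_FlatMod2
import Groth.Agent.Lib.Helper6.SuppMax1
import Groth.Agent.Lib.Helper6.RelAss20
import Groth.Agent.Lib.Helper6.RelAss11
import Groth.Agent.Lib.Helper10.PullbackStalk
import Groth.Agent.Lib.Helper9.RegCMFree3
import Groth.Agent.Lib.Helper18.FlH
import Groth.Agent.Lib.Helper29.QCohAss

/-!
# Supports of `f^*E ⊗ F` and of restrictions to fibres; generisations in the support of a flat
module (helper6)
-/

set_option autoImplicit false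
set_option linter.style.haveILetI false
set_option linter.unusedSectionVars false
universe u

open CategoryTheory CategoryTheory.Limits AlgebraicGeometry TopologicalSpace Opposite TensorProduct
open Groth.Agent.Lib.Helper29.QCoh Groth.Agent.Lib.Helper10.PullbackStalk

namespace Groth.Agent.Lib.Helper6.SuppMax

variable {X Y : Scheme.{u}}

/-- support of a pullback of a finite type quasi-coherent module -/
theorem mem_support_pullback_iff (f : X ⟶ Y) (E : Y.Modules) [E.IsQuasicoherent]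
    [E.IsFiniteType] (x : X) :
    x ∈ CohB1.support ((Scheme.Modules.pullback f).obj E) ↔ f x ∈ CohB1.support E := by
  letI := (f.stalkMap x).hom.toAlgebra
  haveI : IsLocalHom (algebraMap (Y.presheaf.stalk (f x)) (X.presheaf.stalk x)) :=
    inferInstanceAs (IsLocalHom (f.stalkMap x).hom)
  obtain ⟨ε⟩ := nonempty_stalk_pullback_equiv f E x
  haveI := Groth.Agent.Lib.Helper9.RegCMFree.finite_stalk E (f x)
  change ¬ Subsingleton _ ↔ ¬ Subsingleton _
  rw [not_subsingleton_iff_nontrivial, not_subsingleton_iff_nontrivial,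
    ε.toEquiv.nontrivial_congr]
  exact nontrivial_baseChange_iff (E.presheaf.stalk (f x))

/-- support of `f^*E ⊗ F` -/
theorem mem_support_tensor_pullback_iff (f : X ⟶ Y) (E : Y.Modules) [E.IsQuasicoherent]
    [E.IsFiniteType] (F : X.Modules) [F.IsQuasicoherent] [F.IsFiniteType] (x : X) :
    x ∈ CohB1.support (CohB1.tensorMod ((Scheme.Modules.pullback f).obj E) F) ↔
      f x ∈ CohB1.support E ∧ x ∈ CohB1.support F := by
  rw [← mem_support_pullback_iff f E x]
  letI := (f.stalkMap x).hom.toAlgebra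
  obtain ⟨ε⟩ := nonempty_stalk_pullback_equiv f E x
  obtain ⟨τ⟩ := nonempty_stalk_tensorMod_equiv ((Scheme.Modules.pullback f).obj E) F x
  haveI := Groth.Agent.Lib.Helper9.RegCMFree.finite_stalk E (f x)
  haveI := Groth.Agent.Lib.Helper9.RegCMFree.finite_stalk F x
  haveI : Module.Finite (X.presheaf.stalk x)
      (((Scheme.Modules.pullback f).obj E).presheaf.stalk x) :=
    Module.Finite.equiv ε.symm
  change ¬ Subsingleton _ ↔ ¬ Subsingleton _ ∧ ¬ Subsingleton _
  rw [not_subsingleton_iff_nontrivial, not_subsingleton_iff_nontrivial,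
    not_subsingleton_iff_nontrivial, τ.toEquiv.nontrivial_congr]
  exact nontrivial_tensor_iff _ _

open Groth.Agent.Lib.Helper6.RelAss Groth.Agent.Lib.Helper6.FibDense in
/-- a point of an affine open lies in the support iff its prime contains the annihilator of the
module of sections -/
theorem mem_support_iff_annihilator_le (F : X.Modules) [F.IsQuasicoherent] [F.IsFiniteType]
    {W : X.Opens} (hW : IsAffineOpen W) (z : X) (hz : z ∈ W) :
    z ∈ CohB1.support F ↔
      Module.annihilator Γ(X, W) Γ(F, W) ≤ (hW.primeIdealOf ⟨z, hz⟩).asIdeal := by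
  haveI hMfin : Module.Finite Γ(X, W) Γ(F, W) := module_finite_of_isFiniteType F hW
  letI := stalkModule F W z hz
  haveI := isLocalizedModule_germ F hW z hz
  have e := IsLocalizedModule.iso (hW.primeIdealOf ⟨z, hz⟩).asIdeal.primeCompl (germₗ F W z hz)
  change ¬ Subsingleton _ ↔ _
  rw [not_subsingleton_iff_nontrivial, ← e.toEquiv.nontrivial_congr,
    ← Module.mem_support_iff (p := hW.primeIdealOf ⟨z, hz⟩), Module.mem_support_iff_of_finite]

open Groth.Agent.Lib.Helper6.RelAss Groth.Agent.Lib.Helper6.FibDense in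
/-- **going down in the support of a flat module**: if `F` is flat over `Y` at a point `x` of its
support, every generisation of `f x` is the image of a generisation of `x` in the support -/
theorem exists_generization_of_flat (f : X ⟶ Y) (F : X.Modules) [F.IsQuasicoherent]
    [F.IsFiniteType] (x : X) (hx : x ∈ CohB1.support F) (hfl : FlatMod.IsFlatOverAt f F x)
    (w : Y) (hw : w ⤳ f x) : ∃ z : X, z ⤳ x ∧ f z = w ∧ z ∈ CohB1.support F := by
  obtain ⟨_, ⟨Y₀, hY₀ : IsAffineOpen Y₀, rfl⟩, hyY₀, -⟩ :=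
    Y.isBasis_affineOpens.exists_subset_of_mem_open (Set.mem_univ (f x)) isOpen_univ
  obtain ⟨_, ⟨W, hW : IsAffineOpen W, rfl⟩, hxW, hWY⟩ :=
    X.isBasis_affineOpens.exists_subset_of_mem_open
      (show x ∈ ((f ⁻¹ᵁ Y₀ : X.Opens) : Set X) from hyY₀) (f ⁻¹ᵁ Y₀).isOpen
  have hwY₀ : w ∈ Y₀ := hw.mem_open Y₀.isOpen hyY₀
  letI algAC : Algebra Γ(Y, Y₀) Γ(X, W) := (f.appLE Y₀ W hWY).hom.toAlgebra
  letI modAM : Module Γ(Y, Y₀) Γ(F, W) := Module.compHom _ (f.appLE Y₀ W hWY).hom
  haveI twM : IsScalarTower Γ(Y, Y₀) Γ(X, W) Γ(F, W) :=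
    IsScalarTower.of_algebraMap_smul (fun r m => rfl)
  haveI hMfin : Module.Finite Γ(X, W) Γ(F, W) := module_finite_of_isFiniteType F hW
  haveI hflat : Module.Flat Γ(Y, Y₀)
      (LocalizedModule (hW.primeIdealOf ⟨x, hxW⟩).asIdeal.primeCompl Γ(F, W)) :=
    (Groth.Agent.Lib.Helper18.Fl.isFlatOverAt_iff_flat_localizedModule f F hW hY₀ hWY x hxW).mp hfl
  haveI hnt : Nontrivial
      (LocalizedModule (hW.primeIdealOf ⟨x, hxW⟩).asIdeal.primeCompl Γ(F, W)) := by
    rw [← Module.mem_support_iff (p := hW.primeIdealOf ⟨x, hxW⟩),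
      Module.mem_support_iff_of_finite]
    exact (mem_support_iff_annihilator_le F hW x hxW).mp hx
  have hqx : (hW.primeIdealOf ⟨x, hxW⟩).asIdeal.comap (algebraMap Γ(Y, Y₀) Γ(X, W)) =
      (hY₀.primeIdealOf ⟨f x, hyY₀⟩).asIdeal :=
    congrArg PrimeSpectrum.asIdeal (IsAffineOpen.comap_primeIdealOf_appLE Y₀ hY₀ W hW hWY hxW)
  obtain ⟨q', hq'p, hq'q, hq'A, hann⟩ := exists_prime_le_of_flat
    (hW.primeIdealOf ⟨x, hxW⟩).asIdeal
    (LocalizedModule.mkLinearMap (hW.primeIdealOf ⟨x, hxW⟩).asIdeal.primeCompl Γ(F, W))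
    (hY₀.primeIdealOf ⟨w, hwY₀⟩).asIdeal (by
      rw [hqx]
      exact (primeIdealOf_le_iff_specializes hY₀ w (f x) hwY₀ hyY₀).mpr hw)
  obtain ⟨z, hzW, hzq⟩ := exists_point_of_prime' hW ⟨q', hq'p⟩
  have hzq' : (hW.primeIdealOf ⟨z, hzW⟩).asIdeal = q' := congrArg PrimeSpectrum.asIdeal hzq
  refine ⟨z, ?_, ?_, ?_⟩
  · rw [← primeIdealOf_le_iff_specializes hW z x hzW hxW, hzq']
    exact hq'q
  · apply eq_of_primeIdealOf_eq' hY₀ _ _ (hWY hzW) hwY₀
    rw [← hq'A, ← hzq']
    exact (congrArg PrimeSpectrum.asIdeal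
      (IsAffineOpen.comap_primeIdealOf_appLE Y₀ hY₀ W hW hWY hzW)).symm
  · rw [mem_support_iff_annihilator_le F hW z hzW, hzq']
    exact hann

end Groth.Agent.Lib.Helper6.SuppMax
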