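import Mathlib
import Groth.Agent.Lib.Helper6.Chev5

/-!
# Universal openness can be tested on affine spaces of positive dimension (ring part)
-/

set_option autoImplicit false
universe u

open TensorProduct CategoryTheory AlgebraicGeometry Limits

namespace Groth.Agent.Lib.Helper6.UO

open Groth.Agent.Lib.Helper6.Chev

/-- Transfer of openness of `Spec C[σ] → Spec A[σ]` along an equivalence of the variables. -/
theorem isOpenMap_comap_map_of_equiv {A C : Type u} [CommRing A] [CommRing C] (φ : A →+* C)
    {σ τ : Type u} (e : σ ≃ τ)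
    (H : IsOpenMap (PrimeSpectrum.comap
      (MvPolynomial.map φ : MvPolynomial τ A →+* MvPolynomial τ C))) :
    IsOpenMap (PrimeSpectrum.comap
      (MvPolynomial.map φ : MvPolynomial σ A →+* MvPolynomial σ C)) := by
  have h : (PrimeSpectrum.comap (MvPolynomial.map φ : MvPolynomial σ A →+* MvPolynomial σ C)) =
      PrimeSpectrum.comap ((MvPolynomial.renameEquiv A e : MvPolynomial σ A ≃ₐ[A]
        MvPolynomial τ A) : MvPolynomial σ A →+* MvPolynomial τ A) ∘
      PrimeSpectrum.comap (MvPolynomial.map φ : MvPolynomial τ A →+* MvPolynomial τ C) ∘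
      PrimeSpectrum.comap ((MvPolynomial.renameEquiv C e.symm : MvPolynomial τ C ≃ₐ[C]
        MvPolynomial σ C) : MvPolynomial τ C →+* MvPolynomial σ C) := by
    funext P
    simp only [Function.comp_apply]
    rw [← PrimeSpectrum.comap_comp_apply, ← PrimeSpectrum.comap_comp_apply]
    congr 1
    apply MvPolynomial.ringHom_ext
    · intro a
      simp
    · intro i
      simp
  rw [h]
  refine (PrimeSpectrum.isHomeomorph_comap_of_bijective ?_).isOpenMap.comp
    (H.comp (PrimeSpectrum.isHomeomorph_comap_of_bijective ?_).isOpenMap)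
  · exact (MvPolynomial.renameEquiv A e).bijective
  · exact (MvPolynomial.renameEquiv C e.symm).bijective

attribute [local instance] MvPolynomial.algebraMvPolynomial in
set_option maxHeartbeats 1000000 in
/-- Universal openness can be tested on polynomial rings in a positive number of variables
(ring form). -/
theorem isOpenMap_comap_tensor' {A C R : Type u} [CommRing A] [CommRing C] [CommRing R]
    [Algebra A C] [Algebra A R]
    (H : ∀ (σ : Type u) [Finite σ] [Nonempty σ], IsOpenMap (PrimeSpectrum.comap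
      (MvPolynomial.map (algebraMap A C) : MvPolynomial σ A →+* MvPolynomial σ C))) :
    IsOpenMap (PrimeSpectrum.comap (algebraMap R (R ⊗[A] C))) := by
  classical
  rw [PrimeSpectrum.isBasis_basic_opens.isOpenMap_iff]
  rintro _ ⟨_, ⟨g, rfl⟩, rfl⟩
  obtain ⟨s₀, hs₀⟩ := TensorProduct.exists_finset g
  obtain ⟨s, hs, hne⟩ : ∃ s : Finset (R × C), g = ∑ i ∈ s, i.1 ⊗ₜ[A] i.2 ∧ s.Nonempty := by
    refine ⟨insert (0, 0) s₀, ?_, Finset.insert_nonempty _ _⟩
    by_cases h0 : ((0 : R), (0 : C)) ∈ s₀
    · rw [Finset.insert_eq_of_mem h0]; exact hs₀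
    · rw [Finset.sum_insert h0, ← hs₀]; simp
  haveI : Nonempty ↥s := hne.to_subtype
  let π : MvPolynomial (↥s) A →ₐ[A] R := MvPolynomial.aeval (fun i => i.1.1)
  let ρ : MvPolynomial (↥s) C →+* R ⊗[A] C :=
    MvPolynomial.eval₂Hom (Algebra.TensorProduct.includeRight : C →ₐ[A] R ⊗[A] C).toRingHom
      (fun i => i.1.1 ⊗ₜ[A] (1 : C))
  let g₀ : MvPolynomial (↥s) C := ∑ i : ↥s, MvPolynomial.X i * MvPolynomial.C i.1.2
  have hρg : ρ g₀ = g := by
    simp only [ρ, g₀, map_sum, map_mul, MvPolynomial.eval₂Hom_X', MvPolynomial.eval₂Hom_C]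
    rw [hs, ← Finset.sum_coe_sort s]
    refine Finset.sum_congr rfl fun i _ => ?_
    simp [Algebra.TensorProduct.tmul_mul_tmul]
  have hright : IsPullback
      (Spec.map (CommRingCat.ofHom (algebraMap C (MvPolynomial (↥s) C))))
      (Spec.map (CommRingCat.ofHom (algebraMap (MvPolynomial (↥s) A) (MvPolynomial (↥s) C))))
      (Spec.map (CommRingCat.ofHom (algebraMap A C)))
      (Spec.map (CommRingCat.ofHom (algebraMap A (MvPolynomial (↥s) A)))) :=
    isPullback_SpecMap_of_isPushout _ _ _ _
      (CommRingCat.isPushout_of_isPushout A C (MvPolynomial (↥s) A) (MvPolynomial (↥s) C))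
  have hbig : IsPullback
      (Spec.map (CommRingCat.ofHom
        (Algebra.TensorProduct.includeRight : C →ₐ[A] R ⊗[A] C).toRingHom))
      (Spec.map (CommRingCat.ofHom (algebraMap R (R ⊗[A] C))))
      (Spec.map (CommRingCat.ofHom (algebraMap A C)))
      (Spec.map (CommRingCat.ofHom (algebraMap A R))) :=
    (isPullback_SpecMap_of_isPushout _ _ _ _ (CommRingCat.isPushout_tensorProduct A R C)).flip
  have e1 : Spec.map (CommRingCat.ofHom ρ) ≫
      Spec.map (CommRingCat.ofHom (algebraMap C (MvPolynomial (↥s) C))) =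
      Spec.map (CommRingCat.ofHom
        (Algebra.TensorProduct.includeRight : C →ₐ[A] R ⊗[A] C).toRingHom) := by
    rw [← Spec.map_comp, ← CommRingCat.ofHom_comp]
    congr 2
    ext c
    simp [ρ]
  have e2 : Spec.map (CommRingCat.ofHom π.toRingHom) ≫
      Spec.map (CommRingCat.ofHom (algebraMap A (MvPolynomial (↥s) A))) =
      Spec.map (CommRingCat.ofHom (algebraMap A R)) := by
    rw [← Spec.map_comp, ← CommRingCat.ofHom_comp]
    congr 2
    ext a
    simp [π]
  have e3 : Spec.map (CommRingCat.ofHom ρ) ≫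
      Spec.map (CommRingCat.ofHom (algebraMap (MvPolynomial (↥s) A) (MvPolynomial (↥s) C))) =
      Spec.map (CommRingCat.ofHom (algebraMap R (R ⊗[A] C))) ≫
        Spec.map (CommRingCat.ofHom π.toRingHom) := by
    rw [← Spec.map_comp, ← Spec.map_comp, ← CommRingCat.ofHom_comp, ← CommRingCat.ofHom_comp]
    congr 2
    have hm : algebraMap (MvPolynomial (↥s) A) (MvPolynomial (↥s) C) =
        MvPolynomial.map (algebraMap A C) := rfl
    rw [hm]
    apply MvPolynomial.ringHom_ext
    · intro a
      simp only [RingHom.comp_apply, MvPolynomial.map_C]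
      simp [ρ, π, Algebra.TensorProduct.algebraMap_apply]
    · intro i
      simp only [RingHom.comp_apply, MvPolynomial.map_X]
      simp [ρ, π]
  have hleft : IsPullback (Spec.map (CommRingCat.ofHom ρ))
      (Spec.map (CommRingCat.ofHom (algebraMap R (R ⊗[A] C))))
      (Spec.map (CommRingCat.ofHom (algebraMap (MvPolynomial (↥s) A) (MvPolynomial (↥s) C))))
      (Spec.map (CommRingCat.ofHom π.toRingHom)) := by
    refine IsPullback.of_right ?_ e3 hright
    rw [e1, e2]
    exact hbig
  have key := Scheme.image_preimage_eq_of_isPullback hleft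
    (PrimeSpectrum.basicOpen g₀ : Set (PrimeSpectrum (MvPolynomial (↥s) C)))
  have h1 : (PrimeSpectrum.comap (algebraMap R (R ⊗[A] C))) ''
      (PrimeSpectrum.basicOpen g : Set (PrimeSpectrum (R ⊗[A] C))) =
      (PrimeSpectrum.comap π.toRingHom) ⁻¹' ((PrimeSpectrum.comap
        (MvPolynomial.map (algebraMap A C) : MvPolynomial (↥s) A →+* MvPolynomial (↥s) C)) ''
        (PrimeSpectrum.basicOpen g₀ : Set (PrimeSpectrum (MvPolynomial (↥s) C)))) := by
    rw [← hρg, ← PrimeSpectrum.comap_basicOpen]
    exact key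
  rw [h1]
  exact ((H (↥s)) _ (PrimeSpectrum.basicOpen g₀).2).preimage (PrimeSpectrum.continuous_comap _)

set_option maxHeartbeats 1000000 in
/-- Universal openness of an affine morphism can be tested on polynomial rings in `n > 0`
variables. -/
theorem universallyOpen_SpecMap_of_isOpenMap' {A C : CommRingCat.{u}} (φ : A ⟶ C)
    (H : ∀ n : ℕ, 0 < n → IsOpenMap (PrimeSpectrum.comap
      (MvPolynomial.map φ.hom : MvPolynomial (ULift.{u} (Fin n)) A →+*
        MvPolynomial (ULift.{u} (Fin n)) C))) :
    UniversallyOpen (Spec.map φ) := by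
  have H' : ∀ (σ : Type u) [Finite σ] [Nonempty σ], IsOpenMap (PrimeSpectrum.comap
      (MvPolynomial.map φ.hom : MvPolynomial σ A →+* MvPolynomial σ C)) := by
    intro σ _ _
    have e : σ ≃ ULift.{u} (Fin (Nat.card σ)) := (Finite.equivFin σ).trans Equiv.ulift.symm
    exact isOpenMap_comap_map_of_equiv φ.hom e (H _ Nat.card_pos)
  refine ⟨MorphismProperty.universally_mk' _ _ fun {T} g _ ↦ ?_⟩
  wlog hT : ∃ R, T = Spec R generalizing T
  · refine (IsZariskiLocalAtTarget.iff_of_openCover (P := topologically IsOpenMap)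
      T.affineCover).mpr fun i ↦ ?_
    refine (MorphismProperty.cancel_left_of_respectsIso _
      ((pullbackRightPullbackFstIso ..).inv ≫ (pullbackSymmetry ..).hom) _).mp ?_
    simpa [Scheme.Cover.pullbackHom] using! this _ _ ⟨_, rfl⟩
  obtain ⟨R, rfl⟩ := hT
  obtain ⟨ψ, rfl⟩ := Spec.map_surjective g
  algebraize [φ.hom, ψ.hom]
  refine (MorphismProperty.cancel_left_of_respectsIso _ (pullbackSpecIso A R C).inv _).mp ?_
  convert_to! topologically _ (Spec.map <| CommRingCat.ofHom (algebraMap R (TensorProduct A R C)))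
  · exact pullbackSpecIso_inv_fst ..
  exact isOpenMap_comap_tensor' (A := A) (C := C) (R := R) H'

end Groth.Agent.Lib.Helper6.UO
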