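import Mathlib
import Groth.Agent.Lib.Helper6.UO1
import Groth.Agent.Lib.Helper6.Chev6

/-!
# Universal openness can be tested on affine spaces of positive dimension (scheme part)
-/

set_option autoImplicit false
universe u

open TensorProduct CategoryTheory AlgebraicGeometry Limits

namespace Groth.Agent.Lib.Helper6.UO

open Groth.Agent.Lib.Helper6.Chev

/-- If the base change of `f` to `𝔸(σ; Y)` is open, then so is `𝔸(σ; X) ⟶ 𝔸(σ; Y)`. -/
theorem isOpenMap_affineSpace_map {X Y : Scheme.{u}} (f : X ⟶ Y) (σ : Type u)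
    (h : IsOpenMap ⇑(pullback.snd f (𝔸(σ; Y) ↘ Y))) :
    IsOpenMap ⇑(AffineSpace.map σ f) := by
  have hpb := (AffineSpace.isPullback_map (n := σ) f).flip
  have e : hpb.isoPullback.hom ≫ pullback.snd f (𝔸(σ; Y) ↘ Y) = AffineSpace.map σ f :=
    hpb.isoPullback_hom_snd
  rw [← e]
  exact (MorphismProperty.cancel_left_of_respectsIso (topologically @IsOpenMap)
    hpb.isoPullback.hom (pullback.snd f (𝔸(σ; Y) ↘ Y))).mpr h

/-- Passing to affine charts: openness of `Spec C[σ] → Spec A[σ]`. -/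
theorem isOpenMap_comap_map_of_affineSpace {X Y : Scheme.{u}} (f : X ⟶ Y) (σ : Type u)
    (h : IsOpenMap ⇑(AffineSpace.map σ f))
    {V : Y.Opens} (hV : IsAffineOpen V) {U : X.Opens} (hU : IsAffineOpen U) (e : U ≤ f ⁻¹ᵁ V) :
    IsOpenMap (PrimeSpectrum.comap (MvPolynomial.map (f.appLE V U e).hom :
      MvPolynomial σ Γ(Y, V) →+* MvPolynomial σ Γ(X, U))) := by
  haveI : IsOpenImmersion (AffineSpace.map σ hV.fromSpec) :=
    MorphismProperty.of_isPullback (P := @IsOpenImmersion)
      (AffineSpace.isPullback_map (n := σ) hV.fromSpec).flip inferInstance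
  haveI : IsOpenImmersion (AffineSpace.map σ hU.fromSpec) :=
    MorphismProperty.of_isPullback (P := @IsOpenImmersion)
      (AffineSpace.isPullback_map (n := σ) hU.fromSpec).flip inferInstance
  have h1 : IsOpenMap ⇑(AffineSpace.map σ hU.fromSpec ≫ AffineSpace.map σ f) :=
    h.comp (AffineSpace.map σ hU.fromSpec).isOpenEmbedding.isOpenMap
  rw [← AffineSpace.map_comp, ← IsAffineOpen.SpecMap_appLE_fromSpec f hV hU e,
    AffineSpace.map_comp] at h1
  have h2 : IsOpenMap ⇑(AffineSpace.map σ (Spec.map (f.appLE V U e))) :=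
    (AffineSpace.map σ hV.fromSpec).isOpenEmbedding.isOpenMap_iff.mpr h1
  rw [AffineSpace.map_SpecMap] at h2
  have h3 := (MorphismProperty.cancel_left_of_respectsIso (topologically @IsOpenMap) _ _).mp h2
  have h4 := (MorphismProperty.cancel_right_of_respectsIso (topologically @IsOpenMap) _ _).mp h3
  exact h4

/-- **Universal openness can be tested on the affine spaces `𝔸ⁿ_Y`, `n > 0`.** -/
theorem universallyOpen_of_isOpenMap_affineSpace {X Y : Scheme.{u}} (f : X ⟶ Y)
    (h : ∀ n : ℕ, 0 < n →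
      IsOpenMap ⇑(pullback.snd f (𝔸(ULift.{u} (Fin n); Y) ↘ Y))) :
    UniversallyOpen f := by
  refine of_forall_exists_openImmersion @UniversallyOpen f fun x => ?_
  obtain ⟨_, ⟨V, hV : IsAffineOpen V, rfl⟩, hfx, -⟩ :=
    Y.isBasis_affineOpens.exists_subset_of_mem_open (Set.mem_univ (f x)) isOpen_univ
  obtain ⟨_, ⟨U, hU : IsAffineOpen U, rfl⟩, hxU, hUV⟩ :=
    X.isBasis_affineOpens.exists_subset_of_mem_open (show x ∈ (f ⁻¹ᵁ V : Set X) from hfx)
      (f ⁻¹ᵁ V).isOpen
  have e : U ≤ f ⁻¹ᵁ V := hUV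
  refine ⟨Spec Γ(X, U), hU.fromSpec, inferInstance, ?_, ?_⟩
  · rw [hU.range_fromSpec]; exact hxU
  · rw [← IsAffineOpen.SpecMap_appLE_fromSpec f hV hU e]
    haveI : UniversallyOpen (Spec.map (f.appLE V U e)) :=
      universallyOpen_SpecMap_of_isOpenMap' _ (fun n hn =>
        isOpenMap_comap_map_of_affineSpace f _ (isOpenMap_affineSpace_map f _ (h n hn)) hV hU e)
    infer_instance

end Groth.Agent.Lib.Helper6.UO
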