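import Mathlib
import Groth.Agent.Lib.Helper6.UO2
import Groth.Agent.Lib.Helper5.OpenGeneralizing

/-!
# Universal openness and domination of irreducible components of base changes
-/

set_option autoImplicit false
universe u

open TensorProduct CategoryTheory AlgebraicGeometry Limits

namespace Groth.Agent.Lib.Helper6.UO

open Groth.Agent.Lib.Helper6.Chev

/-- If every irreducible component of a fibre product `P = X ×_Y T` dominates the irreducible
scheme `T` with generic point `t₁`, then the generization `g t₁` of `f x = g t₀` lifts to a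
generization of `x`. -/
theorem exists_generalization_of_isPullback {P X Y T : Scheme.{u}} {fst : P ⟶ X} {snd : P ⟶ T}
    {f : X ⟶ Y} {g : T ⟶ Y} (hpb : IsPullback fst snd f g)
    (hdom : ∀ Z ∈ irreducibleComponents (↥P : Type u), Dense (snd '' Z))
    (x : X) (t₀ t₁ : T) (ht₀ : f x = g t₀) (ht₁ : closure {t₁} = Set.univ) :
    ∃ x' : X, x' ⤳ x ∧ f x' = g t₁ := by
  obtain ⟨w, hw1, hw2⟩ := Scheme.exists_preimage_of_isPullback hpb x t₀ ht₀
  have hZ := irreducibleComponent_mem_irreducibleComponents w
  have hwZ : w ∈ irreducibleComponent w := mem_irreducibleComponent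
  obtain ⟨ζ, hζ⟩ := QuasiSober.sober (isIrreducible_irreducibleComponent (x := w))
    (isClosed_irreducibleComponent (x := w))
  have hζ' : closure {ζ} = irreducibleComponent w := hζ.def
  have h1 : snd '' (irreducibleComponent w) ⊆ closure {snd ζ} := by
    rw [← hζ']
    refine (image_closure_subset_closure_image snd.continuous).trans ?_
    rw [Set.image_singleton]
  have h2 : closure {snd ζ} = Set.univ := by
    have := (hdom _ hZ).mono h1
    rw [dense_closure] at this
    exact this.closure_eq
  have h3 : snd ζ = t₁ := by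
    have ha : IsGenericPoint (snd ζ) Set.univ := h2
    have hb : IsGenericPoint t₁ Set.univ := ht₁
    exact ha.eq hb
  refine ⟨fst ζ, ?_, ?_⟩
  · rw [← hw1]
    refine Specializes.map ?_ fst.continuous
    rw [specializes_iff_mem_closure, hζ']
    exact hwZ
  · rw [← h3, ← Scheme.Hom.comp_apply, ← Scheme.Hom.comp_apply, hpb.w]

/-- For a generalizing morphism to an irreducible scheme, every irreducible component of the
source dominates the target. -/
theorem dense_image_of_generalizingMap {P T : Scheme.{u}} (p : P ⟶ T)
    (hp : GeneralizingMap p) (η : T) (hη : closure {η} = Set.univ)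
    (Z : Set P) (hZ : Z ∈ irreducibleComponents (↥P : Type u)) : Dense (p '' Z) := by
  obtain ⟨ζ, hζ⟩ := QuasiSober.sober hZ.1 (isClosed_of_mem_irreducibleComponents Z hZ)
  have hζ' : closure {ζ} = Z := hζ.def
  have h1 : η ⤳ p ζ := by
    rw [specializes_iff_mem_closure, hη]; trivial
  obtain ⟨ζ', hζ'1, hζ'2⟩ := hp h1
  have h2 : Z ⊆ closure {ζ'} := by
    rw [← hζ']
    exact closure_minimal (Set.singleton_subset_iff.mpr (specializes_iff_mem_closure.mp hζ'1))
      isClosed_closure
  have h3 : closure {ζ'} ⊆ Z := hZ.2 isIrreducible_singleton.closure h2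
  have h4 : η ∈ p '' Z := ⟨ζ', h3 (subset_closure rfl), hζ'2⟩
  have h5 : closure {η} ⊆ closure (p '' Z) := closure_mono (Set.singleton_subset_iff.mpr h4)
  rw [hη] at h5
  rw [dense_iff_closure_eq]
  exact Set.univ_subset_iff.mp h5

/-- Generization lifting for a base change of `f`, tested by a further base change to an
irreducible scheme whose components dominate. -/
theorem exists_generalization_pullback_snd {X Y W T : Scheme.{u}} (f : X ⟶ Y) (π : W ⟶ Y)
    (g : T ⟶ W)
    (hdom : ∀ Z ∈ irreducibleComponents (↥(pullback f (g ≫ π)) : Type u),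
      Dense ((pullback.snd f (g ≫ π)) '' Z))
    (x' : ↥(pullback f π)) (t₀ t₁ : T) (ht₀ : (pullback.snd f π) x' = g t₀)
    (ht₁ : closure {t₁} = Set.univ) :
    ∃ x'' : ↥(pullback f π), x'' ⤳ x' ∧ (pullback.snd f π) x'' = g t₁ := by
  let fst' : pullback f (g ≫ π) ⟶ pullback f π :=
    pullback.lift (pullback.fst f (g ≫ π)) (pullback.snd f (g ≫ π) ≫ g)
      (by rw [pullback.condition, Category.assoc])
  have hbig : IsPullback (fst' ≫ pullback.fst f π) (pullback.snd f (g ≫ π)) f (g ≫ π) := by
    have : fst' ≫ pullback.fst f π = pullback.fst f (g ≫ π) := pullback.lift_fst _ _ _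
    rw [this]
    exact IsPullback.of_hasPullback f (g ≫ π)
  have hleft : IsPullback fst' (pullback.snd f (g ≫ π)) (pullback.snd f π) g :=
    IsPullback.of_right hbig (pullback.lift_snd _ _ _) (IsPullback.of_hasPullback f π)
  exact exists_generalization_of_isPullback hleft hdom x' t₀ t₁ ht₀ ht₁

end Groth.Agent.Lib.Helper6.UO
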