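import Mathlib
import Groth.Agent.Lib.Helper6.UO3
import Groth.Agent.Lib.Helper21.DVRExt6

/-!
# Universal openness via domination of components: finite type test schemes and DVRs
-/

set_option autoImplicit false
universe u

open TensorProduct CategoryTheory AlgebraicGeometry Limits

namespace Groth.Agent.Lib.Helper6.UO

open Groth.Agent.Lib.Helper6.Chev Groth.Agent.Lib.Helper21

/-- The closure of a point with its reduced induced structure. -/
noncomputable abbrev ptSub (W : Scheme.{u}) (y : W) : Scheme.{u} :=
  (Scheme.IdealSheafData.vanishingIdeal ⟨closure {y}, isClosed_closure⟩).subscheme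

/-- The closed immersion of the closure of a point. -/
noncomputable abbrev ptSubι (W : Scheme.{u}) (y : W) : ptSub W y ⟶ W :=
  (Scheme.IdealSheafData.vanishingIdeal ⟨closure {y}, isClosed_closure⟩).subschemeι

theorem range_ptSubι (W : Scheme.{u}) (y : W) :
    Set.range (ptSubι W y) = closure ({y} : Set W) := by
  rw [Scheme.IdealSheafData.range_subschemeι, Scheme.IdealSheafData.coe_support_vanishingIdeal]
  rfl

theorem closure_singleton_ptSub (W : Scheme.{u}) (y : W) (t : ptSub W y)
    (ht : (ptSubι W y) t = y) : closure ({t} : Set (ptSub W y)) = Set.univ := by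
  rw [(ptSubι W y).isClosedEmbedding.isEmbedding.isInducing.closure_eq_preimage_closure_image,
    Set.image_singleton, ht, ← range_ptSubι, Set.preimage_range]

instance irreducibleSpace_ptSub (W : Scheme.{u}) (y : W) : IrreducibleSpace (ptSub W y) := by
  obtain ⟨t, ht⟩ : y ∈ Set.range (ptSubι W y) := by
    rw [range_ptSubι]; exact subset_closure rfl
  have h := closure_singleton_ptSub W y t ht
  rw [irreducibleSpace_def]
  change IsIrreducible (Set.univ : Set (ptSub W y))
  rw [← h]
  exact isIrreducible_singleton.closure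

/-- **EGA IV 14.3.?**: a morphism locally of finite presentation is universally open as soon as,
for every irreducible `Y'` of finite type over `Y`, all components of `X ×_Y Y'` dominate `Y'`. -/
theorem universallyOpen_of_components_dominate {X Y : Scheme.{u}} (f : X ⟶ Y)
    [LocallyOfFinitePresentation f]
    (h : ∀ (Y' : Scheme.{u}) (g : Y' ⟶ Y) [IrreducibleSpace Y'] [LocallyOfFiniteType g]
      [QuasiCompact g], ∀ Z ∈ irreducibleComponents (↥(pullback f g) : Type u),
        Dense ((pullback.snd f g) '' Z)) :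
    UniversallyOpen f := by
  refine universallyOpen_of_isOpenMap_affineSpace f fun n hn => ?_
  apply isOpenMap_of_generalizingMap
  intro x' y'' hy''
  obtain ⟨t₀, ht₀⟩ : (pullback.snd f (𝔸(ULift.{u} (Fin n); Y) ↘ Y)) x' ∈
      Set.range (ptSubι _ y'') := by
    rw [range_ptSubι]; exact specializes_iff_mem_closure.mp hy''
  obtain ⟨t₁, ht₁⟩ : y'' ∈ Set.range (ptSubι _ y'') := by
    rw [range_ptSubι]; exact subset_closure rfl
  obtain ⟨x'', h1, h2⟩ := exists_generalization_pullback_snd f (𝔸(ULift.{u} (Fin n); Y) ↘ Y)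
    (ptSubι _ y'') (h _ (ptSubι _ y'' ≫ (𝔸(ULift.{u} (Fin n); Y) ↘ Y))) x' t₀ t₁ ht₀.symm
    (closure_singleton_ptSub _ y'' t₁ ht₁)
  exact ⟨x'', h1, h2.trans ht₁⟩

theorem lfp_of_lft_of_isLocallyNoetherian {X Y : Scheme.{u}} (g : X ⟶ Y) [LocallyOfFiniteType g]
    [IsLocallyNoetherian Y] : LocallyOfFinitePresentation g := by
  constructor
  intro U hU V hV e
  have : IsNoetherianRing Γ(Y, U) := IsLocallyNoetherian.component_noetherian ⟨U, hU⟩
  exact RingHom.FinitePresentation.of_finiteType.1 (g.finiteType_appLE hU hV e)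

/-- **EGA IV 14.5.?**: over a locally Noetherian base, a morphism locally of finite type is
universally open iff for every DVR `A` and `Spec A ⟶ Y` all components of `X ×_Y Spec A`
dominate `Spec A`. -/
theorem universallyOpen_iff_dvr {X Y : Scheme.{u}} [IsLocallyNoetherian Y] (f : X ⟶ Y)
    [LocallyOfFiniteType f] :
    UniversallyOpen f ↔
      ∀ (A : Type u) [CommRing A] [IsDomain A] [IsDiscreteValuationRing A]
        (g : Spec (CommRingCat.of A) ⟶ Y),
        ∀ Z ∈ irreducibleComponents (↥(pullback f g) : Type u),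
          Dense ((pullback.snd f g) '' Z) := by
  constructor
  · intro hf A _ _ _ g Z hZ
    have h1 : GeneralizingMap (pullback.snd f g) :=
      Groth.Agent.Lib.Helper5.generalizingMap_of_isOpenMap _ (pullback.snd f g).isOpenMap
    exact dense_image_of_generalizingMap _ h1 (genericPoint (Spec (CommRingCat.of A)))
      (genericPoint_spec _).def Z hZ
  · intro h
    refine universallyOpen_of_isOpenMap_affineSpace f fun n hn => ?_
    haveI : IsLocallyNoetherian 𝔸(ULift.{u} (Fin n); Y) :=
      LocallyOfFiniteType.isLocallyNoetherian (𝔸(ULift.{u} (Fin n); Y) ↘ Y)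
    haveI : LocallyOfFinitePresentation (pullback.snd f (𝔸(ULift.{u} (Fin n); Y) ↘ Y)) :=
      lfp_of_lft_of_isLocallyNoetherian _
    apply isOpenMap_of_generalizingMap
    intro x' y'' hy''
    by_cases hne : (pullback.snd f (𝔸(ULift.{u} (Fin n); Y) ↘ Y)) x' = y''
    · exact ⟨x', specializes_rfl, hne⟩
    obtain ⟨A, m, hA, hcl, hgen⟩ := DVRExt.exists_dvr_valuationSubring_of_specializes
      (𝟙 𝔸(ULift.{u} (Fin n); Y)) y'' _ hy'' hne
    haveI := hA
    let pt : Spec (𝔸(ULift.{u} (Fin n); Y).residueField y'') :=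
      IsLocalRing.closedPoint (𝔸(ULift.{u} (Fin n); Y).residueField y'')
    let t₁ : Spec (CommRingCat.of ↥A) := (Spec.map (CommRingCat.ofHom A.subtype)) pt
    have ht₁ : m t₁ = y'' := by
      simp only [t₁]
      rw [← Scheme.Hom.comp_apply, hgen, Category.comp_id]
      exact Scheme.fromSpecResidueField_apply _ _
    have hcl₁ : closure ({t₁} : Set (Spec (CommRingCat.of ↥A))) = Set.univ := by
      have hbot : (show PrimeSpectrum ↥A from t₁).asIdeal = ⊥ := by
        change Ideal.comap A.subtype pt.asIdeal = ⊥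
        rw [Ideal.eq_bot_of_prime pt.asIdeal]
        exact Ideal.comap_bot_of_injective _ Subtype.val_injective
      change closure ({(show PrimeSpectrum ↥A from t₁)} : Set (PrimeSpectrum ↥A)) = Set.univ
      rw [PrimeSpectrum.closure_singleton, hbot]
      simp
    obtain ⟨x'', h1, h2⟩ := exists_generalization_pullback_snd f (𝔸(ULift.{u} (Fin n); Y) ↘ Y)
      m (h ↥A (m ≫ (𝔸(ULift.{u} (Fin n); Y) ↘ Y))) x' (IsLocalRing.closedPoint ↥A) t₁ hcl.symm hcl₁
    exact ⟨x'', h1, h2.trans ht₁⟩

end Groth.Agent.Lib.Helper6.UO
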