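import Mathlib.AlgebraicGeometry.Morphisms.QuasiFinite
import Mathlib.AlgebraicGeometry.Noetherian

set_option autoImplicit false
universe u

open AlgebraicGeometry CategoryTheory

namespace Groth.Agent.Lib.Helper6

/-- In a Noetherian space, the set of isolated (open) points is finite. -/
theorem finite_setOf_isOpen_singleton (X : Type*) [TopologicalSpace X]
    [TopologicalSpace.NoetherianSpace X] : {x : X | IsOpen ({x} : Set X)}.Finite := by
  have hc : IsCompact {x : X | IsOpen ({x} : Set X)} :=
    TopologicalSpace.NoetherianSpace.isCompact _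
  obtain ⟨t, ht⟩ := hc.elim_finite_subcover (fun x : {x : X | IsOpen ({x} : Set X)} => {x.1})
    (fun x => x.2) (fun x hx => Set.mem_iUnion.mpr ⟨⟨x, hx⟩, rfl⟩)
  refine (t.finite_toSet.image Subtype.val).subset ?_
  intro x hx
  obtain ⟨i, hi⟩ := Set.mem_iUnion.mp (ht hx)
  obtain ⟨hit, hxi⟩ := Set.mem_iUnion.mp hi
  refine ⟨i, hit, ?_⟩
  exact hxi.symm

instance noetherianSpace_fiber {X S : Scheme.{u}} (f : X ⟶ S) [LocallyOfFiniteType f]
    [QuasiCompact f] (s : S) : TopologicalSpace.NoetherianSpace (f.fiber s) := by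
  have h1 : LocallyOfFiniteType (f.fiberToSpecResidueField s) :=
    MorphismProperty.pullback_snd _ _ inferInstance
  have h2 : IsLocallyNoetherian (f.fiber s) :=
    LocallyOfFiniteType.isLocallyNoetherian (f.fiberToSpecResidueField s)
  have h3 : IsNoetherian (f.fiber s) := { }
  infer_instance

theorem finite_setOf_quasiFiniteAt {X S : Scheme.{u}} (f : X ⟶ S) [LocallyOfFiniteType f]
    [QuasiCompact f] (s : S) : {x : X | f x = s ∧ f.QuasiFiniteAt x}.Finite := by
  refine ((finite_setOf_isOpen_singleton (f.fiber s)).image (f.fiberι s)).subset ?_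
  rintro x ⟨rfl, hx⟩
  exact ⟨f.asFiber x, Scheme.Hom.quasiFiniteAt_iff_isOpen_singleton_asFiber.mp hx,
    f.fiberι_asFiber x⟩

end Groth.Agent.Lib.Helper6
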