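import Mathlib.RingTheory.Jacobson.Ring
import Mathlib.FieldTheory.IsAlgClosed.Basic
import Mathlib.FieldTheory.IsAlgClosed.AlgebraicClosure
import Mathlib.LinearAlgebra.TensorProduct.Basis
import Mathlib.RingTheory.Adjoin.FGBaseChange
import Mathlib.RingTheory.Flat.Basic
import Mathlib.LinearAlgebra.Basis.VectorSpace
import Mathlib.RingTheory.Spectrum.Prime.Topology
import Mathlib.LinearAlgebra.TensorProduct.RightExactness

/-!
# Tensor products over algebraically closed fields

* `exists_algHom_ne_zero`: Nullstellensatz-type: a nonzero element of a reduced f.t. algebra over an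
  algebraically closed field is nonzero at some rational point.
* `isDomain_tensor_of_isAlgClosed`: tensor product of domains over an alg. closed field is a domain.
* `irreducibleSpace_tensor_of_isAlgClosed`: same for irreducible spectra.
* `isDomain_of_forall_finite`, `irreducibleSpace_of_forall_finite`: for `L/k` algebraic, `L ⊗ R`
  is a domain / has irreducible spectrum if this holds for all finite subextensions.
* `isDomain_of_isDomain_algClosure`, `irreducibleSpace_of_irreducibleSpace_algClosure`:
  the algebraic closure suffices as a test field.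
-/

set_option autoImplicit false

open TensorProduct

namespace Groth.Agent.Lib.Helper6

theorem exists_algHom_ne_zero {K C : Type*} [Field K] [IsAlgClosed K] [CommRing C] [Algebra K C]
    [Algebra.FiniteType K C] [IsReduced C] {c : C} (hc : c ≠ 0) :
    ∃ φ : C →ₐ[K] K, φ c ≠ 0 := by
  have hJ : IsJacobsonRing C := isJacobsonRing_of_finiteType (A := K)
  have hbot : (⊥ : Ideal C).jacobson = ⊥ := by
    apply IsJacobsonRing.out hJ
    intro x hx
    obtain ⟨n, hn⟩ := hx
    exact (IsNilpotent.eq_zero ⟨n, hn⟩ : x = 0)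
  have hc' : c ∉ (⊥ : Ideal C).jacobson := by
    rw [hbot]; exact hc
  rw [Ideal.jacobson, Submodule.mem_sInf] at hc'
  push Not at hc'
  obtain ⟨m, ⟨-, hm⟩, hcm⟩ := hc'
  let _ : Field (C ⧸ m) := Ideal.Quotient.field m
  have hfin : Module.Finite K (C ⧸ m) := finite_of_finite_type_of_isJacobsonRing K (C ⧸ m)
  have hint : Algebra.IsIntegral K (C ⧸ m) := inferInstance
  have hbij : Function.Bijective (algebraMap K (C ⧸ m)) :=
    IsAlgClosed.algebraMap_bijective_of_isIntegral
  let e : K ≃ₐ[K] (C ⧸ m) := AlgEquiv.ofBijective (Algebra.ofId K (C ⧸ m)) hbij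
  refine ⟨e.symm.toAlgHom.comp (Ideal.Quotient.mkₐ K m), ?_⟩
  intro h
  apply hcm
  rw [← Ideal.Quotient.eq_zero_iff_mem]
  have : e.symm (Ideal.Quotient.mk m c) = 0 := h
  simpa using this

end Groth.Agent.Lib.Helper6

namespace Groth.Agent.Lib.Helper6

section
variable {K B C : Type*} [Field K] [CommRing B] [CommRing C] [Algebra K B] [Algebra K C]

/-- evaluation `B ⊗ C → B` induced by a point `φ : C → K`. -/
noncomputable def evalRight (φ : C →ₐ[K] K) : B ⊗[K] C →ₐ[K] B :=
  Algebra.TensorProduct.lift (AlgHom.id K B) ((Algebra.ofId K B).comp φ) (fun _ _ => Commute.all _ _)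

theorem evalRight_tmul (φ : C →ₐ[K] K) (b : B) (c : C) :
    evalRight (B := B) φ (b ⊗ₜ c) = φ c • b := by
  simp [evalRight, Algebra.smul_def, mul_comm]

theorem repr_evalRight {ι : Type*} [DecidableEq ι] (ℬ : Module.Basis ι K B) (φ : C →ₐ[K] K)
    (x : B ⊗[K] C) (i : ι) :
    ℬ.repr (evalRight (B := B) φ x) i = φ (TensorProduct.equivFinsuppOfBasisLeft ℬ x i) := by
  induction x with
  | zero => simp
  | tmul b c =>
    rw [evalRight_tmul, TensorProduct.equivFinsuppOfBasisLeft_apply_tmul_apply]
    simp [mul_comm]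
  | add x y hx hy => simp [hx, hy]

theorem eq_zero_or_eq_zero_of_finiteType [IsAlgClosed K] [IsDomain B] [IsDomain C]
    [Algebra.FiniteType K C] {x y : B ⊗[K] C} (hxy : x * y = 0) : x = 0 ∨ y = 0 := by
  classical
  by_contra hcon
  push Not at hcon
  obtain ⟨hx, hy⟩ := hcon
  let ℬ := Module.Free.chooseBasis K B
  have hx' : TensorProduct.equivFinsuppOfBasisLeft ℬ x ≠ 0 := by
    simpa using hx
  have hy' : TensorProduct.equivFinsuppOfBasisLeft ℬ y ≠ 0 := by
    simpa using hy
  obtain ⟨i, hi⟩ := Finsupp.ne_iff.mp hx'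
  obtain ⟨j, hj⟩ := Finsupp.ne_iff.mp hy'
  simp only [Finsupp.coe_zero, Pi.zero_apply] at hi hj
  obtain ⟨φ, hφ⟩ := exists_algHom_ne_zero (K := K) (mul_ne_zero hi hj)
  rw [map_mul] at hφ
  have h0 : evalRight (B := B) φ x * evalRight (B := B) φ y = 0 := by
    rw [← map_mul, hxy, map_zero]
  rcases mul_eq_zero.mp h0 with h | h
  · have := repr_evalRight ℬ φ x i
    rw [h] at this
    simp only [map_zero, Finsupp.coe_zero, Pi.zero_apply] at this
    exact hφ (by rw [← this, zero_mul])
  · have := repr_evalRight ℬ φ y j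
    rw [h] at this
    simp only [map_zero, Finsupp.coe_zero, Pi.zero_apply] at this
    exact hφ (by rw [← this, mul_zero])

end

end Groth.Agent.Lib.Helper6

namespace Groth.Agent.Lib.Helper6

section
variable {K A B : Type*} [Field K] [CommRing A] [CommRing B] [Algebra K A] [Algebra K B]

theorem baseChange_mono {C₁ C₂ : Subalgebra K A} (h : C₁ ≤ C₂) :
    C₁.baseChange B ≤ C₂.baseChange B := by
  rintro _ ⟨z, rfl⟩
  refine ⟨Algebra.TensorProduct.map (AlgHom.id B B) (Subalgebra.inclusion h) z, ?_⟩
  induction z with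
  | zero => simp
  | tmul b c => rfl
  | add x y hx hy => simp only [map_add] at hx ⊢; rw [hx, hy]

theorem exists_fg_and_mem_baseChange₂ (x y : B ⊗[K] A) :
    ∃ C : Subalgebra K A, C.FG ∧ x ∈ C.baseChange B ∧ y ∈ C.baseChange B := by
  obtain ⟨C₁, h₁, hx⟩ := exists_fg_and_mem_baseChange x
  obtain ⟨C₂, h₂, hy⟩ := exists_fg_and_mem_baseChange y
  exact ⟨C₁ ⊔ C₂, h₁.sup h₂, baseChange_mono le_sup_left hx, baseChange_mono le_sup_right hy⟩

theorem map_val_injective (C : Subalgebra K A) :
    Function.Injective (Algebra.TensorProduct.map (AlgHom.id B B) C.val) :=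
  Module.Flat.lTensor_preserves_injective_linearMap _ Subtype.val_injective

/-- Over an algebraically closed field, the tensor product of two domains is a domain. -/
theorem isDomain_tensor_of_isAlgClosed [IsAlgClosed K] [IsDomain A] [IsDomain B] :
    IsDomain (B ⊗[K] A) := by
  have hnt : Nontrivial (B ⊗[K] A) :=
    (Algebra.TensorProduct.includeLeft_injective (R := K) (S := K) (A := B) (B := A)
      (algebraMap K A).injective).nontrivial
  have : NoZeroDivisors (B ⊗[K] A) := by
    constructor
    intro x y hxy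
    obtain ⟨C, hC, ⟨x', rfl⟩, ⟨y', rfl⟩⟩ := exists_fg_and_mem_baseChange₂ x y
    have : Algebra.FiniteType K C := ⟨(Subalgebra.fg_top C).mpr hC⟩
    have hinj := map_val_injective (B := B) C
    have h0 : x' * y' = 0 := by
      apply hinj
      rw [map_mul, map_zero]
      exact hxy
    rcases eq_zero_or_eq_zero_of_finiteType h0 with h | h
    · left; rw [h, map_zero]
    · right; rw [h, map_zero]
  exact NoZeroDivisors.to_isDomain _

end

end Groth.Agent.Lib.Helper6

namespace Groth.Agent.Lib.Helper6

section
variable {K A B : Type*} [Field K] [CommRing A] [CommRing B] [Algebra K A] [Algebra K B]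

/-- If `g : X → Y` is a surjective ring hom onto a domain with nil kernel, `Spec X` is
irreducible. -/
theorem irreducibleSpace_of_surjective_of_ker_le_nilradical {X Y : Type*} [CommRing X] [CommRing Y]
    [IsDomain Y] (g : X →+* Y) (hker : RingHom.ker g ≤ nilradical X) :
    IrreducibleSpace (PrimeSpectrum X) := by
  rw [PrimeSpectrum.irreducibleSpace_iff_isPrime_nilradical]
  have : nilradical X = RingHom.ker g := by
    apply le_antisymm _ hker
    intro x hx
    rw [RingHom.mem_ker]
    exact (IsNilpotent.map (mem_nilradical.mp hx) g).eq_zero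
  rw [this]
  exact RingHom.ker_isPrime g

/-- Over an algebraically closed field, the tensor product of two algebras with irreducible
spectra has irreducible spectrum. -/
theorem irreducibleSpace_tensor_of_isAlgClosed [IsAlgClosed K]
    [hA : IrreducibleSpace (PrimeSpectrum A)] [hB : IrreducibleSpace (PrimeSpectrum B)] :
    IrreducibleSpace (PrimeSpectrum (B ⊗[K] A)) := by
  rw [PrimeSpectrum.irreducibleSpace_iff_isPrime_nilradical] at hA hB
  have : IsDomain (A ⧸ nilradical A) := (Ideal.Quotient.isDomain_iff_prime _).mpr hA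
  have : IsDomain (B ⧸ nilradical B) := (Ideal.Quotient.isDomain_iff_prime _).mpr hB
  have : IsDomain ((B ⧸ nilradical B) ⊗[K] (A ⧸ nilradical A)) := isDomain_tensor_of_isAlgClosed
  let g := Algebra.TensorProduct.map (Ideal.Quotient.mkₐ K (nilradical B))
    (Ideal.Quotient.mkₐ K (nilradical A))
  apply irreducibleSpace_of_surjective_of_ker_le_nilradical g.toRingHom
  have hker := Algebra.TensorProduct.map_ker (Ideal.Quotient.mkₐ K (nilradical B))
    (Ideal.Quotient.mkₐ K (nilradical A)) (Ideal.Quotient.mkₐ_surjective K _)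
    (Ideal.Quotient.mkₐ_surjective K _)
  change RingHom.ker g ≤ _
  rw [hker, sup_le_iff, Ideal.map_le_iff_le_comap, Ideal.map_le_iff_le_comap]
  constructor
  · intro x hx
    have hx' : x ∈ nilradical _ := by
      rw [RingHom.mem_ker, Ideal.Quotient.mkₐ_eq_mk, Ideal.Quotient.eq_zero_iff_mem] at hx
      exact hx
    exact mem_nilradical.mpr (IsNilpotent.map (mem_nilradical.mp hx') _)
  · intro x hx
    have hx' : x ∈ nilradical _ := by
      rw [RingHom.mem_ker, Ideal.Quotient.mkₐ_eq_mk, Ideal.Quotient.eq_zero_iff_mem] at hx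
      exact hx
    exact mem_nilradical.mpr (IsNilpotent.map (mem_nilradical.mp hx') _)

end

end Groth.Agent.Lib.Helper6

namespace Groth.Agent.Lib.Helper6

section
variable {k L R : Type*} [Field k] [Field L] [Algebra k L] [CommRing R] [Algebra k R]

theorem map_intermediateField_val_injective (F : IntermediateField k L) :
    Function.Injective (Algebra.TensorProduct.map F.val (AlgHom.id k R)) :=
  Module.Flat.rTensor_preserves_injective_linearMap (M := R) F.val.toLinearMap
    Subtype.val_injective

theorem exists_finite_intermediateField [Algebra.IsAlgebraic k L] (a b : L ⊗[k] R) :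
    ∃ F : IntermediateField k L, FiniteDimensional k F ∧
      a ∈ (Algebra.TensorProduct.map F.val (AlgHom.id k R)).range ∧
      b ∈ (Algebra.TensorProduct.map F.val (AlgHom.id k R)).range := by
  classical
  obtain ⟨Sa, hSa⟩ := TensorProduct.exists_finset a
  obtain ⟨Sb, hSb⟩ := TensorProduct.exists_finset b
  let T : Finset L := (Sa ∪ Sb).image Prod.fst
  let F : IntermediateField k L := IntermediateField.adjoin k (T : Set L)
  have hfin : FiniteDimensional k F :=
    IntermediateField.finiteDimensional_adjoin (fun x _ => Algebra.IsIntegral.isIntegral x)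
  have hmem : ∀ i ∈ Sa ∪ Sb, i.1 ⊗ₜ[k] i.2 ∈
      (Algebra.TensorProduct.map F.val (AlgHom.id k R)).range := by
    intro i hi
    have hiF : i.1 ∈ F := IntermediateField.subset_adjoin k _
      (Finset.mem_coe.mpr (Finset.mem_image_of_mem Prod.fst hi))
    exact ⟨(⟨i.1, hiF⟩ : F) ⊗ₜ[k] i.2, rfl⟩
  refine ⟨F, hfin, ?_, ?_⟩
  · rw [hSa]
    exact Subalgebra.sum_mem _ fun i hi => hmem i (Finset.mem_union_left _ hi)
  · rw [hSb]
    exact Subalgebra.sum_mem _ fun i hi => hmem i (Finset.mem_union_right _ hi)

theorem isDomain_of_forall_finite [Algebra.IsAlgebraic k L]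
    (h : ∀ F : IntermediateField k L, FiniteDimensional k F → IsDomain (F ⊗[k] R)) :
    IsDomain (L ⊗[k] R) := by
  have hnt : Nontrivial (L ⊗[k] R) := by
    have := h ⊥ inferInstance
    exact (map_intermediateField_val_injective (R := R) (⊥ : IntermediateField k L)).nontrivial
  have : NoZeroDivisors (L ⊗[k] R) := by
    constructor
    intro x y hxy
    obtain ⟨F, hF, hx, hy⟩ := exists_finite_intermediateField x y
    obtain ⟨x', rfl⟩ := (AlgHom.mem_range _).mp hx
    obtain ⟨y', rfl⟩ := (AlgHom.mem_range _).mp hy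
    have := h F hF
    have hinj := map_intermediateField_val_injective (R := R) F
    have h0 : x' * y' = 0 := by
      apply hinj
      rw [map_mul, map_zero]
      exact hxy
    rcases mul_eq_zero.mp h0 with h | h
    · left; rw [h, map_zero]
    · right; rw [h, map_zero]
  exact NoZeroDivisors.to_isDomain _

theorem irreducibleSpace_of_forall_finite [Algebra.IsAlgebraic k L]
    (h : ∀ F : IntermediateField k L, FiniteDimensional k F →
      IrreducibleSpace (PrimeSpectrum (F ⊗[k] R))) :
    IrreducibleSpace (PrimeSpectrum (L ⊗[k] R)) := by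
  rw [PrimeSpectrum.irreducibleSpace_iff_isPrime_nilradical]
  have hnt : Nontrivial (L ⊗[k] R) := by
    have := h ⊥ inferInstance
    have : Nontrivial ((⊥ : IntermediateField k L) ⊗[k] R) := by
      by_contra hcon
      rw [not_nontrivial_iff_subsingleton] at hcon
      exact (not_isEmpty_of_nonempty (PrimeSpectrum ((⊥ : IntermediateField k L) ⊗[k] R)))
        inferInstance
    exact (map_intermediateField_val_injective (R := R) (⊥ : IntermediateField k L)).nontrivial
  refine ⟨?_, ?_⟩
  · rw [Ne, Ideal.eq_top_iff_one, mem_nilradical]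
    exact not_isNilpotent_one
  · intro x y hxy
    obtain ⟨F, hF, hx, hy⟩ := exists_finite_intermediateField x y
    obtain ⟨x', rfl⟩ := (AlgHom.mem_range _).mp hx
    obtain ⟨y', rfl⟩ := (AlgHom.mem_range _).mp hy
    have hF' := h F hF
    rw [PrimeSpectrum.irreducibleSpace_iff_isPrime_nilradical] at hF'
    have hinj := map_intermediateField_val_injective (R := R) F
    rw [mem_nilradical, ← map_mul, IsNilpotent.map_iff hinj, ← mem_nilradical] at hxy
    rcases hF'.mem_or_mem hxy with h | h
    · left; exact mem_nilradical.mpr ((mem_nilradical.mp h).map _)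
    · right; exact mem_nilradical.mpr ((mem_nilradical.mp h).map _)

end

end Groth.Agent.Lib.Helper6

namespace Groth.Agent.Lib.Helper6

theorem irreducibleSpace_of_injective {X Y : Type*} [CommRing X] [CommRing Y] (φ : X →+* Y)
    (hφ : Function.Injective φ) [hY : IrreducibleSpace (PrimeSpectrum Y)] :
    IrreducibleSpace (PrimeSpectrum X) := by
  rw [PrimeSpectrum.irreducibleSpace_iff_isPrime_nilradical] at hY ⊢
  have : nilradical X = (nilradical Y).comap φ := by
    ext x
    rw [Ideal.mem_comap, mem_nilradical, mem_nilradical, IsNilpotent.map_iff hφ]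
  rw [this]
  exact Ideal.comap_isPrime φ _

section
universe u v
variable {k : Type u} {Kbar : Type v} {R : Type u} [Field k] [Field Kbar] [Algebra k Kbar]
  [IsAlgClosed Kbar] [Algebra.IsAlgebraic k Kbar] [CommRing R] [Algebra k R]

theorem map_algebraMap_injective (k' Ω : Type*) [Field k'] [Field Ω] [Algebra k k'] [Algebra k Ω]
    [Algebra k' Ω] [IsScalarTower k k' Ω] :
    Function.Injective (Algebra.TensorProduct.map (IsScalarTower.toAlgHom k k' Ω)
      (AlgHom.id k R)) :=
  Module.Flat.rTensor_preserves_injective_linearMap (M := R)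
    (IsScalarTower.toAlgHom k k' Ω).toLinearMap (IsScalarTower.toAlgHom k k' Ω).injective

/-- If `Kbar ⊗[k] R` is a domain for an algebraic closure `Kbar` of `k`, then `k' ⊗[k] R` is a
domain for all field extensions `k'/k`. -/
theorem isDomain_of_isDomain_algClosure (h : IsDomain (Kbar ⊗[k] R))
    (k' : Type u) [Field k'] [Algebra k k'] : IsDomain (k' ⊗[k] R) := by
  let Ω := AlgebraicClosure k'
  let f : Kbar →ₐ[k] Ω := IsAlgClosed.lift
  let _ : Algebra Kbar Ω := f.toRingHom.toAlgebra
  have : IsScalarTower k Kbar Ω := IsScalarTower.of_algHom f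
  have h1 : IsDomain (Ω ⊗[Kbar] (Kbar ⊗[k] R)) := isDomain_tensor_of_isAlgClosed
  let e := Algebra.TensorProduct.cancelBaseChange k Kbar Ω Ω R
  have h2 : IsDomain (Ω ⊗[k] R) := e.toMulEquiv.isDomain_iff.mp h1
  exact (map_algebraMap_injective (R := R) k' Ω).isDomain _

/-- If `Spec (Kbar ⊗[k] R)` is irreducible for an algebraic closure `Kbar` of `k`, then
`Spec (k' ⊗[k] R)` is irreducible for all field extensions `k'/k`. -/
theorem irreducibleSpace_of_irreducibleSpace_algClosure
    (h : IrreducibleSpace (PrimeSpectrum (Kbar ⊗[k] R)))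
    (k' : Type u) [Field k'] [Algebra k k'] : IrreducibleSpace (PrimeSpectrum (k' ⊗[k] R)) := by
  let Ω := AlgebraicClosure k'
  let f : Kbar →ₐ[k] Ω := IsAlgClosed.lift
  let _ : Algebra Kbar Ω := f.toRingHom.toAlgebra
  have : IsScalarTower k Kbar Ω := IsScalarTower.of_algHom f
  have h1 : IrreducibleSpace (PrimeSpectrum (Ω ⊗[Kbar] (Kbar ⊗[k] R))) :=
    irreducibleSpace_tensor_of_isAlgClosed
  let e := Algebra.TensorProduct.cancelBaseChange k Kbar Ω Ω R
  have h2 : IrreducibleSpace (PrimeSpectrum (Ω ⊗[k] R)) :=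
    (PrimeSpectrum.homeomorphOfRingEquiv e.toRingEquiv).irreducibleSpace_iff.mp h1
  exact irreducibleSpace_of_injective _ (map_algebraMap_injective (R := R) k' Ω)

end

end Groth.Agent.Lib.Helper6
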