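import Groth.Agent.Lib.Helper6.FTPointsMap

set_option autoImplicit false
universe u

open AlgebraicGeometry CategoryTheory

namespace Groth.Agent.Lib.Helper6

theorem isIso_fromSpecResidueField_of_field (k : Type u) [Field k] (z : Spec (CommRingCat.of k)) :
    IsIso ((Spec (CommRingCat.of k)).fromSpecResidueField z) := by
  rw [← Scheme.Spec.map_residueFieldIso_inv_eq_fromSpecResidueField]
  have h2 : IsIso (CommRingCat.ofHom (algebraMap k z.asIdeal.ResidueField)) := by
    have hb : Function.Bijective (algebraMap k z.asIdeal.ResidueField) :=
      (Ideal.algEquivResidueFieldOfField z.asIdeal).bijective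
    exact (ConcreteCategory.isIso_iff_bijective _).mpr hb
  infer_instance

theorem locallyOfFiniteType_from_field_iff (S : Scheme.{u}) (k : Type u) [Field k]
    (f : Spec (CommRingCat.of k) ⟶ S) (z : Spec (CommRingCat.of k)) :
    LocallyOfFiniteType f ↔
      LocallyOfFiniteType (S.fromSpecResidueField (f z)) ∧ (f.residueFieldMap z).hom.Finite := by
  have hiso := isIso_fromSpecResidueField_of_field k z
  have h1 := Scheme.Hom.SpecMap_residueFieldMap_fromSpecResidueField f z
  constructor
  · intro hf
    have hft := ftPoint_of_locallyOfFiniteType_field f z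
    refine ⟨hft, ?_⟩
    have h3 : LocallyOfFiniteType
        (Spec.map (f.residueFieldMap z) ≫ S.fromSpecResidueField (f z)) := by
      rw [h1]; infer_instance
    have h4 : LocallyOfFiniteType (Spec.map (f.residueFieldMap z)) :=
      locallyOfFiniteType_of_comp _ (S.fromSpecResidueField (f z))
    have h5 : (f.residueFieldMap z).hom.FiniteType :=
      (HasRingHomProperty.Spec_iff (P := @LocallyOfFiniteType)).mp h4
    exact RingHom.finite_iff_finiteType_of_isJacobsonRing.mpr h5
  · rintro ⟨hft, hfin⟩
    have h5 : (f.residueFieldMap z).hom.FiniteType := hfin.finiteType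
    have h4 : LocallyOfFiniteType (Spec.map (f.residueFieldMap z)) :=
      (HasRingHomProperty.Spec_iff (P := @LocallyOfFiniteType)).mpr h5
    have h3 : LocallyOfFiniteType
        (Spec.map (f.residueFieldMap z) ≫ S.fromSpecResidueField (f z)) := inferInstance
    rw [h1] at h3
    have : f = inv ((Spec (CommRingCat.of k)).fromSpecResidueField z) ≫
        ((Spec (CommRingCat.of k)).fromSpecResidueField z ≫ f) := by simp
    rw [this]
    infer_instance

end Groth.Agent.Lib.Helper6
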