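import Groth.Prelude.Def_W4stkschemesremainderFib
import Groth.Agent.S0082
import Groth.Agent.Lib.Helper6.FTPointsField

set_option autoImplicit false
universe u

open CategoryTheory AlgebraicGeometry Limits TensorProduct

namespace Groth.Agent.Lib.Helper6.BddFibLib

/-- Ring-level: `R` is a finite `K`-module (through `φ`) of rank at most `n`. -/
def FinDeg {K R : Type u} [CommRing K] [CommRing R] (φ : K →+* R) (n : ℕ) : Prop :=
  letI : Algebra K R := φ.toAlgebra
  Module.Finite K R ∧ Module.finrank K R ≤ n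

theorem finiteOfDegLE_iff (K : CommRingCat.{u}) {T : Scheme.{u}} (p : T ⟶ Spec K) (n : ℕ) :
    BddFib.FiniteOfDegLE K p n ↔
      IsAffine T ∧ FinDeg ((Scheme.ΓSpecIso K).inv ≫ p.appTop).hom n :=
  Iff.rfl

theorem FinDeg.of_ringEquiv {K R S : Type u} [CommRing K] [CommRing R] [CommRing S]
    {φ : K →+* R} {ψ : K →+* S} (e : R ≃+* S) (h : e.toRingHom.comp φ = ψ) {n : ℕ}
    (hφ : FinDeg φ n) : FinDeg ψ n := by
  let _ : Algebra K R := φ.toAlgebra
  let _ : Algebra K S := ψ.toAlgebra
  let e' : R ≃ₗ[K] S :=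
    { e with
      map_smul' := by
        intro k r
        simp only [Algebra.smul_def, RingHom.id_apply]
        change e (φ k * r) = ψ k * e r
        rw [map_mul, ← h]
        rfl }
  obtain ⟨h1, h2⟩ := hφ
  exact ⟨Module.Finite.equiv e', by rw [← e'.finrank_eq]; exact h2⟩

theorem finDeg_iff_of_ringEquiv {K R S : Type u} [CommRing K] [CommRing R] [CommRing S]
    {φ : K →+* R} {ψ : K →+* S} (e : R ≃+* S) (h : e.toRingHom.comp φ = ψ) {n : ℕ} :
    FinDeg φ n ↔ FinDeg ψ n := by
  refine ⟨FinDeg.of_ringEquiv e h, FinDeg.of_ringEquiv e.symm ?_⟩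
  rw [← h]
  ext k
  simp

theorem FinDeg.of_iso {K R S : CommRingCat.{u}} {φ : K ⟶ R} {ψ : K ⟶ S} (e : R ≅ S)
    (h : φ ≫ e.hom = ψ) {n : ℕ} (hφ : FinDeg φ.hom n) : FinDeg ψ.hom n := by
  refine FinDeg.of_ringEquiv e.commRingCatIsoToRingEquiv ?_ hφ
  ext k
  exact congrArg (fun f => f.hom k) h

/-- `FiniteOfDegLE` for `Spec` of a ring map. -/
theorem finiteOfDegLE_SpecMap_iff {K R : CommRingCat.{u}} (φ : K ⟶ R) (n : ℕ) :
    BddFib.FiniteOfDegLE K (Spec.map φ) n ↔ FinDeg φ.hom n := by
  rw [finiteOfDegLE_iff]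
  have hnat := Scheme.ΓSpecIso_inv_naturality φ
  constructor
  · rintro ⟨-, h⟩
    refine FinDeg.of_iso (Scheme.ΓSpecIso R) ?_ h
    rw [← hnat, Category.assoc, Iso.inv_hom_id, Category.comp_id]
  · intro h
    refine ⟨inferInstance, ?_⟩
    exact FinDeg.of_iso (Scheme.ΓSpecIso R).symm hnat h

/-- Isomorphism invariance of `FiniteOfDegLE`. -/
theorem finiteOfDegLE_of_iso (K : CommRingCat.{u}) {T T' : Scheme.{u}} (p : T ⟶ Spec K)
    (p' : T' ⟶ Spec K) (e : T ⟶ T') [IsIso e] (he : e ≫ p' = p) (n : ℕ)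
    (h : BddFib.FiniteOfDegLE K p n) : BddFib.FiniteOfDegLE K p' n := by
  rw [finiteOfDegLE_iff] at h ⊢
  obtain ⟨h1, h2⟩ := h
  refine ⟨.of_isIso (inv e), ?_⟩
  have : IsIso e.appTop := inferInstanceAs (IsIso (e.app ⊤))
  refine FinDeg.of_iso (asIso e.appTop).symm ?_ h2
  rw [← he]
  simp only [Iso.symm_hom, asIso_inv, Category.assoc]
  have : (e ≫ p').appTop = p'.appTop ≫ e.appTop := by simp [Scheme.Hom.appTop]
  rw [this, Category.assoc, IsIso.hom_inv_id, Category.comp_id]

theorem finiteOfDegLE_iff_of_iso (K : CommRingCat.{u}) {T T' : Scheme.{u}} (p : T ⟶ Spec K)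
    (p' : T' ⟶ Spec K) (e : T ⟶ T') [IsIso e] (he : e ≫ p' = p) (n : ℕ) :
    BddFib.FiniteOfDegLE K p n ↔ BddFib.FiniteOfDegLE K p' n := by
  refine ⟨finiteOfDegLE_of_iso K p p' e he n, finiteOfDegLE_of_iso K p' p (inv e) ?_ n⟩
  rw [← he]; simp

section RingBaseChange

theorem finDeg_algebraMap_iff {K R : Type u} [CommRing K] [CommRing R] [inst : Algebra K R]
    (n : ℕ) : FinDeg (algebraMap K R) n ↔ Module.Finite K R ∧ Module.finrank K R ≤ n := by
  have h : (algebraMap K R).toAlgebra = inst := Algebra.algebra_ext _ _ (fun r => rfl)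
  unfold FinDeg
  rw [h]

theorem finDeg_baseChange_iff {K K' R : Type u} [Field K] [Field K'] [CommRing R]
    [Algebra K K'] [Algebra K R] (n : ℕ) :
    FinDeg (algebraMap K R) n ↔ FinDeg (algebraMap K' (K' ⊗[K] R)) n := by
  rw [finDeg_algebraMap_iff, finDeg_algebraMap_iff]
  have hfin : Module.Finite K R ↔ Module.Finite K' (K' ⊗[K] R) := by
    constructor
    · intro h; infer_instance
    · intro h
      have h1 := (Module.rank_lt_aleph0_iff (R := K') (M := K' ⊗[K] R)).mpr h
      rw [Module.rank_baseChange, Cardinal.lift_id] at h1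
      exact (Module.rank_lt_aleph0_iff (R := K) (M := R)).mp h1
  rw [hfin, Module.finrank_baseChange]

end RingBaseChange

section SchemeBaseChange

variable {K K' : CommRingCat.{u}}

theorem fpqc_SpecMap_of_isField (hK : IsField K) (hK' : IsField K') (ι : K ⟶ K') :
    (@Surjective ⊓ @Flat ⊓ @QuasiCompact : MorphismProperty Scheme.{u}) (Spec.map ι) := by
  let _ := hK.toField
  let _ := hK'.toField
  have hff : ι.hom.FaithfullyFlat := by
    let _ : Algebra K K' := ι.hom.toAlgebra
    change Module.FaithfullyFlat K K'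
    infer_instance
  obtain ⟨h1, h2⟩ := (flat_and_surjective_SpecMap_iff ι).mpr hff
  exact ⟨⟨h2, h1⟩, inferInstance⟩

/-- A morphism from an affine scheme to `Spec K` factors through `Spec` of global sections. -/
theorem eq_isoSpec_hom_comp {T : Scheme.{u}} [IsAffine T] (p : T ⟶ Spec K) :
    p = T.isoSpec.hom ≫ Spec.map ((Scheme.ΓSpecIso K).inv ≫ p.appTop) := by
  rw [Spec.map_comp, ← Category.assoc, Scheme.isoSpec_hom_naturality, Category.assoc,
    Scheme.isoSpec_Spec_hom, ← Spec.map_comp, Iso.inv_hom_id, Spec.map_id, Category.comp_id]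

/-- Base change along a field extension: affine case, ring-level statement. -/
theorem finiteOfDegLE_baseChange_iff_of_isAffine (hK : IsField K) (hK' : IsField K')
    {T T' : Scheme.{u}} [IsAffine T]
    (p : T ⟶ Spec K) (q : Spec K' ⟶ Spec K) (p' : T' ⟶ Spec K') (a : T' ⟶ T)
    (h : IsPullback p' a q p) (n : ℕ) :
    BddFib.FiniteOfDegLE K p n ↔ BddFib.FiniteOfDegLE K' p' n := by
  let _ := hK.toField
  let _ := hK'.toField
  set R : CommRingCat.{u} := Γ(T, ⊤) with hR
  set ψ : K ⟶ R := (Scheme.ΓSpecIso K).inv ≫ p.appTop with hψ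
  set ι : K ⟶ K' := Spec.preimage q with hι
  have hq : Spec.map ι = q := Spec.map_preimage q
  have hp : p = T.isoSpec.hom ≫ Spec.map ψ := eq_isoSpec_hom_comp p
  let _ : Algebra K K' := ι.hom.toAlgebra
  let _ : Algebra K R := ψ.hom.toAlgebra
  -- new pullback square with `Spec R` in place of `T`
  have h' : IsPullback p' (a ≫ T.isoSpec.hom) (Spec.map (CommRingCat.ofHom (algebraMap K K')))
      (Spec.map (CommRingCat.ofHom (algebraMap K R))) := by
    have e1 : Spec.map (CommRingCat.ofHom (algebraMap K K')) = q := hq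
    have e2 : Spec.map (CommRingCat.ofHom (algebraMap K R)) = Spec.map ψ := rfl
    rw [e1, e2]
    refine IsPullback.of_iso h (Iso.refl _) (Iso.refl _) T.isoSpec (Iso.refl _) ?_ ?_ ?_ ?_
    · simp
    · simp
    · simp
    · simp [hp]
  let e : T' ≅ Spec (CommRingCat.of (K' ⊗[K] R)) := h'.isoPullback ≪≫ pullbackSpecIso K K' R
  have he : e.hom ≫ Spec.map (CommRingCat.ofHom (algebraMap K' (K' ⊗[K] R))) = p' := by
    simp only [e, Iso.trans_hom, Category.assoc, pullbackSpecIso_hom_fst']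
    exact h'.isoPullback_hom_fst
  have i1 := finiteOfDegLE_iff_of_iso K' p'
    (Spec.map (CommRingCat.ofHom (algebraMap K' (K' ⊗[K] R)))) e.hom he n
  have i2 := finiteOfDegLE_SpecMap_iff (CommRingCat.ofHom (algebraMap K' (K' ⊗[K] R))) n
  have i3 := finiteOfDegLE_iff_of_iso K p (Spec.map ψ) T.isoSpec.hom hp.symm n
  have i4 := finiteOfDegLE_SpecMap_iff ψ n
  have i5 := finDeg_baseChange_iff (K := K) (K' := K') (R := R) n
  exact i3.trans (i4.trans (i5.trans (i2.symm.trans i1.symm)))

/-- Base change along a field extension. -/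
theorem finiteOfDegLE_baseChange_iff (hK : IsField K) (hK' : IsField K')
    {T T' : Scheme.{u}}
    (p : T ⟶ Spec K) (q : Spec K' ⟶ Spec K) (p' : T' ⟶ Spec K') (a : T' ⟶ T)
    (h : IsPullback p' a q p) (n : ℕ) :
    BddFib.FiniteOfDegLE K p n ↔ BddFib.FiniteOfDegLE K' p' n := by
  constructor
  · intro h1
    have : IsAffine T := h1.1
    exact (finiteOfDegLE_baseChange_iff_of_isAffine hK hK' p q p' a h n).mp h1
  · intro h1
    have hT' : IsAffine T' := h1.1
    have hp' : IsAffineHom p' := inferInstance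
    have hq : (@Surjective ⊓ @Flat ⊓ @QuasiCompact : MorphismProperty Scheme.{u}) q := by
      rw [← Spec.map_preimage q]
      exact fpqc_SpecMap_of_isField hK hK' _
    have hdesc := Groth.Agent.S0082.result.{u}
    have hp : IsAffineHom p :=
      MorphismProperty.of_isPullback_of_descendsAlong (P := @IsAffineHom) h hq hp'
    have : IsAffine T := isAffine_of_isAffineHom p
    exact (finiteOfDegLE_baseChange_iff_of_isAffine hK hK' p q p' a h n).mpr h1

end SchemeBaseChange

end Groth.Agent.Lib.Helper6.BddFibLib
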