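import Groth.Agent.Lib.Helper6.BddFibFlat
import Groth.Agent.S7433
import Groth.Agent.S7437

set_option autoImplicit false
universe u

open CategoryTheory AlgebraicGeometry Limits TensorProduct

namespace Groth.Agent.Lib.Helper6.BddFibLib

section Algebra

variable {S M : Type*} [CommRing S] [AddCommGroup M] [Module S M]

theorem sup_smul_mul (N : Submodule S M) (I J : Ideal S)
    (hI : N ⊔ I • (⊤ : Submodule S M) = ⊤) (hJ : N ⊔ J • (⊤ : Submodule S M) = ⊤) :
    N ⊔ (I * J) • (⊤ : Submodule S M) = ⊤ := by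
  rw [eq_top_iff]
  calc (⊤ : Submodule S M) = N ⊔ I • (⊤ : Submodule S M) := hI.symm
    _ = N ⊔ I • (N ⊔ J • (⊤ : Submodule S M)) := by rw [hJ]
    _ ≤ N ⊔ (I * J) • (⊤ : Submodule S M) := by
      rw [Submodule.smul_sup, ← sup_assoc, mul_smul]
      refine sup_le_sup_right ?_ _
      exact sup_le le_rfl Submodule.smul_le_right

theorem sup_smul_pow (N : Submodule S M) (I : Ideal S)
    (hI : N ⊔ I • (⊤ : Submodule S M) = ⊤) (k : ℕ) :
    N ⊔ (I ^ k) • (⊤ : Submodule S M) = ⊤ := by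
  induction k with
  | zero => simp
  | succ k ih => rw [pow_succ]; exact sup_smul_mul N _ _ ih hI

theorem sup_smul_prod {ι : Type*} (N : Submodule S M) (I : ι → Ideal S) (s : Finset ι)
    (hI : ∀ i ∈ s, N ⊔ I i • (⊤ : Submodule S M) = ⊤) :
    N ⊔ (∏ i ∈ s, I i) • (⊤ : Submodule S M) = ⊤ := by
  classical
  induction s using Finset.induction_on with
  | empty => simp
  | insert a s ha ih =>
    rw [Finset.prod_insert ha]
    exact sup_smul_mul N _ _ (hI a (Finset.mem_insert_self a s))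
      (ih fun i hi => hI i (Finset.mem_insert_of_mem hi))

/-- If `N + 𝔮 M = M` for every maximal ideal of an artinian ring then `N = M`. -/
theorem eq_top_of_forall_sup_smul [IsArtinianRing S] (N : Submodule S M)
    (h1 : ∀ q : MaximalSpectrum S, N ⊔ q.asIdeal • (⊤ : Submodule S M) = ⊤) : N = ⊤ := by
  classical
  have hfin : Finite (MaximalSpectrum S) := inferInstance
  cases nonempty_fintype (MaximalSpectrum S)
  have h2 := sup_smul_prod N (fun q : MaximalSpectrum S => q.asIdeal) Finset.univ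
    (fun q _ => h1 q)
  have h3 : (∏ q : MaximalSpectrum S, q.asIdeal) ≤ Ideal.jacobson (⊥ : Ideal S) := by
    rw [Ideal.jacobson]
    refine le_sInf ?_
    rintro J ⟨-, hJ⟩
    exact (Ideal.prod_le_inf.trans (Finset.inf_le (Finset.mem_univ (⟨J, hJ⟩ : MaximalSpectrum S))))
  have h4 : N ⊔ (Ideal.jacobson (⊥ : Ideal S)) • (⊤ : Submodule S M) = ⊤ := by
    exact eq_top_iff.mpr (h2.symm.le.trans (sup_le_sup_left (Submodule.smul_mono_left h3) _))
  obtain ⟨k, hk⟩ := IsArtinianRing.isNilpotent_jacobson_bot (R := S)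
  have h5 := sup_smul_pow N _ h4 k
  rw [hk] at h5
  simpa using h5

/-- Over an artinian ring, a module that is generated by `n` elements modulo every maximal
ideal is generated by `n` elements. -/
theorem exists_span_eq_top_of_local [IsArtinianRing S] (n : ℕ)
    (H : ∀ 𝔮 : Ideal S, 𝔮.IsMaximal →
      ∃ x : Fin n → M, Submodule.span S (Set.range x) ⊔ 𝔮 • (⊤ : Submodule S M) = ⊤) :
    ∃ x : Fin n → M, Submodule.span S (Set.range x) = ⊤ := by
  classical
  have hfin : Finite (MaximalSpectrum S) := inferInstance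
  cases nonempty_fintype (MaximalSpectrum S)
  have H' : ∀ p : MaximalSpectrum S, ∃ x : Fin n → M,
      Submodule.span S (Set.range x) ⊔ p.asIdeal • (⊤ : Submodule S M) = ⊤ :=
    fun p => H p.asIdeal p.isMaximal
  choose x hx using H'
  have hcop : Pairwise (Function.onFun IsCoprime fun p : MaximalSpectrum S => p.asIdeal) := by
    intro p q hpq
    have := p.isMaximal
    have := q.isMaximal
    exact Ideal.isCoprime_of_isMaximal (fun h => hpq (MaximalSpectrum.ext h))
  have hex : ∀ p : MaximalSpectrum S, ∃ r : S, ∀ q : MaximalSpectrum S,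
      r - (if q = p then 1 else 0) ∈ q.asIdeal := fun p =>
    Ideal.exists_forall_sub_mem_ideal hcop (fun q => if q = p then 1 else 0)
  choose e he using hex
  refine ⟨fun j => ∑ p, e p • x p j, ?_⟩
  apply eq_top_of_forall_sup_smul
  intro q
  refine eq_top_iff.mpr ((hx q).symm.le.trans (sup_le ?_ le_sup_right))
  rw [Submodule.span_le]
  rintro _ ⟨j, rfl⟩
  have h2 : (∑ p, e p • x p j) - x q j ∈ q.asIdeal • (⊤ : Submodule S M) := by
    have : (∑ p, e p • x p j) - x q j = ∑ p, (e p - if q = p then 1 else 0) • x p j := by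
      simp only [sub_smul, Finset.sum_sub_distrib]
      congr 1
      simp
    rw [this]
    refine Submodule.sum_mem _ fun p _ => ?_
    exact Submodule.smul_mem_smul (he p q) Submodule.mem_top
  have h3 : x q j = (∑ p, e p • x p j) - ((∑ p, e p • x p j) - x q j) := by abel
  rw [h3]
  refine Submodule.sub_mem _ (Submodule.mem_sup_left (Submodule.subset_span ⟨j, rfl⟩))
    (Submodule.mem_sup_right h2)

/-- If the fibre `(S ⧸ 𝔮) ⊗ M` has dimension at most `n`, then `M` is generated by `n` elements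
modulo `𝔮`. -/
theorem exists_span_sup_smul_eq_top (𝔮 : Ideal S) [h𝔮 : 𝔮.IsMaximal] (n : ℕ)
    (hfin : letI := Ideal.Quotient.field 𝔮; Module.Finite (S ⧸ 𝔮) ((S ⧸ 𝔮) ⊗[S] M))
    (hrank : Module.finrank (S ⧸ 𝔮) ((S ⧸ 𝔮) ⊗[S] M) ≤ n) :
    ∃ x : Fin n → M, Submodule.span S (Set.range x) ⊔ 𝔮 • (⊤ : Submodule S M) = ⊤ := by
  classical
  let _ := Ideal.Quotient.field 𝔮
  let b := Module.finBasis (S ⧸ 𝔮) ((S ⧸ 𝔮) ⊗[S] M)
  set d := Module.finrank (S ⧸ 𝔮) ((S ⧸ 𝔮) ⊗[S] M) with hd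
  let ι : M →ₗ[S] (S ⧸ 𝔮) ⊗[S] M := TensorProduct.mk S (S ⧸ 𝔮) M 1
  have hι : ι = (quotTensorEquivQuotSMul M 𝔮).symm.toLinearMap ∘ₗ (𝔮 • ⊤ : Submodule S M).mkQ :=
    (quotTensorEquivQuotSMul_symm_comp_mkQ 𝔮).symm
  have hιs : Function.Surjective ι := by
    rw [hι]
    exact (quotTensorEquivQuotSMul M 𝔮).symm.surjective.comp (Submodule.mkQ_surjective _)
  choose x' hx' using fun j => hιs (b j)
  let x : Fin n → M := fun j => if h : j.val < d then x' ⟨j.val, h⟩ else 0
  refine ⟨x, ?_⟩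
  rw [sup_comm, ← Submodule.map_mkQ_eq_top]
  have h1 : Submodule.map ι (Submodule.span S (Set.range x)) = ⊤ := by
    rw [eq_top_iff, Submodule.map_span]
    have h2 : Submodule.span S (Set.range b) = ⊤ := by
      rw [← Submodule.restrictScalars_span S (S ⧸ 𝔮) Ideal.Quotient.mk_surjective, b.span_eq]
      rfl
    rw [← h2]
    refine Submodule.span_mono ?_
    rintro _ ⟨j, rfl⟩
    refine ⟨x ⟨j.val, j.isLt.trans_le hrank⟩, ⟨_, rfl⟩, ?_⟩
    simp only [x, dif_pos j.isLt]
    exact hx' j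
  rw [hι, Submodule.map_comp] at h1
  have := congrArg (Submodule.map (quotTensorEquivQuotSMul M 𝔮).toLinearMap) h1
  rw [← Submodule.map_comp] at this
  simpa using this

theorem finrank_le_of_span {K S M : Type*} [Field K] [CommRing S] [Algebra K S]
    [Module.Finite K S] [AddCommGroup M] [Module S M] [Module K M] [IsScalarTower K S M] (n : ℕ)
    (x : Fin n → M) (hx : Submodule.span S (Set.range x) = ⊤) :
    Module.Finite K M ∧ Module.finrank K M ≤ n * Module.finrank K S := by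
  let φ : (Fin n → S) →ₗ[K] M := (Fintype.linearCombination S x).restrictScalars K
  have hφ : Function.Surjective φ := by
    intro m
    have : m ∈ LinearMap.range (Fintype.linearCombination S x) := by
      rw [Fintype.range_linearCombination, hx]; trivial
    exact this
  refine ⟨Module.Finite.of_surjective φ hφ, ?_⟩
  refine (LinearMap.finrank_le_finrank_of_surjective hφ).trans ?_
  rw [Module.finrank_pi_fintype]
  simp

/-- A module over a finite `K`-algebra `S` all of whose fibres at maximal ideals have dimension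
at most `n` has `K`-dimension at most `n * dim_K S`. -/
theorem finrank_le_of_fibres {K S M : Type*} [Field K] [CommRing S] [Algebra K S]
    [Module.Finite K S] [AddCommGroup M] [Module S M] [Module K M] [IsScalarTower K S M] (n : ℕ)
    (H : ∀ (𝔮 : Ideal S) (_ : 𝔮.IsMaximal), letI := Ideal.Quotient.field 𝔮
      Module.Finite (S ⧸ 𝔮) ((S ⧸ 𝔮) ⊗[S] M) ∧
        Module.finrank (S ⧸ 𝔮) ((S ⧸ 𝔮) ⊗[S] M) ≤ n) :
    Module.Finite K M ∧ Module.finrank K M ≤ n * Module.finrank K S := by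
  have : IsArtinianRing S := IsArtinianRing.of_finite K S
  obtain ⟨x, hx⟩ := exists_span_eq_top_of_local (S := S) (M := M) n (fun 𝔮 h𝔮 =>
    exists_span_sup_smul_eq_top 𝔮 n (H 𝔮 h𝔮).1 (H 𝔮 h𝔮).2)
  exact finrank_le_of_span n x hx

end Algebra

/-- If `V` is finite discrete and all fibres of `r : W ⟶ V` are finite discrete, so is `W`. -/
theorem finite_discrete_of_fibres {W V : Scheme.{u}} (r : W ⟶ V) [Finite V] [DiscreteTopology V]
    (h : ∀ v : V, Finite (r.fiber v) ∧ DiscreteTopology (r.fiber v)) :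
    Finite W ∧ DiscreteTopology W := by
  have hfib : ∀ v : V, Finite (r ⁻¹' {v}) ∧ DiscreteTopology (r ⁻¹' {v}) := by
    intro v
    have := (h v).1
    have := (h v).2
    exact ⟨Finite.of_equiv _ (r.fiberHomeo v).toEquiv,
      DiscreteTopology.of_continuous_injective (r.fiberHomeo v).symm.continuous
        (r.fiberHomeo v).symm.injective⟩
  constructor
  · have : ∀ v : V, Finite {w : W // r w = v} := fun v => (hfib v).1
    exact Finite.of_equiv _ (Equiv.sigmaFiberEquiv (fun w : W => r w))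
  · rw [discreteTopology_iff_isOpen_singleton]
    intro w
    have hopen : IsOpen (r ⁻¹' {r w}) := (isOpen_discrete {r w}).preimage r.continuous
    have := (hfib (r w)).2
    have h1 : IsOpen ({⟨w, rfl⟩} : Set (r ⁻¹' {r w})) := isOpen_discrete _
    have h2 := hopen.isOpenMap_subtype_val _ h1
    simpa using h2

/-- Fibres of `Spec M ⟶ Spec S` over closed points, ring-theoretically. -/
theorem finDeg_quotient_of_fibreDegLE {S M : CommRingCat.{u}} (ρ : S ⟶ M) (n : ℕ)
    (h : BddFib.FibreDegLE (Spec.map ρ) n) (𝔮 : Ideal S) [h𝔮 : 𝔮.IsMaximal] :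
    letI := Ideal.Quotient.field 𝔮
    letI : Algebra S M := ρ.hom.toAlgebra
    Module.Finite (S ⧸ 𝔮) ((S ⧸ 𝔮) ⊗[S] M) ∧ Module.finrank (S ⧸ 𝔮) ((S ⧸ 𝔮) ⊗[S] M) ≤ n := by
  let _ := Ideal.Quotient.field 𝔮
  let _ : Algebra S M := ρ.hom.toAlgebra
  have h1 := (Groth.Agent.S7433.result (Spec.map ρ) n).mp h (S ⧸ 𝔮)
    (Spec.map (CommRingCat.ofHom (algebraMap S (S ⧸ 𝔮))))
  have h' : IsPullback (pullback.snd (Spec.map ρ) (Spec.map (CommRingCat.ofHom (algebraMap S (S ⧸ 𝔮)))))
      (pullback.fst (Spec.map ρ) (Spec.map (CommRingCat.ofHom (algebraMap S (S ⧸ 𝔮)))))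
      (Spec.map (CommRingCat.ofHom (algebraMap S (S ⧸ 𝔮))))
      (Spec.map (CommRingCat.ofHom (algebraMap S M))) :=
    (IsPullback.of_hasPullback (Spec.map ρ) _).flip
  let e : pullback (Spec.map ρ) (Spec.map (CommRingCat.ofHom (algebraMap S (S ⧸ 𝔮)))) ≅
      Spec (CommRingCat.of ((S ⧸ 𝔮) ⊗[S] M)) :=
    h'.isoPullback ≪≫ pullbackSpecIso S (S ⧸ 𝔮) M
  have he : e.hom ≫ Spec.map (CommRingCat.ofHom (algebraMap (S ⧸ 𝔮) ((S ⧸ 𝔮) ⊗[S] M))) =
      pullback.snd (Spec.map ρ) (Spec.map (CommRingCat.ofHom (algebraMap S (S ⧸ 𝔮)))) := by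
    simp only [e, Iso.trans_hom, Category.assoc, pullbackSpecIso_hom_fst']
    exact h'.isoPullback_hom_fst
  have i1 := finiteOfDegLE_iff_of_iso (CommRingCat.of (S ⧸ 𝔮)) _
    (Spec.map (CommRingCat.ofHom (algebraMap (S ⧸ 𝔮) ((S ⧸ 𝔮) ⊗[S] M)))) e.hom he n
  have i2 := finiteOfDegLE_SpecMap_iff
    (CommRingCat.ofHom (algebraMap (S ⧸ 𝔮) ((S ⧸ 𝔮) ⊗[S] M))) n
  have i3 := finDeg_algebraMap_iff (K := S ⧸ 𝔮) (R := (S ⧸ 𝔮) ⊗[S] M) n
  exact i3.mp (i2.mp (i1.mp h1))

/-- Composition: a scheme with fibres of degree `≤ n` over a scheme finite of degree `≤ m` over a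
field is finite of degree `≤ n * m` over that field. -/
theorem finiteOfDegLE_comp {K : CommRingCat.{u}} (hK : IsField K) {W V : Scheme.{u}}
    (r : W ⟶ V) (s : V ⟶ Spec K) (n m : ℕ) (hs : BddFib.FiniteOfDegLE K s m)
    (hr : BddFib.FibreDegLE r n) : BddFib.FiniteOfDegLE K (r ≫ s) (n * m) := by
  let _ := hK.toField
  have hV : IsAffine V := hs.1
  have hVd : DiscreteTopology V := discreteTopology_of_finiteOfDegLE hK _ m hs
  have hVf : Finite V := (finite_and_card_le_of_finiteOfDegLE hK _ m hs).1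
  obtain ⟨hWf, hWd⟩ := finite_discrete_of_fibres r (fun v =>
    ⟨(finite_and_card_le_of_finiteOfDegLE (Field.toIsField _) _ n (hr v)).1,
      discreteTopology_of_finiteOfDegLE (Field.toIsField _) _ n (hr v)⟩)
  have hW : IsAffine W := inferInstance
  -- transfer to `Spec`
  have hpb : IsPullback W.isoSpec.inv (Spec.map r.appTop) r V.isoSpec.inv := by
    refine IsPullback.of_horiz_isIso ⟨?_⟩
    rw [Iso.inv_comp_eq, ← Category.assoc, Iso.eq_comp_inv]
    exact (Scheme.isoSpec_hom_naturality r).symm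
  have hρ : BddFib.FibreDegLE (Spec.map r.appTop) n :=
    Groth.Agent.S7437.result r V.isoSpec.inv (Spec.map r.appTop) W.isoSpec.inv hpb n hr
  rw [finiteOfDegLE_iff] at hs ⊢
  refine ⟨hW, ?_⟩
  obtain ⟨-, hs1, hs2⟩ := hs
  let _ : Algebra K Γ(V, ⊤) := ((Scheme.ΓSpecIso K).inv ≫ s.appTop).hom.toAlgebra
  let _ : Algebra Γ(V, ⊤) Γ(W, ⊤) := r.appTop.hom.toAlgebra
  let _ : Algebra K Γ(W, ⊤) := ((Scheme.ΓSpecIso K).inv ≫ (r ≫ s).appTop).hom.toAlgebra
  have : IsScalarTower K Γ(V, ⊤) Γ(W, ⊤) := by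
    refine IsScalarTower.of_algebraMap_eq (fun x => ?_)
    have e : (r ≫ s).appTop = s.appTop ≫ r.appTop := by simp [Scheme.Hom.appTop]
    change ((Scheme.ΓSpecIso K).inv ≫ (r ≫ s).appTop).hom x = _
    rw [e]
    rfl
  have hs1' : Module.Finite K Γ(V, ⊤) := hs1
  obtain ⟨h1, h2⟩ := finrank_le_of_fibres (K := K) (S := Γ(V, ⊤)) (M := Γ(W, ⊤)) n
    (fun 𝔮 h𝔮 => finDeg_quotient_of_fibreDegLE r.appTop n hρ 𝔮)
  exact ⟨h1, h2.trans (Nat.mul_le_mul_left n hs2)⟩

end Groth.Agent.Lib.Helper6.BddFibLib
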