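import Groth.Agent.Lib.Helper6.BddFibBasic

set_option autoImplicit false
universe u

open CategoryTheory AlgebraicGeometry Limits TensorProduct

namespace Groth.Agent.Lib.Helper6.BddFibLib

theorem finDeg_one_of_surjective {K R : Type u} [Field K] [CommRing R] (φ : K →+* R)
    (hφ : Function.Surjective φ) : FinDeg φ 1 := by
  let _ : Algebra K R := φ.toAlgebra
  have hs : Function.Surjective (Algebra.linearMap K R) := hφ
  refine ⟨Module.Finite.of_surjective (Algebra.linearMap K R) hs, ?_⟩
  have h1 := LinearMap.finrank_range_le (Algebra.linearMap K R)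
  rw [LinearMap.range_eq_top.mpr hs, finrank_top, Module.finrank_self] at h1
  exact h1

theorem finiteOfDegLE_one_of_isImmersion {K : CommRingCat.{u}} (hK : IsField K)
    {T : Scheme.{u}} (j : T ⟶ Spec K) [IsImmersion j] : BddFib.FiniteOfDegLE K j 1 := by
  let _ := hK.toField
  have hclosed : IsClosed (Set.range j) := by
    rcases (Set.range j).eq_empty_or_nonempty with h | ⟨x, hx⟩
    · rw [h]; exact isClosed_empty
    · have : Set.range j = Set.univ := by
        apply Set.eq_univ_of_forall
        intro y
        have : y = x := Subsingleton.elim (α := PrimeSpectrum K) y x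
        rw [this]; exact hx
      rw [this]; exact isClosed_univ
  have hci : IsClosedImmersion j := .of_isPreimmersion j hclosed
  obtain ⟨hT, hsurj⟩ := IsClosedImmersion.isAffine_surjective_of_isAffine j
  rw [finiteOfDegLE_iff]
  refine ⟨hT, finDeg_one_of_surjective _ ?_⟩
  rw [CommRingCat.hom_comp, RingHom.coe_comp]
  exact hsurj.comp (Scheme.ΓSpecIso K).symm.commRingCatIsoToRingEquiv.surjective

end Groth.Agent.Lib.Helper6.BddFibLib
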