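import Groth.Agent.Lib.Helper6.BddFibComp
import Groth.Agent.S7436
import Groth.Agent.S7439

set_option autoImplicit false
universe u

open CategoryTheory AlgebraicGeometry Limits TensorProduct

namespace Groth.Agent.Lib.Helper6.BddFibLib

theorem finiteOfDegLE_of_openCover {K : CommRingCat.{u}} (hK : IsField K) {T : Scheme.{u}}
    (p : T ⟶ Spec K) (𝒰 : T.OpenCover) [Fintype 𝒰.I₀] (n : 𝒰.I₀ → ℕ)
    (h : ∀ i, BddFib.FiniteOfDegLE K (𝒰.f i ≫ p) (n i)) :
    BddFib.FiniteOfDegLE K p (∑ i, n i) := by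
  let _ := hK.toField
  have hfin : ∀ i, Finite (𝒰.X i) := fun i => (finite_and_card_le_of_finiteOfDegLE hK _ _ (h i)).1
  have hdisc : ∀ i, DiscreteTopology (𝒰.X i) := fun i =>
    discreteTopology_of_finiteOfDegLE hK _ _ (h i)
  have hTf : Finite T := by
    rw [← Set.finite_univ_iff, ← 𝒰.iUnion_range]
    exact Set.finite_iUnion (fun i => Set.finite_range _)
  have hTd : DiscreteTopology T := by
    rw [discreteTopology_iff_isOpen_singleton]
    intro t
    obtain ⟨i, y, rfl⟩ := 𝒰.exists_eq t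
    have h1 : IsOpen ({y} : Set (𝒰.X i)) := isOpen_discrete _
    have h2 := (𝒰.f i).isOpenEmbedding.isOpenMap _ h1
    simpa using h2
  have hT : IsAffine T := inferInstance
  rw [finiteOfDegLE_iff]
  refine ⟨hT, ?_⟩
  let _ : Algebra K Γ(T, ⊤) := ((Scheme.ΓSpecIso K).inv ≫ p.appTop).hom.toAlgebra
  let alg : ∀ i, Algebra K Γ(𝒰.X i, ⊤) := fun i =>
    ((Scheme.ΓSpecIso K).inv ≫ (𝒰.f i ≫ p).appTop).hom.toAlgebra
  have hfinM : ∀ i, Module.Finite K Γ(𝒰.X i, ⊤) := fun i => (h i).2.1
  have hrank : ∀ i, Module.finrank K Γ(𝒰.X i, ⊤) ≤ n i := fun i => (h i).2.2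
  let L : Γ(T, ⊤) →ₗ[K] (∀ i, Γ(𝒰.X i, ⊤)) :=
    { toFun := fun s i => (𝒰.f i).appTop.hom s
      map_add' := by intro a b; funext i; exact map_add _ _ _
      map_smul' := by
        intro k s
        funext i
        simp only [Algebra.smul_def, RingHom.id_apply, Pi.smul_apply, map_mul]
        congr 1 }
  have hL : Function.Injective L := by
    rw [← LinearMap.ker_eq_bot, LinearMap.ker_eq_bot']
    intro s hs
    refine Scheme.zero_of_zero_cover s 𝒰 (fun i => ?_)
    exact congrFun hs i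
  refine ⟨Module.Finite.of_injective L hL, ?_⟩
  refine (LinearMap.finrank_le_finrank_of_injective hL).trans ?_
  rw [Module.finrank_pi_fintype]
  exact Finset.sum_le_sum (fun i _ => hrank i)

theorem fibreDegLE_of_openCover {X Y : Scheme.{u}} (f : X ⟶ Y) (𝒰 : X.OpenCover)
    [Fintype 𝒰.I₀] (n : 𝒰.I₀ → ℕ) (h : ∀ i, BddFib.FibreDegLE (𝒰.f i ≫ f) (n i)) :
    BddFib.FibreDegLE f (∑ i, n i) := by
  intro y
  have key : ∀ i : 𝒰.I₀, BddFib.FiniteOfDegLE (Y.residueField y)
      (pullback.fst (f.fiberι y) (𝒰.f i) ≫ f.fiberToSpecResidueField y) (n i) := by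
    intro i
    have hpb : IsPullback (pullback.snd (f.fiberι y) (𝒰.f i))
        (pullback.fst (f.fiberι y) (𝒰.f i) ≫ f.fiberToSpecResidueField y)
        (𝒰.f i ≫ f) (Y.fromSpecResidueField y) :=
      (IsPullback.of_hasPullback (f.fiberι y) (𝒰.f i)).flip.paste_vert
        (IsPullback.of_hasPullback f (Y.fromSpecResidueField y))
    have he : hpb.isoPullback.inv ≫ (pullback.fst (f.fiberι y) (𝒰.f i) ≫
        f.fiberToSpecResidueField y) = pullback.snd (𝒰.f i ≫ f) (Y.fromSpecResidueField y) := by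
      rw [Iso.inv_comp_eq]
      exact hpb.isoPullback_hom_snd.symm
    have hiso : IsIso hpb.isoPullback.inv := inferInstance
    exact @finiteOfDegLE_of_iso _ _ _ ((𝒰.f i ≫ f).fiberToSpecResidueField y) _
      hpb.isoPullback.inv hiso he (n i) (h i y)
  exact @finiteOfDegLE_of_openCover (Y.residueField y) (Field.toIsField _) _ _
    (𝒰.pullback₁ (f.fiberι y)) (inferInstanceAs (Fintype 𝒰.I₀)) n (fun i => key i)

/-- The degree of the base change of `Spec M ⟶ Spec S` along `Spec k ⟶ Spec S`, ring-theoretically. -/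
theorem finiteOfDegLE_pullback_snd_iff {S M k : Type u} [CommRing S] [CommRing M] [CommRing k]
    [Algebra S M] [Algebra S k] (n : ℕ) :
    BddFib.FiniteOfDegLE (CommRingCat.of k)
      (pullback.snd (Spec.map (CommRingCat.ofHom (algebraMap S M)))
        (Spec.map (CommRingCat.ofHom (algebraMap S k)))) n ↔
    (Module.Finite k (k ⊗[S] M) ∧ Module.finrank k (k ⊗[S] M) ≤ n) := by
  have h' : IsPullback
      (pullback.snd (Spec.map (CommRingCat.ofHom (algebraMap S M)))
        (Spec.map (CommRingCat.ofHom (algebraMap S k))))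
      (pullback.fst (Spec.map (CommRingCat.ofHom (algebraMap S M)))
        (Spec.map (CommRingCat.ofHom (algebraMap S k))))
      (Spec.map (CommRingCat.ofHom (algebraMap S k)))
      (Spec.map (CommRingCat.ofHom (algebraMap S M))) :=
    (IsPullback.of_hasPullback _ _).flip
  let e : pullback (Spec.map (CommRingCat.ofHom (algebraMap S M)))
      (Spec.map (CommRingCat.ofHom (algebraMap S k))) ≅
      Spec (CommRingCat.of (k ⊗[S] M)) :=
    h'.isoPullback ≪≫ pullbackSpecIso S k M
  have he : e.hom ≫ Spec.map (CommRingCat.ofHom (algebraMap k (k ⊗[S] M))) =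
      pullback.snd (Spec.map (CommRingCat.ofHom (algebraMap S M)))
        (Spec.map (CommRingCat.ofHom (algebraMap S k))) := by
    simp only [e, Iso.trans_hom, Category.assoc, pullbackSpecIso_hom_fst']
    exact h'.isoPullback_hom_fst
  have i1 := finiteOfDegLE_iff_of_iso (CommRingCat.of k) _
    (Spec.map (CommRingCat.ofHom (algebraMap k (k ⊗[S] M)))) e.hom he n
  have i2 := finiteOfDegLE_SpecMap_iff
    (CommRingCat.ofHom (algebraMap k (k ⊗[S] M))) n
  have i3 := finDeg_algebraMap_iff (K := k) (R := k ⊗[S] M) n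
  exact i1.trans (i2.trans i3)

/-- A finite morphism `Spec C ⟶ Spec A` with `C` generated by `n` elements as an `A`-module has
fibres of degree at most `n`. -/
theorem fibreDegLE_SpecMap_of_span {A C : Type u} [CommRing A] [CommRing C] [Algebra A C] (n : ℕ)
    (c : Fin n → C) (hc : Submodule.span A (Set.range c) = ⊤) :
    BddFib.FibreDegLE (Spec.map (CommRingCat.ofHom (algebraMap A C))) n := by
  rw [Groth.Agent.S7433.result]
  intro k _ g
  obtain ⟨γ, rfl⟩ := Spec.map_surjective g
  let _ : Algebra A k := γ.hom.toAlgebra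
  have h1 : Spec.map γ = Spec.map (CommRingCat.ofHom (algebraMap A k)) := rfl
  rw [h1, finiteOfDegLE_pullback_snd_iff]
  have hspan : Submodule.span k (Set.range fun j => (1 : k) ⊗ₜ[A] c j) = ⊤ := by
    have := Submodule.baseChange_span (R := A) (A := k) (M := C) (Set.range c)
    rw [hc, Submodule.baseChange_top] at this
    rw [this, ← Set.range_comp]
    rfl
  have h2 := finrank_le_of_span (K := k) (S := k) (M := k ⊗[A] C) n _ hspan
  simpa using h2

/-- Local structure of quasi-finite algebras (Zariski's main theorem), in terms of fibre degrees. -/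
theorem exists_fibreDegLE_away {A B : Type u} [CommRing A] [CommRing B] [Algebra A B]
    [Algebra.FiniteType A B] [Algebra.QuasiFinite A B] (q : Ideal B) [q.IsPrime] :
    ∃ r : B, r ∉ q ∧ ∃ N : ℕ, BddFib.FibreDegLE
      (Spec.map (CommRingCat.ofHom (algebraMap B (Localization.Away r))) ≫
        Spec.map (CommRingCat.ofHom (algebraMap A B))) N := by
  obtain ⟨S', hS', r', hr'q, hbij⟩ :=
    Algebra.QuasiFiniteAt.exists_fg_and_exists_notMem_and_awayMap_bijective (R := A) q
  have : Module.Finite A S' := ⟨(Submodule.fg_top _).mpr hS'⟩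
  obtain ⟨N, c, hc⟩ := Module.Finite.exists_fin (R := A) (M := S')
  refine ⟨S'.val.toRingHom r', hr'q, 1 * N, ?_⟩
  have h1 : BddFib.FibreDegLE (Spec.map (CommRingCat.ofHom (algebraMap A S'))) N :=
    fibreDegLE_SpecMap_of_span N c hc
  have hiso : IsIso (CommRingCat.ofHom (Localization.awayMap S'.val.toRingHom r')) :=
    (ConcreteCategory.isIso_iff_bijective _).mpr hbij
  let j : Spec (CommRingCat.of (Localization.Away (S'.val.toRingHom r'))) ⟶
      Spec (CommRingCat.of S') :=
    Spec.map (CommRingCat.ofHom (Localization.awayMap S'.val.toRingHom r')) ≫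
      Spec.map (CommRingCat.ofHom (algebraMap S' (Localization.Away r')))
  have hj : IsOpenImmersion j := inferInstance
  have h2 : BddFib.FibreDegLE j 1 := Groth.Agent.S7439.result j
  have h3 := Groth.Agent.S7436.result j _ 1 N h2 h1
  have heq : Spec.map (CommRingCat.ofHom (algebraMap B (Localization.Away (S'.val.toRingHom r')))) ≫
      Spec.map (CommRingCat.ofHom (algebraMap A B)) =
      j ≫ Spec.map (CommRingCat.ofHom (algebraMap A S')) := by
    simp only [j, ← Spec.map_comp]
    congr 1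
    ext x
    simp only [CommRingCat.hom_comp, CommRingCat.hom_ofHom, RingHom.comp_apply]
    change algebraMap B (Localization.Away (S'.val.toRingHom r')) (algebraMap A B x) = _
    rw [show Localization.awayMap S'.val.toRingHom r' =
      IsLocalization.Away.map _ _ S'.val.toRingHom r' from rfl]
    rw [IsLocalization.Away.map, IsLocalization.map_eq]
    rfl
  rw [heq]
  exact h3

theorem exists_openImmersion_fibreDegLE {X Y : Scheme.{u}} (f : X ⟶ Y) [LocallyQuasiFinite f]
    [LocallyOfFiniteType f] (x : X) :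
    ∃ (W : Scheme.{u}) (j : W ⟶ X), IsOpenImmersion j ∧ x ∈ Set.range j ∧
      ∃ N, BddFib.FibreDegLE (j ≫ f) N := by
  obtain ⟨_, ⟨U, hU, rfl⟩, hxU, -⟩ := Y.isBasis_affineOpens.exists_subset_of_mem_open
    (Set.mem_univ (f x)) isOpen_univ
  obtain ⟨_, ⟨V, hV, rfl⟩, hxV, hUV : V ≤ f ⁻¹ᵁ U⟩ :=
    X.isBasis_affineOpens.exists_subset_of_mem_open hxU (f ⁻¹ᵁ U).2
  have h1 : (f.appLE U V hUV).hom.FiniteType := f.finiteType_appLE hU hV hUV
  have h2 : (f.appLE U V hUV).hom.QuasiFinite := LocallyQuasiFinite.quasiFinite_appLE hU hV hUV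
  let _ : Algebra Γ(Y, U) Γ(X, V) := (f.appLE U V hUV).hom.toAlgebra
  have h1' : Algebra.FiniteType Γ(Y, U) Γ(X, V) := h1
  have h2' : Algebra.QuasiFinite Γ(Y, U) Γ(X, V) := h2
  let q := hV.primeIdealOf ⟨x, hxV⟩
  have hoV : IsOpenImmersion hV.fromSpec := hV.isOpenImmersion_fromSpec
  have hoU : IsOpenImmersion hU.fromSpec := hU.isOpenImmersion_fromSpec
  obtain ⟨r, hrq, N, hN⟩ := exists_fibreDegLE_away (A := Γ(Y, U)) (B := Γ(X, V)) q.asIdeal
  refine ⟨Spec (CommRingCat.of (Localization.Away r)),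
    Spec.map (CommRingCat.ofHom (algebraMap Γ(X, V) (Localization.Away r))) ≫ hV.fromSpec,
    inferInstance, ?_, N * 1, ?_⟩
  · have hq : q ∈ Set.range (Spec.map (CommRingCat.ofHom
        (algebraMap Γ(X, V) (Localization.Away r)))) := by
      have := PrimeSpectrum.localization_away_comap_range (Localization.Away r) r
      change q ∈ Set.range (PrimeSpectrum.comap (algebraMap Γ(X, V) (Localization.Away r)))
      rw [this]
      exact hrq
    obtain ⟨y, hy⟩ := hq
    refine ⟨y, ?_⟩
    rw [Scheme.Hom.comp_apply, hy]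
    exact hV.fromSpec_primeIdealOf ⟨x, hxV⟩
  · have e : Spec.map (CommRingCat.ofHom (algebraMap Γ(Y, U) Γ(X, V))) ≫ hU.fromSpec =
        hV.fromSpec ≫ f := IsAffineOpen.SpecMap_appLE_fromSpec f hU hV hUV
    rw [Category.assoc, ← e, ← Category.assoc]
    exact Groth.Agent.S7436.result _ _ N 1 hN (Groth.Agent.S7439.result hU.fromSpec)

theorem univBounded_of_locallyQuasiFinite {X Y : Scheme.{u}} (f : X ⟶ Y) [LocallyQuasiFinite f]
    [LocallyOfFiniteType f] [CompactSpace X] : BddFib.UnivBounded f := by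
  choose W j hj hx N hN using exists_openImmersion_fibreDegLE f
  let 𝒰 : X.OpenCover := Scheme.Cover.mkOfCovers X W j (fun x => ⟨x, hx x⟩) hj
  let 𝒱 := 𝒰.finiteSubcover
  have : Fintype 𝒱.I₀ := inferInstance
  refine ⟨∑ i : 𝒱.I₀, N (𝒰.idx i.1), ?_⟩
  exact fibreDegLE_of_openCover f 𝒱 (fun i => N (𝒰.idx i.1)) (fun i => hN (𝒰.idx i.1))

end Groth.Agent.Lib.Helper6.BddFibLib
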