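import Mathlib

/-!
# Finite morphisms from disjoint unions of opens
-/

set_option autoImplicit false
universe u

open CategoryTheory Limits AlgebraicGeometry

namespace Groth.Agent.Lib.Helper6.EtLoc

variable {Y U : Scheme.{u}} (h : Y ⟶ U)

/-- Shrinking a finite open piece to a smaller open which is closed in the ambient scheme. -/
theorem isFinite_of_le_of_isClosed {V' V : Y.Opens} (hle : V' ≤ V)
    (hcl : IsClosed (V' : Set Y)) [IsFinite (V.ι ≫ h)] : IsFinite (V'.ι ≫ h) := by
  have : IsClosedImmersion (Y.homOfLE hle) := by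
    apply IsClosedImmersion.of_isPreimmersion
    have : Set.range (Y.homOfLE hle) = V.ι ⁻¹' (V' : Set Y) := by
      have h1 := congrArg (fun W : V.toScheme.Opens => (W : Set V)) (Y.opensRange_homOfLE hle)
      exact h1
    rw [this]
    exact hcl.preimage V.ι.continuous
  rw [← Y.homOfLE_ι hle, Category.assoc]
  infer_instance

/-- The empty open is finite over anything. -/
theorem isFinite_bot : IsFinite ((⊥ : Y.Opens).ι ≫ h) := by
  have : IsEmpty ((⊥ : Y.Opens) : Scheme.{u}) := by
    constructor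
    rintro ⟨x, hx⟩
    exact hx
  have : IsClosedImmersion ((⊥ : Y.Opens).ι ≫ h) := by
    apply IsClosedImmersion.of_isPreimmersion
    have : Set.range ((⊥ : Y.Opens).ι ≫ h) = ∅ := Set.range_eq_empty _
    rw [this]
    exact isClosed_empty
  infer_instance

/-- Disjoint union of two finite open pieces is finite. -/
theorem isFinite_sup_of_disjoint {V W : Y.Opens} (hd : Disjoint V W) [IsFinite (V.ι ≫ h)]
    [IsFinite (W.ι ≫ h)] : IsFinite ((V ⊔ W).ι ≫ h) := by
  let a : V.toScheme ⟶ (V ⊔ W).toScheme := Y.homOfLE le_sup_left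
  let b : W.toScheme ⟶ (V ⊔ W).toScheme := Y.homOfLE le_sup_right
  have hcompl : IsCompl a.opensRange b.opensRange := by
    rw [Y.opensRange_homOfLE, Y.opensRange_homOfLE]
    constructor
    · rw [disjoint_iff, ← Scheme.Hom.preimage_inf, disjoint_iff.mp hd]
      rfl
    · rw [codisjoint_iff, ← Scheme.Hom.preimage_sup]
      ext x
      simp
  obtain ⟨H⟩ := nonempty_isColimit_binaryCofanMk_of_isCompl a b hcompl
  let e : (V ⊔ W).toScheme ≅ V.toScheme ⨿ W.toScheme :=
    H.coconePointUniqueUpToIso (colimit.isColimit _)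
  have ha : a ≫ e.hom = coprod.inl := H.comp_coconePointUniqueUpToIso_hom _ ⟨.left⟩
  have hb : b ≫ e.hom = coprod.inr := H.comp_coconePointUniqueUpToIso_hom _ ⟨.right⟩
  have key : (V ⊔ W).ι ≫ h = e.hom ≫ coprod.desc (V.ι ≫ h) (W.ι ≫ h) := by
    apply BinaryCofan.IsColimit.hom_ext H
    · change a ≫ (V ⊔ W).ι ≫ h = a ≫ e.hom ≫ _
      rw [← Category.assoc, Y.homOfLE_ι, ← Category.assoc a, ha, coprod.inl_desc]
    · change b ≫ (V ⊔ W).ι ≫ h = b ≫ e.hom ≫ _
      rw [← Category.assoc, Y.homOfLE_ι, ← Category.assoc b, hb, coprod.inr_desc]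
  rw [key]
  infer_instance

/-- Finite disjoint union of finite open pieces is finite. -/
theorem isFinite_finsetSup_of_pairwise_disjoint {ι : Type*} (V : ι → Y.Opens)
    (hd : Pairwise fun i j => Disjoint (V i) (V j)) (hV : ∀ i, IsFinite ((V i).ι ≫ h))
    (t : Finset ι) : IsFinite ((t.sup V).ι ≫ h) := by
  classical
  induction t using Finset.induction_on with
  | empty =>
    rw [Finset.sup_empty]
    exact isFinite_bot h
  | insert a t ha ih =>
    rw [Finset.sup_insert]
    haveI := hV a
    haveI := ih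
    apply isFinite_sup_of_disjoint
    rw [Finset.disjoint_sup_right]
    intro i hi
    exact hd (fun hai => ha (hai ▸ hi))

theorem isFinite_iSup_of_pairwise_disjoint {ι : Type*} [Finite ι] (V : ι → Y.Opens)
    (hd : Pairwise fun i j => Disjoint (V i) (V j)) (hV : ∀ i, IsFinite ((V i).ι ≫ h)) :
    IsFinite ((⨆ i, V i).ι ≫ h) := by
  classical
  haveI := Fintype.ofFinite ι
  have := isFinite_finsetSup_of_pairwise_disjoint h V hd hV Finset.univ
  rwa [Finset.sup_univ_eq_iSup] at this

end Groth.Agent.Lib.Helper6.EtLoc
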