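import Mathlib

set_option autoImplicit false
universe u

open CategoryTheory AlgebraicGeometry Limits TensorProduct

namespace Groth.Agent.Lib.Helper6.EtLoc

/-- The pushout of fields `L ← K → F` with `L / K` finite has finite prime spectrum. -/
theorem finite_primeSpectrum_pushout (K L F : Type u) [Field K] [CommRing L] [Field F]
    [Algebra K L] [Algebra K F] [Module.Finite K L] :
    Finite (PrimeSpectrum (pushout (CommRingCat.ofHom (algebraMap K L))
      (CommRingCat.ofHom (algebraMap K F)) : CommRingCat.{u})) := by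
  have iso : pushout (CommRingCat.ofHom (algebraMap K L)) (CommRingCat.ofHom (algebraMap K F)) ≅
      CommRingCat.of (L ⊗[K] F) :=
    colimit.isoColimitCocone ⟨CommRingCat.pushoutCocone K L F,
      CommRingCat.pushoutCoconeIsColimit K L F⟩
  haveI : Module.Finite F (F ⊗[K] L) := Module.Finite.base_change K F L
  haveI : IsArtinianRing (F ⊗[K] L) := IsArtinianRing.of_finite F _
  have e1 : (pushout (CommRingCat.ofHom (algebraMap K L))
      (CommRingCat.ofHom (algebraMap K F)) : CommRingCat.{u}) ≃+* (L ⊗[K] F) :=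
    iso.commRingCatIsoToRingEquiv
  have e2 : (L ⊗[K] F) ≃+* (F ⊗[K] L) := (Algebra.TensorProduct.comm K L F).toRingEquiv
  exact Finite.of_equiv _ (PrimeSpectrum.comapEquiv (e1.trans e2)).symm.toEquiv

open Scheme.Pullback in
/-- Finitely many points of a fibre product lie over a given pair of points `(x₀, u₀)` when
`κ(x₀)` is finite over `κ(s)`. -/
theorem finite_setOf_fst_eq_snd_eq {X S U : Scheme.{u}} (f : X ⟶ S) (g : U ⟶ S) (x₀ : X) (u₀ : U)
    (s : S) (hs : f x₀ = s) (hu : g u₀ = s)
    (hfin : letI := ((S.residueFieldCongr hs).inv ≫ f.residueFieldMap x₀).hom.toAlgebra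
      Module.Finite (S.residueField s) (X.residueField x₀)) :
    {w : ↑(pullback f g) | pullback.fst f g w = x₀ ∧ pullback.snd f g w = u₀}.Finite := by
  let T : Triplet f g := ⟨x₀, u₀, s, hs, hu⟩
  haveI : Finite ↥(Spec T.tensor) := by
    letI := ((S.residueFieldCongr hs).inv ≫ f.residueFieldMap x₀).hom.toAlgebra
    letI := ((S.residueFieldCongr hu).inv ≫ g.residueFieldMap u₀).hom.toAlgebra
    haveI : Module.Finite (S.residueField s) (X.residueField x₀) := hfin
    exact finite_primeSpectrum_pushout (S.residueField s) (X.residueField x₀) (U.residueField u₀)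
  refine (Set.finite_range T.SpecTensorTo).subset ?_
  rintro w ⟨hw1, hw2⟩
  have hT : Triplet.ofPoint w = T := Triplet.ext hw1 hw2
  have key : ∀ T' : Triplet f g, T' = T → ∀ p : Spec T'.tensor,
      T'.SpecTensorTo p ∈ Set.range T.SpecTensorTo := by
    rintro T' rfl p
    exact ⟨p, rfl⟩
  have := key _ hT (SpecOfPoint w)
  rwa [SpecTensorTo_SpecOfPoint] at this

end Groth.Agent.Lib.Helper6.EtLoc
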