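import Mathlib

set_option autoImplicit false
universe u v

open Polynomial IntermediateField

namespace Groth.Agent.Lib.Helper6.EtLoc

section
variable {A : Type u} [CommRing A] {K₀ : Type v} [Field K₀] {k : Type u} [Field k] [Algebra K₀ k]

/-- Common denominators for the coefficients of a polynomial over a field of fractions of the
image of `e`. -/
theorem exists_C_mul_mem_lifts (e : A →+* K₀)
    (he : ∀ c : K₀, ∃ a b : A, e b ≠ 0 ∧ e b * c = e a) (m : K₀[X]) :
    ∃ y : A, e y ≠ 0 ∧ C (e y) * m ∈ lifts e := by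
  induction m using Polynomial.induction_on' with
  | add p q hp hq =>
    obtain ⟨y, hy, hyp⟩ := hp
    obtain ⟨z, hz, hzq⟩ := hq
    refine ⟨y * z, by simp [hy, hz], ?_⟩
    have : C (e (y * z)) * (p + q) = C (e z) * (C (e y) * p) + C (e y) * (C (e z) * q) := by
      simp only [map_mul]; ring
    rw [this]
    exact add_mem (mul_mem (C_mem_lifts e z) hyp) (mul_mem (C_mem_lifts e y) hzq)
  | monomial n c =>
    obtain ⟨a, b, hb, hab⟩ := he c
    refine ⟨b, hb, ?_⟩
    rw [C_mul_monomial, hab]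
    exact monomial_mem_lifts n ⟨a, rfl⟩

theorem exists_primitive_minpoly_mem_lifts [FiniteDimensional K₀ k] [Algebra.IsSeparable K₀ k]
    (e : A →+* K₀) (he : ∀ c : K₀, ∃ a b : A, e b ≠ 0 ∧ e b * c = e a) :
    ∃ β : k, K₀⟮β⟯ = ⊤ ∧ minpoly K₀ β ∈ lifts e := by
  obtain ⟨α, hα⟩ := Field.exists_primitive_element K₀ k
  obtain ⟨y, hy, hym⟩ := exists_C_mul_mem_lifts e he (minpoly K₀ α)
  have hint : IsIntegral K₀ α := Algebra.IsIntegral.isIntegral α
  refine ⟨e y • α, ?_, ?_⟩
  · have hmem : α ∈ K₀⟮e y • α⟯ := by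
      have h1 : (e y)⁻¹ • (e y • α) ∈ K₀⟮e y • α⟯ :=
        (K₀⟮e y • α⟯).smul_mem (mem_adjoin_simple_self K₀ _)
      rwa [smul_smul, inv_mul_cancel₀ hy, one_smul] at h1
    rw [eq_top_iff, ← hα, adjoin_le_iff]
    rintro _ rfl
    exact hmem
  · rw [IsIntegrallyClosed.minpoly_smul hy hint, lifts_iff_coeff_lifts]
    intro i
    rw [coeff_scaleRoots]
    rcases lt_trichotomy i (minpoly K₀ α).natDegree with h | h | h
    · have h1 : (C (e y) * minpoly K₀ α).coeff i ∈ Set.range e :=
        (lifts_iff_coeff_lifts _).mp hym i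
      rw [coeff_C_mul] at h1
      obtain ⟨a, ha⟩ := h1
      obtain ⟨d, hd⟩ : ∃ d, (minpoly K₀ α).natDegree - i = d + 1 :=
        ⟨(minpoly K₀ α).natDegree - i - 1, by omega⟩
      refine ⟨a * y ^ d, ?_⟩
      rw [map_mul, ha, map_pow, hd, pow_succ]; ring
    · subst h
      refine ⟨1, ?_⟩
      simp [(minpoly.monic hint).leadingCoeff]
    · refine ⟨0, ?_⟩
      rw [coeff_eq_zero_of_natDegree_lt h]; simp

theorem exists_etale_lift_of_separable [FiniteDimensional K₀ k] [Algebra.IsSeparable K₀ k]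
    (e : A →+* K₀) (he : ∀ c : K₀, ∃ a b : A, e b ≠ 0 ∧ e b * c = e a) :
    ∃ (B : Type u) (_ : CommRing B) (_ : Algebra A B) (_ : Algebra.Etale A B) (φ : B →+* k),
      φ.comp (algebraMap A B) = (algebraMap K₀ k).comp e ∧
      ∀ c : k, ∃ a b : B, φ b ≠ 0 ∧ φ b * c = φ a := by
  obtain ⟨β, hβ, hlift⟩ := exists_primitive_minpoly_mem_lifts (k := k) e he
  have hint : IsIntegral K₀ β := Algebra.IsIntegral.isIntegral β
  obtain ⟨P, hP, -, hPm⟩ := lifts_and_natDegree_eq_and_monic hlift (minpoly.monic hint)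
  letI algAk : Algebra A k := ((algebraMap K₀ k).comp e).toAlgebra
  have halg : ∀ a : A, algebraMap A k a = algebraMap K₀ k (e a) := fun a => rfl
  let SP : StandardEtalePair A := ⟨P, hPm, derivative P, ⟨1, 0, 1, by simp⟩⟩
  have hmap : ∀ Q : A[X], aeval β Q = aeval β (Q.map e) := by
    intro Q
    rw [aeval_def, aeval_def, eval₂_map]
    rfl
  have h : SP.HasMap β := by
    refine ⟨?_, ?_⟩
    · show aeval β P = 0
      rw [hmap, hP, minpoly.aeval]
    · show IsUnit (aeval β (derivative P))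
      rw [hmap, ← derivative_map, hP]
      exact isUnit_iff_ne_zero.mpr
        ((Algebra.IsSeparable.isSeparable K₀ β).aeval_derivative_ne_zero (minpoly.aeval _ _))
  let φ : SP.Ring →ₐ[A] k := SP.lift β h
  have hφX : φ SP.X = β := SP.lift_X β h
  let F : IntermediateField K₀ k :=
    { carrier := {c | ∃ a b : SP.Ring, φ b ≠ 0 ∧ φ b * c = φ a}
      mul_mem' := by
        rintro c d ⟨a, b, hb, hab⟩ ⟨a', b', hb', hab'⟩
        refine ⟨a * a', b * b', by simp [hb, hb'], ?_⟩
        rw [map_mul, map_mul, ← hab, ← hab']; ring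
      one_mem' := ⟨1, 1, by simp, by simp⟩
      add_mem' := by
        rintro c d ⟨a, b, hb, hab⟩ ⟨a', b', hb', hab'⟩
        refine ⟨a * b' + a' * b, b * b', by simp [hb, hb'], ?_⟩
        rw [map_add, map_mul, map_mul, map_mul, ← hab, ← hab']; ring
      zero_mem' := ⟨0, 1, by simp, by simp⟩
      algebraMap_mem' := by
        intro x
        obtain ⟨a, b, hb, hab⟩ := he x
        refine ⟨algebraMap A _ a, algebraMap A _ b, ?_, ?_⟩
        · rw [φ.commutes, halg]; simpa using hb
        · rw [φ.commutes, φ.commutes, halg, halg, ← map_mul, hab]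
      inv_mem' := by
        rintro c ⟨a, b, hb, hab⟩
        by_cases hc : c = 0
        · subst hc; exact ⟨0, 1, by simp, by simp⟩
        · have ha : φ a ≠ 0 := by rw [← hab]; exact mul_ne_zero hb hc
          refine ⟨b, a, ha, ?_⟩
          rw [← hab]; field_simp }
  have hF : F = ⊤ := by
    rw [eq_top_iff, ← hβ, adjoin_le_iff]
    rintro _ rfl
    exact ⟨SP.X, 1, by simp, by simp [hφX]⟩
  refine ⟨SP.Ring, inferInstance, inferInstance, inferInstance, φ.toRingHom, ?_, ?_⟩
  · ext a
    exact φ.commutes a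
  · intro c
    have : c ∈ F := by rw [hF]; trivial
    exact this

end

end Groth.Agent.Lib.Helper6.EtLoc
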