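import Mathlib

set_option autoImplicit false
universe u

open CategoryTheory AlgebraicGeometry

namespace Groth.Agent.Lib.Helper6.ResDeg

/-- Every element of the residue field at a point of an affine open is a quotient of two
evaluations of sections over that affine open. -/
theorem exists_evaluation_div {X : Scheme.{u}} {W : X.Opens} (hW : IsAffineOpen W) (x : X)
    (hx : x ∈ W) (l : X.residueField x) :
    ∃ b c : Γ(X, W), (X.evaluation W x hx).hom c ≠ 0 ∧
      l * (X.evaluation W x hx).hom c = (X.evaluation W x hx).hom b := by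
  let _ := X.presheaf.algebra_section_stalk (⟨x, hx⟩ : W)
  have hloc := hW.isLocalization_stalk ⟨x, hx⟩
  obtain ⟨σ, rfl⟩ : ∃ σ, (X.residue x).hom σ = l := IsLocalRing.residue_surjective l
  obtain ⟨b, c, rfl⟩ := IsLocalization.exists_mk'_eq
    (hW.primeIdealOf ⟨x, hx⟩).asIdeal.primeCompl σ
  have hev : ∀ r : Γ(X, W), (X.evaluation W x hx).hom r =
      (X.residue x).hom (algebraMap Γ(X, W) (X.presheaf.stalk x) r) := fun r => rfl
  refine ⟨b, c.1, ?_, ?_⟩
  · rw [hev]
    have hu : IsUnit (algebraMap Γ(X, W) (X.presheaf.stalk x) c.1) :=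
      IsLocalization.map_units _ c
    exact (hu.map (X.residue x).hom).ne_zero
  · rw [hev, hev, ← map_mul, IsLocalization.mk'_spec]

theorem finrank_residueField_le {X Y : Scheme.{u}} (f : X ⟶ Y) (V : Y.Opens)
    (hW : IsAffineOpen (f ⁻¹ᵁ V)) (s : Finset Γ(X, f ⁻¹ᵁ V))
    (hs : letI := (f.app V).hom.toAlgebra
      Submodule.span Γ(Y, V) (s : Set Γ(X, f ⁻¹ᵁ V)) = ⊤)
    (x : X) (hx : f x ∈ V) :
    letI := (f.residueFieldMap x).hom.toAlgebra
    Module.Finite (Y.residueField (f x)) (X.residueField x) ∧
      Module.finrank (Y.residueField (f x)) (X.residueField x) ≤ s.card := by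
  classical
  let algAB := (f.app V).hom.toAlgebra
  let algKL := (f.residueFieldMap x).hom.toAlgebra
  let ev' : Γ(X, f ⁻¹ᵁ V) →+* X.residueField x := (X.evaluation (f ⁻¹ᵁ V) x hx).hom
  let ev : Γ(Y, V) →+* Y.residueField (f x) := (Y.evaluation V (f x) hx).hom
  have hnat : ∀ a, algebraMap (Y.residueField (f x)) (X.residueField x) (ev a) =
      ev' (algebraMap Γ(Y, V) Γ(X, f ⁻¹ᵁ V) a) :=
    fun a => Scheme.evaluation_naturality_apply f x hx a
  let M : Submodule (Y.residueField (f x)) (X.residueField x) :=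
    Submodule.span (Y.residueField (f x)) (ev' '' (s : Set Γ(X, f ⁻¹ᵁ V)))
  have h1 : ∀ b, ev' b ∈ M := by
    intro b
    have hb : b ∈ Submodule.span Γ(Y, V) (s : Set Γ(X, f ⁻¹ᵁ V)) := by rw [hs]; trivial
    induction hb using Submodule.span_induction with
    | mem b hb => exact Submodule.subset_span ⟨b, hb, rfl⟩
    | zero => rw [map_zero]; exact M.zero_mem
    | add b c _ _ hb hc => rw [map_add]; exact M.add_mem hb hc
    | smul a b _ hb =>
      rw [Algebra.smul_def, map_mul, ← hnat, ← Algebra.smul_def]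
      exact M.smul_mem _ hb
  let S : Subalgebra (Y.residueField (f x)) (X.residueField x) :=
    Algebra.adjoin (Y.residueField (f x)) (Set.range ev')
  have hS : Subalgebra.toSubmodule S ≤ M := by
    rw [Algebra.adjoin_eq_span, Submodule.span_le]
    intro l hl
    have : l ∈ Set.range ev' := by
      induction hl using Submonoid.closure_induction with
      | mem l hl => exact hl
      | one => exact ⟨1, map_one _⟩
      | mul a b _ _ ha hb =>
        obtain ⟨a', rfl⟩ := ha
        obtain ⟨b', rfl⟩ := hb
        exact ⟨a' * b', map_mul _ _ _⟩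
    obtain ⟨b, rfl⟩ := this
    exact h1 b
  have hMfin : Module.Finite (Y.residueField (f x)) M :=
    FiniteDimensional.span_of_finite _ (s.finite_toSet.image ev')
  have hSfg : (Subalgebra.toSubmodule S).FG := by
    have : Module.Finite (Y.residueField (f x)) (Subalgebra.toSubmodule S) :=
      Submodule.finiteDimensional_of_le hS
    exact Module.Finite.iff_fg.mp this
  have hStop : S = ⊤ := by
    rw [eq_top_iff]
    intro l _
    obtain ⟨b, c, hc, hl⟩ := exists_evaluation_div hW x hx l
    have hcS : ev' c ∈ S := Algebra.subset_adjoin ⟨c, rfl⟩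
    have hbS : ev' b ∈ S := Algebra.subset_adjoin ⟨b, rfl⟩
    have hint : IsIntegral (Y.residueField (f x)) (ev' c) := IsIntegral.of_mem_of_fg S hSfg _ hcS
    have hinv : (ev' c)⁻¹ ∈ S := Subalgebra.inv_mem_of_algebraic S (x := ⟨ev' c, hcS⟩)
      hint.isAlgebraic
    have : l = ev' b * (ev' c)⁻¹ := by
      rw [← hl, mul_assoc, mul_inv_cancel₀ hc, mul_one]
    rw [this]
    exact S.mul_mem hbS hinv
  have hMtop : M = ⊤ := by
    rw [eq_top_iff]
    calc (⊤ : Submodule _ _) = Subalgebra.toSubmodule (⊤ : Subalgebra _ _) := by simp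
      _ = Subalgebra.toSubmodule S := by rw [hStop]
      _ ≤ M := hS
  refine ⟨?_, ?_⟩
  · have : Module.Finite (Y.residueField (f x))
        (⊤ : Submodule (Y.residueField (f x)) (X.residueField x)) := by
      rw [← hMtop]; exact hMfin
    exact Module.Finite.of_surjective
      (Submodule.topEquiv (R := Y.residueField (f x)) (M := X.residueField x)).toLinearMap
      Submodule.topEquiv.surjective
  · calc Module.finrank (Y.residueField (f x)) (X.residueField x)
        = Module.finrank (Y.residueField (f x))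
            (⊤ : Submodule (Y.residueField (f x)) (X.residueField x)) :=
          finrank_top _ _ |>.symm
      _ = Module.finrank (Y.residueField (f x)) M := by rw [hMtop]
      _ ≤ (s.image ev').card := by
          have := finrank_span_finset_le_card (R := Y.residueField (f x)) (s.image ev')
          rw [Finset.coe_image] at this
          exact this
      _ ≤ s.card := Finset.card_image_le

/-- Residue degrees of a finite morphism to a quasi-compact scheme are uniformly bounded. -/
theorem exists_bound_of_isFinite {X Y : Scheme.{u}} (f : X ⟶ Y) [IsFinite f] [CompactSpace Y] :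
    ∃ N : ℕ, ∀ x : X,
      letI := (f.residueFieldMap x).hom.toAlgebra
      Module.Finite (Y.residueField (f x)) (X.residueField x) ∧
        Module.finrank (Y.residueField (f x)) (X.residueField x) ≤ N := by
  classical
  have hV : ∀ y : Y, ∃ V : Y.Opens, IsAffineOpen V ∧ y ∈ V := by
    intro y
    obtain ⟨_, ⟨V, hV, rfl⟩, hyV, -⟩ :=
      Y.isBasis_affineOpens.exists_subset_of_mem_open (Set.mem_univ y) isOpen_univ
    exact ⟨V, hV, hyV⟩
  choose V hVaff hyV using hV
  have hfin : ∀ y : Y, ∃ s : Finset Γ(X, f ⁻¹ᵁ V y),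
      letI := (f.app (V y)).hom.toAlgebra
      Submodule.span Γ(Y, V y) (s : Set Γ(X, f ⁻¹ᵁ V y)) = ⊤ := by
    intro y
    have h := f.finite_app (V y) (hVaff y)
    let _ := (f.app (V y)).hom.toAlgebra
    have h' : Module.Finite Γ(Y, V y) Γ(X, f ⁻¹ᵁ V y) := h
    exact h'.fg_top
  choose s hs using hfin
  obtain ⟨t, ht⟩ := CompactSpace.elim_nhds_subcover (fun y => ((V y : Y.Opens) : Set Y))
    (fun y => (V y).isOpen.mem_nhds (hyV y))
  refine ⟨t.sup (fun y => (s y).card), ?_⟩
  intro x
  have hx : f x ∈ ⋃ y ∈ t, ((V y : Y.Opens) : Set Y) := by rw [ht]; trivial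
  simp only [Set.mem_iUnion] at hx
  obtain ⟨y, hyt, hxy⟩ := hx
  obtain ⟨h1, h2⟩ := finrank_residueField_le f (V y) ((hVaff y).preimage f) (s y) (hs y) x hxy
  exact ⟨h1, h2.trans (Finset.le_sup (f := fun y => (s y).card) hyt)⟩

end Groth.Agent.Lib.Helper6.ResDeg
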