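import Mathlib
import Groth.Agent.Lib.Helper6.EtLocSep
import Groth.Agent.Lib.Helper6.ResDegBound

set_option autoImplicit false
universe u

open CategoryTheory AlgebraicGeometry Limits

namespace Groth.Agent.Lib.Helper6.EtLoc

/-- Stacks 02LF-style: given a finite separable extension `k` of `κ(s)`, there is an affine étale
neighbourhood `U → S` and a lift `Spec k → U` of `Spec k → Spec κ(s) → S` inducing a surjection
(hence an isomorphism) from the residue field of the image point onto `k`. -/
theorem exists_etale_nbhd_lift (S : Scheme.{u}) (s : S) (k : Type u) [Field k]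
    [Algebra (S.residueField s) k] [FiniteDimensional (S.residueField s) k]
    [Algebra.IsSeparable (S.residueField s) k] :
    ∃ (U : Scheme.{u}) (g : U ⟶ S) (φ : Spec (.of k) ⟶ U), Etale g ∧ IsAffine U ∧
      φ ≫ g = Spec.map (CommRingCat.ofHom (algebraMap (S.residueField s) k)) ≫
        S.fromSpecResidueField s ∧
      Function.Surjective (Scheme.descResidueField (Scheme.stalkClosedPointTo φ)).hom := by
  obtain ⟨_, ⟨W, hW, rfl⟩, hsW, -⟩ :=
    S.isBasis_affineOpens.exists_subset_of_mem_open (Set.mem_univ s) isOpen_univ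
  let e : Γ(S, W) →+* S.residueField s := (S.evaluation W s hsW).hom
  have he : ∀ c, ∃ a b, e b ≠ 0 ∧ e b * c = e a := fun c => by
    obtain ⟨b, c', hc', h⟩ := ResDeg.exists_evaluation_div hW s hsW c
    exact ⟨b, c', hc', by rw [mul_comm]; exact h⟩
  obtain ⟨B, _, _, _, φB, hφB, hfrac⟩ := exists_etale_lift_of_separable (k := k) e he
  haveI := hW.isOpenImmersion_fromSpec
  refine ⟨Spec (.of B), Spec.map (CommRingCat.ofHom (algebraMap Γ(S, W) B)) ≫ hW.fromSpec,
    Spec.map (CommRingCat.ofHom φB), ?_, inferInstance, ?_, ?_⟩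
  · haveI : Etale (Spec.map (CommRingCat.ofHom (algebraMap Γ(S, W) B))) :=
      HasRingHomProperty.Spec_iff.mpr (RingHom.etale_algebraMap.mpr ‹_›)
    infer_instance
  · rw [← Spec.map_comp_assoc, ← CommRingCat.ofHom_comp, hφB, CommRingCat.ofHom_comp,
      Spec.map_comp_assoc]
    congr 1
    change Spec.map (S.evaluation W s hsW) ≫ hW.fromSpec = _
    rw [Scheme.fromSpecResidueField, ← hW.fromSpecStalk_eq_fromSpecStalk hsW]
    delta IsAffineOpen.fromSpecStalk
    rw [← Spec.map_comp_assoc]
    rfl
  · intro c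
    obtain ⟨a, b, hb, hab⟩ := hfrac c
    set φ : Spec (.of k) ⟶ Spec (.of B) := Spec.map (CommRingCat.ofHom φB) with hφ
    set ψ := Scheme.descResidueField (Scheme.stalkClosedPointTo φ) with hψ
    let ev' : CommRingCat.of B ⟶ (Spec (.of B)).residueField (φ (IsLocalRing.closedPoint k)) :=
      (Scheme.ΓSpecIso (.of B)).inv ≫ (Spec (.of B)).presheaf.germ ⊤ _ trivial ≫
        (Spec (.of B)).residue _
    have hev : ev' ≫ ψ = CommRingCat.ofHom φB := by
      simp only [ev', Category.assoc, hψ, Scheme.residue_descResidueField]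
      rw [hφ, Scheme.germ_stalkClosedPointTo_Spec, Iso.inv_hom_id_assoc]
    have hev' : ∀ x : B, ψ.hom (ev'.hom x) = φB x := fun x => by
      have := congr(($hev).hom x)
      simpa using this
    refine ⟨ev'.hom a / ev'.hom b, ?_⟩
    rw [map_div₀, hev', hev', ← hab]
    field_simp
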