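import Mathlib
import Groth.Agent.Lib.Helper6.EtLocInsepScheme1
import Groth.Agent.Lib.Helper6.EtLocSepScheme

set_option autoImplicit false
universe u

open CategoryTheory AlgebraicGeometry Limits

namespace Groth.Agent.Lib.Helper6.EtLoc

theorem finite_residueField_congr {X S : Scheme.{u}} (f : X ⟶ S) (x₀ : X) (s : S) (hs : f x₀ = s)
    (h : letI := (f.residueFieldMap x₀).hom.toAlgebra
      Module.Finite (S.residueField (f x₀)) (X.residueField x₀)) :
    letI := ((S.residueFieldCongr hs).inv ≫ f.residueFieldMap x₀).hom.toAlgebra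
    Module.Finite (S.residueField s) (X.residueField x₀) := by
  subst hs
  simp only [Scheme.residueFieldCongr_refl, Iso.refl_inv, Category.id_comp]
  exact h

/-- There is an étale neighbourhood of `s` whose residue field splits the separable parts of the
residue fields of finitely many points with finite residue field extensions. -/
theorem exists_etale_nbhd_insepData {X S : Scheme.{u}} (f : X ⟶ S) (s : S) {ι : Type*} [Finite ι]
    (x : ι → X) (hs : ∀ i, f (x i) = s)
    (hfin : ∀ i, letI := ((S.residueFieldCongr (hs i)).inv ≫ f.residueFieldMap (x i)).hom.toAlgebra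
      Module.Finite (S.residueField s) (X.residueField (x i))) :
    ∃ (U' : Scheme.{u}) (g' : U' ⟶ S) (u' : U') (hu : g' u' = s), Etale g' ∧ IsAffine U' ∧
      ∀ i, InsepData f g' (x i) u' s (hs i) hu := by
  classical
  letI algL : ∀ i, Algebra (S.residueField s) (X.residueField (x i)) := fun i =>
    ((S.residueFieldCongr (hs i)).inv ≫ f.residueFieldMap (x i)).hom.toAlgebra
  haveI : ∀ i, FiniteDimensional (S.residueField s) (X.residueField (x i)) := hfin
  obtain ⟨k, _, _, _, _, hk⟩ :=
    exists_splitting_extension (K := S.residueField s) (fun i => X.residueField (x i))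
  obtain ⟨U', g', φ, hEt, hAff, hφ, hsurj⟩ := exists_etale_nbhd_lift S s k
  have h1 : (Scheme.SpecToEquivOfField k S) (φ ≫ g') =
      ⟨s, CommRingCat.ofHom (algebraMap (S.residueField s) k)⟩ := by
    rw [hφ]
    exact (Scheme.SpecToEquivOfField k S).apply_symm_apply
      ⟨s, CommRingCat.ofHom (algebraMap (S.residueField s) k)⟩
  rw [Scheme.SpecToEquivOfField_eq_iff] at h1
  obtain ⟨e, he⟩ := h1
  have hu : g' (φ (IsLocalRing.closedPoint k)) = s := e
  have hcomm : (S.residueFieldCongr hu).inv ≫ g'.residueFieldMap (φ (IsLocalRing.closedPoint k)) ≫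
      Scheme.descResidueField (Scheme.stalkClosedPointTo φ) =
      CommRingCat.ofHom (algebraMap (S.residueField s) k) := by
    have h2 := Scheme.descResidueField_stalkClosedPointTo_comp g' φ
    rw [← h2, Iso.inv_comp_eq]
    exact he
  have hbij : Function.Bijective
      (Scheme.descResidueField (Scheme.stalkClosedPointTo φ)).hom :=
    ⟨RingHom.injective _, hsurj⟩
  let ψe : U'.residueField (φ (IsLocalRing.closedPoint k)) ≃+* k :=
    RingEquiv.ofBijective _ hbij
  refine ⟨U', g', φ (IsLocalRing.closedPoint k), hu, hEt, hAff, fun i => ⟨hfin i, fun y => ?_⟩⟩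
  obtain ⟨n, hn⟩ := hk i y
  refine ⟨n, ?_⟩
  have h3 := hn.map ψe.symm.toRingHom
  rw [Polynomial.map_map] at h3
  convert h3 using 2
  ext c
  apply ψe.injective
  rw [RingHom.algebraMap_toAlgebra]
  simp only [RingEquiv.toRingHom_eq_coe, RingHom.coe_comp, RingHom.coe_coe, Function.comp_apply,
    RingEquiv.apply_symm_apply]
  exact congr(($hcomm).hom c)

end Groth.Agent.Lib.Helper6.EtLoc
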