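import Mathlib
import Groth.Agent.Lib.Helper6.FTPoints

/-!
# Étale localization of quasi-finite algebras: ring-level toolkit (I)

`TrivRes R P`: elementwise formulation of "`κ(P ∩ R) → κ(P)` is bijective".
-/

set_option autoImplicit false
universe u

open TensorProduct

namespace Groth.Agent.Lib.Helper6.EtLoc

section TrivRes

variable {R R' : Type*} [CommRing R] [CommRing R'] [Algebra R R']

/-- Elementwise triviality of the residue field extension at `P` over `R`. -/
def TrivRes (R : Type*) {R' : Type*} [CommRing R] [CommRing R'] [Algebra R R'] (P : Ideal R') :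
    Prop :=
  ∀ c : R', ∃ s a : R, algebraMap R R' s ∉ P ∧ algebraMap R R' s * c - algebraMap R R' a ∈ P

theorem trivRes_self (p : Ideal R) (hp : p ≠ ⊤) : TrivRes R p := by
  intro c
  refine ⟨1, c, ?_, ?_⟩
  · simpa using (Ideal.ne_top_iff_one p).mp hp
  · simp

theorem TrivRes.bijective (p : Ideal R) [p.IsPrime] (P : Ideal R') [P.IsPrime] [P.LiesOver p]
    (h : TrivRes R P) :
    Function.Bijective (Ideal.ResidueField.mapₐ p P (Algebra.ofId _ _) (P.over_def p)) := by
  refine ⟨RingHom.injective _, ?_⟩
  intro z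
  set m := Ideal.ResidueField.mapₐ p P (Algebra.ofId R R') (P.over_def p) with hm
  have hmap : ∀ r : R, m (algebraMap R p.ResidueField r) =
      algebraMap R' P.ResidueField (algebraMap R R' r) := by
    intro r
    rw [hm, AlgHom.commutes]
    exact IsScalarTower.algebraMap_apply R R' P.ResidueField r
  obtain ⟨d, hd, c, hdc⟩ := Groth.Agent.Lib.Helper6.exists_denominator P z
  obtain ⟨s, a, hs, hsa⟩ := h c
  obtain ⟨s', a', hs', hsa'⟩ := h d
  rw [← Ideal.algebraMap_residueField_eq_zero, map_sub, map_mul, sub_eq_zero] at hsa hsa'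
  have hd0 : algebraMap R' P.ResidueField d ≠ 0 := fun h0 =>
    hd (Ideal.algebraMap_residueField_eq_zero.mp h0)
  have hs0 : algebraMap R' P.ResidueField (algebraMap R R' s) ≠ 0 := fun h0 =>
    hs (Ideal.algebraMap_residueField_eq_zero.mp h0)
  have hs0' : algebraMap R' P.ResidueField (algebraMap R R' s') ≠ 0 := fun h0 =>
    hs' (Ideal.algebraMap_residueField_eq_zero.mp h0)
  refine ⟨(algebraMap R p.ResidueField a / algebraMap R p.ResidueField s) /
    (algebraMap R p.ResidueField a' / algebraMap R p.ResidueField s'), ?_⟩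
  rw [map_div₀, map_div₀, map_div₀, hmap, hmap, hmap, hmap, ← hsa, ← hsa']
  field_simp
  rw [← hdc]
  ring

theorem trivRes_of_bijective (p : Ideal R) [p.IsPrime] (P : Ideal R') [P.IsPrime] [P.LiesOver p]
    (h : Function.Bijective
      (Ideal.ResidueField.mapₐ p P (Algebra.ofId _ _) (P.over_def p))) :
    TrivRes R P := by
  intro c
  set m := Ideal.ResidueField.mapₐ p P (Algebra.ofId R R') (P.over_def p) with hm
  have hmap : ∀ r : R, m (algebraMap R p.ResidueField r) =
      algebraMap R' P.ResidueField (algebraMap R R' r) := by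
    intro r
    rw [hm, AlgHom.commutes]
    exact IsScalarTower.algebraMap_apply R R' P.ResidueField r
  obtain ⟨w, hw⟩ := h.2 (algebraMap R' P.ResidueField c)
  obtain ⟨s, hs, a, hsa⟩ := Groth.Agent.Lib.Helper6.exists_denominator p w
  refine ⟨s, a, ?_, ?_⟩
  · intro hmem
    apply hs
    rw [P.over_def p]
    exact hmem
  · rw [← Ideal.algebraMap_residueField_eq_zero, map_sub, map_mul, sub_eq_zero, ← hmap, ← hmap,
      ← hsa, map_mul, hw, mul_comm]

theorem trivRes_iff_bijective (p : Ideal R) [p.IsPrime] (P : Ideal R') [P.IsPrime]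
    [P.LiesOver p] :
    TrivRes R P ↔ Function.Bijective
      (Ideal.ResidueField.mapₐ p P (Algebra.ofId _ _) (P.over_def p)) :=
  ⟨TrivRes.bijective p P, trivRes_of_bijective p P⟩

/-- `TrivRes` passes to the contraction along an algebra map. -/
theorem TrivRes.comap {R'' : Type*} [CommRing R''] [Algebra R R''] (ψ : R' →ₐ[R] R'')
    (Q : Ideal R'') (h : TrivRes R Q) : TrivRes R (Q.comap ψ.toRingHom) := by
  intro c
  obtain ⟨s, a, hs, hsa⟩ := h (ψ c)
  refine ⟨s, a, ?_, ?_⟩
  · rw [Ideal.mem_comap]
    simpa using hs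
  · rw [Ideal.mem_comap]
    simpa using hsa

end TrivRes

end Groth.Agent.Lib.Helper6.EtLoc
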