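import Mathlib
import Groth.Agent.Lib.Helper6.EtLocRing1

/-!
# Étale localization of quasi-finite algebras: ring-level toolkit (II)

`IsPiece q P e P'`: over the étale neighbourhood `(R', P)`, the idempotent `e` of `R' ⊗ A` cuts
out a finite piece whose only prime over `P` is `P'`, and `P'` lies over `q`.
`IsPiece.baseChange`: pieces survive base change along residue-trivial maps of neighbourhoods.
-/

set_option autoImplicit false
universe u

open TensorProduct

namespace Groth.Agent.Lib.Helper6.EtLoc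

structure IsPiece {R₀ : Type*} [CommRing R₀] {A : Type*} [CommRing A] [Algebra R₀ A]
    {R' : Type*} [CommRing R'] [Algebra R₀ R'] (q : Ideal A) (P : Ideal R')
    (e : R' ⊗[R₀] A) (P' : Ideal (R' ⊗[R₀] A)) : Prop where
  idem : IsIdempotentElem e
  prime : P'.IsPrime
  liesOver : P'.LiesOver P
  comap_eq : P'.comap Algebra.TensorProduct.includeRight.toRingHom = q
  notMem : e ∉ P'
  finite : Module.Finite R' (Localization.Away e)
  unique : ∀ P'' : Ideal (R' ⊗[R₀] A), P''.IsPrime → P''.LiesOver P → e ∉ P'' → P'' = P'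

section BaseChange

variable {R₀ : Type*} [CommRing R₀] {A : Type*} [CommRing A] [Algebra R₀ A]
  {R' : Type*} [CommRing R'] [Algebra R₀ R'] {R'' : Type*} [CommRing R''] [Algebra R₀ R'']

/-- The base change map `R' ⊗ A → R'' ⊗ A`. -/
noncomputable abbrev bcMap (A : Type*) [CommRing A] [Algebra R₀ A] (ψ : R' →ₐ[R₀] R'') :
    R' ⊗[R₀] A →ₐ[R₀] R'' ⊗[R₀] A :=
  Algebra.TensorProduct.map ψ (AlgHom.id R₀ A)

theorem bcMap_comp_includeRight (ψ : R' →ₐ[R₀] R'') :
    (bcMap A ψ).toRingHom.comp (Algebra.TensorProduct.includeRight (R := R₀) (A := R') (B := A)).toRingHom =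
      (Algebra.TensorProduct.includeRight (R := R₀) (A := R'') (B := A)).toRingHom := by
  ext a
  simp [bcMap]

theorem bcMap_comp_algebraMap (ψ : R' →ₐ[R₀] R'') :
    (bcMap A ψ).toRingHom.comp (algebraMap R' (R' ⊗[R₀] A)) =
      (algebraMap R'' (R'' ⊗[R₀] A)).comp ψ.toRingHom := by
  ext r
  simp [bcMap, Algebra.TensorProduct.algebraMap_apply]

theorem liesOver_comap_bcMap (ψ : R' →ₐ[R₀] R'') (P : Ideal R') (Q : Ideal R'')
    (hQP : Q.comap ψ.toRingHom = P) (Q'' : Ideal (R'' ⊗[R₀] A)) [Q''.LiesOver Q] :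
    (Q''.comap (bcMap A ψ).toRingHom).LiesOver P := by
  constructor
  rw [Ideal.under, Ideal.comap_comap, bcMap_comp_algebraMap, ← Ideal.comap_comap, ← hQP]
  congr 1
  exact Q''.over_def Q

theorem comap_includeRight_comap_bcMap (ψ : R' →ₐ[R₀] R'') (Q'' : Ideal (R'' ⊗[R₀] A)) :
    (Q''.comap (bcMap A ψ).toRingHom).comap
      (Algebra.TensorProduct.includeRight (R := R₀) (A := R') (B := A)).toRingHom =
    Q''.comap (Algebra.TensorProduct.includeRight (R := R₀) (A := R'') (B := A)).toRingHom := by
  rw [Ideal.comap_comap, bcMap_comp_includeRight]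

/-- Finiteness of the localized piece after base change. -/
theorem finite_away_bcMap (ψ : R' →ₐ[R₀] R'') (e : R' ⊗[R₀] A) (he : IsIdempotentElem e)
    [Module.Finite R' (Localization.Away e)] :
    Module.Finite R'' (Localization.Away (bcMap A ψ e)) := by
  classical
  have he''i : IsIdempotentElem (bcMap A ψ e) := he.map (bcMap A ψ)
  let θ : Localization.Away e →+* Localization.Away (bcMap A ψ e) :=
    Localization.awayMap (bcMap A ψ).toRingHom e
  have hθ : ∀ x : R' ⊗[R₀] A, θ (algebraMap _ _ x) = algebraMap _ _ (bcMap A ψ x) := by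
    intro x
    simp [θ, IsLocalization.Away.map]
  obtain ⟨gens, hgens⟩ := (Module.finite_def.mp (inferInstance :
    Module.Finite R' (Localization.Away e)))
  refine Module.finite_def.mpr ⟨gens.image θ, ?_⟩
  rw [eq_top_iff]
  have key : ∀ m : Localization.Away e,
      θ m ∈ Submodule.span R''
        ((gens.image θ : Finset _) : Set (Localization.Away (bcMap A ψ e))) := by
    intro m
    have hm : m ∈ Submodule.span R' (gens : Set (Localization.Away e)) := by
      rw [hgens]; trivial
    induction hm using Submodule.span_induction with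
    | mem x hx =>
      exact Submodule.subset_span (Finset.mem_coe.mpr (Finset.mem_image_of_mem θ hx))
    | zero => simp
    | add x y _ _ hx hy => rw [map_add]; exact add_mem hx hy
    | smul r x _ hx =>
      have : θ (r • x) = ψ r • θ x := by
        rw [Algebra.smul_def, Algebra.smul_def, map_mul,
          IsScalarTower.algebraMap_apply R' (R' ⊗[R₀] A) (Localization.Away e), hθ,
          IsScalarTower.algebraMap_apply R'' (R'' ⊗[R₀] A) (Localization.Away (bcMap A ψ e))]
        congr 2
      rw [this]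
      exact Submodule.smul_mem _ _ hx
  have key2 : ∀ t : R'' ⊗[R₀] A, algebraMap _ (Localization.Away (bcMap A ψ e)) t ∈
      Submodule.span R''
        ((gens.image θ : Finset _) : Set (Localization.Away (bcMap A ψ e))) := by
    intro t
    induction t using TensorProduct.induction_on with
    | zero => simp
    | add x y hx hy => rw [map_add]; exact add_mem hx hy
    | tmul r a =>
      have h1 : (r ⊗ₜ[R₀] a : R'' ⊗[R₀] A) = r • bcMap A ψ (1 ⊗ₜ[R₀] a) := by
        simp [bcMap, TensorProduct.smul_tmul']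
      rw [h1]
      rw [show algebraMap (R'' ⊗[R₀] A) (Localization.Away (bcMap A ψ e))
          (r • bcMap A ψ (1 ⊗ₜ[R₀] a)) =
        r • algebraMap (R'' ⊗[R₀] A) (Localization.Away (bcMap A ψ e))
          (bcMap A ψ (1 ⊗ₜ[R₀] a)) from
        by rw [Algebra.smul_def, map_mul, Algebra.smul_def, ← IsScalarTower.algebraMap_apply]]
      rw [← hθ]
      exact Submodule.smul_mem _ _ (key _)
  intro n _
  obtain ⟨t, rfl⟩ :=
    IsLocalization.Away.algebraMap_surjective_of_isIdempotentElem (bcMap A ψ e) he''i n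
  exact key2 t

/-- Base change of a piece along a map of neighbourhoods `(R', P) → (R'', Q)` with `Q` residually
trivial over `R₀`. -/
theorem IsPiece.baseChange (p : Ideal R₀) [p.IsPrime] (q : Ideal A) [q.IsPrime] [q.LiesOver p]
    (P : Ideal R') [P.IsPrime] [P.LiesOver p] (Q : Ideal R'') [Q.IsPrime] [Q.LiesOver p]
    (ψ : R' →ₐ[R₀] R'') (hQP : Q.comap ψ.toRingHom = P) (hQ : TrivRes R₀ Q)
    {e : R' ⊗[R₀] A} {P' : Ideal (R' ⊗[R₀] A)} (h : IsPiece q P e P') :
    ∃ Q' : Ideal (R'' ⊗[R₀] A), IsPiece q Q (bcMap A ψ e) Q' := by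
  have hP : TrivRes R₀ P := hQP ▸ hQ.comap ψ
  have hbQ := hQ.bijective p Q
  have hbP := hP.bijective p P
  let Q'0 := (Ideal.fiberIsoOfBijectiveResidueField hbQ (S := A)).symm ⟨q, ‹_›, ‹_›⟩
  have hQ'prime : Q'0.1.IsPrime := Q'0.2.1
  have hQ'over : Q'0.1.LiesOver Q := Q'0.2.2
  have hQ'q : Q'0.1.comap Algebra.TensorProduct.includeRight.toRingHom = q :=
    Ideal.comap_fiberIsoOfBijectiveResidueField_symm hbQ _
  haveI := h.prime
  haveI := h.liesOver
  -- contraction of a prime over `Q` avoiding `e''` is `P'`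
  have hcontr : ∀ Q'' : Ideal (R'' ⊗[R₀] A), Q''.IsPrime → Q''.LiesOver Q →
      Q''.comap Algebra.TensorProduct.includeRight.toRingHom = q →
      Q''.comap (bcMap A ψ).toRingHom = P' := by
    intro Q'' _ _ hq
    haveI : (Q''.comap (bcMap A ψ).toRingHom).LiesOver P := liesOver_comap_bcMap ψ P Q hQP Q''
    apply Ideal.eq_of_comap_eq_comap_of_bijective_residueFieldMap hbP
    rw [comap_includeRight_comap_bcMap, hq, h.comap_eq]
  refine ⟨Q'0.1, h.idem.map (bcMap A ψ), hQ'prime, hQ'over, hQ'q, ?_, ?_, ?_⟩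
  · intro hmem
    have : e ∈ Q'0.1.comap (bcMap A ψ).toRingHom := hmem
    rw [hcontr Q'0.1 hQ'prime hQ'over hQ'q] at this
    exact h.notMem this
  · haveI := h.finite
    exact finite_away_bcMap ψ e h.idem
  · intro Q'' _ _ hne
    haveI : (Q''.comap (bcMap A ψ).toRingHom).LiesOver P := liesOver_comap_bcMap ψ P Q hQP Q''
    have h1 : Q''.comap (bcMap A ψ).toRingHom = P' :=
      h.unique _ inferInstance inferInstance (fun hmem => hne hmem)
    have h2 : Q''.comap Algebra.TensorProduct.includeRight.toRingHom = q := by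
      rw [← comap_includeRight_comap_bcMap ψ, h1, h.comap_eq]
    apply Ideal.eq_of_comap_eq_comap_of_bijective_residueFieldMap hbQ
    rw [h2, hQ'q]

end BaseChange

end Groth.Agent.Lib.Helper6.EtLoc
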