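import Mathlib
import Groth.Agent.Lib.Helper6.EtLocRing2

/-!
# Étale localization of quasi-finite algebras: ring-level toolkit (III)

Common refinement of two residually trivial étale neighbourhoods, and the family version of
Stacks 00UJ (`exists_family`).
-/

set_option autoImplicit false
universe u

open TensorProduct

namespace Groth.Agent.Lib.Helper6.EtLoc

section Good

variable {R : Type*} [CommRing R] {R' : Type*} [CommRing R'] [Algebra R R']

/-- The condition of `TrivRes` for a single element. -/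
def Good (R : Type*) {R' : Type*} [CommRing R] [CommRing R'] [Algebra R R'] (P : Ideal R')
    (c : R') : Prop :=
  ∃ s a : R, algebraMap R R' s ∉ P ∧ algebraMap R R' s * c - algebraMap R R' a ∈ P

theorem trivRes_iff_good (P : Ideal R') : TrivRes R P ↔ ∀ c, Good R P c := Iff.rfl

theorem good_zero (P : Ideal R') (hP : P ≠ ⊤) : Good R P 0 :=
  ⟨1, 0, by simpa using (Ideal.ne_top_iff_one P).mp hP, by simp⟩

theorem Good.add {P : Ideal R'} [P.IsPrime] {c₁ c₂ : R'} (h₁ : Good R P c₁) (h₂ : Good R P c₂) :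
    Good R P (c₁ + c₂) := by
  obtain ⟨s₁, a₁, hs₁, h₁⟩ := h₁
  obtain ⟨s₂, a₂, hs₂, h₂⟩ := h₂
  refine ⟨s₁ * s₂, s₂ * a₁ + s₁ * a₂, ?_, ?_⟩
  · rw [map_mul]
    exact fun h => (Ideal.IsPrime.mem_or_mem ‹_› h).elim hs₁ hs₂
  · have : algebraMap R R' (s₁ * s₂) * (c₁ + c₂) - algebraMap R R' (s₂ * a₁ + s₁ * a₂) =
        algebraMap R R' s₂ * (algebraMap R R' s₁ * c₁ - algebraMap R R' a₁) +
        algebraMap R R' s₁ * (algebraMap R R' s₂ * c₂ - algebraMap R R' a₂) := by
      simp only [map_mul, map_add]; ring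
    rw [this]
    exact add_mem (P.mul_mem_left _ h₁) (P.mul_mem_left _ h₂)

theorem Good.mul {P : Ideal R'} [P.IsPrime] {c₁ c₂ : R'} (h₁ : Good R P c₁) (h₂ : Good R P c₂) :
    Good R P (c₁ * c₂) := by
  obtain ⟨s₁, a₁, hs₁, h₁⟩ := h₁
  obtain ⟨s₂, a₂, hs₂, h₂⟩ := h₂
  refine ⟨s₁ * s₂, a₁ * a₂, ?_, ?_⟩
  · rw [map_mul]
    exact fun h => (Ideal.IsPrime.mem_or_mem ‹_› h).elim hs₁ hs₂
  · have : algebraMap R R' (s₁ * s₂) * (c₁ * c₂) - algebraMap R R' (a₁ * a₂) =
        (algebraMap R R' s₂ * c₂) * (algebraMap R R' s₁ * c₁ - algebraMap R R' a₁) +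
        algebraMap R R' a₁ * (algebraMap R R' s₂ * c₂ - algebraMap R R' a₂) := by
      simp only [map_mul]; ring
    rw [this]
    exact add_mem (P.mul_mem_left _ h₁) (P.mul_mem_left _ h₂)

theorem Good.map {R'' : Type*} [CommRing R''] [Algebra R R''] (ψ : R' →ₐ[R] R'') (Q : Ideal R'')
    {c : R'} (h : Good R (Q.comap ψ.toRingHom) c) : Good R Q (ψ c) := by
  obtain ⟨s, a, hs, hsa⟩ := h
  refine ⟨s, a, ?_, ?_⟩
  · rw [Ideal.mem_comap] at hs
    simpa using hs
  · rw [Ideal.mem_comap] at hsa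
    simpa using hsa

end Good

section Refine

variable {R₀ R' R₁ : Type*} [CommRing R₀] [CommRing R'] [CommRing R₁] [Algebra R₀ R']
  [Algebra R₀ R₁]

/-- Two residually trivial neighbourhoods have a common residually trivial refinement. -/
theorem exists_common_refinement (p : Ideal R₀) [p.IsPrime] (P : Ideal R') [P.IsPrime]
    [P.LiesOver p] (hP : TrivRes R₀ P) (P₁ : Ideal R₁) [P₁.IsPrime] [P₁.LiesOver p]
    (hP₁ : TrivRes R₀ P₁) :
    ∃ Q : Ideal (R' ⊗[R₀] R₁), Q.IsPrime ∧ Q.LiesOver p ∧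
      Q.comap (Algebra.TensorProduct.includeLeft (R := R₀) (S := R₀) (A := R') (B := R₁)).toRingHom
        = P ∧
      Q.comap (Algebra.TensorProduct.includeRight (R := R₀) (A := R') (B := R₁)).toRingHom = P₁ ∧
      TrivRes R₀ Q := by
  have hbP := hP.bijective p P
  let Q0 := (Ideal.fiberIsoOfBijectiveResidueField hbP (S := R₁)).symm ⟨P₁, ‹_›, ‹_›⟩
  haveI hQprime : Q0.1.IsPrime := Q0.2.1
  haveI hQover : Q0.1.LiesOver P := Q0.2.2
  have hQ1 : Q0.1.comap Algebra.TensorProduct.includeRight.toRingHom = P₁ :=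
    Ideal.comap_fiberIsoOfBijectiveResidueField_symm hbP _
  have hQ0 : Q0.1.comap
      (Algebra.TensorProduct.includeLeft (R := R₀) (S := R₀) (A := R') (B := R₁)).toRingHom = P :=
    (Q0.1.over_def P).symm
  haveI : Q0.1.LiesOver p := Ideal.LiesOver.trans Q0.1 P p
  refine ⟨Q0.1, hQprime, inferInstance, hQ0, hQ1, ?_⟩
  intro c
  induction c using TensorProduct.induction_on with
  | zero => exact good_zero _ hQprime.ne_top
  | add x y hx hy => exact Good.add hx hy
  | tmul r r₁ =>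
    have h1 : (r ⊗ₜ[R₀] r₁ : R' ⊗[R₀] R₁) =
        Algebra.TensorProduct.includeLeft (R := R₀) (S := R₀) r *
        Algebra.TensorProduct.includeRight (R := R₀) (A := R') r₁ := by
      simp
    rw [show (∃ s a : R₀, algebraMap R₀ (R' ⊗[R₀] R₁) s ∉ Q0.1 ∧
        algebraMap R₀ (R' ⊗[R₀] R₁) s * r ⊗ₜ[R₀] r₁ - algebraMap R₀ (R' ⊗[R₀] R₁) a ∈ Q0.1) =
        Good R₀ Q0.1 (r ⊗ₜ[R₀] r₁) from rfl, h1]
    refine Good.mul (Good.map _ _ ?_) (Good.map _ _ ?_)
    · rw [hQ0]; exact hP r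
    · rw [hQ1]; exact hP₁ r₁

end Refine

section Family

/-- A piece from Mathlib's Stacks 00UJ. -/
theorem exists_piece {R₀ : Type u} {A : Type u} [CommRing R₀] [CommRing A] [Algebra R₀ A]
    [Algebra.FiniteType R₀ A] (p : Ideal R₀) [p.IsPrime] (q : Ideal A) [q.IsPrime] [q.LiesOver p]
    [Algebra.QuasiFiniteAt R₀ q] :
    ∃ (R' : Type u) (_ : CommRing R') (_ : Algebra R₀ R') (_ : Algebra.Etale R₀ R') (P : Ideal R')
      (_ : P.IsPrime) (_ : P.LiesOver p), TrivRes R₀ P ∧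
      ∃ (e : R' ⊗[R₀] A) (P' : Ideal (R' ⊗[R₀] A)), IsPiece q P e P' := by
  obtain ⟨R', _, _, _, P, _, _, e, he, P', _, _, hP'q, heP', hbij, hfin, huniq⟩ :=
    Algebra.exists_etale_isIdempotentElem_forall_liesOver_eq p q
  exact ⟨R', inferInstance, inferInstance, inferInstance, P, inferInstance, inferInstance,
    trivRes_of_bijective p P hbij, e, P',
    ⟨he, inferInstance, inferInstance, hP'q, heP', hfin, huniq⟩⟩

/-- Family version of Stacks 00UJ: finitely many quasi-finite primes over `p` (in possibly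
different finite type algebras) are simultaneously split off by one residually trivial étale
neighbourhood of `p`. -/
theorem exists_family {R₀ : Type u} [CommRing R₀] (p : Ideal R₀) [p.IsPrime] {ι : Type*}
    (A : ι → Type u) [∀ i, CommRing (A i)] [∀ i, Algebra R₀ (A i)]
    [∀ i, Algebra.FiniteType R₀ (A i)] (q : ∀ i, Ideal (A i)) [∀ i, (q i).IsPrime]
    [∀ i, (q i).LiesOver p] [∀ i, Algebra.QuasiFiniteAt R₀ (q i)] (s : Finset ι) :
    ∃ (R' : Type u) (_ : CommRing R') (_ : Algebra R₀ R') (_ : Algebra.Etale R₀ R') (P : Ideal R')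
      (_ : P.IsPrime) (_ : P.LiesOver p), TrivRes R₀ P ∧
      ∀ i ∈ s, ∃ (e : R' ⊗[R₀] A i) (P' : Ideal (R' ⊗[R₀] A i)), IsPiece (q i) P e P' := by
  classical
  induction s using Finset.induction_on with
  | empty =>
    exact ⟨R₀, inferInstance, inferInstance, inferInstance, p, inferInstance, ⟨rfl⟩,
      trivRes_self p (Ideal.IsPrime.ne_top ‹_›), by simp⟩
  | insert a s' ha ih =>
    obtain ⟨R', _, _, _, P, _, _, hP, hpieces⟩ := ih
    obtain ⟨R₁, _, _, _, P₁, _, _, hP₁, e₁, P₁', hpiece₁⟩ := exists_piece p (q a)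
    obtain ⟨Q, hQprime, hQover, hQ0, hQ1, hQ⟩ := exists_common_refinement p P hP P₁ hP₁
    haveI : Algebra.Etale R₀ (R' ⊗[R₀] R₁) := Algebra.Etale.comp R₀ R' (R' ⊗[R₀] R₁)
    refine ⟨R' ⊗[R₀] R₁, inferInstance, inferInstance, inferInstance, Q, hQprime, hQover, hQ,
      ?_⟩
    intro i hi
    rcases Finset.mem_insert.mp hi with rfl | hi
    · obtain ⟨Q', hQ'⟩ := hpiece₁.baseChange p (q i) P₁ Q
        (Algebra.TensorProduct.includeRight (R := R₀) (A := R') (B := R₁)) hQ1 hQ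
      exact ⟨_, Q', hQ'⟩
    · obtain ⟨e, P', hpiece⟩ := hpieces i hi
      obtain ⟨Q', hQ'⟩ := hpiece.baseChange p (q i) P Q
        (Algebra.TensorProduct.includeLeft (R := R₀) (S := R₀) (A := R') (B := R₁)) hQ0 hQ
      exact ⟨_, Q', hQ'⟩

end Family

end Groth.Agent.Lib.Helper6.EtLoc
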