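import Mathlib
import Groth.Agent.Lib.Helper6.EtLocRing3
import Groth.Agent.Lib.Helper6.UnivHomeoRF

/-!
# Étale localization of quasi-finite morphisms: scheme-level translation (I)
-/

set_option autoImplicit false
universe u

open CategoryTheory Limits AlgebraicGeometry TensorProduct

namespace Groth.Agent.Lib.Helper6.EtLoc

/-- Surjectivity of residue field maps along a commutative square. -/
theorem residueFieldMap_surjective_of_comm {W X Y Z : Scheme.{u}} (G : W ⟶ X) (a : X ⟶ Z)
    (b : W ⟶ Y) (c : Y ⟶ Z) (hcomm : G ≫ a = b ≫ c) (w : W)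
    (hb : Function.Surjective (b.residueFieldMap w))
    (hc : Function.Surjective (c.residueFieldMap (b w))) :
    Function.Surjective (a.residueFieldMap (G w)) := by
  intro z
  obtain ⟨t₁, ht₁⟩ := hb (G.residueFieldMap w z)
  obtain ⟨t₂, ht₂⟩ := hc t₁
  have key := Scheme.Hom.residueFieldMap_congr hcomm w
  have hpt : (G ≫ a) w = (b ≫ c) w := by rw [hcomm]
  refine ⟨(Z.residueFieldCongr hpt).inv t₂, ?_⟩
  have hinj : Function.Injective (G.residueFieldMap w) := (G.residueFieldMap w).hom.injective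
  apply hinj
  have h1 : (G ≫ a).residueFieldMap w ((Z.residueFieldCongr hpt).inv t₂) =
      (b ≫ c).residueFieldMap w t₂ := by
    rw [key]
    simp only [CommRingCat.comp_apply]
    congr 1
    exact congrArg (fun k => k.hom t₂) (Z.residueFieldCongr hpt).inv_hom_id
  rw [Scheme.residueFieldMap_comp, Scheme.residueFieldMap_comp] at h1
  rw [← ht₁, ← ht₂]
  exact h1

section Piece

variable {X S : Scheme.{u}} (f : X ⟶ S) {R₀ A R' : Type u} [CommRing R₀] [CommRing A]
  [CommRing R'] [Algebra R₀ A] [Algebra R₀ R']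
  (iS : Spec (.of R₀) ⟶ S) [IsOpenImmersion iS] (iX : Spec (.of A) ⟶ X) [IsOpenImmersion iX]
  (comm : Spec.map (CommRingCat.ofHom (algebraMap R₀ A)) ≫ iS = iX ≫ f)

/-- The étale morphism `Spec R' ⟶ S`. -/
noncomputable abbrev gMap (R' : Type u) [CommRing R'] [Algebra R₀ R'] : Spec (.of R') ⟶ S :=
  Spec.map (CommRingCat.ofHom (algebraMap R₀ R')) ≫ iS

/-- `Spec (R' ⊗ A)` as the fibre product of `Spec A` and `Spec R'` over `Spec R₀`. -/
noncomputable def tensorIso (R₀ A R' : Type u) [CommRing R₀] [CommRing A]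
    [CommRing R'] [Algebra R₀ A] [Algebra R₀ R'] :
    Spec (.of (R' ⊗[R₀] A)) ≅
      pullback (Spec.map (CommRingCat.ofHom (algebraMap R₀ A)))
        (Spec.map (CommRingCat.ofHom (algebraMap R₀ R'))) :=
  (pullbackSpecIso R₀ R' A).symm ≪≫ pullbackSymmetry _ _

theorem tensorIso_hom_fst :
    (tensorIso R₀ A R').hom ≫ pullback.fst _ _ =
      Spec.map (CommRingCat.ofHom
        (Algebra.TensorProduct.includeRight (R := R₀) (A := R') (B := A)).toRingHom) := by
  dsimp [tensorIso]
  rw [Category.assoc, pullbackSymmetry_hom_comp_fst]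
  exact pullbackSpecIso_inv_snd ..

theorem tensorIso_hom_snd :
    (tensorIso R₀ A R').hom ≫ pullback.snd _ _ =
      Spec.map (CommRingCat.ofHom (algebraMap R' (R' ⊗[R₀] A))) := by
  dsimp [tensorIso]
  rw [Category.assoc, pullbackSymmetry_hom_comp_snd]
  exact pullbackSpecIso_inv_fst ..

/-- The open immersion `Spec (R' ⊗ A) ⟶ X ×_S Spec R'`. -/
noncomputable def bigMap : Spec (.of (R' ⊗[R₀] A)) ⟶ pullback f (gMap iS R') :=
  (tensorIso R₀ A R').hom ≫ pullback.map _ _ _ _ iX (𝟙 _) iS comm (by simp [gMap])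

instance : IsOpenImmersion (bigMap f iS iX comm (R' := R')) := by
  unfold bigMap
  infer_instance

theorem bigMap_fst :
    bigMap f iS iX comm (R' := R') ≫ pullback.fst _ _ =
      Spec.map (CommRingCat.ofHom
        (Algebra.TensorProduct.includeRight (R := R₀) (A := R') (B := A)).toRingHom) ≫ iX := by
  unfold bigMap
  rw [Category.assoc, pullback.lift_fst, ← Category.assoc, tensorIso_hom_fst]

theorem bigMap_snd :
    bigMap f iS iX comm (R' := R') ≫ pullback.snd _ _ =
      Spec.map (CommRingCat.ofHom (algebraMap R' (R' ⊗[R₀] A))) := by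
  unfold bigMap
  rw [Category.assoc, pullback.lift_snd, ← Category.assoc, tensorIso_hom_snd, Category.comp_id]

end Piece

end Groth.Agent.Lib.Helper6.EtLoc
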