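import Mathlib
import Groth.Agent.Lib.Helper6.EtLocScheme1

/-!
# Étale localization of quasi-finite morphisms: scheme-level translation (II)

`exists_opens_of_isPiece`: a ring-level piece gives an open of `X ×_S Spec R'`, finite over
`Spec R'`, with exactly one point over `P`.
-/

set_option autoImplicit false
universe u

open CategoryTheory Limits AlgebraicGeometry TensorProduct

namespace Groth.Agent.Lib.Helper6.EtLoc

section RingLemma

variable {R₀ A R' : Type*} [CommRing R₀] [CommRing A] [CommRing R'] [Algebra R₀ A]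
  [Algebra R₀ R']

/-- If `κ(P)` is trivial over `R₀`, residue fields of primes of `R' ⊗ A` over `P` are generated
by `A`. -/
theorem good_right (P : Ideal R') (hP : TrivRes R₀ P) (P' : Ideal (R' ⊗[R₀] A)) [P'.IsPrime]
    [P'.LiesOver P] (c : R' ⊗[R₀] A) :
    ∃ s a : A, (1 : R') ⊗ₜ[R₀] s ∉ P' ∧ ((1 : R') ⊗ₜ[R₀] s) * c - (1 : R') ⊗ₜ[R₀] a ∈ P' := by
  letI : Algebra A (R' ⊗[R₀] A) := Algebra.TensorProduct.rightAlgebra
  have hal : ∀ a : A, algebraMap A (R' ⊗[R₀] A) a = (1 : R') ⊗ₜ[R₀] a := fun a => rfl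
  suffices H : Good A P' c by
    obtain ⟨s, a, hs, hsa⟩ := H
    exact ⟨s, a, by rwa [hal] at hs, by rwa [hal, hal] at hsa⟩
  induction c using TensorProduct.induction_on with
  | zero => exact good_zero _ (Ideal.IsPrime.ne_top ‹_›)
  | add x y hx hy => exact Good.add hx hy
  | tmul r b =>
    have h1 : (r ⊗ₜ[R₀] b : R' ⊗[R₀] A) = (r ⊗ₜ[R₀] (1 : A)) * ((1 : R') ⊗ₜ[R₀] b) := by simp
    rw [h1]
    refine Good.mul ?_ ⟨1, b, ?_, ?_⟩
    · obtain ⟨s₀, a₀, hs₀, hsa₀⟩ := hP r
      have hswap : ∀ t : R₀, (1 : R') ⊗ₜ[R₀] (algebraMap R₀ A t) =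
          (algebraMap R₀ R' t) ⊗ₜ[R₀] (1 : A) := by
        intro t
        rw [Algebra.algebraMap_eq_smul_one, Algebra.algebraMap_eq_smul_one,
          TensorProduct.smul_tmul]
      refine ⟨algebraMap R₀ A s₀, algebraMap R₀ A a₀, ?_, ?_⟩
      · rw [hal, hswap]
        intro hmem
        apply hs₀
        rw [P'.over_def P, Ideal.under, Ideal.mem_comap, Algebra.TensorProduct.algebraMap_apply]
        simpa using hmem
      · rw [hal, hal, hswap, hswap]
        have : ((algebraMap R₀ R' s₀) ⊗ₜ[R₀] (1 : A)) * (r ⊗ₜ[R₀] (1 : A)) -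
            (algebraMap R₀ R' a₀) ⊗ₜ[R₀] (1 : A) =
            algebraMap R' (R' ⊗[R₀] A) (algebraMap R₀ R' s₀ * r - algebraMap R₀ R' a₀) := by
          rw [Algebra.TensorProduct.algebraMap_apply, Algebra.TensorProduct.tmul_mul_tmul,
            mul_one, ← TensorProduct.sub_tmul]
          simp
        rw [this]
        have hmem : algebraMap R₀ R' s₀ * r - algebraMap R₀ R' a₀ ∈ P'.under R' := by
          rw [← P'.over_def P]; exact hsa₀
        exact hmem
    · rw [hal, ← Algebra.TensorProduct.one_def]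
      exact (Ideal.ne_top_iff_one P').mp (Ideal.IsPrime.ne_top ‹_›)
    · rw [hal, hal]; simp

end RingLemma

section Piece

variable {X S : Scheme.{u}} (f : X ⟶ S) {R₀ A R' : Type u} [CommRing R₀] [CommRing A]
  [CommRing R'] [Algebra R₀ A] [Algebra R₀ R']
  (iS : Spec (.of R₀) ⟶ S) [IsOpenImmersion iS] (iX : Spec (.of A) ⟶ X) [IsOpenImmersion iX]
  (comm : Spec.map (CommRingCat.ofHom (algebraMap R₀ A)) ≫ iS = iX ≫ f)

set_option backward.isDefEq.respectTransparency false in
theorem isFinite_of_isPiece (e : R' ⊗[R₀] A) [Module.Finite R' (Localization.Away e)] :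
    IsFinite (((bigMap f iS iX comm (R' := R')) ''ᵁ PrimeSpectrum.basicOpen e).ι ≫
      pullback.snd f (gMap iS R')) := by
  let G := bigMap f iS iX comm (R' := R')
  let ι : Spec (.of (Localization.Away e)) ⟶ pullback f (gMap iS R') :=
    Spec.map (CommRingCat.ofHom <| algebraMap (R' ⊗[R₀] A) (Localization.Away e)) ≫ G
  have hι : ι.opensRange = G ''ᵁ PrimeSpectrum.basicOpen e := by
    simp only [Scheme.Hom.opensRange_comp, ι]
    congr 1
    exact TopologicalSpace.Opens.ext <| PrimeSpectrum.localization_away_comap_range _ _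
  change IsFinite ((G ''ᵁ PrimeSpectrum.basicOpen e).ι ≫ pullback.snd f (gMap iS R'))
  rw [← hι, ← MorphismProperty.cancel_left_of_respectsIso @IsFinite
    (Scheme.Hom.isoOpensRange _).hom]
  have hfin : (algebraMap R' (Localization.Away e)).Finite := RingHom.finite_algebraMap.mpr ‹_›
  have hcomp : ι ≫ pullback.snd f (gMap iS R') =
      Spec.map (CommRingCat.ofHom (algebraMap R' (Localization.Away e))) := by
    simp only [ι, G, Category.assoc, bigMap_snd, ← Spec.map_comp]
    rfl
  simpa [Scheme.Hom.isoOpensRange, hcomp, IsFinite.SpecMap_iff] using hfin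

theorem residueFieldMap_surjective_of_trivRes (u : Spec (.of R'))
    (hP : TrivRes R₀ u.asIdeal) :
    Function.Surjective ((Spec.map (CommRingCat.ofHom (algebraMap R₀ R'))).residueFieldMap u) :=
  (Groth.Agent.Lib.Helper6.UnivHomeoRing.residueFieldMap_surjective_iff _ u).mpr fun c => hP c

omit [IsOpenImmersion iX] in
theorem gMap_residueFieldMap_bijective (u : Spec (.of R')) (hP : TrivRes R₀ u.asIdeal) :
    Function.Bijective ((gMap iS R').residueFieldMap u) := by
  refine ⟨((gMap iS R').residueFieldMap _).hom.injective, ?_⟩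
  have h := Scheme.residueFieldMap_comp (Spec.map (CommRingCat.ofHom (algebraMap R₀ R'))) iS u
  change Function.Surjective ((Spec.map (CommRingCat.ofHom (algebraMap R₀ R')) ≫
    iS).residueFieldMap u)
  intro z
  obtain ⟨t, ht⟩ := residueFieldMap_surjective_of_trivRes u hP z
  obtain ⟨t', ht'⟩ := (ConcreteCategory.bijective_of_isIso (iS.residueFieldMap
    (Spec.map (CommRingCat.ofHom (algebraMap R₀ R')) u))).2 t
  refine ⟨t', ?_⟩
  rw [h]
  change (Scheme.Hom.residueFieldMap (Spec.map (CommRingCat.ofHom (algebraMap R₀ R'))) u).hom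
    ((Scheme.Hom.residueFieldMap iS _).hom t') = z
  rw [ht', ht]

theorem bigMap_fst_apply (y : Spec (.of (R' ⊗[R₀] A))) :
    pullback.fst f (gMap iS R') (bigMap f iS iX comm y) =
      iX (Spec.map (CommRingCat.ofHom
        (Algebra.TensorProduct.includeRight (R := R₀) (A := R') (B := A)).toRingHom) y) := by
  rw [← Scheme.Hom.comp_apply, bigMap_fst, Scheme.Hom.comp_apply]

theorem bigMap_snd_apply (y : Spec (.of (R' ⊗[R₀] A))) :
    pullback.snd f (gMap iS R') (bigMap f iS iX comm y) =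
      Spec.map (CommRingCat.ofHom (algebraMap R' (R' ⊗[R₀] A))) y := by
  rw [← Scheme.Hom.comp_apply, bigMap_snd]

theorem range_bigMap :
    Set.range (bigMap f iS iX comm (R' := R')) =
      pullback.fst f (gMap iS R') ⁻¹' Set.range iX := by
  unfold bigMap
  rw [Scheme.Hom.comp_base, TopCat.coe_comp, Set.range_comp,
    Set.range_eq_univ.mpr (tensorIso R₀ A R').hom.surjective, Set.image_univ,
    Scheme.Pullback.range_map]
  simp

include comm in
theorem exists_opens_of_isPiece (q : Ideal A) [q.IsPrime] (P : Ideal R') [P.IsPrime]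
    (hP : TrivRes R₀ P) {e : R' ⊗[R₀] A} {P' : Ideal (R' ⊗[R₀] A)} (h : IsPiece q P e P') :
    ∃ (V : (pullback f (gMap iS R')).Opens) (v : ↑(pullback f (gMap iS R'))),
      v ∈ V ∧ IsFinite (V.ι ≫ pullback.snd f (gMap iS R')) ∧
      pullback.snd f (gMap iS R') v = (⟨P, ‹_›⟩ : PrimeSpectrum R') ∧
      (∀ w ∈ V, pullback.snd f (gMap iS R') w = (⟨P, ‹_›⟩ : PrimeSpectrum R') → w = v) ∧
      pullback.fst f (gMap iS R') v = iX (⟨q, ‹_›⟩ : PrimeSpectrum A) ∧
      Function.Bijective ((pullback.fst f (gMap iS R')).residueFieldMap v) ∧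
      (∀ w, pullback.snd f (gMap iS R') w = (⟨P, ‹_›⟩ : PrimeSpectrum R') →
        pullback.fst f (gMap iS R') w = iX (⟨q, ‹_›⟩ : PrimeSpectrum A) → w = v) ∧
      (IsSeparated f → IsClopen (V : Set ↑(pullback f (gMap iS R')))) := by
  haveI := h.prime
  haveI := h.liesOver
  haveI := h.finite
  let G := bigMap f iS iX comm (R' := R')
  let y' : Spec (.of (R' ⊗[R₀] A)) := (⟨P', h.prime⟩ : PrimeSpectrum (R' ⊗[R₀] A))
  have hsnd : ∀ y : Spec (.of (R' ⊗[R₀] A)), pullback.snd f (gMap iS R') (G y) =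
      (⟨P, ‹_›⟩ : PrimeSpectrum R') → (y.asIdeal).LiesOver P := by
    intro y hy
    rw [bigMap_snd_apply] at hy
    exact ⟨congrArg PrimeSpectrum.asIdeal hy.symm⟩
  have hfin : IsFinite ((G ''ᵁ PrimeSpectrum.basicOpen e).ι ≫ pullback.snd f (gMap iS R')) :=
    isFinite_of_isPiece f iS iX comm e
  have hbij := hP.bijective (P.under R₀) P
  refine ⟨G ''ᵁ PrimeSpectrum.basicOpen e, G y', ⟨y', h.notMem, rfl⟩, hfin, ?_, ?_, ?_, ?_, ?_, ?_⟩
  · rw [bigMap_snd_apply]
    exact PrimeSpectrum.ext (P'.over_def P).symm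
  · rintro _ ⟨y, hy, rfl⟩ hw
    have : y.asIdeal.LiesOver P := hsnd y hw
    have := h.unique y.asIdeal y.isPrime this hy
    congr 1
    exact PrimeSpectrum.ext this
  · rw [bigMap_fst_apply]
    congr 1
    exact PrimeSpectrum.ext h.comap_eq
  · refine ⟨((pullback.fst f (gMap iS R')).residueFieldMap (G y')).hom.injective, ?_⟩
    refine residueFieldMap_surjective_of_comm G _ _ iX (bigMap_fst f iS iX comm) y' ?_ ?_
    · rw [Groth.Agent.Lib.Helper6.UnivHomeoRing.residueFieldMap_surjective_iff]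
      intro c
      obtain ⟨s, a, hs, hsa⟩ := good_right P hP P' c
      exact ⟨s, a, hs, hsa⟩
    · exact (ConcreteCategory.bijective_of_isIso (iX.residueFieldMap _)).2
  · intro w hw1 hw2
    have hwr : w ∈ Set.range G := by
      rw [range_bigMap]
      exact ⟨_, hw2.symm⟩
    obtain ⟨y, rfl⟩ := hwr
    have hyP : y.asIdeal.LiesOver P := hsnd y hw1
    rw [bigMap_fst_apply] at hw2
    have hq : y.asIdeal.comap Algebra.TensorProduct.includeRight.toRingHom = q :=
      congrArg PrimeSpectrum.asIdeal (iX.injective hw2)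
    haveI := y.isPrime
    have : y.asIdeal = P' := by
      apply Ideal.eq_of_comap_eq_comap_of_bijective_residueFieldMap hbij
      rw [hq, h.comap_eq]
    congr 1
    exact PrimeSpectrum.ext this
  · intro hsep
    haveI : IsFinite (G ''ᵁ PrimeSpectrum.basicOpen e).ι :=
      IsFinite.of_comp _ (pullback.snd f (gMap iS R'))
    refine ⟨?_, (G ''ᵁ PrimeSpectrum.basicOpen e).2⟩
    simpa using (G ''ᵁ PrimeSpectrum.basicOpen e).ι.isClosedMap.isClosed_range

end Piece

end Groth.Agent.Lib.Helper6.EtLoc
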