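import Mathlib
import Groth.Agent.Lib.Helper6.EtLocScheme2

/-!
# Étale localization of quasi-finite morphisms: the family theorem (Stacks 02LK/02LM)
-/

set_option autoImplicit false
universe u

open CategoryTheory Limits AlgebraicGeometry TensorProduct

namespace Groth.Agent.Lib.Helper6.EtLoc

set_option backward.isDefEq.respectTransparency false in
theorem liesOver_primeIdealOf {X S : Scheme.{u}} (f : X ⟶ S) {U : S.Opens} (hU : IsAffineOpen U)
    {V : X.Opens} (hV : IsAffineOpen V) (hUV : V ≤ f ⁻¹ᵁ U) (x : X) (hxV : x ∈ V) (s : S)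
    (hsU : s ∈ U) (hs : f x = s) :
    letI := (f.appLE U V hUV).hom.toAlgebra
    (hV.primeIdealOf ⟨x, hxV⟩).asIdeal.LiesOver (hU.primeIdealOf ⟨s, hsU⟩).asIdeal := by
  subst hs
  letI := (f.appLE U V hUV).hom.toAlgebra
  suffices hU.primeIdealOf ⟨f x, hsU⟩ = Spec.map (f.appLE U V hUV) (hV.primeIdealOf ⟨x, hxV⟩) from
    ⟨congr(($this).1)⟩
  apply hU.isoSpec.inv.homeomorph.injective
  apply Subtype.ext
  simp only [IsAffineOpen.primeIdealOf, Scheme.Hom.homeomorph_apply,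
    ← Scheme.Hom.comp_apply, ← Scheme.Opens.ι_apply, IsAffineOpen.isoSpec_hom]
  simp

/-- Stacks 02LK/02LM (étale localization of quasi-finite morphisms at finitely many points of one
fibre), with trivial residue field extensions. -/
theorem exists_etale_nbhd_family {X S : Scheme.{u}} (f : X ⟶ S) [LocallyOfFiniteType f] (s : S)
    {ι : Type*} [Finite ι] (x : ι → X) (hs : ∀ i, f (x i) = s)
    (hx : ∀ i, f.QuasiFiniteAt (x i)) :
    ∃ (U : Scheme.{u}) (g : U ⟶ S) (u : U), IsAffine U ∧ Etale g ∧ g u = s ∧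
      Function.Bijective (g.residueFieldMap u) ∧
      ∃ (V : ι → (pullback f g).Opens) (v : ι → ↑(pullback f g)), ∀ i,
        v i ∈ V i ∧ IsFinite ((V i).ι ≫ pullback.snd f g) ∧ pullback.snd f g (v i) = u ∧
        (∀ w ∈ V i, pullback.snd f g w = u → w = v i) ∧ pullback.fst f g (v i) = x i ∧
        Function.Bijective ((pullback.fst f g).residueFieldMap (v i)) ∧
        (∀ w, pullback.snd f g w = u → pullback.fst f g w = x i → w = v i) ∧
        (IsSeparated f → IsClopen (V i : Set ↑(pullback f g))) := by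
  classical
  haveI := Fintype.ofFinite ι
  obtain ⟨_, ⟨U₀, hU, rfl⟩, hsU, -⟩ := S.isBasis_affineOpens.exists_subset_of_mem_open
    (Set.mem_univ s) isOpen_univ
  have hxU : ∀ i, x i ∈ f ⁻¹ᵁ U₀ := fun i => by
    change f (x i) ∈ U₀
    rw [hs i]; exact hsU
  have hex : ∀ i, ∃ V₀ : X.Opens, IsAffineOpen V₀ ∧ x i ∈ V₀ ∧ V₀ ≤ f ⁻¹ᵁ U₀ := by
    intro i
    obtain ⟨_, ⟨V₀, hV, rfl⟩, hxV, hVU⟩ :=
      X.isBasis_affineOpens.exists_subset_of_mem_open (hxU i) (f ⁻¹ᵁ U₀).2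
    exact ⟨V₀, hV, hxV, hVU⟩
  choose V₀ hV hxV hVU using hex
  letI : ∀ i, Algebra Γ(S, U₀) Γ(X, V₀ i) := fun i => (f.appLE U₀ (V₀ i) (hVU i)).hom.toAlgebra
  haveI : ∀ i, Algebra.FiniteType Γ(S, U₀) Γ(X, V₀ i) := fun i =>
    f.finiteType_appLE hU (hV i) (hVU i)
  let p : Ideal Γ(S, U₀) := (hU.primeIdealOf ⟨s, hsU⟩).asIdeal
  let q : ∀ i, Ideal Γ(X, V₀ i) := fun i => ((hV i).primeIdealOf ⟨x i, hxV i⟩).asIdeal
  haveI : ∀ i, (q i).LiesOver p := fun i =>
    liesOver_primeIdealOf f hU (hV i) (hVU i) (x i) (hxV i) s hsU (hs i)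
  haveI : ∀ i, Algebra.QuasiFiniteAt Γ(S, U₀) (q i) := fun i =>
    (hx i).quasiFiniteAt (hV i) hU (hVU i) (hxV i)
  obtain ⟨R', _, _, _, P, _, _, hP, hpieces⟩ :=
    exists_family p (fun i => Γ(X, V₀ i)) q Finset.univ
  have hEt : Etale (Spec.map (CommRingCat.ofHom (algebraMap Γ(S, U₀) R'))) :=
    HasRingHomProperty.Spec_iff.mpr (RingHom.etale_algebraMap.mpr ‹_›)
  haveI := hU.isOpenImmersion_fromSpec
  let g : Spec (.of R') ⟶ S := gMap hU.fromSpec R'
  haveI hgEt : Etale g := by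
    change Etale (Spec.map (CommRingCat.ofHom (algebraMap Γ(S, U₀) R')) ≫ hU.fromSpec)
    infer_instance
  let u : Spec (.of R') := (⟨P, ‹_›⟩ : PrimeSpectrum R')
  have hdata : ∀ i, ∃ (V : (pullback f g).Opens) (v : ↑(pullback f g)),
      v ∈ V ∧ IsFinite (V.ι ≫ pullback.snd f g) ∧ pullback.snd f g v = u ∧
      (∀ w ∈ V, pullback.snd f g w = u → w = v) ∧ pullback.fst f g v = x i ∧
      Function.Bijective ((pullback.fst f g).residueFieldMap v) ∧
      (∀ w, pullback.snd f g w = u → pullback.fst f g w = x i → w = v) ∧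
      (IsSeparated f → IsClopen (V : Set ↑(pullback f g))) := by
    intro i
    obtain ⟨e, P', hpiece⟩ := hpieces i (Finset.mem_univ i)
    haveI := (hV i).isOpenImmersion_fromSpec
    have comm : Spec.map (CommRingCat.ofHom (algebraMap Γ(S, U₀) Γ(X, V₀ i))) ≫ hU.fromSpec =
        (hV i).fromSpec ≫ f := IsAffineOpen.SpecMap_appLE_fromSpec f hU (hV i) (hVU i)
    obtain ⟨V, v, h1, h2, h3, h4, h5, h6, h7, h8⟩ :=
      exists_opens_of_isPiece f hU.fromSpec (hV i).fromSpec comm (q i) P hP hpiece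
    have hxi : (hV i).fromSpec (⟨q i, inferInstance⟩ : PrimeSpectrum Γ(X, V₀ i)) = x i :=
      (hV i).fromSpec_primeIdealOf ⟨x i, hxV i⟩
    rw [hxi] at h5 h7
    exact ⟨V, v, h1, h2, h3, h4, h5, h6, h7, h8⟩
  choose V v hVv using hdata
  refine ⟨Spec (.of R'), g, u, inferInstance, hgEt, ?_, ?_, V, v, hVv⟩
  · change hU.fromSpec (Spec.map (CommRingCat.ofHom (algebraMap Γ(S, U₀) R')) u) = s
    have : Spec.map (CommRingCat.ofHom (algebraMap Γ(S, U₀) R')) u = hU.primeIdealOf ⟨s, hsU⟩ :=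
      PrimeSpectrum.ext (P.over_def p).symm
    rw [this]
    exact hU.fromSpec_primeIdealOf ⟨s, hsU⟩
  · exact gMap_residueFieldMap_bijective hU.fromSpec u hP

end Groth.Agent.Lib.Helper6.EtLoc
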