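import Mathlib
import Groth.Agent.Lib.Helper6.EtLocScheme3
import Groth.Agent.Lib.Helper6.EtLocUnion

/-!
# Étale localization of quasi-finite morphisms: separated case with disjoint clopen pieces
(Stacks 02LN with trivial residue field extensions)
-/

set_option autoImplicit false
universe u

open CategoryTheory Limits AlgebraicGeometry TensorProduct

namespace Groth.Agent.Lib.Helper6.EtLoc

theorem exists_etale_nbhd_family_separated {X S : Scheme.{u}} (f : X ⟶ S)
    [LocallyOfFiniteType f] [IsSeparated f] (s : S)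
    {ι : Type*} [Finite ι] (x : ι → X) (hinj : Function.Injective x) (hs : ∀ i, f (x i) = s)
    (hx : ∀ i, f.QuasiFiniteAt (x i)) :
    ∃ (U : Scheme.{u}) (g : U ⟶ S) (u : U), IsAffine U ∧ Etale g ∧ g u = s ∧
      Function.Bijective (g.residueFieldMap u) ∧
      ∃ (V : ι → (pullback f g).Opens) (v : ι → ↑(pullback f g)),
        (Pairwise fun i j => Disjoint (V i) (V j)) ∧
        (∀ i, IsClopen (V i : Set ↑(pullback f g)) ∧
          v i ∈ V i ∧ IsFinite ((V i).ι ≫ pullback.snd f g) ∧ pullback.snd f g (v i) = u ∧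
          (∀ w ∈ V i, pullback.snd f g w = u → w = v i) ∧ pullback.fst f g (v i) = x i ∧
          Function.Bijective ((pullback.fst f g).residueFieldMap (v i)) ∧
          (∀ w, pullback.snd f g w = u → pullback.fst f g w = x i → w = v i)) ∧
        IsClopen (((⨆ i, V i : (pullback f g).Opens)) : Set ↑(pullback f g)) ∧
        IsFinite ((⨆ i, V i).ι ≫ pullback.snd f g) := by
  classical
  obtain ⟨U, g, u, hUaff, hEt, hgu, hbij, V₀, v, hVv⟩ := exists_etale_nbhd_family f s x hs hx
  have hclopen : ∀ i, IsClopen (V₀ i : Set ↑(pullback f g)) := fun i =>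
    (hVv i).2.2.2.2.2.2.2 inferInstance
  have hC : ∀ i, IsClopen (⋃ j ∈ {j | j ≠ i}, (V₀ j : Set ↑(pullback f g))) := fun i =>
    Set.Finite.isClopen_biUnion (Set.toFinite _) (fun j _ => hclopen j)
  have hW : ∀ i, IsClopen ((V₀ i : Set ↑(pullback f g)) \
      ⋃ j ∈ {j | j ≠ i}, (V₀ j : Set ↑(pullback f g))) := fun i => (hclopen i).diff (hC i)
  let W : ι → (pullback f g).Opens := fun i => ⟨_, (hW i).isOpen⟩
  have hWle : ∀ i, W i ≤ V₀ i := fun i w hw => hw.1
  have hvne : ∀ i j, j ≠ i → v i ∉ V₀ j := by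
    intro i j hji hmem
    have h1 : v i = v j := (hVv j).2.2.2.1 (v i) hmem (hVv i).2.2.1
    have h2 : x i = x j := by
      rw [← (hVv i).2.2.2.2.1, ← (hVv j).2.2.2.2.1, h1]
    exact hji (hinj h2).symm
  have hvW : ∀ i, v i ∈ W i := by
    intro i
    refine ⟨(hVv i).1, ?_⟩
    simp only [Set.mem_iUnion, not_exists]
    intro j hj hmem
    exact hvne i j hj hmem
  have hdisj : Pairwise fun i j => Disjoint (W i) (W j) := by
    intro i j hij
    rw [disjoint_iff]
    ext w
    simp only [TopologicalSpace.Opens.coe_inf, Set.mem_inter_iff, SetLike.mem_coe,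
      TopologicalSpace.Opens.coe_bot, Set.mem_empty_iff_false, iff_false, not_and]
    intro hwi hwj
    apply hwj.2
    simp only [Set.mem_iUnion]
    exact ⟨i, hij, hwi.1⟩
  have hfinW : ∀ i, IsFinite ((W i).ι ≫ pullback.snd f g) := by
    intro i
    haveI := (hVv i).2.1
    exact isFinite_of_le_of_isClosed _ (hWle i) (hW i).isClosed
  refine ⟨U, g, u, hUaff, hEt, hgu, hbij, W, v, hdisj, fun i => ?_, ?_, ?_⟩
  · obtain ⟨h1, h2, h3, h4, h5, h6, h7, h8⟩ := hVv i
    exact ⟨hW i, hvW i, hfinW i, h3, fun w hw => h4 w (hWle i hw), h5, h6, h7⟩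
  · rw [TopologicalSpace.Opens.coe_iSup]
    exact isClopen_iUnion_of_finite fun i => hW i
  · exact isFinite_iSup_of_pairwise_disjoint _ W hdisj hfinW

end Groth.Agent.Lib.Helper6.EtLoc
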