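import Mathlib
import Groth.Agent.Lib.Helper6.EtLocInsepScheme2
import Groth.Agent.Lib.Helper6.EtLocInsepPoints
import Groth.Agent.Lib.Helper6.EtLocScheme4
import Groth.Agent.Lib.Helper13.QuasiFiniteBaseChange

set_option autoImplicit false
universe u

open CategoryTheory AlgebraicGeometry Limits

namespace Groth.Agent.Lib.Helper6.EtLoc

/-- Combined form of the family theorems: the separated conclusions hold when `f` is separated. -/
theorem exists_etale_nbhd_family_combined {X S : Scheme.{u}} (f : X ⟶ S)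
    [LocallyOfFiniteType f] (s : S)
    {ι : Type*} [Finite ι] (x : ι → X) (hinj : Function.Injective x) (hs : ∀ i, f (x i) = s)
    (hx : ∀ i, f.QuasiFiniteAt (x i)) :
    ∃ (U : Scheme.{u}) (g : U ⟶ S) (u : U), IsAffine U ∧ Etale g ∧ g u = s ∧
      Function.Bijective (g.residueFieldMap u) ∧
      ∃ (V : ι → (pullback f g).Opens) (v : ι → ↑(pullback f g)),
        (∀ i, v i ∈ V i ∧ IsFinite ((V i).ι ≫ pullback.snd f g) ∧ pullback.snd f g (v i) = u ∧
          (∀ w ∈ V i, pullback.snd f g w = u → w = v i) ∧ pullback.fst f g (v i) = x i ∧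
          Function.Bijective ((pullback.fst f g).residueFieldMap (v i)) ∧
          (∀ w, pullback.snd f g w = u → pullback.fst f g w = x i → w = v i)) ∧
        (IsSeparated f → (∀ i, IsClopen (V i : Set ↑(pullback f g))) ∧
          Pairwise fun i j => Disjoint (V i) (V j)) := by
  by_cases hsep : IsSeparated f
  · obtain ⟨U, g, u, h1, h2, h3, h4, V, v, hd, hV, -, -⟩ :=
      exists_etale_nbhd_family_separated f s x hinj hs hx
    refine ⟨U, g, u, h1, h2, h3, h4, V, v, fun i => ?_, fun _ => ⟨fun i => (hV i).1, hd⟩⟩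
    obtain ⟨-, a1, a2, a3, a4, a5, a6, a7⟩ := hV i
    exact ⟨a1, a2, a3, a4, a5, a6, a7⟩
  · obtain ⟨U, g, u, h1, h2, h3, h4, V, v, hV⟩ := exists_etale_nbhd_family f s x hs hx
    refine ⟨U, g, u, h1, h2, h3, h4, V, v, fun i => ?_, fun h => absurd h hsep⟩
    obtain ⟨a1, a2, a3, a4, a5, a6, a7, -⟩ := hV i
    exact ⟨a1, a2, a3, a4, a5, a6, a7⟩

open Scheme.Pullback in
/-- Étale localization of quasi-finite morphisms with purely inseparable residue field extensions
(Stacks 02LN-style), with the extra clopen/disjointness conclusions in the separated case. -/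
theorem exists_etale_nbhd_insep_family {X S : Scheme.{u}} (f : X ⟶ S) [LocallyOfFiniteType f]
    (s : S) {ι : Type} [Finite ι] (x : ι → ↑X) (hinj : Function.Injective x)
    (hs : ∀ i, f (x i) = s) (hx : ∀ i, f.QuasiFiniteAt (x i)) :
    ∃ (U : Scheme.{u}) (g : U ⟶ S) (u : U), Etale g ∧ g u = s ∧
      ∃ (J : ι → Type) (_ : ∀ i, Finite (J i)) (V : ∀ i, J i → (pullback f g).Opens)
        (v : ∀ i, J i → ↑(pullback f g)),
        (∀ i j, v i j ∈ V i j ∧ IsFinite ((V i j).ι ≫ pullback.snd f g) ∧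
          pullback.snd f g (v i j) = u ∧
          (∀ w : ↑(pullback f g), w ∈ V i j → pullback.snd f g w = u → w = v i j) ∧
          (letI := ((pullback.snd f g).residueFieldMap (v i j)).hom.toAlgebra
           Module.Finite ↑(U.residueField (pullback.snd f g (v i j)))
              ↑((pullback f g).residueField (v i j)) ∧
           IsPurelyInseparable ↑(U.residueField (pullback.snd f g (v i j)))
              ↑((pullback f g).residueField (v i j))) ∧
          pullback.fst f g (v i j) = x i) ∧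
        (∀ i j i' j', v i j = v i' j' → i = i' ∧ HEq j j') ∧
        (∀ (w : ↑(pullback f g)) (i : ι), pullback.snd f g w = u → pullback.fst f g w = x i →
          ∃ j, w = v i j) ∧
        (IsSeparated f → (∀ i j, IsClopen ((V i j : Set ↑(pullback f g)))) ∧
          ∀ i j i' j', ((V i j : Set ↑(pullback f g)) ∩ (V i' j')).Nonempty →
            i = i' ∧ HEq j j') := by
  classical
  -- Step 1: an étale neighbourhood splitting the separable parts
  have hfin : ∀ i,
      letI := ((S.residueFieldCongr (hs i)).inv ≫ f.residueFieldMap (x i)).hom.toAlgebra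
      Module.Finite (S.residueField s) (X.residueField (x i)) := fun i =>
    finite_residueField_congr f (x i) s (hs i)
      (finite_residueField_of_quasiFiniteAt f (x i) (hx i))
  obtain ⟨U', g', u', hu', hEt', -, hdata⟩ := exists_etale_nbhd_insepData f s x hs hfin
  -- Step 2: the points over `(x i, u')`
  let P : ι → Set ↑(pullback f g') := fun i =>
    {p | pullback.fst f g' p = x i ∧ pullback.snd f g' p = u'}
  have hPfin : ∀ i, (P i).Finite := fun i =>
    finite_setOf_fst_eq_snd_eq f g' (x i) u' s (hs i) hu' (hfin i)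
  haveI : ∀ i, Finite (P i) := fun i => (hPfin i).to_subtype
  let x' : (Σ i, P i) → ↑(pullback f g') := fun q => q.2.1
  have hinj' : Function.Injective x' := by
    rintro ⟨i, p, hp⟩ ⟨i', p', hp'⟩ (h : p = p')
    subst h
    have : i = i' := hinj (hp.1.symm.trans hp'.1)
    subst this
    rfl
  have hs' : ∀ q, pullback.snd f g' (x' q) = u' := fun q => q.2.2.2
  have hx' : ∀ q, (pullback.snd f g').QuasiFiniteAt (x' q) := fun q =>
    Helper13.quasiFiniteAt_of_isPullback' (IsPullback.of_hasPullback f g') (x' q)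
      (by rw [q.2.2.1]; exact hx q.1)
  -- Step 3: the family theorem over `U'`
  obtain ⟨U, g'', u, -, hEt'', hu'', -, V', v', hV', hsep'⟩ :=
    exists_etale_nbhd_family_combined (pullback.snd f g') u' x' hinj' hs' hx'
  -- Step 4: transfer to `pullback f (g'' ≫ g')`
  let Φ := pullbackLeftPullbackSndIso f g' g''
  have hΦfst : ∀ w', pullback.fst f (g'' ≫ g') (Φ.hom w') =
      pullback.fst f g' (pullback.fst (pullback.snd f g') g'' w') := fun w' => by
    rw [← Scheme.Hom.comp_apply, pullbackLeftPullbackSndIso_hom_fst, Scheme.Hom.comp_apply]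
  have hΦsnd : ∀ w', pullback.snd f (g'' ≫ g') (Φ.hom w') =
      pullback.snd (pullback.snd f g') g'' w' := fun w' => by
    rw [← Scheme.Hom.comp_apply, pullbackLeftPullbackSndIso_hom_snd]
  have hΦ1 : ∀ w', Φ.inv (Φ.hom w') = w' := fun w' => by
    rw [← Scheme.Hom.comp_apply, Iso.hom_inv_id]; rfl
  have hΦ2 : ∀ w, Φ.hom (Φ.inv w) = w := fun w => by
    rw [← Scheme.Hom.comp_apply, Iso.inv_hom_id]; rfl
  let e : ∀ i, P i ≃ Fin (Nat.card (P i)) := fun i => Finite.equivFin (P i)
  let Q : ∀ i, Fin (Nat.card (P i)) → Σ i, P i := fun i j => ⟨i, (e i).symm j⟩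
  have hQinj : ∀ i j i' j', Q i j = Q i' j' → i = i' ∧ HEq j j' := by
    intro i j i' j' h
    have h1 : i = i' := congrArg Sigma.fst h
    subst h1
    refine ⟨rfl, heq_of_eq ?_⟩
    have h2 : (e i).symm j = (e i).symm j' := eq_of_heq (Sigma.mk.inj_iff.mp h).2
    exact (e i).symm.injective h2
  have hgu : (g'' ≫ g') u = s := by
    rw [Scheme.Hom.comp_apply, hu'', hu']
  refine ⟨U, g'' ≫ g', u, inferInstance, hgu, fun i => Fin (Nat.card (P i)), fun i => inferInstance,
    fun i j => Φ.inv ⁻¹ᵁ V' (Q i j), fun i j => Φ.hom (v' (Q i j)), ?_, ?_, ?_, ?_⟩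
  · intro i j
    obtain ⟨a1, a2, a3, a4, a5, -, -⟩ := hV' (Q i j)
    have hfst : pullback.fst f (g'' ≫ g') (Φ.hom (v' (Q i j))) = x i := by
      rw [hΦfst, a5]
      exact ((e i).symm j).2.1
    have hsnd : pullback.snd f (g'' ≫ g') (Φ.hom (v' (Q i j))) = u := by
      rw [hΦsnd, a3]
    refine ⟨?_, ?_, hsnd, ?_, ?_, hfst⟩
    · change Φ.inv (Φ.hom (v' (Q i j))) ∈ V' (Q i j)
      rw [hΦ1]; exact a1
    · have h1 : (Φ.inv ⁻¹ᵁ V' (Q i j)).ι ≫ pullback.snd f (g'' ≫ g') =
          (Φ.inv ∣_ V' (Q i j)) ≫ ((V' (Q i j)).ι ≫ pullback.snd (pullback.snd f g') g'') := by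
        rw [← Category.assoc, morphismRestrict_ι, Category.assoc,
          pullbackLeftPullbackSndIso_inv_snd_snd]
      rw [h1]
      haveI := a2
      infer_instance
    · intro w hw hwu
      have hw' : Φ.inv w ∈ V' (Q i j) := hw
      have h2 : Φ.inv w = v' (Q i j) := by
        refine a4 _ hw' ?_
        rw [← hΦsnd, hΦ2, hwu]
      change w = Φ.hom (v' (Q i j))
      rw [← h2, hΦ2]
    · have hd1 : InsepData f g' (x i) (g'' u) s (hs i) (by rw [hu'', hu']) :=
        (hdata i).congr rfl hu''.symm rfl _ _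
      have hd2 := hd1.comp g'' u
      exact InsepData.finite_and_isPurelyInseparable (Φ.hom (v' (Q i j)))
        (hd2.congr hfst.symm hsnd.symm ((hs i).symm.trans (congrArg f hfst.symm)) _ _)
  · intro i j i' j' h
    change Φ.hom (v' (Q i j)) = Φ.hom (v' (Q i' j')) at h
    have h1 : v' (Q i j) = v' (Q i' j') := by
      rw [← hΦ1 (v' (Q i j)), h, hΦ1]
    have h2 : x' (Q i j) = x' (Q i' j') := by
      rw [← (hV' (Q i j)).2.2.2.2.1, ← (hV' (Q i' j')).2.2.2.2.1, h1]
    exact hQinj i j i' j' (hinj' h2)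
  · intro w i hwu hwx
    have hp : pullback.fst (pullback.snd f g') g'' (Φ.inv w) ∈ P i := by
      refine ⟨?_, ?_⟩
      · rw [← hΦfst, hΦ2, hwx]
      · rw [← Scheme.Hom.comp_apply, pullback.condition, Scheme.Hom.comp_apply, ← hΦsnd, hΦ2, hwu,
          hu'']
    refine ⟨e i ⟨_, hp⟩, ?_⟩
    have hQ : Q i (e i ⟨_, hp⟩) = ⟨i, ⟨_, hp⟩⟩ := by
      simp only [Q, Equiv.symm_apply_apply]
    have h3 : Φ.inv w = v' (Q i (e i ⟨_, hp⟩)) := by
      refine (hV' (Q i (e i ⟨_, hp⟩))).2.2.2.2.2.2 _ ?_ ?_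
      · rw [← hΦsnd, hΦ2, hwu]
      · rw [hQ]
    change w = Φ.hom (v' (Q i (e i ⟨_, hp⟩)))
    rw [← h3, hΦ2]
  · intro hsep
    haveI := hsep
    obtain ⟨hclopen, hdisj⟩ := hsep' inferInstance
    refine ⟨fun i j => (hclopen (Q i j)).preimage Φ.inv.continuous, ?_⟩
    rintro i j i' j' ⟨w, hw1, hw2⟩
    by_contra hne
    have hne' : Q i j ≠ Q i' j' := fun h => hne (hQinj i j i' j' h)
    have := (hdisj hne').le_bot (show Φ.inv w ∈ V' (Q i j) ⊓ V' (Q i' j') from ⟨hw1, hw2⟩)
    exact this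

end Groth.Agent.Lib.Helper6.EtLoc
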