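import Mathlib
import Groth.Prelude.Def_MoreMor

/-!
# Weightings: the fibre integral via geometric points
-/

set_option autoImplicit false
universe u

open CategoryTheory AlgebraicGeometry Limits IsLocalRing

namespace Groth.Agent.Lib.Helper6.Wt

noncomputable section

variable {U V : Scheme.{u}} (π : U ⟶ V) {Ω : Type u} [Field Ω]

/-- Lifts of a geometric point `yb` of `V` to `U`. -/
def Lifts (yb : Spec (CommRingCat.of Ω) ⟶ V) : Type u :=
  {xb : Spec (CommRingCat.of Ω) ⟶ U // xb ≫ π = yb}

variable {π}

/-- The centre of a lift. -/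
def Lifts.center {yb : Spec (CommRingCat.of Ω) ⟶ V} (xb : Lifts π yb) : U :=
  xb.1 (closedPoint Ω)

theorem Lifts.π_center {yb : Spec (CommRingCat.of Ω) ⟶ V} (xb : Lifts π yb) :
    π xb.center = yb (closedPoint Ω) := by
  rw [Lifts.center, ← Scheme.Hom.comp_apply, xb.2]

variable (π)

/-- The structure map `κ(π u) ⟶ Ω` induced by a geometric point centred at `π u`. -/
noncomputable def strMap (yb : Spec (CommRingCat.of Ω) ⟶ V) (u : U)
    (e : π u = yb (closedPoint Ω)) : V.residueField (π u) ⟶ CommRingCat.of Ω :=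
  (V.residueFieldCongr e).hom ≫ V.descResidueField (Scheme.stalkClosedPointTo yb)

theorem comp_eq_iff (yb : Spec (CommRingCat.of Ω) ⟶ V) (u : U)
    (φ : U.residueField u ⟶ CommRingCat.of Ω) :
    (Spec.map φ ≫ U.fromSpecResidueField u) ≫ π = yb ↔
      ∃ e : π u = yb (closedPoint Ω), π.residueFieldMap u ≫ φ = strMap π yb u e := by
  have h1 : (Spec.map φ ≫ U.fromSpecResidueField u) ≫ π =
      (Scheme.SpecToEquivOfField Ω V).symm ⟨π u, π.residueFieldMap u ≫ φ⟩ := by
    rw [Category.assoc, ← Scheme.Hom.SpecMap_residueFieldMap_fromSpecResidueField,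
      ← Category.assoc, ← Spec.map_comp]
    rfl
  have h2 : yb = (Scheme.SpecToEquivOfField Ω V).symm
      ⟨yb (closedPoint Ω), V.descResidueField (Scheme.stalkClosedPointTo yb)⟩ :=
    ((Scheme.SpecToEquivOfField Ω V).symm_apply_apply yb).symm
  rw [h1]
  conv_lhs => rw [h2]
  rw [(Scheme.SpecToEquivOfField Ω V).symm.injective.eq_iff, Scheme.SpecToEquivOfField_eq_iff]
  rfl

/-- The target of `liftsEquiv`. -/
abbrev GeomFibre (yb : Spec (CommRingCat.of Ω) ⟶ V) : Type u :=
  Σ u : {u : U // π u = yb (closedPoint Ω)},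
      {φ : U.residueField u.1 ⟶ CommRingCat.of Ω //
        π.residueFieldMap u.1 ≫ φ = strMap π yb u.1 u.2}

/-- Forgetting the compatibility conditions. -/
def GeomFibre.flat {yb : Spec (CommRingCat.of Ω) ⟶ V} (p : GeomFibre π yb) :
    Σ u : U, U.residueField u ⟶ CommRingCat.of Ω := ⟨p.1.1, p.2.1⟩

theorem GeomFibre.flat_injective (yb : Spec (CommRingCat.of Ω) ⟶ V) :
    Function.Injective (GeomFibre.flat π (yb := yb)) := by
  rintro ⟨⟨u, hu⟩, ⟨φ, hφ⟩⟩ ⟨⟨u', hu'⟩, ⟨φ', hφ'⟩⟩ h
  simp only [GeomFibre.flat] at h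
  cases h
  rfl

/-- The lift attached to a point of the geometric fibre. -/
def GeomFibre.toLift {yb : Spec (CommRingCat.of Ω) ⟶ V} (p : GeomFibre π yb) : Lifts π yb :=
  ⟨Spec.map p.2.1 ≫ U.fromSpecResidueField p.1.1,
    (comp_eq_iff π yb p.1.1 p.2.1).mpr ⟨p.1.2, p.2.2⟩⟩

theorem GeomFibre.toLift_injective (yb : Spec (CommRingCat.of Ω) ⟶ V) :
    Function.Injective (GeomFibre.toLift π (yb := yb)) := by
  intro p p' h
  apply GeomFibre.flat_injective π yb
  apply (Scheme.SpecToEquivOfField Ω U).symm.injective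
  exact congrArg Subtype.val h

/-- The point of the geometric fibre attached to a lift. -/
def Lifts.toGeomFibre {yb : Spec (CommRingCat.of Ω) ⟶ V} (xb : Lifts π yb) : GeomFibre π yb :=
  ⟨⟨xb.1 (closedPoint Ω), xb.π_center⟩,
      ⟨U.descResidueField (Scheme.stalkClosedPointTo xb.1), by
        have h := (comp_eq_iff π yb (xb.1 (closedPoint Ω))
          (U.descResidueField (Scheme.stalkClosedPointTo xb.1))).mp (by
            rw [Scheme.descResidueField_stalkClosedPointTo_fromSpecResidueField]
            exact xb.2)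
        obtain ⟨e, he⟩ := h
        exact he⟩⟩

theorem toLift_toGeomFibre {yb : Spec (CommRingCat.of Ω) ⟶ V} (xb : Lifts π yb) :
    GeomFibre.toLift π (Lifts.toGeomFibre π xb) = xb := by
  apply Subtype.ext
  exact Scheme.descResidueField_stalkClosedPointTo_fromSpecResidueField Ω U xb.1

/-- Lifts of a geometric point correspond to points of the fibre together with compatible
embeddings of residue fields. -/
def liftsEquiv (yb : Spec (CommRingCat.of Ω) ⟶ V) : Lifts π yb ≃ GeomFibre π yb where
  toFun := Lifts.toGeomFibre π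
  invFun := GeomFibre.toLift π
  left_inv := toLift_toGeomFibre π
  right_inv p := GeomFibre.toLift_injective π yb (toLift_toGeomFibre π _)

theorem liftsEquiv_center (yb : Spec (CommRingCat.of Ω) ⟶ V) (xb : Lifts π yb) :
    (liftsEquiv π yb xb).1.1 = xb.center := rfl

/-- Compatible embeddings as algebra homomorphisms. -/
def embEquiv (yb : Spec (CommRingCat.of Ω) ⟶ V) (u : U) (e : π u = yb (closedPoint Ω)) :
    letI := (π.residueFieldMap u).hom.toAlgebra
    letI : Algebra (V.residueField (π u)) Ω := (strMap π yb u e).hom.toAlgebra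
    {φ : U.residueField u ⟶ CommRingCat.of Ω // π.residueFieldMap u ≫ φ = strMap π yb u e} ≃
      (U.residueField u →ₐ[V.residueField (π u)] Ω) :=
  letI := (π.residueFieldMap u).hom.toAlgebra
  letI : Algebra (V.residueField (π u)) Ω := (strMap π yb u e).hom.toAlgebra
  { toFun := fun φ => { toRingHom := φ.1.hom, commutes' := fun r => congrArg (fun f => f.hom r) φ.2 }
    invFun := fun ψ => ⟨CommRingCat.ofHom ψ.toRingHom, by
      ext r
      exact ψ.commutes r⟩
    left_inv := fun φ => by
      apply Subtype.ext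
      rfl
    right_inv := fun ψ => by
      ext
      rfl }

/-- The number of compatible embeddings of `κ(u)` in an algebraically closed field is the
separable degree. -/
theorem card_emb [IsAlgClosed Ω] (yb : Spec (CommRingCat.of Ω) ⟶ V) (u : U)
    (e : π u = yb (closedPoint Ω))
    (halg : letI := (π.residueFieldMap u).hom.toAlgebra
      Algebra.IsAlgebraic (V.residueField (π u)) (U.residueField u)) :
    Nat.card {φ : U.residueField u ⟶ CommRingCat.of Ω //
      π.residueFieldMap u ≫ φ = strMap π yb u e} =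
    (letI := (π.residueFieldMap u).hom.toAlgebra;
      Field.finSepDegree (V.residueField (π u)) (U.residueField u)) := by
  letI := (π.residueFieldMap u).hom.toAlgebra
  letI : Algebra (V.residueField (π u)) Ω := (strMap π yb u e).hom.toAlgebra
  haveI : Algebra.IsAlgebraic (V.residueField (π u)) (U.residueField u) := halg
  rw [Field.finSepDegree_eq_of_isAlgClosed (V.residueField (π u)) (U.residueField u) Ω]
  exact Nat.card_congr (embEquiv π yb u e)

theorem finite_emb (yb : Spec (CommRingCat.of Ω) ⟶ V) (u : U)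
    (e : π u = yb (closedPoint Ω))
    (hfin : letI := (π.residueFieldMap u).hom.toAlgebra
      Module.Finite (V.residueField (π u)) (U.residueField u)) :
    Finite {φ : U.residueField u ⟶ CommRingCat.of Ω //
      π.residueFieldMap u ≫ φ = strMap π yb u e} := by
  letI := (π.residueFieldMap u).hom.toAlgebra
  letI : Algebra (V.residueField (π u)) Ω := (strMap π yb u e).hom.toAlgebra
  haveI : Module.Finite (V.residueField (π u)) (U.residueField u) := hfin
  haveI : Fintype (U.residueField u →ₐ[V.residueField (π u)] Ω) := minpoly.AlgHom.fintype _ _ _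
  exact Finite.of_equiv _ (embEquiv π yb u e).symm

/-- Finitely many points in the fibre with finite residue field extensions: finitely many
lifts. -/
theorem finite_lifts (yb : Spec (CommRingCat.of Ω) ⟶ V)
    (hfib : (π ⁻¹' {yb (closedPoint Ω)}).Finite)
    (hfin : ∀ u : U, π u = yb (closedPoint Ω) → letI := (π.residueFieldMap u).hom.toAlgebra
      Module.Finite (V.residueField (π u)) (U.residueField u)) :
    Finite (Lifts π yb) := by
  haveI : Finite {u : U // π u = yb (closedPoint Ω)} := hfib.to_subtype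
  haveI : ∀ u : {u : U // π u = yb (closedPoint Ω)},
      Finite {φ : U.residueField u.1 ⟶ CommRingCat.of Ω //
        π.residueFieldMap u.1 ≫ φ = strMap π yb u.1 u.2} := fun u =>
    finite_emb π yb u.1 u.2 (hfin u.1 u.2)
  exact Finite.of_equiv _ (liftsEquiv π yb).symm

theorem nonempty_emb [IsAlgClosed Ω] (yb : Spec (CommRingCat.of Ω) ⟶ V) (u : U)
    (e : π u = yb (closedPoint Ω))
    (halg : letI := (π.residueFieldMap u).hom.toAlgebra
      Algebra.IsAlgebraic (V.residueField (π u)) (U.residueField u)) :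
    Nonempty {φ : U.residueField u ⟶ CommRingCat.of Ω //
      π.residueFieldMap u ≫ φ = strMap π yb u e} := by
  letI := (π.residueFieldMap u).hom.toAlgebra
  letI : Algebra (V.residueField (π u)) Ω := (strMap π yb u e).hom.toAlgebra
  haveI : Algebra.IsAlgebraic (V.residueField (π u)) (U.residueField u) := halg
  let ψ : U.residueField u →ₐ[V.residueField (π u)] Ω := IsAlgClosed.lift
  refine ⟨⟨CommRingCat.ofHom ψ.toRingHom, ?_⟩⟩
  ext r
  exact ψ.commutes r

/-- **The fibre integral as a sum over the lifts of a geometric point.** -/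
theorem fibreIntegral_eq_finsum_lifts [IsAlgClosed Ω] (yb : Spec (CommRingCat.of Ω) ⟶ V)
    (w : U → ℤ)
    (halg : ∀ u : U, π u = yb (closedPoint Ω) → letI := (π.residueFieldMap u).hom.toAlgebra
      Algebra.IsAlgebraic (V.residueField (π u)) (U.residueField u))
    [Finite (Lifts π yb)] :
    MoreMor.fibreIntegral π w (yb (closedPoint Ω)) = ∑ᶠ xb : Lifts π yb, w xb.center := by
  classical
  have h1 : ∑ᶠ xb : Lifts π yb, w xb.center = ∑ᶠ p : GeomFibre π yb, w p.1.1 :=
    finsum_comp_equiv (liftsEquiv π yb) (f := fun p : GeomFibre π yb => w p.1.1)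
  rw [h1]
  haveI : Finite (GeomFibre π yb) := Finite.of_equiv _ (liftsEquiv π yb)
  haveI hne : ∀ u : {u : U // π u = yb (closedPoint Ω)},
      Nonempty {φ : U.residueField u.1 ⟶ CommRingCat.of Ω //
        π.residueFieldMap u.1 ≫ φ = strMap π yb u.1 u.2} := fun u =>
    nonempty_emb π yb u.1 u.2 (halg u.1 u.2)
  haveI : Finite {u : U // π u = yb (closedPoint Ω)} :=
    Finite.of_surjective (fun p : GeomFibre π yb => p.1) (fun u => ⟨⟨u, (hne u).some⟩, rfl⟩)
  haveI : ∀ u : {u : U // π u = yb (closedPoint Ω)},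
      Finite {φ : U.residueField u.1 ⟶ CommRingCat.of Ω //
        π.residueFieldMap u.1 ≫ φ = strMap π yb u.1 u.2} := fun u =>
    Finite.of_injective (fun φ => (⟨u, φ⟩ : GeomFibre π yb)) (fun φ φ' h => by
      simpa using h)
  cases nonempty_fintype {u : U // π u = yb (closedPoint Ω)}
  haveI : ∀ u : {u : U // π u = yb (closedPoint Ω)},
      Fintype {φ : U.residueField u.1 ⟶ CommRingCat.of Ω //
        π.residueFieldMap u.1 ≫ φ = strMap π yb u.1 u.2} := fun u => Fintype.ofFinite _
  rw [finsum_eq_sum_of_fintype, Fintype.sum_sigma]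
  unfold MoreMor.fibreIntegral
  rw [finsum_eq_sum_of_fintype]
  refine Finset.sum_congr rfl fun u _ => ?_
  have h2 := card_emb π yb u.1 u.2 (halg u.1 u.2)
  rw [Nat.card_eq_fintype_card] at h2
  simp only [Finset.sum_const, Finset.card_univ, nsmul_eq_mul]
  rw [← h2, mul_comm]

end

end Groth.Agent.Lib.Helper6.Wt
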