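import Mathlib
import Groth.Agent.Lib.Helper6.Wt1
import Groth.Agent.Lib.Helper6.EtLocInsepScheme1

/-!
# Weightings: base change of the fibre integral (Stacks 0F3A)
-/

set_option autoImplicit false
universe u

open CategoryTheory AlgebraicGeometry Limits IsLocalRing

namespace Groth.Agent.Lib.Helper6.Wt

noncomputable section

variable {U V U' V' : Scheme.{u}} {π : U ⟶ V} {π' : U' ⟶ V'} {h : U' ⟶ U} {g : V' ⟶ V}

/-- Lifts of a geometric point along a base change. -/
def liftsPullbackEquiv (hc : IsPullback h π' π g) {Ω : Type u} [Field Ω]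
    (yb : Spec (CommRingCat.of Ω) ⟶ V') : Lifts π' yb ≃ Lifts π (yb ≫ g) where
  toFun xb := ⟨xb.1 ≫ h, by rw [Category.assoc, hc.w, ← Category.assoc, xb.2]⟩
  invFun xb := ⟨hc.lift xb.1 yb xb.2, hc.lift_snd _ _ _⟩
  left_inv xb := by
    apply Subtype.ext
    apply hc.hom_ext
    · simp
    · simp [xb.2]
  right_inv xb := by
    apply Subtype.ext
    simp

theorem liftsPullbackEquiv_center (hc : IsPullback h π' π g) {Ω : Type u} [Field Ω]
    (yb : Spec (CommRingCat.of Ω) ⟶ V') (xb : Lifts π' yb) :
    (liftsPullbackEquiv hc yb xb).center = h xb.center := rfl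

/-- A geometric point centred at a given point. -/
def geomPt (V : Scheme.{u}) (v : V) :
    Spec (CommRingCat.of (AlgebraicClosure (V.residueField v))) ⟶ V :=
  Spec.map (CommRingCat.ofHom (algebraMap (V.residueField v)
    (AlgebraicClosure (V.residueField v)))) ≫ V.fromSpecResidueField v

@[simp]
theorem geomPt_apply (V : Scheme.{u}) (v : V) (z) : geomPt V v z = v := by
  unfold geomPt
  rw [Scheme.Hom.comp_apply, Scheme.fromSpecResidueField_apply]

theorem isAlgebraic_residueField (π : U ⟶ V) [LocallyQuasiFinite π] (u : U) :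
    letI := (π.residueFieldMap u).hom.toAlgebra
    Algebra.IsAlgebraic (V.residueField (π u)) (U.residueField u) := by
  letI := (π.residueFieldMap u).hom.toAlgebra
  haveI := EtLoc.finite_residueField_of_quasiFiniteAt π u (π.quasiFiniteAt u)
  exact Algebra.IsAlgebraic.of_finite _ _

/-- **Base change of the fibre integral** (Stacks 0F3A). -/
theorem fibreIntegral_baseChange (hc : IsPullback h π' π g) [LocallyQuasiFinite π]
    (hfin : ∀ v : V, (π ⁻¹' {v}).Finite) (w : U → ℤ) (v' : V') :
    MoreMor.fibreIntegral π' (w ∘ ⇑h) v' = MoreMor.fibreIntegral π w (g v') := by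
  haveI : LocallyQuasiFinite π' := MorphismProperty.of_isPullback hc ‹_›
  let Ω := AlgebraicClosure (V'.residueField v')
  let yb := geomPt V' v'
  have hyb : yb (closedPoint Ω) = v' := geomPt_apply V' v' _
  have hyb' : (yb ≫ g) (closedPoint Ω) = g v' := by
    rw [Scheme.Hom.comp_apply, hyb]
  haveI : Finite (Lifts π (yb ≫ g)) := finite_lifts π (yb ≫ g) (hfin _) (fun u _ =>
    EtLoc.finite_residueField_of_quasiFiniteAt π u (π.quasiFiniteAt u))
  haveI : Finite (Lifts π' yb) := Finite.of_equiv _ (liftsPullbackEquiv hc yb).symm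
  rw [← hyb', fibreIntegral_eq_finsum_lifts π (yb ≫ g) w
    (fun u _ => isAlgebraic_residueField π u)]
  conv_lhs => rw [← hyb]
  rw [fibreIntegral_eq_finsum_lifts π' yb (w ∘ ⇑h) (fun u _ => isAlgebraic_residueField π' u)]
  rw [← finsum_comp_equiv (liftsPullbackEquiv hc yb)]
  rfl

end

end Groth.Agent.Lib.Helper6.Wt
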