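import Mathlib
import Groth.Agent.Lib.Helper6.Wt2

/-!
# Weightings: fibre integrals over opens as sums over points of the ambient scheme
-/

set_option autoImplicit false
universe u

open CategoryTheory AlgebraicGeometry Limits IsLocalRing

namespace Groth.Agent.Lib.Helper6.Wt

noncomputable section

/-- The separable degree of the residue field extension at `x`. -/
def deg {W T : Scheme.{u}} (p : W ⟶ T) (x : W) : ℤ :=
  letI := (p.residueFieldMap x).hom.toAlgebra
  (Field.finSepDegree (T.residueField (p x)) (W.residueField x) : ℤ)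

/-- The sum of `ω x * deg x` over the points of `D` in the fibre over `t`. -/
def ptSum {W T : Scheme.{u}} (p : W ⟶ T) (ω : W → ℤ) (D : Set W) (t : T) : ℤ :=
  ∑ᶠ x ∈ D ∩ p ⁻¹' {t}, ω x * deg p x

theorem fibreIntegral_eq_finsum_deg {W T : Scheme.{u}} (p : W ⟶ T) (ω : W → ℤ) (t : T) :
    MoreMor.fibreIntegral p ω t = ∑ᶠ u : {u : W // p u = t}, ω u.1 * deg p u.1 := rfl

theorem deg_comp_of_isIso {D W T : Scheme.{u}} (j : D ⟶ W) (p : W ⟶ T) (u : D)
    [IsIso (j.residueFieldMap u)] : deg (j ≫ p) u = deg p (j u) := by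
  unfold deg
  letI := (p.residueFieldMap (j u)).hom.toAlgebra
  letI : Algebra (T.residueField (p (j u))) (D.residueField u) :=
    ((j ≫ p).residueFieldMap u).hom.toAlgebra
  have hcomp : (j ≫ p).residueFieldMap u = p.residueFieldMap (j u) ≫ j.residueFieldMap u :=
    Scheme.residueFieldMap_comp j p u
  let e : W.residueField (j u) ≃+* D.residueField u :=
    (asIso (j.residueFieldMap u)).commRingCatIsoToRingEquiv
  let e' : W.residueField (j u) ≃ₐ[T.residueField (p (j u))] D.residueField u :=
    { e with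
      commutes' := fun r => by
        have := congrArg (fun f => f.hom r) hcomp
        exact this.symm }
  have := Field.finSepDegree_eq_of_equiv (T.residueField (p (j u))) (W.residueField (j u))
    (D.residueField u) e'
  exact_mod_cast this.symm

/-- The fibre integral along an open subscheme as a sum over points of the ambient scheme. -/
theorem fibreIntegral_opens {W T : Scheme.{u}} (p : W ⟶ T) (ω : W → ℤ) (D : W.Opens) (t : T) :
    MoreMor.fibreIntegral (D.ι ≫ p) (fun u => ω (D.ι u)) t = ptSum p ω D t := by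
  rw [fibreIntegral_eq_finsum_deg, ptSum]
  let φ : {u : D // (D.ι ≫ p) u = t} → W := fun u => D.ι u.1
  have hφ : Function.Injective φ := fun u u' h =>
    Subtype.ext (D.ι.isOpenEmbedding.injective h)
  have hr : Set.range φ = (D : Set W) ∩ p ⁻¹' {t} := by
    ext x
    constructor
    · rintro ⟨u, rfl⟩
      refine ⟨?_, u.2⟩
      have : D.ι u.1 ∈ Set.range D.ι := ⟨_, rfl⟩
      rwa [Scheme.Opens.range_ι] at this
    · rintro ⟨hxD, hxt⟩
      have : x ∈ Set.range D.ι := by rw [Scheme.Opens.range_ι]; exact hxD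
      obtain ⟨u, rfl⟩ := this
      exact ⟨⟨u, hxt⟩, rfl⟩
  rw [← hr, finsum_mem_range hφ]
  refine finsum_congr fun u => ?_
  rw [deg_comp_of_isIso]

section BaseChange

variable {W'' W T'' T : Scheme.{u}} {r : W'' ⟶ W} {p'' : W'' ⟶ T''} {p : W ⟶ T} {b : T'' ⟶ T}

/-- The pullback square of an open of the ambient scheme. -/
theorem isPullback_opens (hc : IsPullback r p'' p b) (D : W.Opens) :
    IsPullback (r ∣_ D) ((r ⁻¹ᵁ D).ι ≫ p'') (D.ι ≫ p) b :=
  (isPullback_morphismRestrict r D).paste_vert hc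

theorem isFinite_preimage (hc : IsPullback r p'' p b) (D : W.Opens) [IsFinite (D.ι ≫ p)] :
    IsFinite ((r ⁻¹ᵁ D).ι ≫ p'') :=
  MorphismProperty.of_isPullback (isPullback_opens hc D) inferInstance

/-- Base change of point sums over opens which are finite over the base. -/
theorem ptSum_baseChange (hc : IsPullback r p'' p b) (D : W.Opens) [IsFinite (D.ι ≫ p)]
    (ω : W → ℤ) (t'' : T'') :
    ptSum p'' (ω ∘ ⇑r) (r ⁻¹ᵁ D : W''.Opens) t'' = ptSum p ω D (b t'') := by
  rw [← fibreIntegral_opens, ← fibreIntegral_opens]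
  have h := fibreIntegral_baseChange (isPullback_opens hc D)
    (fun v => (D.ι ≫ p).finite_preimage_singleton v) (fun u => ω (D.ι u)) t''
  rw [← h]
  congr 1
  funext u
  simp only [Function.comp_apply]
  rw [← Scheme.Hom.comp_apply, ← Scheme.Hom.comp_apply, morphismRestrict_ι]

end BaseChange

/-- The weighting property for arbitrary pullback squares over an étale base. -/
theorem IsWeighting.locConst {X Y : Scheme.{u}} {f : X ⟶ Y} {w : X → ℤ}
    (hw : MoreMor.IsWeighting f w) {V W : Scheme.{u}} (a : V ⟶ Y) [Etale a] (q : W ⟶ X)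
    (p : W ⟶ V) (hsq : IsPullback q p f a) (D : W.Opens) [IsFinite (D.ι ≫ p)] :
    IsLocallyConstant (ptSum p (w ∘ ⇑q) D) := by
  let e := hsq.isoPullback
  have he1 : e.hom ≫ pullback.fst f a = q := hsq.isoPullback_hom_fst
  have he2 : e.hom ≫ pullback.snd f a = p := hsq.isoPullback_hom_snd
  have hsq' : IsPullback e.hom p (pullback.snd f a) (𝟙 V) :=
    IsPullback.of_horiz_isIso ⟨by rw [he2, Category.comp_id]⟩
  let D₀ : (pullback f a).Opens := e.inv ⁻¹ᵁ D
  have hD : e.hom ⁻¹ᵁ D₀ = D := by
    ext x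
    change e.inv (e.hom x) ∈ D ↔ x ∈ D
    rw [← Scheme.Hom.comp_apply, Iso.hom_inv_id]
    rfl
  haveI : IsFinite (D₀.ι ≫ pullback.snd f a) := by
    have h1 : IsPullback (e.inv ∣_ D) (D₀.ι ≫ pullback.snd f a) (D.ι ≫ p) (𝟙 V) := by
      refine isPullback_opens (r := e.inv) (p'' := pullback.snd f a) (p := p) (b := 𝟙 V) ?_ D
      exact IsPullback.of_horiz_isIso ⟨by rw [← he2, Iso.inv_hom_id_assoc, Category.comp_id]⟩
    exact MorphismProperty.of_isPullback h1 inferInstance
  have h0 := hw V a D₀ inferInstance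
  have h1 : ptSum p (w ∘ ⇑q) D = ptSum (pullback.snd f a) (w ∘ ⇑(pullback.fst f a)) D₀ := by
    funext t
    have := ptSum_baseChange hsq' D₀ (w ∘ ⇑(pullback.fst f a)) t
    rw [hD] at this
    rw [← he1]
    exact this
  rw [h1]
  have h2 : ptSum (pullback.snd f a) (w ∘ ⇑(pullback.fst f a)) D₀ =
      MoreMor.fibreIntegral (D₀.ι ≫ pullback.snd f a)
        (fun u => w (pullback.fst f a (D₀.ι u))) := by
    funext t
    exact (fibreIntegral_opens (pullback.snd f a) (w ∘ ⇑(pullback.fst f a)) D₀ t).symm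
  rw [h2]
  exact h0

end

end Groth.Agent.Lib.Helper6.Wt
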