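import Mathlib
import Groth.Agent.Lib.Helper6.Wt3

/-!
# Weightings: comparing opens which are finite over the base near a fibre
-/

set_option autoImplicit false
universe u

open CategoryTheory AlgebraicGeometry Limits IsLocalRing

namespace Groth.Agent.Lib.Helper6.Wt

/-- An open which is universally closed over the base is closed in any larger open which is
separated over the base. -/
theorem isClosed_preimage_of_le {W T : Scheme.{u}} (p : W ⟶ T) (D O : W.Opens) (hDO : D ≤ O)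
    [UniversallyClosed (D.ι ≫ p)] [IsSeparated (O.ι ≫ p)] :
    IsClosed (O.ι ⁻¹' (D : Set W)) := by
  let j : D.toScheme ⟶ O.toScheme := W.homOfLE hDO
  have hj : j ≫ O.ι = D.ι := W.homOfLE_ι hDO
  haveI : UniversallyClosed (j ≫ (O.ι ≫ p)) := by
    rw [← Category.assoc, hj]
    infer_instance
  haveI : UniversallyClosed j := UniversallyClosed.of_comp_of_isSeparated j (O.ι ≫ p)
  have hr : Set.range j = O.ι ⁻¹' (D : Set W) := by
    ext x
    constructor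
    · rintro ⟨d, rfl⟩
      change O.ι (j d) ∈ D
      rw [← Scheme.Hom.comp_apply, hj]
      have : D.ι d ∈ Set.range D.ι := ⟨_, rfl⟩
      rwa [Scheme.Opens.range_ι] at this
    · intro hx
      have hx' : O.ι x ∈ Set.range D.ι := by rw [Scheme.Opens.range_ι]; exact hx
      obtain ⟨d, hd⟩ := hx'
      refine ⟨d, O.ι.isOpenEmbedding.injective ?_⟩
      rw [← Scheme.Hom.comp_apply, hj, hd]
  rw [← hr]
  exact j.isClosedMap.isClosed_range

/-- **Comparison (strong form)**: opens `D k ≤ O`, all finite over the base, each `D k` with a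
unique point `z k` over `t₀`, the `z k` distinct and exhausting the fibre of `O` over `t₀`.  Then
near `t₀` the fibres of `O` are the disjoint unions of the fibres of the `D k`. -/
theorem exists_nhd_fibre_decomp_of_le {W T : Scheme.{u}} (p : W ⟶ T) (O : W.Opens)
    [IsFinite (O.ι ≫ p)] {κ : Type*} [Finite κ] (D : κ → W.Opens)
    [∀ k, IsFinite ((D k).ι ≫ p)] (hle : ∀ k, D k ≤ O) (t₀ : T) (z : κ → W)
    (hz : Function.Injective z)
    (huniq : ∀ k, ∀ x ∈ D k, p x = t₀ → x = z k)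
    (hall : ∀ x ∈ O, p x = t₀ → ∃ k, x = z k ∧ x ∈ D k) :
    ∃ N : T.Opens, t₀ ∈ N ∧ ∀ t ∈ N,
      ((O : Set W) ∩ p ⁻¹' {t} = ⋃ k, ((D k : Set W) ∩ p ⁻¹' {t})) ∧
      Pairwise (fun k l => Disjoint ((D k : Set W) ∩ p ⁻¹' {t}) ((D l : Set W) ∩ p ⁻¹' {t})) := by
  classical
  have hcl : IsClosedMap ⇑(O.ι ≫ p) := (O.ι ≫ p).isClosedMap
  let C : κ → Set O := fun k => O.ι ⁻¹' (D k : Set W)
  have hCcl : ∀ k, IsClosed (C k) := fun k => isClosed_preimage_of_le p (D k) O (hle k)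
  have hCop : ∀ k, IsOpen (C k) := fun k => (D k).isOpen.preimage O.ι.continuous
  let R : Set O := (⋃ k, C k)ᶜ
  have hR : IsClosed R := (isOpen_iUnion hCop).isClosed_compl
  let Z : Set T := (O.ι ≫ p) '' R ∪ ⋃ kl : {kl : κ × κ // kl.1 ≠ kl.2},
    (O.ι ≫ p) '' (C kl.1.1 ∩ C kl.1.2)
  have hZ : IsClosed Z :=
    (hcl _ hR).union (isClosed_iUnion_of_finite fun kl => hcl _ ((hCcl _).inter (hCcl _)))
  have hOmem : ∀ u : O, O.ι u ∈ O := fun u => by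
    have : O.ι u ∈ Set.range O.ι := ⟨_, rfl⟩
    rwa [Scheme.Opens.range_ι] at this
  have ht₀ : t₀ ∉ Z := by
    rintro (⟨u, hu, hut⟩ | hmem)
    · obtain ⟨k, -, hk⟩ := hall (O.ι u) (hOmem u) hut
      exact hu (Set.mem_iUnion.mpr ⟨k, hk⟩)
    · obtain ⟨⟨⟨k, l⟩, hkl⟩, u, ⟨huk, hul⟩, hut⟩ := Set.mem_iUnion.mp hmem
      have h1 := huniq k (O.ι u) huk hut
      have h2 := huniq l (O.ι u) hul hut
      exact hkl (hz (h1.symm.trans h2))
  refine ⟨⟨Zᶜ, hZ.isOpen_compl⟩, ht₀, fun t ht => ⟨?_, ?_⟩⟩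
  · ext x
    constructor
    · rintro ⟨hxO, hxt⟩
      have hx' : x ∈ Set.range O.ι := by rw [Scheme.Opens.range_ι]; exact hxO
      obtain ⟨u, rfl⟩ := hx'
      by_contra hcon
      apply ht
      refine Or.inl ⟨u, ?_, hxt⟩
      intro hu
      obtain ⟨k, hk⟩ := Set.mem_iUnion.mp hu
      exact hcon (Set.mem_iUnion.mpr ⟨k, hk, hxt⟩)
    · intro hx
      obtain ⟨k, hk, hxt⟩ := Set.mem_iUnion.mp hx
      exact ⟨hle k hk, hxt⟩
  · intro k l hkl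
    rw [Set.disjoint_left]
    rintro x ⟨hxk, hxt⟩ ⟨hxl, -⟩
    have hx' : x ∈ Set.range O.ι := by rw [Scheme.Opens.range_ι]; exact hle k hxk
    obtain ⟨u, rfl⟩ := hx'
    apply ht
    refine Or.inr (Set.mem_iUnion.mpr ⟨⟨⟨k, l⟩, hkl⟩, u, ⟨hxk, hxl⟩, hxt⟩)

set_option maxHeartbeats 1600000 in
/-- **Comparison (general form)**: opens `O`, `D k`, all finite over the base, each `D k` with a
unique point `z k ∈ O` over `t₀`, the `z k` distinct and exhausting the fibre of `O` over `t₀`.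
Then near `t₀` the fibres of `O` are the disjoint unions of the fibres of the `D k`. -/
theorem exists_nhd_fibre_decomp {W T : Scheme.{u}} (p : W ⟶ T) (O : W.Opens)
    [IsFinite (O.ι ≫ p)] {κ : Type*} [Finite κ] (D : κ → W.Opens)
    [∀ k, IsFinite ((D k).ι ≫ p)] (t₀ : T) (z : κ → W)
    (hz : Function.Injective z) (hzO : ∀ k, z k ∈ O) (hzt : ∀ k, p (z k) = t₀)
    (huniq : ∀ k, ∀ x ∈ D k, p x = t₀ → x = z k)
    (hall : ∀ x ∈ O, p x = t₀ → ∃ k, x = z k ∧ x ∈ D k) :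
    ∃ N : T.Opens, t₀ ∈ N ∧ ∀ t ∈ N,
      ((O : Set W) ∩ p ⁻¹' {t} = ⋃ k, ((D k : Set W) ∩ p ⁻¹' {t})) ∧
      Pairwise (fun k l => Disjoint ((D k : Set W) ∩ p ⁻¹' {t}) ((D l : Set W) ∩ p ⁻¹' {t})) := by
  classical
  -- step (a): near `t₀` the `D k` are contained in `O`
  let Z₁ : Set T := ⋃ k, ((D k).ι ≫ p) '' ((D k).ι ⁻¹' ((O : Set W)ᶜ))
  have hZ₁ : IsClosed Z₁ := isClosed_iUnion_of_finite fun k =>
    ((D k).ι ≫ p).isClosedMap _ (O.isOpen.isClosed_compl.preimage (D k).ι.continuous)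
  have ht₀ : t₀ ∉ Z₁ := by
    intro hmem
    obtain ⟨k, u, hu, hut⟩ := Set.mem_iUnion.mp hmem
    have hmemD : (D k).ι u ∈ D k := by
      have : (D k).ι u ∈ Set.range (D k).ι := ⟨_, rfl⟩
      rwa [Scheme.Opens.range_ι] at this
    have := huniq k ((D k).ι u) hmemD hut
    apply hu
    change (D k).ι u ∈ O
    rw [this]
    exact hzO k
  let N₁ : T.Opens := ⟨Z₁ᶜ, hZ₁.isOpen_compl⟩
  -- restriction to `N₁`
  let i : (p ⁻¹ᵁ N₁).toScheme ⟶ W := (p ⁻¹ᵁ N₁).ι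
  let p₁ : (p ⁻¹ᵁ N₁).toScheme ⟶ N₁.toScheme := p ∣_ N₁
  have hsq : IsPullback i p₁ p N₁.ι := (isPullback_morphismRestrict p N₁).flip
  have hip : ∀ x, N₁.ι (p₁ x) = p (i x) := fun x => by
    rw [← Scheme.Hom.comp_apply, ← Scheme.Hom.comp_apply, hsq.w]
  have hiinj : Function.Injective i := (p ⁻¹ᵁ N₁).ι.isOpenEmbedding.injective
  have hNinj : Function.Injective N₁.ι := N₁.ι.isOpenEmbedding.injective
  have hrange : ∀ x : W, p x ∈ N₁ → ∃ x₁, i x₁ = x := by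
    intro x hx
    have : x ∈ Set.range (p ⁻¹ᵁ N₁).ι := by rw [Scheme.Opens.range_ι]; exact hx
    exact this
  haveI : IsFinite ((i ⁻¹ᵁ O).ι ≫ p₁) := isFinite_preimage hsq O
  haveI : ∀ k, IsFinite ((i ⁻¹ᵁ D k).ι ≫ p₁) := fun k => isFinite_preimage hsq (D k)
  have hN₁mem : ∀ x, N₁.ι (p₁ x) ∈ N₁ := fun x => by
    have : N₁.ι (p₁ x) ∈ Set.range N₁.ι := ⟨_, rfl⟩
    rwa [Scheme.Opens.range_ι] at this
  have hle₁ : ∀ k, i ⁻¹ᵁ D k ≤ i ⁻¹ᵁ O := by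
    intro k x hx
    by_contra hcon
    have hx' : i x ∈ Set.range (D k).ι := by rw [Scheme.Opens.range_ι]; exact hx
    obtain ⟨u, hu⟩ := hx'
    have h1 : p (i x) ∈ Z₁ := by
      refine Set.mem_iUnion.mpr ⟨k, u, ?_, ?_⟩
      · change (D k).ι u ∉ O
        rw [hu]; exact hcon
      · rw [Scheme.Hom.comp_apply, hu]
    have h2 := hN₁mem x
    rw [hip] at h2
    exact h2 h1
  obtain ⟨t₀', ht₀'⟩ : ∃ t₀' : N₁.toScheme, N₁.ι t₀' = t₀ := by
    have : t₀ ∈ Set.range N₁.ι := by rw [Scheme.Opens.range_ι]; exact ht₀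
    exact this
  have hz₁ex : ∀ k, ∃ x₁, i x₁ = z k := fun k => hrange _ (by
    rw [hzt k]; exact ht₀)
  choose z₁ hz₁ using hz₁ex
  have hz₁inj : Function.Injective z₁ := by
    intro k l hkl
    apply hz
    rw [← hz₁ k, ← hz₁ l, hkl]
  have huniq₁ : ∀ k, ∀ x ∈ i ⁻¹ᵁ D k, p₁ x = t₀' → x = z₁ k := by
    intro k x hx hxt
    apply hiinj
    rw [hz₁ k]
    refine huniq k (i x) hx ?_
    rw [← hip, hxt, ht₀']
  have hall₁ : ∀ x ∈ i ⁻¹ᵁ O, p₁ x = t₀' → ∃ k, x = z₁ k ∧ x ∈ i ⁻¹ᵁ D k := by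
    intro x hx hxt
    obtain ⟨k, hk1, hk2⟩ := hall (i x) hx (by rw [← hip, hxt, ht₀'])
    refine ⟨k, hiinj ?_, hk2⟩
    rw [hz₁ k, hk1]
  obtain ⟨N', hN'0, hN'⟩ := exists_nhd_fibre_decomp_of_le p₁ (i ⁻¹ᵁ O) (fun k => i ⁻¹ᵁ D k)
    hle₁ t₀' z₁ hz₁inj huniq₁ hall₁
  -- translation of fibres
  have htr : ∀ (A : W.Opens) (t' : N₁.toScheme),
      (A : Set W) ∩ p ⁻¹' {N₁.ι t'} = i '' (((i ⁻¹ᵁ A : (p ⁻¹ᵁ N₁).toScheme.Opens) : Set _) ∩
        p₁ ⁻¹' {t'}) := by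
    intro A t'
    ext x
    constructor
    · rintro ⟨hxA, hxt⟩
      have hxt' : p x = N₁.ι t' := hxt
      obtain ⟨x₁, rfl⟩ := hrange x (by
        rw [hxt']
        have : N₁.ι t' ∈ Set.range N₁.ι := ⟨_, rfl⟩
        rwa [Scheme.Opens.range_ι] at this)
      refine ⟨x₁, ⟨hxA, ?_⟩, rfl⟩
      apply hNinj
      rw [hip]; exact hxt'
    · rintro ⟨x₁, ⟨hx₁A, hx₁t⟩, rfl⟩
      refine ⟨hx₁A, ?_⟩
      have hx₁t' : p₁ x₁ = t' := hx₁t
      change p (i x₁) = N₁.ι t'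
      rw [← hip, hx₁t']
  refine ⟨N₁.ι ''ᵁ N', ⟨t₀', hN'0, ht₀'⟩, ?_⟩
  intro t ht
  obtain ⟨t', ht', htt⟩ : ∃ t', t' ∈ N' ∧ N₁.ι t' = t := ht
  rw [← htt]
  obtain ⟨h1, h2⟩ := hN' t' ht'
  refine ⟨?_, ?_⟩
  · rw [htr O t', h1, Set.image_iUnion]
    refine Set.iUnion_congr fun k => ?_
    rw [htr (D k) t']
  · intro k l hkl
    rw [htr (D k) t', htr (D l) t']
    exact (Set.disjoint_image_iff hiinj).mpr (h2 hkl)

end Groth.Agent.Lib.Helper6.Wt
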