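import Mathlib
import Groth.Agent.Lib.Helper6.Wt4

/-!
# Weightings: points of fibre products over purely inseparable points; additivity
-/

set_option autoImplicit false
universe u

open CategoryTheory AlgebraicGeometry Limits IsLocalRing

namespace Groth.Agent.Lib.Helper6.Wt

set_option backward.isDefEq.respectTransparency.types false in
set_option backward.defeqAttrib.useBackward true in
/-- Two field-valued points hitting a point with purely inseparable residue field extension and
agreeing on the base agree (same proof as `Helper24.Slqf.eq_of_isPurelyInseparable`). -/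
theorem geomPt_eq_of_isPurelyInseparable {X Y : Scheme.{u}} (f : X ⟶ Y) (x : X)
    (hf : (f.residueFieldMap x).hom.IsPurelyInseparable)
    (K : Type u) [Field K] (g₁ g₂ : Spec (.of K) ⟶ X)
    (h₁ : g₁ (IsLocalRing.closedPoint K) = x) (h₂ : g₂ (IsLocalRing.closedPoint K) = x)
    (hg : g₁ ≫ f = g₂ ≫ f) : g₁ = g₂ := by
  subst h₁
  obtain ⟨e, h⟩ := Scheme.SpecToEquivOfField_eq_iff.mp congr((Y.SpecToEquivOfField K) $(hg))
  apply (X.SpecToEquivOfField K).injective
  dsimp at e h
  simp only [Scheme.descResidueField_stalkClosedPointTo_comp] at e h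
  rw [← f.residueFieldMap_congr'_assoc h₂.symm, CommRingCat.hom_ext_iff] at h
  rw [Scheme.SpecToEquivOfField_eq_iff]
  algebraize [(f.residueFieldMap (g₁ (IsLocalRing.closedPoint K))).hom]
  refine ⟨h₂.symm, CommRingCat.hom_ext ?_⟩
  exact IsPurelyInseparable.injective_comp_algebraMap
    (Y.residueField (f (g₁ (IsLocalRing.closedPoint K))))
    (X.residueField (g₁ (IsLocalRing.closedPoint K))) _ h

/-- In a fibre product there is at most one point over a pair `(x, y)` when the residue field of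
`x` is purely inseparable over that of its image. -/
theorem eq_of_isPullback_of_isPurelyInseparable {P X Y Z : Scheme.{u}} {fst : P ⟶ X}
    {snd : P ⟶ Y} {f : X ⟶ Z} {g : Y ⟶ Z} (h : IsPullback fst snd f g) (x : X)
    (hx : (f.residueFieldMap x).hom.IsPurelyInseparable) (z₁ z₂ : P) (h₁ : fst z₁ = x)
    (h₂ : fst z₂ = x) (h12 : snd z₁ = snd z₂) : z₁ = z₂ := by
  let α₁ : Spec (P.residueField z₁) ⟶ Y := P.fromSpecResidueField z₁ ≫ snd
  let α₂ : Spec (P.residueField z₂) ⟶ Y := P.fromSpecResidueField z₂ ≫ snd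
  obtain ⟨q, -, -⟩ := Scheme.Pullback.exists_preimage_pullback (f := α₁) (g := α₂)
    (closedPoint _) (closedPoint _) (by
      simp only [α₁, α₂, Scheme.Hom.comp_apply, Scheme.fromSpecResidueField_apply]
      exact h12)
  let K := (pullback α₁ α₂).residueField q
  let g₁ : Spec (.of K) ⟶ P := (pullback α₁ α₂).fromSpecResidueField q ≫ pullback.fst α₁ α₂ ≫
    P.fromSpecResidueField z₁
  let g₂ : Spec (.of K) ⟶ P := (pullback α₁ α₂).fromSpecResidueField q ≫ pullback.snd α₁ α₂ ≫
    P.fromSpecResidueField z₂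
  have hc1 : g₁ (closedPoint K) = z₁ := by
    simp only [g₁, Scheme.Hom.comp_apply, Scheme.fromSpecResidueField_apply]
  have hc2 : g₂ (closedPoint K) = z₂ := by
    simp only [g₂, Scheme.Hom.comp_apply, Scheme.fromSpecResidueField_apply]
  have hsnd : g₁ ≫ snd = g₂ ≫ snd := by
    simp only [g₁, g₂, Category.assoc]
    congr 1
    exact pullback.condition
  clear_value g₁ g₂
  have key : ∀ φ : Spec (.of K) ⟶ P, (φ ≫ fst) ≫ f = (φ ≫ snd) ≫ g := fun φ => by
    rw [Category.assoc, Category.assoc, h.w]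
  have hfst : g₁ ≫ fst = g₂ ≫ fst := by
    refine geomPt_eq_of_isPurelyInseparable f x hx K _ _ ?_ ?_ ?_
    · rw [Scheme.Hom.comp_apply, hc1, h₁]
    · rw [Scheme.Hom.comp_apply, hc2, h₂]
    · rw [key g₁, key g₂, hsnd]
  have : g₁ = g₂ := h.hom_ext hfst hsnd
  exact hc1.symm.trans ((congrArg (fun φ : Spec (.of K) ⟶ P => φ (closedPoint K)) this).trans hc2)

/-- Additivity of point sums over a disjoint decomposition of a fibre. -/
theorem ptSum_eq_sum {W T : Scheme.{u}} (p : W ⟶ T) (ω : W → ℤ) (O : W.Opens) {κ : Type*}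
    [Fintype κ] (D : κ → W.Opens) [∀ k, IsFinite ((D k).ι ≫ p)] (t : T)
    (h1 : (O : Set W) ∩ p ⁻¹' {t} = ⋃ k, ((D k : Set W) ∩ p ⁻¹' {t}))
    (h2 : Pairwise (fun k l => Disjoint ((D k : Set W) ∩ p ⁻¹' {t}) ((D l : Set W) ∩ p ⁻¹' {t}))) :
    ptSum p ω O t = ∑ k, ptSum p ω (D k) t := by
  unfold ptSum
  rw [h1, finsum_mem_iUnion h2, finsum_eq_sum_of_fintype]
  intro k
  have hfin := ((D k).ι ≫ p).finite_preimage_singleton t
  refine (hfin.image (D k).ι).subset ?_
  rintro x ⟨hxD, hxt⟩
  have hx' : x ∈ Set.range (D k).ι := by rw [Scheme.Opens.range_ι]; exact hxD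
  obtain ⟨u, rfl⟩ := hx'
  exact ⟨u, hxt, rfl⟩

end Groth.Agent.Lib.Helper6.Wt
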