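import Mathlib
import Groth.Agent.Lib.Helper6.Wt5
import Groth.Agent.Lib.Helper6.EtLocInsepMain

/-!
# Weightings: arbitrary base change (Stacks 0F3D)
-/

set_option autoImplicit false
universe u

open CategoryTheory AlgebraicGeometry Limits IsLocalRing

namespace Groth.Agent.Lib.Helper6.Wt

set_option maxHeartbeats 3200000 in
/-- **Main theorem**: for a weighting `w` of a locally quasi-finite `f : X ⟶ Y` and an arbitrary
pullback square `W = X ×_Y T`, the integrals of `w` over opens of `W` finite over `T` are locally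
constant on `T`. -/
theorem locConst_of_isPullback {X Y : Scheme.{u}} (f : X ⟶ Y) [LocallyQuasiFinite f]
    [LocallyOfFiniteType f] (w : X → ℤ) (hw : MoreMor.IsWeighting f w) {T W : Scheme.{u}}
    (t : T ⟶ Y) (q : W ⟶ X) (p : W ⟶ T) (hsq : IsPullback q p f t) (O : W.Opens)
    [IsFinite (O.ι ≫ p)] : IsLocallyConstant (ptSum p (w ∘ ⇑q) O) := by
  classical
  rw [IsLocallyConstant.iff_exists_open]
  intro t₀
  -- the points of `O` over `t₀` and their images in `X`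
  have hfibfin : ((O : Set W) ∩ p ⁻¹' {t₀}).Finite := by
    have hfin := (O.ι ≫ p).finite_preimage_singleton t₀
    refine (hfin.image O.ι).subset ?_
    rintro x ⟨hxO, hxt⟩
    have hx' : x ∈ Set.range O.ι := by rw [Scheme.Opens.range_ι]; exact hxO
    obtain ⟨u, rfl⟩ := hx'
    exact ⟨u, hxt, rfl⟩
  let S : Set X := q '' ((O : Set W) ∩ p ⁻¹' {t₀})
  have hSfin : S.Finite := hfibfin.image _
  haveI : Finite S := hSfin.to_subtype
  let n := Nat.card S
  let eS : S ≃ Fin n := Finite.equivFin S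
  let x : Fin n → X := fun i => (eS.symm i).1
  have hinj : Function.Injective x := fun i j hij => eS.symm.injective (Subtype.ext hij)
  have hqf : ∀ z : W, f (q z) = t (p z) := fun z => by
    rw [← Scheme.Hom.comp_apply, ← Scheme.Hom.comp_apply, hsq.w]
  have hs : ∀ i, f (x i) = t t₀ := by
    intro i
    obtain ⟨o, ⟨-, hot⟩, ho⟩ := (eS.symm i).2
    have hot' : p o = t₀ := hot
    change f (eS.symm i).1 = _
    rw [← ho, hqf, hot']
  have hx : ∀ i, f.QuasiFiniteAt (x i) := fun i => f.quasiFiniteAt _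
  obtain ⟨V, a, v₀, hEt, hav₀, J, hJ, Vo, v, hV, hinjv, hallv, -⟩ :=
    EtLoc.exists_etale_nbhd_insep_family f (t t₀) x hinj hs hx
  haveI := hEt
  haveI := hJ
  -- the étale neighbourhood `T''` of `t₀`
  let b := pullback.fst t a
  let c := pullback.snd t a
  have hbc : b ≫ t = c ≫ a := pullback.condition
  obtain ⟨t'', hbt, hct⟩ := Scheme.Pullback.exists_preimage_pullback (f := t) (g := a) t₀ v₀
    hav₀.symm
  -- the base change `W''`
  let r := pullback.fst p b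
  let p'' := pullback.snd p b
  have hr : IsPullback r p'' p b := IsPullback.of_hasPullback p b
  have hcond : (r ≫ q) ≫ f = (p'' ≫ c) ≫ a := by
    rw [Category.assoc, hsq.w, ← Category.assoc, hr.w, Category.assoc, hbc, Category.assoc]
  let s : pullback p b ⟶ pullback f a := pullback.lift (r ≫ q) (p'' ≫ c) hcond
  have hs1 : s ≫ pullback.fst f a = r ≫ q := pullback.lift_fst _ _ _
  have hs2 : s ≫ pullback.snd f a = p'' ≫ c := pullback.lift_snd _ _ _
  have hsq_s : IsPullback s p'' (pullback.snd f a) c := by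
    refine IsPullback.of_right ?_ hs2 (IsPullback.of_hasPullback f a)
    rw [hs1, ← hbc]
    exact hr.paste_horiz hsq
  have hs1' : ∀ z, pullback.fst f a (s z) = q (r z) := fun z => by
    rw [← Scheme.Hom.comp_apply, hs1, Scheme.Hom.comp_apply]
  have hs2' : ∀ z, pullback.snd f a (s z) = c (p'' z) := fun z => by
    rw [← Scheme.Hom.comp_apply, hs2, Scheme.Hom.comp_apply]
  have hr' : ∀ z, p (r z) = b (p'' z) := fun z => by
    rw [← Scheme.Hom.comp_apply, hr.w, Scheme.Hom.comp_apply]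
  -- the opens
  haveI : IsFinite ((r ⁻¹ᵁ O).ι ≫ p'') := isFinite_preimage hr O
  haveI hVfin : ∀ ij : (Σ i, J i), IsFinite ((Vo ij.1 ij.2).ι ≫ pullback.snd f a) := fun ij =>
    (hV ij.1 ij.2).2.1
  haveI : ∀ ij : (Σ i, J i), IsFinite ((s ⁻¹ᵁ (Vo ij.1 ij.2)).ι ≫ p'') := fun ij =>
    isFinite_preimage hsq_s (Vo ij.1 ij.2)
  -- the points `z`
  have hzex : ∀ ij : (Σ i, J i), ∃ z, s z = v ij.1 ij.2 ∧ p'' z = t'' := fun ij =>
    Scheme.exists_preimage_of_isPullback hsq_s (v ij.1 ij.2) t''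
      ((hV ij.1 ij.2).2.2.1.trans hct.symm)
  choose zz hzz1 hzz2 using hzex
  have hpi : ∀ ij : (Σ i, J i),
      ((pullback.snd f a).residueFieldMap (v ij.1 ij.2)).hom.IsPurelyInseparable := fun ij =>
    (hV ij.1 ij.2).2.2.2.2.1.2
  have hzzuniq : ∀ (ij : (Σ i, J i)) (z : ↑(pullback p b)), s z = v ij.1 ij.2 → p'' z = t'' →
      z = zz ij := fun ij z h1 h2 =>
    eq_of_isPullback_of_isPurelyInseparable hsq_s (v ij.1 ij.2) (hpi ij) z (zz ij) h1 (hzz1 ij)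
      (h2.trans (hzz2 ij).symm)
  -- the index set
  let κ := {ij : (Σ i, J i) // zz ij ∈ r ⁻¹ᵁ O}
  haveI : Finite (Σ i, J i) := inferInstance
  haveI : Finite κ := inferInstance
  have hzinj : Function.Injective (fun k : κ => zz k.1) := by
    intro k l hkl
    have h1 : v k.1.1 k.1.2 = v l.1.1 l.1.2 := by
      rw [← hzz1 k.1, ← hzz1 l.1]
      exact congrArg s hkl
    obtain ⟨hi, hj⟩ := hinjv _ _ _ _ h1
    apply Subtype.ext
    exact Sigma.ext hi hj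
  have huniq : ∀ k : κ, ∀ z ∈ s ⁻¹ᵁ (Vo k.1.1 k.1.2), p'' z = t'' → z = zz k.1 := by
    intro k z hz hzt
    refine hzzuniq k.1 z ?_ hzt
    refine (hV k.1.1 k.1.2).2.2.2.1 (s z) hz ?_
    rw [hs2', hzt, hct]
  have hall : ∀ z ∈ r ⁻¹ᵁ O, p'' z = t'' →
      ∃ k : κ, z = zz k.1 ∧ z ∈ s ⁻¹ᵁ (Vo k.1.1 k.1.2) := by
    intro z hz hzt
    have hrz : r z ∈ (O : Set W) ∩ p ⁻¹' {t₀} := ⟨hz, by
      change p (r z) = t₀
      rw [hr', hzt, hbt]⟩
    have hqS : q (r z) ∈ S := ⟨r z, hrz, rfl⟩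
    let i := eS ⟨q (r z), hqS⟩
    have hxi : x i = q (r z) := by
      change (eS.symm (eS ⟨q (r z), hqS⟩)).1 = _
      rw [Equiv.symm_apply_apply]
    obtain ⟨j, hj⟩ := hallv (s z) i (by rw [hs2', hzt, hct]) (by rw [hs1', hxi])
    have hzeq : z = zz ⟨i, j⟩ := hzzuniq ⟨i, j⟩ z hj hzt
    have hmem : zz ⟨i, j⟩ ∈ r ⁻¹ᵁ O := hzeq ▸ hz
    refine ⟨⟨⟨i, j⟩, hmem⟩, hzeq, ?_⟩
    change s z ∈ Vo i j
    rw [hj]
    exact (hV i j).1
  obtain ⟨N, hN0, hN⟩ := exists_nhd_fibre_decomp p'' (r ⁻¹ᵁ O)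
    (fun k : κ => s ⁻¹ᵁ (Vo k.1.1 k.1.2)) t'' (fun k => zz k.1) hzinj (fun k => k.2)
    (fun k => hzz2 k.1) huniq hall
  -- the locally constant pieces
  have hF : ∀ k : κ, IsLocallyConstant
      (ptSum (pullback.snd f a) (w ∘ ⇑(pullback.fst f a)) (Vo k.1.1 k.1.2)) := fun k =>
    IsWeighting.locConst hw a (pullback.fst f a) (pullback.snd f a)
      (IsPullback.of_hasPullback f a) (Vo k.1.1 k.1.2)
  have hM : ∀ k : κ, ∃ M : V.Opens, v₀ ∈ M ∧ ∀ y ∈ M,
      ptSum (pullback.snd f a) (w ∘ ⇑(pullback.fst f a)) (Vo k.1.1 k.1.2) y =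
      ptSum (pullback.snd f a) (w ∘ ⇑(pullback.fst f a)) (Vo k.1.1 k.1.2) v₀ := by
    intro k
    obtain ⟨M, hMo, hM0, hMc⟩ := (IsLocallyConstant.iff_exists_open _).mp (hF k) v₀
    exact ⟨⟨M, hMo⟩, hM0, hMc⟩
  choose M hM0 hMc using hM
  cases nonempty_fintype κ
  let N'' : Set ↑(pullback t a) := (N : Set ↑(pullback t a)) ∩ ⋂ k : κ, c ⁻¹' (M k : Set V)
  have hN''open : IsOpen N'' :=
    N.isOpen.inter (isOpen_iInter_of_finite fun k => (M k).isOpen.preimage c.continuous)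
  have hN''0 : t'' ∈ N'' := by
    refine ⟨hN0, Set.mem_iInter.mpr fun k => ?_⟩
    change c t'' ∈ M k
    rw [hct]
    exact hM0 k
  have hint : (w ∘ ⇑(pullback.fst f a)) ∘ ⇑s = (w ∘ ⇑q) ∘ ⇑r := by
    funext z
    simp only [Function.comp_apply]
    rw [hs1']
  have hconst : ∀ t₁ ∈ N'', ptSum p (w ∘ ⇑q) O (b t₁) =
      ∑ k : κ, ptSum (pullback.snd f a) (w ∘ ⇑(pullback.fst f a)) (Vo k.1.1 k.1.2) v₀ := by
    intro t₁ ht₁
    obtain ⟨h1, h2⟩ := hN t₁ ht₁.1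
    rw [← ptSum_baseChange hr O (w ∘ ⇑q) t₁,
      ptSum_eq_sum p'' ((w ∘ ⇑q) ∘ ⇑r) (r ⁻¹ᵁ O) (fun k : κ => s ⁻¹ᵁ (Vo k.1.1 k.1.2)) t₁ h1 h2]
    refine Finset.sum_congr rfl fun k _ => ?_
    rw [← hint, ptSum_baseChange hsq_s (Vo k.1.1 k.1.2) (w ∘ ⇑(pullback.fst f a)) t₁]
    apply hMc k
    exact Set.mem_iInter.mp ht₁.2 k
  refine ⟨b '' N'', b.isOpenMap _ hN''open, ⟨t'', hN''0, hbt⟩, ?_⟩
  rintro _ ⟨t₁, ht₁, rfl⟩
  rw [hconst t₁ ht₁, ← hbt, hconst t'' hN''0]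

end Groth.Agent.Lib.Helper6.Wt
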