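import Mathlib
import Groth.Agent.Lib.Helper6.Wt6

/-!
# Weightings: positive weightings give universally open morphisms (Stacks 0F3E)
-/

set_option autoImplicit false
universe u

open CategoryTheory AlgebraicGeometry Limits IsLocalRing

namespace Groth.Agent.Lib.Helper6.Wt

/-- Base change of weightings (Stacks 0F3D). -/
theorem isWeighting_baseChange {X Y : Scheme.{u}} (f : X ⟶ Y) [LocallyQuasiFinite f]
    [LocallyOfFiniteType f] (w : X → ℤ) (hw : MoreMor.IsWeighting f w)
    {X' Y' : Scheme.{u}} (f' : X' ⟶ Y') (h : X' ⟶ X) (g : Y' ⟶ Y) (hc : IsPullback h f' f g) :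
    MoreMor.IsWeighting f' (w ∘ ⇑h) := by
  intro V' g' _ U' hfin
  haveI := hfin
  have h1 : (MoreMor.fibreIntegral (U'.ι ≫ Limits.pullback.snd f' g')
      (fun u => (w ∘ ⇑h) (Limits.pullback.fst f' g' (U'.ι u)))) =
      ptSum (Limits.pullback.snd f' g') (w ∘ ⇑(Limits.pullback.fst f' g' ≫ h)) U' := by
    funext t
    exact fibreIntegral_opens (Limits.pullback.snd f' g')
      (w ∘ ⇑(Limits.pullback.fst f' g' ≫ h)) U' t
  rw [h1]
  exact locConst_of_isPullback f w hw (g' ≫ g) (Limits.pullback.fst f' g' ≫ h)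
    (Limits.pullback.snd f' g') ((IsPullback.of_hasPullback f' g').paste_horiz hc) U'

theorem deg_pos {W T : Scheme.{u}} (p : W ⟶ T) (x : W)
    (hfin : letI := (p.residueFieldMap x).hom.toAlgebra
      Module.Finite (T.residueField (p x)) (W.residueField x)) : 0 < deg p x := by
  unfold deg
  letI := (p.residueFieldMap x).hom.toAlgebra
  haveI : Module.Finite (T.residueField (p x)) (W.residueField x) := hfin
  have := (Field.instNeZeroFinSepDegree (F := T.residueField (p x))
    (E := W.residueField x)).out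
  exact_mod_cast Nat.pos_of_ne_zero this

/-- The structure of an étale neighbourhood with a finite open piece through a given point. -/
theorem exists_etale_nbhd_piece {X Y : Scheme.{u}} (f : X ⟶ Y) [LocallyQuasiFinite f]
    [LocallyOfFiniteType f] (x : X) :
    ∃ (V : Scheme.{u}) (a : V ⟶ Y) (v₀ : V), Etale a ∧ a v₀ = f x ∧
      ∃ (D : (pullback f a).Opens) (z : ↑(pullback f a)), z ∈ D ∧
        IsFinite (D.ι ≫ pullback.snd f a) ∧ pullback.snd f a z = v₀ ∧
        (∀ z' ∈ D, pullback.snd f a z' = v₀ → z' = z) ∧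
        ((pullback.snd f a).residueFieldMap z).hom.IsPurelyInseparable ∧
        (letI := ((pullback.snd f a).residueFieldMap z).hom.toAlgebra;
          Module.Finite (V.residueField (pullback.snd f a z)) ((pullback f a).residueField z)) ∧
        pullback.fst f a z = x := by
  obtain ⟨V, a, v₀, hEt, hav₀, J, hJ, Vo, v, hV, -, hallv, -⟩ :=
    EtLoc.exists_etale_nbhd_insep_family f (f x) (fun _ : Fin 1 => x)
      (fun i j _ => Subsingleton.elim i j) (fun _ => rfl) (fun _ => f.quasiFiniteAt x)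
  obtain ⟨z₀, hz1, hz2⟩ := Scheme.Pullback.exists_preimage_pullback (f := f) (g := a) x v₀
    hav₀.symm
  obtain ⟨j, hj⟩ := hallv z₀ 0 hz2 hz1
  obtain ⟨h1, h2, h3, h4, h5, h6⟩ := hV 0 j
  exact ⟨V, a, v₀, hEt, hav₀, Vo 0 j, v 0 j, h1, h2, h3, h4, h5.2, h5.1, h6⟩

set_option maxHeartbeats 1600000 in
/-- A locally quasi-finite morphism with a positive weighting is open. -/
theorem isOpenMap_of_pos_weighting {X Y : Scheme.{u}} (f : X ⟶ Y) [LocallyQuasiFinite f]
    [LocallyOfFiniteType f] (w : X → ℤ) (hw : MoreMor.IsWeighting f w) (hpos : ∀ x, 0 < w x) :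
    IsOpenMap ⇑f := by
  intro G hG
  rw [isOpen_iff_mem_nhds]
  rintro _ ⟨x, hxG, rfl⟩
  obtain ⟨V, a, v₀, hEt, hav₀, D, z, hzD, hDfin, hzv, huniq, -, hfinres, hzx⟩ :=
    exists_etale_nbhd_piece f x
  haveI := hEt
  haveI := hDfin
  -- shrink so that `D` maps into `G`
  let E : Set D := D.ι ⁻¹' ((pullback.fst f a) ⁻¹' G)ᶜ
  have hE : IsClosed E :=
    ((hG.preimage (pullback.fst f a).continuous).isClosed_compl).preimage D.ι.continuous
  let Z : Set V := (D.ι ≫ pullback.snd f a) '' E
  have hZ : IsClosed Z := (D.ι ≫ pullback.snd f a).isClosedMap _ hE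
  have hv₀Z : v₀ ∉ Z := by
    rintro ⟨u, hu, hut⟩
    have hmem : D.ι u ∈ D := by
      have : D.ι u ∈ Set.range D.ι := ⟨_, rfl⟩
      rwa [Scheme.Opens.range_ι] at this
    have h1 := huniq (D.ι u) hmem hut
    apply hu
    change pullback.fst f a (D.ι u) ∈ G
    rw [h1, hzx]
    exact hxG
  -- positivity of the integral
  let F := ptSum (pullback.snd f a) (w ∘ ⇑(pullback.fst f a)) D
  have hF : IsLocallyConstant F :=
    IsWeighting.locConst hw a (pullback.fst f a) (pullback.snd f a)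
      (IsPullback.of_hasPullback f a) D
  have hFv₀ : 0 < F v₀ := by
    have hset : (D : Set ↑(pullback f a)) ∩ (pullback.snd f a) ⁻¹' {v₀} = {z} := by
      ext z'
      constructor
      · rintro ⟨h1, h2⟩
        exact huniq z' h1 h2
      · rintro rfl
        exact ⟨hzD, hzv⟩
    change 0 < ptSum (pullback.snd f a) (w ∘ ⇑(pullback.fst f a)) D v₀
    unfold ptSum
    rw [hset, finsum_mem_singleton]
    exact mul_pos (hpos _) (deg_pos _ _ hfinres)
  obtain ⟨M, hMo, hM0, hMc⟩ := (IsLocallyConstant.iff_exists_open _).mp hF v₀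
  have hopen : IsOpen (M ∩ Zᶜ) := hMo.inter hZ.isOpen_compl
  have hsub : a '' (M ∩ Zᶜ) ⊆ f '' G := by
    rintro _ ⟨v, ⟨hvM, hvZ⟩, rfl⟩
    have hFv : F v ≠ 0 := by
      rw [hMc v hvM]; exact hFv₀.ne'
    have hne : ((D : Set ↑(pullback f a)) ∩ (pullback.snd f a) ⁻¹' {v}).Nonempty := by
      by_contra hcon
      rw [Set.not_nonempty_iff_eq_empty] at hcon
      apply hFv
      change ptSum (pullback.snd f a) (w ∘ ⇑(pullback.fst f a)) D v = 0
      unfold ptSum
      rw [hcon, finsum_mem_empty]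
    obtain ⟨z', hz'D, hz'v⟩ := hne
    have hz'v' : pullback.snd f a z' = v := hz'v
    refine ⟨pullback.fst f a z', ?_, ?_⟩
    · by_contra hcon
      apply hvZ
      have hx' : z' ∈ Set.range D.ι := by rw [Scheme.Opens.range_ι]; exact hz'D
      obtain ⟨u, rfl⟩ := hx'
      exact ⟨u, hcon, hz'v'⟩
    · rw [← Scheme.Hom.comp_apply, pullback.condition, Scheme.Hom.comp_apply, hz'v']
  refine Filter.mem_of_superset ?_ hsub
  rw [← hav₀]
  exact (a.isOpenMap _ hopen).mem_nhds ⟨v₀, ⟨hM0, hv₀Z⟩, rfl⟩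

/-- **A locally quasi-finite morphism with a positive weighting is universally open**
(Stacks 0F3E). -/
theorem universallyOpen_of_pos_weighting {X Y : Scheme.{u}} (f : X ⟶ Y) [LocallyQuasiFinite f]
    [LocallyOfFiniteType f] (w : X → ℤ) (hw : MoreMor.IsWeighting f w) (hpos : ∀ x, 0 < w x) :
    UniversallyOpen f := by
  refine ⟨fun X' Y' i₁ i₂ f' hsq => ?_⟩
  haveI : LocallyQuasiFinite f' := MorphismProperty.of_isPullback hsq.flip ‹_›
  haveI : LocallyOfFiniteType f' := MorphismProperty.of_isPullback hsq.flip ‹_›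
  exact isOpenMap_of_pos_weighting f' (w ∘ ⇑i₁)
    (isWeighting_baseChange f w hw f' i₁ i₂ hsq.flip) (fun x' => hpos _)

end Groth.Agent.Lib.Helper6.Wt
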