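import Mathlib
import Groth.Agent.Lib.Helper6.Wt7

/-!
# Weightings: positive weightings are upper semicontinuous (Stacks 0F3H)
-/

set_option autoImplicit false
universe u

open CategoryTheory AlgebraicGeometry Limits IsLocalRing

namespace Groth.Agent.Lib.Helper6.Wt

theorem deg_eq_one {W T : Scheme.{u}} (p : W ⟶ T) (x : W)
    (hpi : (p.residueFieldMap x).hom.IsPurelyInseparable) : deg p x = 1 := by
  unfold deg
  letI := (p.residueFieldMap x).hom.toAlgebra
  haveI : IsPurelyInseparable (T.residueField (p x)) (W.residueField x) := hpi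
  have := IsPurelyInseparable.finSepDegree_eq_one (T.residueField (p x)) (W.residueField x)
  exact_mod_cast this

theorem deg_pos_of_locallyQuasiFinite {W T : Scheme.{u}} (p : W ⟶ T) [LocallyQuasiFinite p]
    (x : W) : 0 < deg p x :=
  deg_pos p x (EtLoc.finite_residueField_of_quasiFiniteAt p x (p.quasiFiniteAt x))

/-- A term of a point sum with nonnegative terms over a finite fibre is at most the sum. -/
theorem le_ptSum {W T : Scheme.{u}} (p : W ⟶ T) (ω : W → ℤ) (D : Set W) (t : T)
    (hfin : (D ∩ p ⁻¹' {t}).Finite) (hnn : ∀ x ∈ D ∩ p ⁻¹' {t}, 0 ≤ ω x * deg p x)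
    (x : W) (hx : x ∈ D ∩ p ⁻¹' {t}) : ω x * deg p x ≤ ptSum p ω D t := by
  unfold ptSum
  rw [finsum_mem_eq_finite_toFinset_sum _ hfin]
  exact Finset.single_le_sum (f := fun x => ω x * deg p x)
    (fun i hi => hnn i (hfin.mem_toFinset.mp hi)) (hfin.mem_toFinset.mpr hx)

theorem finite_opens_inter_fibre {W T : Scheme.{u}} (p : W ⟶ T) (D : W.Opens)
    [IsFinite (D.ι ≫ p)] (t : T) : ((D : Set W) ∩ p ⁻¹' {t}).Finite := by
  have hfin := (D.ι ≫ p).finite_preimage_singleton t
  refine (hfin.image D.ι).subset ?_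
  rintro x ⟨hxD, hxt⟩
  have hx' : x ∈ Set.range D.ι := by rw [Scheme.Opens.range_ι]; exact hxD
  obtain ⟨u, rfl⟩ := hx'
  exact ⟨u, hxt, rfl⟩

set_option maxHeartbeats 1600000 in
/-- **A positive weighting is upper semicontinuous** (Stacks 0F3H). -/
theorem upperSemicontinuous_of_pos_weighting {X Y : Scheme.{u}} (f : X ⟶ Y)
    [LocallyQuasiFinite f] [LocallyOfFiniteType f] (w : X → ℤ) (hw : MoreMor.IsWeighting f w)
    (hpos : ∀ x, 0 < w x) : UpperSemicontinuous w := by
  intro x c hc
  obtain ⟨V, a, v₀, hEt, hav₀, D, z, hzD, hDfin, hzv, huniq, hpi, hfinres, hzx⟩ :=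
    exists_etale_nbhd_piece f x
  haveI := hEt
  haveI := hDfin
  let F := ptSum (pullback.snd f a) (w ∘ ⇑(pullback.fst f a)) D
  have hF : IsLocallyConstant F :=
    IsWeighting.locConst hw a (pullback.fst f a) (pullback.snd f a)
      (IsPullback.of_hasPullback f a) D
  have hFv₀ : F v₀ = w x := by
    have hset : (D : Set ↑(pullback f a)) ∩ (pullback.snd f a) ⁻¹' {v₀} = {z} := by
      ext z'
      constructor
      · rintro ⟨h1, h2⟩
        exact huniq z' h1 h2
      · rintro rfl
        exact ⟨hzD, hzv⟩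
    change ptSum (pullback.snd f a) (w ∘ ⇑(pullback.fst f a)) D v₀ = w x
    unfold ptSum
    rw [hset, finsum_mem_singleton, deg_eq_one _ _ hpi, mul_one, Function.comp_apply, hzx]
  obtain ⟨M, hMo, hM0, hMc⟩ := (IsLocallyConstant.iff_exists_open _).mp hF v₀
  let G : Set ↑(pullback f a) := (D : Set ↑(pullback f a)) ∩ (pullback.snd f a) ⁻¹' M
  have hGo : IsOpen G := D.isOpen.inter (hMo.preimage (pullback.snd f a).continuous)
  have himg : IsOpen ((pullback.fst f a) '' G) := (pullback.fst f a).isOpenMap _ hGo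
  have hxmem : x ∈ (pullback.fst f a) '' G := ⟨z, ⟨hzD, by
    change pullback.snd f a z ∈ M
    rw [hzv]; exact hM0⟩, hzx⟩
  refine Filter.mem_of_superset (himg.mem_nhds hxmem) ?_
  rintro _ ⟨z', ⟨hz'D, hz'M⟩, rfl⟩
  have hz'M' : pullback.snd f a z' ∈ M := hz'M
  have h1 : (w ∘ ⇑(pullback.fst f a)) z' * deg (pullback.snd f a) z' ≤
      F (pullback.snd f a z') :=
    le_ptSum (pullback.snd f a) (w ∘ ⇑(pullback.fst f a)) D _
      (finite_opens_inter_fibre _ D _)
      (fun y _ => mul_nonneg (hpos _).le (deg_pos_of_locallyQuasiFinite _ _).le) z' ⟨hz'D, rfl⟩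
  rw [hMc _ hz'M', hFv₀] at h1
  have h2 : w (pullback.fst f a z') ≤
      (w ∘ ⇑(pullback.fst f a)) z' * deg (pullback.snd f a) z' := by
    have := deg_pos_of_locallyQuasiFinite (pullback.snd f a) z'
    simp only [Function.comp_apply]
    nlinarith [hpos (pullback.fst f a z')]
  change w (pullback.fst f a z') < c
  exact lt_of_le_of_lt (h2.trans h1) hc

end Groth.Agent.Lib.Helper6.Wt
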