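import Mathlib
import Groth.Agent.Lib.Helper6.Wt8

/-!
# Weightings: lower semicontinuity of the fibre integral (Stacks 0F3I)
-/

set_option autoImplicit false
universe u

open CategoryTheory AlgebraicGeometry Limits IsLocalRing

namespace Groth.Agent.Lib.Helper6.Wt

/-- Finiteness of fibres is stable under base change for locally quasi-finite morphisms. -/
theorem finite_preimage_singleton_of_isPullback {U V U' V' : Scheme.{u}} {π : U ⟶ V}
    {π' : U' ⟶ V'} {h : U' ⟶ U} {g : V' ⟶ V} (hc : IsPullback h π' π g) [LocallyQuasiFinite π]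
    (hfin : ∀ v : V, (π ⁻¹' {v}).Finite) (v' : V') : (π' ⁻¹' {v'}).Finite := by
  haveI : LocallyQuasiFinite π' := MorphismProperty.of_isPullback hc ‹_›
  let Ω := AlgebraicClosure (V'.residueField v')
  let yb := geomPt V' v'
  have hyb : yb (closedPoint Ω) = v' := geomPt_apply V' v' _
  haveI : Finite (Lifts π (yb ≫ g)) := finite_lifts π (yb ≫ g) (hfin _) (fun u _ =>
    EtLoc.finite_residueField_of_quasiFiniteAt π u (π.quasiFiniteAt u))
  haveI : Finite (Lifts π' yb) := Finite.of_equiv _ (liftsPullbackEquiv hc yb).symm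
  have hsub : π' ⁻¹' {v'} ⊆ Set.range (fun xb : Lifts π' yb => xb.center) := by
    intro u hu
    have hu' : π' u = yb (closedPoint Ω) := by rw [hyb]; exact hu
    obtain ⟨φ⟩ := nonempty_emb π' yb u hu' (isAlgebraic_residueField π' u)
    refine ⟨(liftsEquiv π' yb).symm ⟨⟨u, hu'⟩, φ⟩, ?_⟩
    change ((liftsEquiv π' yb).symm ⟨⟨u, hu'⟩, φ⟩).center = u
    rw [← liftsEquiv_center, Equiv.apply_symm_apply]
  exact (Set.finite_range _).subset hsub

theorem fibreIntegral_eq_finsum_mem {W T : Scheme.{u}} (p : W ⟶ T) (ω : W → ℤ) (t : T) :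
    MoreMor.fibreIntegral p ω t = ∑ᶠ x ∈ p ⁻¹' {t}, ω x * deg p x := by
  rw [fibreIntegral_eq_finsum_deg]
  exact finsum_set_coe_eq_finsum_mem (p ⁻¹' {t}) (f := fun x => ω x * deg p x)

/-- The sum of the point sums over pairwise disjoint sets is at most the fibre integral, for
nonnegative integrands and finite fibres. -/
theorem sum_ptSum_le_fibreIntegral {W T : Scheme.{u}} (p : W ⟶ T) (ω : W → ℤ) (t : T)
    (hfin : (p ⁻¹' {t}).Finite) (hnn : ∀ x, p x = t → 0 ≤ ω x * deg p x) {κ : Type*} [Fintype κ]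
    (D : κ → Set W) (hdisj : Pairwise (fun k l => Disjoint (D k) (D l))) :
    ∑ k, ptSum p ω (D k) t ≤ MoreMor.fibreIntegral p ω t := by
  classical
  rw [fibreIntegral_eq_finsum_mem]
  unfold ptSum
  have h1 : ∑ k, ∑ᶠ x ∈ D k ∩ p ⁻¹' {t}, ω x * deg p x =
      ∑ᶠ x ∈ ⋃ k, (D k ∩ p ⁻¹' {t}), ω x * deg p x := by
    rw [finsum_mem_iUnion, finsum_eq_sum_of_fintype]
    · intro k l hkl
      exact (hdisj hkl).mono Set.inter_subset_left Set.inter_subset_left
    · intro k
      exact hfin.subset Set.inter_subset_right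
  rw [h1]
  have hsub : (⋃ k, (D k ∩ p ⁻¹' {t})) ⊆ p ⁻¹' {t} :=
    Set.iUnion_subset fun k => Set.inter_subset_right
  have hfinU : (⋃ k, (D k ∩ p ⁻¹' {t})).Finite := hfin.subset hsub
  rw [finsum_mem_eq_finite_toFinset_sum _ hfinU, finsum_mem_eq_finite_toFinset_sum _ hfin]
  refine Finset.sum_le_sum_of_subset_of_nonneg ?_ ?_
  · intro x hx
    exact hfin.mem_toFinset.mpr (hsub (hfinU.mem_toFinset.mp hx))
  · intro x hx _
    exact hnn x (hfin.mem_toFinset.mp hx)

/-- If moreover the sets cover the fibre, we get equality. -/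
theorem sum_ptSum_eq_fibreIntegral {W T : Scheme.{u}} (p : W ⟶ T) (ω : W → ℤ) (t : T)
    (hfin : (p ⁻¹' {t}).Finite) {κ : Type*} [Fintype κ]
    (D : κ → Set W) (hdisj : Pairwise (fun k l => Disjoint (D k) (D l)))
    (hcov : ∀ x, p x = t → ∃ k, x ∈ D k) :
    ∑ k, ptSum p ω (D k) t = MoreMor.fibreIntegral p ω t := by
  classical
  rw [fibreIntegral_eq_finsum_mem]
  unfold ptSum
  have h1 : ∑ k, ∑ᶠ x ∈ D k ∩ p ⁻¹' {t}, ω x * deg p x =
      ∑ᶠ x ∈ ⋃ k, (D k ∩ p ⁻¹' {t}), ω x * deg p x := by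
    rw [finsum_mem_iUnion, finsum_eq_sum_of_fintype]
    · intro k l hkl
      exact (hdisj hkl).mono Set.inter_subset_left Set.inter_subset_left
    · intro k
      exact hfin.subset Set.inter_subset_right
  rw [h1]
  have hset : (⋃ k, (D k ∩ p ⁻¹' {t})) = p ⁻¹' {t} := by
    ext x
    simp only [Set.mem_iUnion, Set.mem_inter_iff]
    constructor
    · rintro ⟨k, -, hx⟩
      exact hx
    · intro hx
      obtain ⟨k, hk⟩ := hcov x hx
      exact ⟨k, hk, hx⟩
  rw [hset]

set_option maxHeartbeats 1600000 in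
/-- Étale localization at a whole (finite) fibre of a separated locally quasi-finite morphism. -/
theorem exists_etale_nbhd_fibre {X Y : Scheme.{u}} (f : X ⟶ Y) [LocallyQuasiFinite f]
    [LocallyOfFiniteType f] [IsSeparated f] (hfin : ∀ y : Y, (f ⁻¹' {y}).Finite) (y : Y) :
    ∃ (V : Scheme.{u}) (a : V ⟶ Y) (v₀ : V), Etale a ∧ a v₀ = y ∧
      ∃ (κ : Type) (_ : Fintype κ) (D : κ → (pullback f a).Opens) (z : κ → ↑(pullback f a)),
        (∀ k, z k ∈ D k ∧ IsFinite ((D k).ι ≫ pullback.snd f a) ∧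
          pullback.snd f a (z k) = v₀ ∧
          (∀ z' ∈ D k, pullback.snd f a z' = v₀ → z' = z k) ∧
          ((pullback.snd f a).residueFieldMap (z k)).hom.IsPurelyInseparable) ∧
        (∀ k, IsClopen (D k : Set ↑(pullback f a))) ∧
        Pairwise (fun k l => Disjoint (D k : Set ↑(pullback f a)) (D l)) ∧
        (∀ z', pullback.snd f a z' = v₀ → ∃ k, z' = z k) := by
  classical
  haveI : Finite (f ⁻¹' {y}) := (hfin y).to_subtype
  let n := Nat.card (f ⁻¹' {y})
  let eS : (f ⁻¹' {y}) ≃ Fin n := Finite.equivFin _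
  let x : Fin n → X := fun i => (eS.symm i).1
  have hinj : Function.Injective x := fun i j hij => eS.symm.injective (Subtype.ext hij)
  have hs : ∀ i, f (x i) = y := fun i => (eS.symm i).2
  obtain ⟨V, a, v₀, hEt, hav₀, J, hJ, Vo, v, hV, hinjv, hallv, hsep⟩ :=
    EtLoc.exists_etale_nbhd_insep_family f y x hinj hs (fun i => f.quasiFiniteAt _)
  haveI := hJ
  obtain ⟨hclopen, hdisj⟩ := hsep inferInstance
  haveI : Finite (Σ i, J i) := inferInstance
  cases nonempty_fintype (Σ i, J i)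
  refine ⟨V, a, v₀, hEt, hav₀, (Σ i, J i), inferInstance, fun k => Vo k.1 k.2,
    fun k => v k.1 k.2, fun k => ?_, fun k => hclopen k.1 k.2, ?_, ?_⟩
  · obtain ⟨h1, h2, h3, h4, h5, -⟩ := hV k.1 k.2
    exact ⟨h1, h2, h3, h4, h5.2⟩
  · intro k l hkl
    rw [Set.disjoint_iff_inter_eq_empty]
    by_contra hcon
    obtain ⟨hi, hj⟩ := hdisj k.1 k.2 l.1 l.2 (Set.nonempty_iff_ne_empty.mpr hcon)
    exact hkl (Sigma.ext hi hj)
  · intro z' hz'
    have hfz : f (pullback.fst f a z') = y := by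
      rw [← Scheme.Hom.comp_apply, pullback.condition, Scheme.Hom.comp_apply, hz', hav₀]
    let i := eS ⟨pullback.fst f a z', hfz⟩
    have hxi : x i = pullback.fst f a z' := by
      change (eS.symm (eS ⟨pullback.fst f a z', hfz⟩)).1 = _
      rw [Equiv.symm_apply_apply]
    obtain ⟨j, hj⟩ := hallv z' i hz' hxi.symm
    exact ⟨⟨i, j⟩, hj⟩

set_option maxHeartbeats 1600000 in
/-- **The fibre integral of a positive weighting along a separated locally quasi-finite morphism
with finite fibres is lower semicontinuous** (Stacks 0F3I). -/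
theorem lowerSemicontinuous_fibreIntegral {X Y : Scheme.{u}} (f : X ⟶ Y)
    [LocallyQuasiFinite f] [LocallyOfFiniteType f] [IsSeparated f]
    (hfin : ∀ y : Y, (f ⁻¹' {y}).Finite) (w : X → ℤ) (hw : MoreMor.IsWeighting f w)
    (hpos : ∀ x, 0 < w x) : LowerSemicontinuous (MoreMor.fibreIntegral f w) := by
  intro y c hc
  obtain ⟨V, a, v₀, hEt, hav₀, κ, hκ, D, z, hD, -, hdisj, hcov⟩ :=
    exists_etale_nbhd_fibre f hfin y
  haveI := hEt
  haveI := hκ
  haveI : ∀ k, IsFinite ((D k).ι ≫ pullback.snd f a) := fun k => (hD k).2.1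
  have hsq : IsPullback (pullback.fst f a) (pullback.snd f a) f a := IsPullback.of_hasPullback f a
  have hbc : ∀ v : V, MoreMor.fibreIntegral (pullback.snd f a) (w ∘ ⇑(pullback.fst f a)) v =
      MoreMor.fibreIntegral f w (a v) := fun v => fibreIntegral_baseChange hsq hfin w v
  have hfin' : ∀ v : V, ((pullback.snd f a) ⁻¹' {v}).Finite := fun v =>
    finite_preimage_singleton_of_isPullback hsq hfin v
  have hF : ∀ k, IsLocallyConstant
      (ptSum (pullback.snd f a) (w ∘ ⇑(pullback.fst f a)) (D k)) := fun k =>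
    IsWeighting.locConst hw a (pullback.fst f a) (pullback.snd f a) hsq (D k)
  have hM : ∀ k, ∃ M : Set V, IsOpen M ∧ v₀ ∈ M ∧ ∀ v ∈ M,
      ptSum (pullback.snd f a) (w ∘ ⇑(pullback.fst f a)) (D k) v =
      ptSum (pullback.snd f a) (w ∘ ⇑(pullback.fst f a)) (D k) v₀ := fun k =>
    (IsLocallyConstant.iff_exists_open _).mp (hF k) v₀
  choose M hMo hM0 hMc using hM
  have hopen : IsOpen (⋂ k, M k) := isOpen_iInter_of_finite hMo
  have hmem : v₀ ∈ ⋂ k, M k := Set.mem_iInter.mpr hM0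
  have heq : ∑ k, ptSum (pullback.snd f a) (w ∘ ⇑(pullback.fst f a)) (D k) v₀ =
      MoreMor.fibreIntegral f w y := by
    rw [← hav₀, ← hbc]
    refine sum_ptSum_eq_fibreIntegral _ _ _ (hfin' v₀) (fun k => (D k : Set ↑(pullback f a)))
      hdisj (fun x hx => ?_)
    obtain ⟨k, hk⟩ := hcov x hx
    exact ⟨k, hk ▸ (hD k).1⟩
  have hge : ∀ v ∈ ⋂ k, M k, MoreMor.fibreIntegral f w y ≤ MoreMor.fibreIntegral f w (a v) := by
    intro v hv
    rw [← hbc, ← heq]
    have h1 : ∑ k, ptSum (pullback.snd f a) (w ∘ ⇑(pullback.fst f a)) (D k) v₀ =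
        ∑ k, ptSum (pullback.snd f a) (w ∘ ⇑(pullback.fst f a)) (D k) v :=
      Finset.sum_congr rfl fun k _ => (hMc k v (Set.mem_iInter.mp hv k)).symm
    rw [h1]
    exact sum_ptSum_le_fibreIntegral _ _ _ (hfin' v)
      (fun x _ => mul_nonneg (hpos _).le (deg_pos_of_locallyQuasiFinite _ _).le)
      (fun k => (D k : Set ↑(pullback f a))) hdisj
  refine Filter.mem_of_superset ((a.isOpenMap _ hopen).mem_nhds ⟨v₀, hmem, hav₀⟩) ?_
  rintro _ ⟨v, hv, rfl⟩
  exact lt_of_lt_of_le hc (hge v hv)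

end Groth.Agent.Lib.Helper6.Wt
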