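import Mathlib
import Groth.Agent.Lib.Helper6.Wt9
import Groth.Agent.Lib.Helper6.EtLocUnion

/-!
# Weightings: the locus where the fibre integral is maximal (Stacks 0F3K)
-/

set_option autoImplicit false
universe u

open CategoryTheory AlgebraicGeometry Limits IsLocalRing

namespace Groth.Agent.Lib.Helper6.Wt

/-- Universal closedness can be checked on étale neighbourhoods of the points of the target. -/
theorem universallyClosed_of_etale_nbhds {X' Y' : Scheme.{u}} (g : X' ⟶ Y')
    (H : ∀ y' : Y', ∃ (N : Scheme.{u}) (e : N ⟶ Y'), Etale e ∧ y' ∈ Set.range e ∧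
      UniversallyClosed (pullback.snd g e)) : UniversallyClosed g := by
  refine IsZariskiLocalAtTarget.of_forall_exists_morphismRestrict (P := @UniversallyClosed)
    fun y' => ?_
  obtain ⟨N, e, hEt, hy', hfin⟩ := H y'
  haveI := hEt
  let B : Y'.Opens := ⟨Set.range e, e.isOpenMap.isOpen_range⟩
  refine ⟨B, hy', ?_⟩
  have hBr : Set.range e ⊆ Set.range B.ι := by
    rw [Scheme.Opens.range_ι]
    exact subset_rfl
  let eb : N ⟶ B.toScheme := IsOpenImmersion.lift B.ι e hBr
  have heb : eb ≫ B.ι = e := IsOpenImmersion.lift_fac _ _ _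
  haveI : Etale eb := by
    refine MorphismProperty.of_postcomp (W := @Etale) (W' := @IsOpenImmersion) eb B.ι
      inferInstance ?_
    rw [heb]; infer_instance
  haveI : Surjective eb := by
    refine ⟨fun b => ?_⟩
    have hb : B.ι b ∈ Set.range e := by
      have : B.ι b ∈ Set.range B.ι := ⟨_, rfl⟩
      rw [Scheme.Opens.range_ι] at this
      exact this
    obtain ⟨n, hn⟩ := hb
    refine ⟨n, B.ι.isOpenEmbedding.injective ?_⟩
    rw [← Scheme.Hom.comp_apply, heb, hn]
  have hR := (isPullback_morphismRestrict g B).flip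
  let σ : pullback g e ⟶ (g ⁻¹ᵁ B).toScheme :=
    hR.lift (pullback.fst g e) (pullback.snd g e ≫ eb) (by
      rw [Category.assoc, heb, pullback.condition])
  have hσ1 : σ ≫ (g ⁻¹ᵁ B).ι = pullback.fst g e := hR.lift_fst _ _ _
  have hσ2 : σ ≫ g ∣_ B = pullback.snd g e ≫ eb := hR.lift_snd _ _ _
  have hsq : IsPullback σ (pullback.snd g e) (g ∣_ B) eb := by
    refine IsPullback.of_right ?_ hσ2 hR
    rw [hσ1, heb]
    exact IsPullback.of_hasPullback g e
  exact MorphismProperty.of_isPullback_of_descendsAlong (P := @UniversallyClosed)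
    (Q := @Surjective ⊓ @Flat ⊓ @LocallyOfFinitePresentation) hsq.flip
    ⟨⟨inferInstance, inferInstance⟩, inferInstance⟩ hfin

theorem ptSum_singleton {W T : Scheme.{u}} (p : W ⟶ T) (ω : W → ℤ) (x : W) :
    ptSum p ω {x} (p x) = ω x * deg p x := by
  unfold ptSum
  have : ({x} : Set W) ∩ p ⁻¹' {p x} = {x} := by
    ext z
    simp only [Set.mem_inter_iff, Set.mem_singleton_iff, Set.mem_preimage]
    constructor
    · rintro ⟨h, -⟩; exact h
    · rintro rfl; exact ⟨rfl, rfl⟩
  rw [this, finsum_mem_singleton]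

set_option maxHeartbeats 3200000 in
/-- **Over the locus where the fibre integral of a positive weighting attains its upper bound,
a separated locally quasi-finite morphism with finite fibres is finite** (Stacks 0F3K). -/
theorem isFinite_over_max_locus {X Y : Scheme.{u}} (f : X ⟶ Y)
    [LocallyQuasiFinite f] [LocallyOfFiniteType f] [IsSeparated f]
    (hfin : ∀ y : Y, (f ⁻¹' {y}).Finite) (w : X → ℤ) (hw : MoreMor.IsWeighting f w)
    (hpos : ∀ x, 0 < w x) (d : ℤ) (hmax : ∀ y : Y, MoreMor.fibreIntegral f w y ≤ d)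
    (Yd : Y.Opens) (hYd : ∀ y, y ∈ Yd ↔ MoreMor.fibreIntegral f w y = d) :
    IsFinite (f ∣_ Yd) := by
  classical
  haveI : IsSeparated (f ∣_ Yd) :=
    IsZariskiLocalAtTarget.restrict (P := @IsSeparated) inferInstance Yd
  haveI : LocallyOfFiniteType (f ∣_ Yd) :=
    IsZariskiLocalAtTarget.restrict (P := @LocallyOfFiniteType) inferInstance Yd
  haveI : LocallyQuasiFinite (f ∣_ Yd) :=
    IsZariskiLocalAtTarget.restrict (P := @LocallyQuasiFinite) inferInstance Yd
  haveI : UniversallyClosed (f ∣_ Yd) := by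
    refine universallyClosed_of_etale_nbhds _ fun y' => ?_
    have hy : Yd.ι y' ∈ Yd := by
      have : Yd.ι y' ∈ Set.range Yd.ι := ⟨_, rfl⟩
      rwa [Scheme.Opens.range_ι] at this
    obtain ⟨V, a, v₀, hEt, hav₀, κ, hκ, D, z, hD, -, hdisj, hcov⟩ :=
      exists_etale_nbhd_fibre f hfin (Yd.ι y')
    haveI := hEt
    haveI := hκ
    haveI : ∀ k, IsFinite ((D k).ι ≫ pullback.snd f a) := fun k => (hD k).2.1
    have hsq : IsPullback (pullback.fst f a) (pullback.snd f a) f a :=
      IsPullback.of_hasPullback f a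
    have hbc : ∀ v : V, MoreMor.fibreIntegral (pullback.snd f a) (w ∘ ⇑(pullback.fst f a)) v =
        MoreMor.fibreIntegral f w (a v) := fun v => fibreIntegral_baseChange hsq hfin w v
    have hfin' : ∀ v : V, ((pullback.snd f a) ⁻¹' {v}).Finite := fun v =>
      finite_preimage_singleton_of_isPullback hsq hfin v
    have hF : ∀ k, IsLocallyConstant
        (ptSum (pullback.snd f a) (w ∘ ⇑(pullback.fst f a)) (D k)) := fun k =>
      IsWeighting.locConst hw a (pullback.fst f a) (pullback.snd f a) hsq (D k)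
    have hM : ∀ k, ∃ M : Set V, IsOpen M ∧ v₀ ∈ M ∧ ∀ v ∈ M,
        ptSum (pullback.snd f a) (w ∘ ⇑(pullback.fst f a)) (D k) v =
        ptSum (pullback.snd f a) (w ∘ ⇑(pullback.fst f a)) (D k) v₀ := fun k =>
      (IsLocallyConstant.iff_exists_open _).mp (hF k) v₀
    choose M hMo hM0 hMc using hM
    have heq : ∑ k, ptSum (pullback.snd f a) (w ∘ ⇑(pullback.fst f a)) (D k) v₀ = d := by
      rw [← (hYd _).mp hy, ← hav₀, ← hbc]
      refine sum_ptSum_eq_fibreIntegral _ _ _ (hfin' v₀) (fun k => (D k : Set ↑(pullback f a)))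
        hdisj (fun x hx => ?_)
      obtain ⟨k, hk⟩ := hcov x hx
      exact ⟨k, hk ▸ (hD k).1⟩
    let NV : V.Opens := ⟨(⋂ k, M k) ∩ a ⁻¹' (Yd : Set Y),
      (isOpen_iInter_of_finite hMo).inter (Yd.isOpen.preimage a.continuous)⟩
    have hv₀N : v₀ ∈ NV := ⟨Set.mem_iInter.mpr hM0, by
      change a v₀ ∈ Yd
      rw [hav₀]; exact hy⟩
    -- over `NV` everything lies in the union of the `D k`
    have hcover : ∀ x : ↑(pullback f a), pullback.snd f a x ∈ NV → ∃ k, x ∈ D k := by
      intro x hx
      by_contra hcon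
      push Not at hcon
      let D' : Option κ → Set ↑(pullback f a) := fun o => o.elim {x} (fun k => (D k : Set _))
      have hdisj' : Pairwise (fun k l => Disjoint (D' k) (D' l)) := by
        intro o o' hoo'
        cases o with
        | none =>
          cases o' with
          | none => exact absurd rfl hoo'
          | some l =>
            rw [Set.disjoint_left]
            rintro x' (rfl : x' = x) hx'
            exact hcon l hx'
        | some k =>
          cases o' with
          | none =>
            rw [Set.disjoint_right]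
            rintro x' (rfl : x' = x) hx'
            exact hcon k hx'
          | some l => exact hdisj (fun hkl => hoo' (congrArg some hkl))
      have hle := sum_ptSum_le_fibreIntegral (pullback.snd f a) (w ∘ ⇑(pullback.fst f a))
        (pullback.snd f a x) (hfin' _)
        (fun x' _ => mul_nonneg (hpos _).le (deg_pos_of_locallyQuasiFinite _ _).le) D' hdisj'
      rw [Fintype.sum_option, hbc, (hYd _).mp hx.2] at hle
      have h1 : ∑ k, ptSum (pullback.snd f a) (w ∘ ⇑(pullback.fst f a)) (D' (some k))
          (pullback.snd f a x) = d := by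
        rw [← heq]
        exact Finset.sum_congr rfl fun k _ => hMc k _ (Set.mem_iInter.mp hx.1 k)
      rw [h1] at hle
      have h2 : ptSum (pullback.snd f a) (w ∘ ⇑(pullback.fst f a)) (D' none)
          (pullback.snd f a x) = (w ∘ ⇑(pullback.fst f a)) x * deg (pullback.snd f a) x :=
        ptSum_singleton _ _ x
      rw [h2] at hle
      have h3 : 0 < (w ∘ ⇑(pullback.fst f a)) x * deg (pullback.snd f a) x :=
        mul_pos (hpos _) (deg_pos_of_locallyQuasiFinite _ _)
      linarith
    -- the restriction over `NV` is finite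
    have hres : IsPullback (pullback.snd f a ⁻¹ᵁ NV).ι (pullback.snd f a ∣_ NV)
        (pullback.snd f a) NV.ι := (isPullback_morphismRestrict (pullback.snd f a) NV).flip
    haveI hUfin : IsFinite ((⨆ k, D k).ι ≫ pullback.snd f a) :=
      EtLoc.isFinite_iSup_of_pairwise_disjoint _ D (fun k l hkl => by
        change Disjoint (D k) (D l)
        rw [disjoint_iff]
        ext x
        have := hdisj hkl
        change Disjoint (D k : Set ↑(pullback f a)) (D l) at this
        rw [Set.disjoint_left] at this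
        simp only [TopologicalSpace.Opens.coe_inf, Set.mem_inter_iff, SetLike.mem_coe,
          TopologicalSpace.Opens.coe_bot, Set.mem_empty_iff_false, iff_false, not_and]
        exact fun h1 h2 => this h1 h2) inferInstance
    have htop : (pullback.snd f a ⁻¹ᵁ NV).ι ⁻¹ᵁ (⨆ k, D k) = ⊤ := by
      ext x
      simp only [TopologicalSpace.Opens.coe_top, Set.mem_univ, iff_true]
      have hx : pullback.snd f a ((pullback.snd f a ⁻¹ᵁ NV).ι x) ∈ NV := by
        have : (pullback.snd f a ⁻¹ᵁ NV).ι x ∈ Set.range (pullback.snd f a ⁻¹ᵁ NV).ι := ⟨_, rfl⟩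
        rw [Scheme.Opens.range_ι] at this
        exact this
      obtain ⟨k, hk⟩ := hcover _ hx
      change (pullback.snd f a ⁻¹ᵁ NV).ι x ∈ (⨆ k, D k : (pullback f a).Opens)
      exact (le_iSup D k) hk
    have hfinN : IsFinite (pullback.snd f a ∣_ NV) := by
      have h1 := isFinite_preimage hres (⨆ k, D k)
      rw [htop] at h1
      exact (MorphismProperty.cancel_left_of_respectsIso @IsFinite
        (Scheme.topIso _).hom (pullback.snd f a ∣_ NV)).mp h1
    -- the étale neighbourhood of `y'` in `Yd`
    have hrange : Set.range (NV.ι ≫ a) ⊆ Set.range Yd.ι := by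
      rw [Scheme.Opens.range_ι]
      rintro _ ⟨n, rfl⟩
      have : NV.ι n ∈ Set.range NV.ι := ⟨_, rfl⟩
      rw [Scheme.Opens.range_ι] at this
      exact this.2
    let e : NV.toScheme ⟶ Yd.toScheme := IsOpenImmersion.lift Yd.ι (NV.ι ≫ a) hrange
    have he : e ≫ Yd.ι = NV.ι ≫ a := IsOpenImmersion.lift_fac _ _ _
    haveI : Etale e := by
      refine MorphismProperty.of_postcomp (W := @Etale) (W' := @IsOpenImmersion) e Yd.ι
        inferInstance ?_
      rw [he]; infer_instance
    refine ⟨NV.toScheme, e, inferInstance, ?_, ?_⟩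
    · obtain ⟨n₀, hn₀⟩ : v₀ ∈ Set.range NV.ι := by rw [Scheme.Opens.range_ι]; exact hv₀N
      refine ⟨n₀, Yd.ι.isOpenEmbedding.injective ?_⟩
      rw [← Scheme.Hom.comp_apply, he, Scheme.Hom.comp_apply, hn₀, hav₀]
    · have hA : IsPullback ((pullback.snd f a ⁻¹ᵁ NV).ι ≫ pullback.fst f a)
          (pullback.snd f a ∣_ NV) f (NV.ι ≫ a) := hres.paste_horiz hsq
      have hB : IsPullback (pullback.fst (f ∣_ Yd) e ≫ (f ⁻¹ᵁ Yd).ι)
          (pullback.snd (f ∣_ Yd) e) f (e ≫ Yd.ι) :=
        (IsPullback.of_hasPullback (f ∣_ Yd) e).paste_horiz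
          (isPullback_morphismRestrict f Yd).flip
      rw [he] at hB
      have hiso := hB.isoIsPullback_hom_snd _ _ hA
      rw [← hiso]
      haveI := hfinN
      infer_instance
  rw [IsFinite.iff_isProper_and_locallyQuasiFinite]
  exact ⟨{ }, inferInstance⟩

end Groth.Agent.Lib.Helper6.Wt
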