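import Mathlib
import Groth.Agent.Lib.Helper6.Wt10

/-!
# Weightings: fibre integrals along a composition
-/

set_option autoImplicit false
universe u

open CategoryTheory AlgebraicGeometry Limits IsLocalRing

namespace Groth.Agent.Lib.Helper6.Wt

/-- Tower formula for the separable degrees of residue field extensions. -/
theorem deg_comp {A B C : Scheme.{u}} (π₁ : A ⟶ B) (π₂ : B ⟶ C) [LocallyQuasiFinite π₁] (a : A) :
    deg (π₁ ≫ π₂) a = deg π₁ a * deg π₂ (π₁ a) := by
  unfold deg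
  letI i1 : Algebra (B.residueField (π₁ a)) (A.residueField a) :=
    (π₁.residueFieldMap a).hom.toAlgebra
  letI i2 : Algebra (C.residueField (π₂ (π₁ a))) (B.residueField (π₁ a)) :=
    (π₂.residueFieldMap (π₁ a)).hom.toAlgebra
  letI i3 : Algebra (C.residueField (π₂ (π₁ a))) (A.residueField a) :=
    ((π₁ ≫ π₂).residueFieldMap a).hom.toAlgebra
  have hcomp : (π₁ ≫ π₂).residueFieldMap a = π₂.residueFieldMap (π₁ a) ≫ π₁.residueFieldMap a :=
    Scheme.residueFieldMap_comp π₁ π₂ a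
  haveI : IsScalarTower (C.residueField (π₂ (π₁ a))) (B.residueField (π₁ a))
      (A.residueField a) :=
    IsScalarTower.of_algebraMap_eq' (by
      change ((π₁ ≫ π₂).residueFieldMap a).hom = _
      rw [hcomp]
      rfl)
  haveI : Algebra.IsAlgebraic (B.residueField (π₁ a)) (A.residueField a) :=
    isAlgebraic_residueField π₁ a
  have := Field.finSepDegree_mul_finSepDegree_of_isAlgebraic (C.residueField (π₂ (π₁ a)))
    (B.residueField (π₁ a)) (A.residueField a)
  rw [mul_comm]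
  exact_mod_cast this.symm

/-- The fibre integral along a composition. -/
theorem fibreIntegral_comp {A B C : Scheme.{u}} (π₁ : A ⟶ B) (π₂ : B ⟶ C)
    [LocallyQuasiFinite π₁] (hfin₁ : ∀ b, (π₁ ⁻¹' {b}).Finite) (hfin₂ : ∀ c, (π₂ ⁻¹' {c}).Finite)
    (ω₁ : A → ℤ) (ω₂ : B → ℤ) (c : C) :
    MoreMor.fibreIntegral (π₁ ≫ π₂) (fun a => ω₁ a * ω₂ (π₁ a)) c =
      MoreMor.fibreIntegral π₂ (fun b => MoreMor.fibreIntegral π₁ ω₁ b * ω₂ b) c := by
  rw [fibreIntegral_eq_finsum_mem, fibreIntegral_eq_finsum_mem]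
  have hU : (π₁ ≫ π₂) ⁻¹' {c} = ⋃ b ∈ π₂ ⁻¹' {c}, π₁ ⁻¹' {b} := by
    ext a
    simp only [Set.mem_preimage, Set.mem_singleton_iff, Set.mem_iUnion, exists_prop,
      Scheme.Hom.comp_apply]
    constructor
    · intro h
      exact ⟨π₁ a, h, rfl⟩
    · rintro ⟨b, hb, rfl⟩
      exact hb
  have hdisj : (π₂ ⁻¹' {c}).PairwiseDisjoint (fun b => π₁ ⁻¹' {b}) := by
    intro b _ b' _ hbb'
    exact Disjoint.preimage _ (Set.disjoint_singleton.mpr hbb')
  rw [hU, finsum_mem_biUnion hdisj (hfin₂ c) (fun b _ => hfin₁ b)]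
  refine finsum_mem_congr rfl fun b _ => ?_
  rw [fibreIntegral_eq_finsum_mem, finsum_mem_mul, finsum_mem_mul]
  refine finsum_mem_congr rfl fun a ha => ?_
  have hab : π₁ a = b := ha
  rw [deg_comp, hab]
  ring

/-- The fibre integral along an open immersion followed by `p`, as a sum over the points of the
range. -/
theorem fibreIntegral_of_isOpenImmersion {D W T : Scheme.{u}} (j : D ⟶ W) [IsOpenImmersion j]
    (p : W ⟶ T) (ω : W → ℤ) (t : T) :
    MoreMor.fibreIntegral (j ≫ p) (fun u => ω (j u)) t = ptSum p ω (Set.range j) t := by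
  rw [fibreIntegral_eq_finsum_deg, ptSum]
  let φ : {u : D // (j ≫ p) u = t} → W := fun u => j u.1
  have hφ : Function.Injective φ := fun u u' h =>
    Subtype.ext (j.isOpenEmbedding.injective h)
  have hr : Set.range φ = Set.range j ∩ p ⁻¹' {t} := by
    ext x
    constructor
    · rintro ⟨u, rfl⟩
      exact ⟨⟨u.1, rfl⟩, u.2⟩
    · rintro ⟨⟨u, rfl⟩, hxt⟩
      exact ⟨⟨u, hxt⟩, rfl⟩
  rw [← hr, finsum_mem_range hφ]
  refine finsum_congr fun u => ?_
  rw [deg_comp_of_isIso]

end Groth.Agent.Lib.Helper6.Wt
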