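import Mathlib
import Groth.Agent.Lib.Helper6.Wt11

/-!
# Weightings: the base-change situation for a composition `X ⟶ Y ⟶ Z`
-/

set_option autoImplicit false
universe u

open CategoryTheory AlgebraicGeometry Limits IsLocalRing

namespace Groth.Agent.Lib.Helper6.Wt

/-- A base change `X_T ⟶ Y_T ⟶ T` of a composition `X ⟶ Y ⟶ Z`. -/
structure Sit {X Y Z : Scheme.{u}} (f : X ⟶ Y) (g : Y ⟶ Z) where
  T : Scheme.{u}
  YT : Scheme.{u}
  XT : Scheme.{u}
  a : T ⟶ Z
  qY : YT ⟶ Y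
  pY : YT ⟶ T
  qX : XT ⟶ X
  fT : XT ⟶ YT
  h : XT ⟶ T
  hh : fT ≫ pY = h
  hY : IsPullback qY pY g a
  hX : IsPullback qX fT f qY

namespace Sit

variable {X Y Z : Scheme.{u}} {f : X ⟶ Y} {g : Y ⟶ Z} (S : Sit f g)

/-- The product weight on `X_T`. -/
def ω (wf : X → ℤ) (wg : Y → ℤ) (x : S.XT) : ℤ := wf (S.qX x) * wg (S.qY (S.fT x))

/-- Base change of a situation. -/
noncomputable def bc {T' : Scheme.{u}} (b : T' ⟶ S.T) : Sit f g where
  T := T'
  YT := pullback S.pY b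
  XT := pullback S.h b
  a := b ≫ S.a
  qY := pullback.fst S.pY b ≫ S.qY
  pY := pullback.snd S.pY b
  qX := pullback.fst S.h b ≫ S.qX
  fT := pullback.lift (pullback.fst S.h b ≫ S.fT) (pullback.snd S.h b)
    (by rw [Category.assoc, S.hh, pullback.condition])
  h := pullback.snd S.h b
  hh := pullback.lift_snd _ _ _
  hY := (IsPullback.of_hasPullback S.pY b).paste_horiz S.hY
  hX := by
    refine IsPullback.paste_horiz ?_ S.hX
    refine IsPullback.of_bot ?_ (pullback.lift_fst _ _ _).symm (IsPullback.of_hasPullback S.pY b)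
    rw [pullback.lift_snd, S.hh]
    exact IsPullback.of_hasPullback S.h b

section bc

variable {T' : Scheme.{u}} (b : T' ⟶ S.T)

theorem bc_isPullback_h : IsPullback (pullback.fst S.h b) (S.bc b).h S.h b :=
  IsPullback.of_hasPullback S.h b

theorem bc_isPullback_pY : IsPullback (pullback.fst S.pY b) (S.bc b).pY S.pY b :=
  IsPullback.of_hasPullback S.pY b

theorem bc_fT_fst : (S.bc b).fT ≫ pullback.fst S.pY b = pullback.fst S.h b ≫ S.fT :=
  pullback.lift_fst _ _ _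

theorem bc_fT_fst_apply (x : (S.bc b).XT) :
    pullback.fst S.pY b ((S.bc b).fT x) = S.fT (pullback.fst S.h b x) :=
  congrArg (fun φ : (S.bc b).XT ⟶ S.YT => φ x) (S.bc_fT_fst b)

theorem bc_h_apply (x : (S.bc b).XT) : S.h (pullback.fst S.h b x) = b ((S.bc b).h x) :=
  congrArg (fun φ : (S.bc b).XT ⟶ S.T => φ x) (S.bc_isPullback_h b).w

theorem bc_pY_apply (y : (S.bc b).YT) : S.pY (pullback.fst S.pY b y) = b ((S.bc b).pY y) :=
  congrArg (fun φ : (S.bc b).YT ⟶ S.T => φ y) (S.bc_isPullback_pY b).w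

theorem bc_ω (wf : X → ℤ) (wg : Y → ℤ) :
    (S.bc b).ω wf wg = S.ω wf wg ∘ ⇑(pullback.fst S.h b) := by
  funext x
  simp only [Function.comp_apply, ω]
  have h1 : (S.bc b).qX x = S.qX (pullback.fst S.h b x) := by
    change (pullback.fst S.h b ≫ S.qX) x = _
    rw [Scheme.Hom.comp_apply]
  have h2 : (S.bc b).qY ((S.bc b).fT x) = S.qY (S.fT (pullback.fst S.h b x)) := by
    change (pullback.fst S.pY b ≫ S.qY) ((S.bc b).fT x) = _
    rw [Scheme.Hom.comp_apply, bc_fT_fst_apply]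
  rw [h1, h2]

end bc

theorem h_apply (x : S.XT) : S.h x = S.pY (S.fT x) := by
  rw [← S.hh, Scheme.Hom.comp_apply]

instance [LocallyQuasiFinite g] : LocallyQuasiFinite S.pY :=
  MorphismProperty.of_isPullback S.hY ‹_›

instance [LocallyOfFiniteType g] : LocallyOfFiniteType S.pY :=
  MorphismProperty.of_isPullback S.hY ‹_›

instance [LocallyQuasiFinite f] : LocallyQuasiFinite S.fT :=
  MorphismProperty.of_isPullback S.hX ‹_›

instance [LocallyOfFiniteType f] : LocallyOfFiniteType S.fT :=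
  MorphismProperty.of_isPullback S.hX ‹_›

instance [LocallyQuasiFinite f] [LocallyQuasiFinite g] : LocallyQuasiFinite S.h := by
  rw [← S.hh]
  infer_instance

instance [LocallyOfFiniteType f] [LocallyOfFiniteType g] : LocallyOfFiniteType S.h := by
  rw [← S.hh]
  infer_instance

/-- Transfer of local constancy near a point along a base change by an open map. -/
theorem exists_nhd_of_bc (wf : X → ℤ) (wg : Y → ℤ) {T' : Scheme.{u}} (b : T' ⟶ S.T)
    (hb : IsOpenMap ⇑b) (O : S.XT.Opens) [IsFinite (O.ι ≫ S.h)] (t' : T') (t₀ : S.T)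
    (ht₀ : b t' = t₀)
    (H : ∃ N' : Set T', IsOpen N' ∧ t' ∈ N' ∧ ∀ t ∈ N',
      ptSum (S.bc b).h ((S.bc b).ω wf wg) (pullback.fst S.h b ⁻¹ᵁ O : (S.bc b).XT.Opens) t =
      ptSum (S.bc b).h ((S.bc b).ω wf wg) (pullback.fst S.h b ⁻¹ᵁ O : (S.bc b).XT.Opens) t') :
    ∃ N : Set S.T, IsOpen N ∧ t₀ ∈ N ∧ ∀ t ∈ N,
      ptSum S.h (S.ω wf wg) O t = ptSum S.h (S.ω wf wg) O t₀ := by
  subst ht₀
  obtain ⟨N', hN'o, ht', hN'⟩ := H
  have key : ∀ t : T', ptSum (S.bc b).h ((S.bc b).ω wf wg)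
      (pullback.fst S.h b ⁻¹ᵁ O : (S.bc b).XT.Opens) t = ptSum S.h (S.ω wf wg) O (b t) := by
    intro t
    rw [bc_ω]
    exact ptSum_baseChange (S.bc_isPullback_h b) O (S.ω wf wg) t
  refine ⟨b '' N', hb _ hN'o, ⟨t', ht', rfl⟩, ?_⟩
  rintro _ ⟨t, ht, rfl⟩
  rw [← key, ← key]
  exact hN' t ht

end Sit

end Groth.Agent.Lib.Helper6.Wt
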