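import Mathlib
import Groth.Agent.Lib.Helper6.Wt12

/-!
# Weightings of a composition: the case of an open of `X_T` lying over a finite open piece of `Y_T`
-/

set_option autoImplicit false
universe u

open CategoryTheory AlgebraicGeometry Limits IsLocalRing

namespace Groth.Agent.Lib.Helper6.Wt

theorem opens_ι_mem {W : Scheme.{u}} (U : W.Opens) (u : U.toScheme) : U.ι u ∈ U := by
  have : U.ι u ∈ Set.range U.ι := ⟨_, rfl⟩
  rwa [Scheme.Opens.range_ι] at this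

theorem exists_opens_ι_eq {W : Scheme.{u}} (U : W.Opens) {x : W} (hx : x ∈ U) :
    ∃ u : U.toScheme, U.ι u = x := by
  have : x ∈ Set.range U.ι := by rw [Scheme.Opens.range_ι]; exact hx
  exact this

namespace Sit

variable {X Y Z : Scheme.{u}} {f : X ⟶ Y} {g : Y ⟶ Z}

set_option maxHeartbeats 1600000 in
theorem exists_nhd_const_of_le (S : Sit f g) [LocallyQuasiFinite f] [LocallyOfFiniteType f]
    [LocallyQuasiFinite g] [LocallyOfFiniteType g] (wf : X → ℤ) (wg : Y → ℤ)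
    (hf : MoreMor.IsWeighting f wf) (hg : MoreMor.IsWeighting g wg)
    (O : S.XT.Opens) [IsFinite (O.ι ≫ S.h)] (E : S.YT.Opens) [IsFinite (E.ι ≫ S.pY)]
    (hOE : O ≤ S.fT ⁻¹ᵁ E) (t₀ : S.T) (v : S.YT) (hv : ∀ e ∈ E, S.pY e = t₀ → e = v) :
    ∃ N : Set S.T, IsOpen N ∧ t₀ ∈ N ∧ ∀ t ∈ N,
      ptSum S.h (S.ω wf wg) O t = ptSum S.h (S.ω wf wg) O t₀ := by
  classical
  let G : S.XT.Opens := S.fT ⁻¹ᵁ E
  let fE : G.toScheme ⟶ E.toScheme := S.fT ∣_ E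
  let O' : G.toScheme.Opens := G.ι ⁻¹ᵁ O
  let j : O'.toScheme ⟶ S.XT := O'.ι ≫ G.ι
  have hfE : fE ≫ E.ι = G.ι ≫ S.fT := morphismRestrict_ι S.fT E
  have hfE' : ∀ z, E.ι (fE z) = S.fT (G.ι z) := fun z =>
    congrArg (fun φ : G.toScheme ⟶ S.YT => φ z) hfE
  have hrange : Set.range j = (O : Set S.XT) := by
    ext x
    constructor
    · rintro ⟨u, rfl⟩
      exact opens_ι_mem O' u
    · intro hx
      obtain ⟨x', rfl⟩ := exists_opens_ι_eq G (hOE hx)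
      obtain ⟨u, rfl⟩ := exists_opens_ι_eq O' (x := x') hx
      exact ⟨u, rfl⟩
  let e := IsOpenImmersion.isoOfRangeEq j O.ι (by rw [hrange, Scheme.Opens.range_ι])
  have he : e.hom ≫ O.ι = j := IsOpenImmersion.isoOfRangeEq_hom_fac _ _ _
  let π₁ : O'.toScheme ⟶ E.toScheme := O'.ι ≫ fE
  let π₂ : E.toScheme ⟶ S.T := E.ι ≫ S.pY
  have hπ : π₁ ≫ π₂ = j ≫ S.h := by
    simp only [π₁, π₂, j, Category.assoc]
    rw [← S.hh, reassoc_of% hfE]
  haveI : IsFinite (π₁ ≫ π₂) := by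
    rw [hπ, ← he, Category.assoc]
    infer_instance
  haveI : IsFinite π₂ := ‹IsFinite (E.ι ≫ S.pY)›
  haveI : IsFinite π₁ := IsFinite.of_comp π₁ π₂
  haveI : IsFinite (O'.ι ≫ fE) := ‹IsFinite π₁›
  have sq : IsPullback (G.ι ≫ S.qX) fE f (E.ι ≫ S.qY) :=
    (isPullback_morphismRestrict S.fT E).flip.paste_horiz S.hX
  have hΦ := locConst_of_isPullback f wf hf (E.ι ≫ S.qY) (G.ι ≫ S.qX) fE sq O'
  have hΨ := locConst_of_isPullback g wg hg S.a S.qY S.pY S.hY E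
  let ω₁ : O'.toScheme → ℤ := fun u => wf ((G.ι ≫ S.qX) (O'.ι u))
  let ω₂ : E.toScheme → ℤ := fun e => wg (S.qY (E.ι e))
  have hΦ' : ∀ e, ptSum fE (wf ∘ ⇑(G.ι ≫ S.qX)) O' e = MoreMor.fibreIntegral π₁ ω₁ e :=
    fun e => (fibreIntegral_opens fE (wf ∘ ⇑(G.ι ≫ S.qX)) O' e).symm
  have hΨ' : ∀ t, ptSum S.pY (wg ∘ ⇑S.qY) E t = MoreMor.fibreIntegral π₂ ω₂ t := fun t =>
    (fibreIntegral_opens S.pY (wg ∘ ⇑S.qY) E t).symm
  have hmain : ∀ t, ptSum S.h (S.ω wf wg) O t =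
      MoreMor.fibreIntegral π₂ (fun e => ptSum fE (wf ∘ ⇑(G.ι ≫ S.qX)) O' e * ω₂ e) t := by
    intro t
    rw [← hrange, ← fibreIntegral_of_isOpenImmersion j S.h (S.ω wf wg) t, ← hπ]
    have hω : (fun u => S.ω wf wg (j u)) = fun a => ω₁ a * ω₂ (π₁ a) := by
      funext u
      have h1 : S.fT (j u) = E.ι (π₁ u) := (hfE' (O'.ι u)).symm
      simp only [Sit.ω, ω₁, ω₂]
      rw [h1]
      rfl
    rw [hω, fibreIntegral_comp π₁ π₂ (fun b => π₁.finite_preimage_singleton b)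
      (fun c => π₂.finite_preimage_singleton c)]
    congr 1
    funext e
    rw [hΦ']
  obtain ⟨c, M, hMo, hMc, hMt⟩ : ∃ (c : ℤ) (M : Set E.toScheme), IsOpen M ∧
      (∀ e ∈ M, ptSum fE (wf ∘ ⇑(G.ι ≫ S.qX)) O' e = c) ∧ ∀ e, π₂ e = t₀ → e ∈ M := by
    by_cases hne : ∃ e₀ : E.toScheme, π₂ e₀ = t₀
    · obtain ⟨e₀, he₀⟩ := hne
      refine ⟨ptSum fE (wf ∘ ⇑(G.ι ≫ S.qX)) O' e₀, _, hΦ.isOpen_fiber _, fun e he => he,
        fun e he => ?_⟩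
      have : e = e₀ := by
        apply E.ι.isOpenEmbedding.injective
        rw [hv (E.ι e) (opens_ι_mem E e) he, hv (E.ι e₀) (opens_ι_mem E e₀) he₀]
      rw [this]
      rfl
    · exact ⟨0, ∅, isOpen_empty, fun e he => he.elim, fun e he => (hne ⟨e, he⟩).elim⟩
  let C : Set S.T := π₂ '' Mᶜ
  have hC : IsClosed C := π₂.isClosedMap _ hMo.isClosed_compl
  have ht₀C : t₀ ∉ C := by
    rintro ⟨e, he, het⟩
    exact he (hMt e het)
  obtain ⟨N₂, hN₂o, ht₀N₂, hN₂⟩ := (IsLocallyConstant.iff_exists_open _).mp hΨ t₀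
  have hconst : ∀ t, t ∉ C → ptSum S.h (S.ω wf wg) O t = c * ptSum S.pY (wg ∘ ⇑S.qY) E t := by
    intro t ht
    rw [hmain, hΨ', fibreIntegral_eq_finsum_mem, fibreIntegral_eq_finsum_mem, mul_finsum_mem]
    refine finsum_mem_congr rfl fun e he => ?_
    have heM : e ∈ M := by
      by_contra hcon
      exact ht ⟨e, hcon, he⟩
    rw [hMc e heM]
    ring
  refine ⟨Cᶜ ∩ N₂, hC.isOpen_compl.inter hN₂o, ⟨ht₀C, ht₀N₂⟩, ?_⟩
  rintro t ⟨htC, htN⟩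
  rw [hconst t htC, hconst t₀ ht₀C, hN₂ t htN]

end Sit

end Groth.Agent.Lib.Helper6.Wt
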