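import Mathlib
import Groth.Agent.Lib.Helper6.Wt13

/-!
# Weightings of a composition: étale-local decomposition and the main local constancy statement
-/

set_option autoImplicit false
universe u

open CategoryTheory AlgebraicGeometry Limits IsLocalRing

namespace Groth.Agent.Lib.Helper6.Wt

theorem isPurelyInseparable_of_comp {A B C : Scheme.{u}} (π₁ : A ⟶ B) (π₂ : B ⟶ C) (a : A)
    (h : ((π₁ ≫ π₂).residueFieldMap a).hom.IsPurelyInseparable) :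
    (π₂.residueFieldMap (π₁ a)).hom.IsPurelyInseparable := by
  letI i1 : Algebra (B.residueField (π₁ a)) (A.residueField a) :=
    (π₁.residueFieldMap a).hom.toAlgebra
  letI i2 : Algebra (C.residueField (π₂ (π₁ a))) (B.residueField (π₁ a)) :=
    (π₂.residueFieldMap (π₁ a)).hom.toAlgebra
  letI i3 : Algebra (C.residueField (π₂ (π₁ a))) (A.residueField a) :=
    ((π₁ ≫ π₂).residueFieldMap a).hom.toAlgebra
  have hcomp : (π₁ ≫ π₂).residueFieldMap a = π₂.residueFieldMap (π₁ a) ≫ π₁.residueFieldMap a :=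
    Scheme.residueFieldMap_comp π₁ π₂ a
  haveI : IsScalarTower (C.residueField (π₂ (π₁ a))) (B.residueField (π₁ a))
      (A.residueField a) :=
    IsScalarTower.of_algebraMap_eq' (by
      change ((π₁ ≫ π₂).residueFieldMap a).hom = _
      rw [hcomp]
      rfl)
  haveI : IsPurelyInseparable (C.residueField (π₂ (π₁ a))) (A.residueField a) := h
  exact IsPurelyInseparable.tower_bot (C.residueField (π₂ (π₁ a))) (B.residueField (π₁ a))
    (A.residueField a)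

set_option maxHeartbeats 1600000 in
/-- Étale-local decomposition of an open which is finite over the base into pieces with a single
point, purely inseparable over the base point, in the fibre. -/
theorem exists_etale_nbhd_decomp {W T : Scheme.{u}} (p : W ⟶ T) [LocallyQuasiFinite p]
    [LocallyOfFiniteType p] (O : W.Opens) [IsFinite (O.ι ≫ p)] (t₀ : T) :
    ∃ (T₁ : Scheme.{u}) (b : T₁ ⟶ T) (t₁ : T₁), Etale b ∧ b t₁ = t₀ ∧
      ∃ (κ : Type) (_ : Fintype κ) (D : κ → (pullback p b).Opens) (z : κ → ↑(pullback p b)),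
        (∀ k, z k ∈ D k ∧ IsFinite ((D k).ι ≫ pullback.snd p b) ∧
          pullback.snd p b (z k) = t₁ ∧
          (∀ x ∈ D k, pullback.snd p b x = t₁ → x = z k) ∧
          ((pullback.snd p b).residueFieldMap (z k)).hom.IsPurelyInseparable) ∧
        ∃ N : T₁.Opens, t₁ ∈ N ∧ ∀ t ∈ N,
          (((pullback.fst p b ⁻¹ᵁ O : (pullback p b).Opens) : Set ↑(pullback p b)) ∩
              pullback.snd p b ⁻¹' {t} =
            ⋃ k, ((D k : Set ↑(pullback p b)) ∩ pullback.snd p b ⁻¹' {t})) ∧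
          Pairwise (fun k l => Disjoint ((D k : Set ↑(pullback p b)) ∩ pullback.snd p b ⁻¹' {t})
            ((D l : Set ↑(pullback p b)) ∩ pullback.snd p b ⁻¹' {t})) := by
  classical
  have hfibfin : ((O : Set W) ∩ p ⁻¹' {t₀}).Finite := by
    have hfin := (O.ι ≫ p).finite_preimage_singleton t₀
    refine (hfin.image O.ι).subset ?_
    rintro x ⟨hxO, hxt⟩
    obtain ⟨u, rfl⟩ := exists_opens_ι_eq O hxO
    exact ⟨u, hxt, rfl⟩
  let S : Set W := (O : Set W) ∩ p ⁻¹' {t₀}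
  haveI : Finite S := hfibfin.to_subtype
  let n := Nat.card S
  let eS : S ≃ Fin n := Finite.equivFin S
  let x : Fin n → W := fun i => (eS.symm i).1
  have hinj : Function.Injective x := fun i j hij => eS.symm.injective (Subtype.ext hij)
  have hs : ∀ i, p (x i) = t₀ := fun i => (eS.symm i).2.2
  have hxO : ∀ i, x i ∈ O := fun i => (eS.symm i).2.1
  obtain ⟨T₁, b, t₁, hEt, hbt₁, J, hJ, Vo, v, hV, hinjv, hallv, -⟩ :=
    EtLoc.exists_etale_nbhd_insep_family p t₀ x hinj hs (fun i => p.quasiFiniteAt _)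
  haveI := hEt
  haveI := hJ
  let r := pullback.fst p b
  let p'' := pullback.snd p b
  have hr : IsPullback r p'' p b := IsPullback.of_hasPullback p b
  have hr' : ∀ z, p (r z) = b (p'' z) := fun z =>
    congrArg (fun φ : pullback p b ⟶ T => φ z) hr.w
  haveI : IsFinite ((r ⁻¹ᵁ O).ι ≫ p'') := isFinite_preimage hr O
  let κ := {ij : (Σ i, J i) // v ij.1 ij.2 ∈ r ⁻¹ᵁ O}
  haveI : Finite (Σ i, J i) := inferInstance
  haveI : Finite κ := inferInstance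
  cases nonempty_fintype κ
  haveI hVfin : ∀ k : κ, IsFinite ((Vo k.1.1 k.1.2).ι ≫ p'') := fun k => (hV k.1.1 k.1.2).2.1
  have hzinj : Function.Injective (fun k : κ => v k.1.1 k.1.2) := by
    intro k l hkl
    obtain ⟨hi, hj⟩ := hinjv _ _ _ _ hkl
    apply Subtype.ext
    exact Sigma.ext hi hj
  have hall : ∀ z ∈ r ⁻¹ᵁ O, p'' z = t₁ →
      ∃ k : κ, z = v k.1.1 k.1.2 ∧ z ∈ Vo k.1.1 k.1.2 := by
    intro z hz hzt
    have hrz : r z ∈ S := ⟨hz, by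
      change p (r z) = t₀
      rw [hr', hzt, hbt₁]⟩
    let i := eS ⟨r z, hrz⟩
    have hxi : x i = r z := by
      change (eS.symm (eS ⟨r z, hrz⟩)).1 = _
      rw [Equiv.symm_apply_apply]
    obtain ⟨j, hj⟩ := hallv z i hzt hxi.symm
    have hmem : v i j ∈ r ⁻¹ᵁ O := hj ▸ hz
    refine ⟨⟨⟨i, j⟩, hmem⟩, hj, ?_⟩
    rw [hj]
    exact (hV i j).1
  obtain ⟨N, hN0, hN⟩ := exists_nhd_fibre_decomp p'' (r ⁻¹ᵁ O)
    (fun k : κ => Vo k.1.1 k.1.2) t₁ (fun k => v k.1.1 k.1.2) hzinj (fun k => k.2)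
    (fun k => (hV k.1.1 k.1.2).2.2.1) (fun k => (hV k.1.1 k.1.2).2.2.2.1) hall
  refine ⟨T₁, b, t₁, hEt, hbt₁, κ, inferInstance, fun k => Vo k.1.1 k.1.2,
    fun k => v k.1.1 k.1.2, fun k => ?_, N, hN0, hN⟩
  obtain ⟨h1, h2, h3, h4, h5, -⟩ := hV k.1.1 k.1.2
  exact ⟨h1, h2, h3, h4, h5.2⟩

namespace Sit

variable {X Y Z : Scheme.{u}} {f : X ⟶ Y} {g : Y ⟶ Z}

set_option maxHeartbeats 1600000 in
/-- The case of an open with a single point, purely inseparable over the base point, in the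
fibre. -/
theorem exists_nhd_const_of_unique (S : Sit f g) [LocallyQuasiFinite f] [LocallyOfFiniteType f]
    [LocallyQuasiFinite g] [LocallyOfFiniteType g] (wf : X → ℤ) (wg : Y → ℤ)
    (hf : MoreMor.IsWeighting f wf) (hg : MoreMor.IsWeighting g wg)
    (O : S.XT.Opens) [IsFinite (O.ι ≫ S.h)] (t₀ : S.T) (u : S.XT) (hu : S.h u = t₀)
    (huniq : ∀ x ∈ O, S.h x = t₀ → x = u)
    (hpi : (S.h.residueFieldMap u).hom.IsPurelyInseparable) :
    ∃ N : Set S.T, IsOpen N ∧ t₀ ∈ N ∧ ∀ t ∈ N,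
      ptSum S.h (S.ω wf wg) O t = ptSum S.h (S.ω wf wg) O t₀ := by
  classical
  let y := S.fT u
  have hy : S.pY y = t₀ := by rw [← S.h_apply, hu]
  have hpiY : (S.pY.residueFieldMap y).hom.IsPurelyInseparable := by
    have hpi' := hpi
    rw [← S.hh] at hpi'
    exact isPurelyInseparable_of_comp S.fT S.pY u hpi'
  obtain ⟨T₁, b, t₁, hEt, hbt₁, E', v', hvE', hEfin', hvt', hEuniq', hvpi', -, hvy'⟩ :=
    exists_etale_nbhd_piece S.pY y
  haveI := hEt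
  let S₁ := S.bc b
  obtain ⟨E, v, hvE, hEfin, hvt, hEuniq, hvpi, hvy⟩ : ∃ (E : S₁.YT.Opens) (v : S₁.YT), v ∈ E ∧
      IsFinite (E.ι ≫ S₁.pY) ∧ S₁.pY v = t₁ ∧ (∀ z' ∈ E, S₁.pY z' = t₁ → z' = v) ∧
      (S₁.pY.residueFieldMap v).hom.IsPurelyInseparable ∧ pullback.fst S.pY b v = y :=
    ⟨E', v', hvE', hEfin', hvt', hEuniq', hvpi', hvy'⟩
  let O₁ : S₁.XT.Opens := pullback.fst S.h b ⁻¹ᵁ O
  haveI : IsFinite (O₁.ι ≫ S₁.h) := isFinite_preimage (S.bc_isPullback_h b) O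
  haveI : IsFinite (E.ι ≫ S₁.pY) := hEfin
  have hfib : ∀ x ∈ O₁, S₁.h x = t₁ → S₁.fT x ∈ E := by
    intro x hx hxt
    have h1 : pullback.fst S.h b x = u :=
      huniq _ hx (by rw [S.bc_h_apply, hxt, hbt₁, hy])
    have h2 : S₁.fT x = v := by
      refine eq_of_isPullback_of_isPurelyInseparable (S.bc_isPullback_pY b) y hpiY _ _ ?_ hvy ?_
      · rw [S.bc_fT_fst_apply, h1]
      · exact ((S₁.h_apply x).symm.trans hxt).trans hvt.symm
    rw [h2]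
    exact hvE
  let C : Set T₁ := (O₁.ι ≫ S₁.h) '' (O₁.ι ⁻¹' ((S₁.fT ⁻¹ᵁ E : S₁.XT.Opens) : Set S₁.XT)ᶜ)
  have hC : IsClosed C := (O₁.ι ≫ S₁.h).isClosedMap _
    ((S₁.fT ⁻¹ᵁ E).isOpen.isClosed_compl.preimage O₁.ι.continuous)
  have ht₁C : t₁ ∉ C := by
    rintro ⟨x, hx, hxt⟩
    exact hx (hfib (O₁.ι x) (opens_ι_mem O₁ x) hxt)
  let N₁ : T₁.Opens := ⟨Cᶜ, hC.isOpen_compl⟩
  let S₂ := S₁.bc N₁.ι
  let O₂ : S₂.XT.Opens := pullback.fst S₁.h N₁.ι ⁻¹ᵁ O₁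
  let E₂ : S₂.YT.Opens := pullback.fst S₁.pY N₁.ι ⁻¹ᵁ E
  haveI : IsFinite (O₂.ι ≫ S₂.h) := isFinite_preimage (S₁.bc_isPullback_h N₁.ι) O₁
  haveI : IsFinite (E₂.ι ≫ S₂.pY) := isFinite_preimage (S₁.bc_isPullback_pY N₁.ι) E
  have hOE : O₂ ≤ S₂.fT ⁻¹ᵁ E₂ := by
    intro x hx
    change pullback.fst S₁.pY N₁.ι (S₂.fT x) ∈ E
    rw [S₁.bc_fT_fst_apply]
    by_contra hcon
    have hx' : pullback.fst S₁.h N₁.ι x ∈ O₁ := hx
    have hmem : S₁.h (pullback.fst S₁.h N₁.ι x) ∈ C := by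
      obtain ⟨x', hx''⟩ := exists_opens_ι_eq O₁ hx'
      refine ⟨x', ?_, ?_⟩
      · change S₁.fT (O₁.ι x') ∉ E
        rw [hx'']
        exact hcon
      · rw [Scheme.Hom.comp_apply, hx'']
    rw [S₁.bc_h_apply] at hmem
    exact (opens_ι_mem N₁ _) hmem
  obtain ⟨t₂, ht₂⟩ := exists_opens_ι_eq N₁ (x := t₁) ht₁C
  obtain ⟨v₂, hv₂1, hv₂2⟩ := Scheme.exists_preimage_of_isPullback (S₁.bc_isPullback_pY N₁.ι) v t₂
    (hvt.trans ht₂.symm)
  have hv₂ : ∀ e ∈ E₂, S₂.pY e = t₂ → e = v₂ := by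
    intro e he het
    have h1 : pullback.fst S₁.pY N₁.ι e = v := by
      refine hEuniq _ he ?_
      exact (S₁.bc_pY_apply N₁.ι e).trans ((congrArg _ het).trans ht₂)
    exact eq_of_isPullback_of_isPurelyInseparable (S₁.bc_isPullback_pY N₁.ι) v hvpi e v₂ h1 hv₂1
      (het.trans hv₂2.symm)
  have H₂ := S₂.exists_nhd_const_of_le wf wg hf hg O₂ E₂ hOE t₂ v₂ hv₂
  have H₁ := S₁.exists_nhd_of_bc wf wg N₁.ι N₁.ι.isOpenEmbedding.isOpenMap O₁ t₂ t₁ ht₂ H₂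
  exact S.exists_nhd_of_bc wf wg b b.isOpenMap O t₁ t₀ (hbt₁.trans hy) H₁

set_option maxHeartbeats 1600000 in
/-- Local constancy of the integral of the product weight, near a point. -/
theorem exists_nhd_const (S : Sit f g) [LocallyQuasiFinite f] [LocallyOfFiniteType f]
    [LocallyQuasiFinite g] [LocallyOfFiniteType g] (wf : X → ℤ) (wg : Y → ℤ)
    (hf : MoreMor.IsWeighting f wf) (hg : MoreMor.IsWeighting g wg)
    (O : S.XT.Opens) [IsFinite (O.ι ≫ S.h)] (t₀ : S.T) :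
    ∃ N : Set S.T, IsOpen N ∧ t₀ ∈ N ∧ ∀ t ∈ N,
      ptSum S.h (S.ω wf wg) O t = ptSum S.h (S.ω wf wg) O t₀ := by
  classical
  obtain ⟨T₁, b, t₁, hEt, hbt₁, κ, hκ, D', z', hD', N', ht₁N', hN'⟩ :=
    exists_etale_nbhd_decomp S.h O t₀
  haveI := hEt
  let S₁ := S.bc b
  obtain ⟨D, z, hD, N, ht₁N, hN⟩ : ∃ (D : κ → S₁.XT.Opens) (z : κ → S₁.XT),
      (∀ k, z k ∈ D k ∧ IsFinite ((D k).ι ≫ S₁.h) ∧ S₁.h (z k) = t₁ ∧
        (∀ x ∈ D k, S₁.h x = t₁ → x = z k) ∧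
        (S₁.h.residueFieldMap (z k)).hom.IsPurelyInseparable) ∧
      ∃ N : T₁.Opens, t₁ ∈ N ∧ ∀ t ∈ N,
        (((pullback.fst S.h b ⁻¹ᵁ O : S₁.XT.Opens) : Set S₁.XT) ∩ S₁.h ⁻¹' {t} =
          ⋃ k, ((D k : Set S₁.XT) ∩ S₁.h ⁻¹' {t})) ∧
        Pairwise (fun k l => Disjoint ((D k : Set S₁.XT) ∩ S₁.h ⁻¹' {t})
          ((D l : Set S₁.XT) ∩ S₁.h ⁻¹' {t})) :=
    ⟨D', z', hD', N', ht₁N', hN'⟩
  haveI hDfin : ∀ k, IsFinite ((D k).ι ≫ S₁.h) := fun k => (hD k).2.1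
  have hk : ∀ k, ∃ M : Set T₁, IsOpen M ∧ t₁ ∈ M ∧ ∀ t ∈ M,
      ptSum S₁.h (S₁.ω wf wg) (D k) t = ptSum S₁.h (S₁.ω wf wg) (D k) t₁ := fun k => by
    obtain ⟨h1, h2, h3, h4, h5⟩ := hD k
    exact S₁.exists_nhd_const_of_unique wf wg hf hg (D k) t₁ (z k) h3 h4 h5
  choose M hMo hMt hMc using hk
  have H₁ : ∃ N' : Set T₁, IsOpen N' ∧ t₁ ∈ N' ∧ ∀ t ∈ N',
      ptSum S₁.h (S₁.ω wf wg) (pullback.fst S.h b ⁻¹ᵁ O : S₁.XT.Opens) t =
      ptSum S₁.h (S₁.ω wf wg) (pullback.fst S.h b ⁻¹ᵁ O : S₁.XT.Opens) t₁ := by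
    refine ⟨(N : Set T₁) ∩ ⋂ k, M k, N.isOpen.inter (isOpen_iInter_of_finite hMo),
      ⟨ht₁N, Set.mem_iInter.mpr hMt⟩, ?_⟩
    rintro t ⟨htN, htM⟩
    obtain ⟨h1, h2⟩ := hN t htN
    obtain ⟨h1', h2'⟩ := hN t₁ ht₁N
    rw [ptSum_eq_sum S₁.h (S₁.ω wf wg) _ D t h1 h2, ptSum_eq_sum S₁.h (S₁.ω wf wg) _ D t₁ h1' h2']
    exact Finset.sum_congr rfl fun k _ => hMc k t (Set.mem_iInter.mp htM k)
  exact S.exists_nhd_of_bc wf wg b b.isOpenMap O t₁ t₀ hbt₁ H₁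

theorem isLocallyConstant_ptSum (S : Sit f g) [LocallyQuasiFinite f] [LocallyOfFiniteType f]
    [LocallyQuasiFinite g] [LocallyOfFiniteType g] (wf : X → ℤ) (wg : Y → ℤ)
    (hf : MoreMor.IsWeighting f wf) (hg : MoreMor.IsWeighting g wg)
    (O : S.XT.Opens) [IsFinite (O.ι ≫ S.h)] :
    IsLocallyConstant (ptSum S.h (S.ω wf wg) O) := by
  rw [IsLocallyConstant.iff_exists_open]
  intro t₀
  exact S.exists_nhd_const wf wg hf hg O t₀

end Sit

/-- To check that `w` is a weighting it suffices to check local constancy on one pullback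
square for each étale base. -/
theorem isWeighting_of_isPullback {X Y : Scheme.{u}} (f : X ⟶ Y) (w : X → ℤ)
    (H : ∀ (V : Scheme.{u}) (a : V ⟶ Y) [Etale a], ∃ (W : Scheme.{u}) (q : W ⟶ X) (p : W ⟶ V),
      IsPullback q p f a ∧ ∀ D : W.Opens, IsFinite (D.ι ≫ p) →
        IsLocallyConstant (ptSum p (w ∘ ⇑q) D)) : MoreMor.IsWeighting f w := by
  intro V a _ U hU
  haveI := hU
  obtain ⟨W, q, p, hsq, HD⟩ := H V a
  let e := hsq.isoPullback
  have he1 : e.hom ≫ pullback.fst f a = q := hsq.isoPullback_hom_fst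
  have he2 : e.hom ≫ pullback.snd f a = p := hsq.isoPullback_hom_snd
  have hsq' : IsPullback e.hom p (pullback.snd f a) (𝟙 V) :=
    IsPullback.of_horiz_isIso ⟨by rw [he2, Category.comp_id]⟩
  haveI : IsFinite ((e.hom ⁻¹ᵁ U).ι ≫ p) := isFinite_preimage hsq' U
  have h0 := HD (e.hom ⁻¹ᵁ U) inferInstance
  have h1 : ptSum p (w ∘ ⇑q) (e.hom ⁻¹ᵁ U : W.Opens) =
      MoreMor.fibreIntegral (U.ι ≫ pullback.snd f a)
        (fun u => w (pullback.fst f a (U.ι u))) := by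
    funext t
    have := ptSum_baseChange hsq' U (w ∘ ⇑(pullback.fst f a)) t
    rw [← he1]
    exact this.trans
      (fibreIntegral_opens (pullback.snd f a) (w ∘ ⇑(pullback.fst f a)) U t).symm
  rw [← h1]
  exact h0

end Groth.Agent.Lib.Helper6.Wt
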