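import Mathlib
import Groth.Agent.Lib.Helper6.Wt14

/-!
# Constructible neighbourhoods and the constructible topology
-/

set_option autoImplicit false
universe u

open CategoryTheory AlgebraicGeometry Limits IsLocalRing Topology

namespace Groth.Agent.Lib.Helper6.Wt

/-- Constructible sets of a compact space are clopen in the constructible topology. -/
theorem isOpen_constructibleTopology_of_isConstructible {X : Type*} [TopologicalSpace X]
    [CompactSpace X] {s : Set X} (hs : IsConstructible s) :
    IsOpen[constructibleTopology X] s ∧ IsOpen[constructibleTopology X] sᶜ := by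
  induction hs using IsConstructible.empty_union_induction with
  | open_retrocompact U hUopen hUcomp =>
    have hc : IsCompact U := hUcomp.isCompact
    exact ⟨hc.isOpen_constructibleTopology_of_isOpen hUopen,
      IsCompact.isOpen_constructibleTopology_of_isClosed (by rwa [compl_compl])
        hUopen.isClosed_compl⟩
  | union s hs t ht hs' ht' =>
    refine ⟨@IsOpen.union X s t (constructibleTopology X) hs'.1 ht'.1, ?_⟩
    rw [Set.compl_union]
    exact @IsOpen.inter X (constructibleTopology X) sᶜ tᶜ hs'.2 ht'.2
  | compl s hs hs' =>
    refine ⟨hs'.2, ?_⟩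
    rw [compl_compl]
    exact hs'.1

/-- A function on a spectral space which is constant on a constructible set around every point
takes finitely many values and has constructible level sets. -/
theorem isConstructible_levelSet_of_forall_exists {X : Type*} [TopologicalSpace X]
    [CompactSpace X] [QuasiSober X] [PrespectralSpace X] [QuasiSeparatedSpace X] {α : Type*}
    (φ : X → α)
    (H : ∀ x, ∃ C : Set X, IsConstructible C ∧ x ∈ C ∧ ∀ x' ∈ C, φ x' = φ x) :
    (Set.range φ).Finite ∧ ∀ n, IsConstructible {x | φ x = n} := by
  classical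
  choose C hC hxC hφC using H
  haveI : CompactSpace (WithConstructibleTopology X) := inferInstance
  have hopen : ∀ x : X,
      IsOpen (WithTopology.ofTopology ⁻¹' (C x) : Set (WithConstructibleTopology X)) := fun x =>
    (isOpen_constructibleTopology_of_isConstructible (hC x)).1
  obtain ⟨t, ht⟩ := isCompact_univ.elim_finite_subcover
    (fun x : X => (WithTopology.ofTopology ⁻¹' (C x) : Set (WithConstructibleTopology X))) hopen
    (fun z _ => Set.mem_iUnion.mpr ⟨z.ofTopology, hxC _⟩)
  have hcov : ∀ x' : X, ∃ x ∈ t, x' ∈ C x := fun x' => by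
    have := ht (Set.mem_univ (WithTopology.toTopology _ x'))
    simp only [Set.mem_iUnion, Set.mem_preimage, exists_prop] at this
    exact this
  refine ⟨?_, fun n => ?_⟩
  · refine (t.finite_toSet.image φ).subset ?_
    rintro _ ⟨x', rfl⟩
    obtain ⟨x, hxt, hx'⟩ := hcov x'
    exact ⟨x, hxt, (hφC x x' hx').symm⟩
  · have : {x | φ x = n} = ⋃ x ∈ {x ∈ (t : Set X) | φ x = n}, C x := by
      ext x'
      simp only [Set.mem_ofPred_eq, Set.mem_iUnion, exists_prop]
      constructor
      · intro hx'
        obtain ⟨x, hxt, hx'C⟩ := hcov x'
        exact ⟨x, ⟨hxt, (hφC x x' hx'C).symm.trans hx'⟩, hx'C⟩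
      · rintro ⟨x, ⟨-, hxn⟩, hx'C⟩
        exact (hφC x x' hx'C).trans hxn
    rw [this]
    exact IsConstructible.biUnion (t.finite_toSet.subset fun x hx => hx.1) fun x _ => hC x

end Groth.Agent.Lib.Helper6.Wt
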