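import Mathlib
import Groth.Agent.Lib.Helper6.Wt15

/-!
# Weightings: constructibility of the level sets of the fibre integral (finite presentation)
-/

set_option autoImplicit false
universe u

open CategoryTheory AlgebraicGeometry Limits IsLocalRing Topology

namespace Groth.Agent.Lib.Helper6.Wt

theorem isLocallyConstructible_compl {X : Type*} [TopologicalSpace X] {s : Set X}
    (hs : IsLocallyConstructible s) : IsLocallyConstructible sᶜ := by
  intro x
  obtain ⟨U, hxU, hU, hsU⟩ := hs x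
  refine ⟨U, hxU, hU, ?_⟩
  rw [Set.preimage_compl]
  exact hsU.compl

theorem exists_isAffineOpen_mem_and_subset' {V : Scheme.{u}} {v : V} {N : Set V} (hN : IsOpen N)
    (hv : v ∈ N) : ∃ V₀ : V.Opens, IsAffineOpen V₀ ∧ v ∈ V₀ ∧ (V₀ : Set V) ⊆ N := by
  obtain ⟨_, ⟨V₀, hV₀, rfl⟩, hvV₀, hV₀N⟩ :=
    V.isBasis_affineOpens.exists_subset_of_mem_open hv hN
  exact ⟨V₀, hV₀, hvV₀, hV₀N⟩

set_option maxHeartbeats 3200000 in
/-- Around every point of a qcqs base, the fibre integral of a weighting of a quasi-finite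
morphism of finite presentation is constant on a constructible set containing the point. -/
theorem exists_isConstructible_fibreIntegral_eq {X Y : Scheme.{u}} (f : X ⟶ Y)
    [LocallyQuasiFinite f] [LocallyOfFinitePresentation f] [QuasiCompact f] [QuasiSeparated f]
    [CompactSpace Y] [QuasiSeparatedSpace Y] (w : X → ℤ) (hw : MoreMor.IsWeighting f w) (y : Y) :
    ∃ C : Set Y, IsConstructible C ∧ y ∈ C ∧
      ∀ y' ∈ C, MoreMor.fibreIntegral f w y' = MoreMor.fibreIntegral f w y := by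
  classical
  have hfin : (f ⁻¹' {y}).Finite := f.finite_preimage_singleton y
  haveI : Finite (f ⁻¹' {y}) := hfin.to_subtype
  let n := Nat.card (f ⁻¹' {y})
  let eS : (f ⁻¹' {y}) ≃ Fin n := Finite.equivFin _
  let x : Fin n → X := fun i => (eS.symm i).1
  have hinj : Function.Injective x := fun i j hij => eS.symm.injective (Subtype.ext hij)
  have hs : ∀ i, f (x i) = y := fun i => (eS.symm i).2
  obtain ⟨V, a, v, hEt, hav, J, hJ, Vo, vv, hV, hinjv, hallv, -⟩ :=
    EtLoc.exists_etale_nbhd_insep_family f y x hinj hs (fun i => f.quasiFiniteAt _)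
  haveI := hEt
  haveI := hJ
  let p := pullback.snd f a
  let r := pullback.fst f a
  haveI : Finite (Σ i, J i) := inferInstance
  cases nonempty_fintype (Σ i, J i)
  let D : (Σ i, J i) → (pullback f a).Opens := fun k => Vo k.1 k.2
  let z : (Σ i, J i) → ↑(pullback f a) := fun k => vv k.1 k.2
  haveI hDfin : ∀ k, IsFinite ((D k).ι ≫ p) := fun k => (hV k.1 k.2).2.1
  have hzD : ∀ k, z k ∈ D k := fun k => (hV k.1 k.2).1
  have hzt : ∀ k, p (z k) = v := fun k => (hV k.1 k.2).2.2.1
  have huniq : ∀ k, ∀ q ∈ D k, p q = v → q = z k := fun k => (hV k.1 k.2).2.2.2.1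
  have hzinj : Function.Injective z := by
    intro k l hkl
    obtain ⟨hi, hj⟩ := hinjv _ _ _ _ hkl
    exact Sigma.ext hi hj
  have hall : ∀ q, p q = v → ∃ k, q = z k := by
    intro q hq
    have hfq : f (r q) = y := by
      have := congrArg (fun φ : pullback f a ⟶ Y => φ q) (pullback.condition (f := f) (g := a))
      exact this.trans ((congrArg a hq).trans hav)
    let i := eS ⟨r q, hfq⟩
    have hxi : x i = r q := by
      change (eS.symm (eS ⟨r q, hfq⟩)).1 = _
      rw [Equiv.symm_apply_apply]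
    obtain ⟨j, hj⟩ := hallv q i hq hxi.symm
    exact ⟨⟨i, j⟩, hj⟩
  -- constructibility
  haveI : QuasiSeparated p := inferInstance
  haveI : ∀ k, QuasiCompact (D k).ι := fun k => QuasiCompact.of_comp (D k).ι p
  have hDc : ∀ k, IsConstructible (D k : Set ↑(pullback f a)) := fun k =>
    (IsRetrocompact_iff_isSpectralMap_subtypeVal.mpr (D k).ι.isSpectralMap).isConstructible
      (D k).isOpen
  let Z : Set ↑(pullback f a) := (⋃ k, (D k : Set ↑(pullback f a)))ᶜ
  have hZc : IsConstructible Z := (IsConstructible.iUnion hDc).compl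
  let B₀ : Set V := p '' Z
  have hB₀ : IsLocallyConstructible B₀ :=
    p.isLocallyConstructible_image hZc.isLocallyConstructible
  let B : (Σ i, J i) → (Σ i, J i) → Set V := fun k l =>
    if k = l then ∅ else p '' ((D k : Set ↑(pullback f a)) ∩ D l)
  have hB : ∀ k l, IsLocallyConstructible (B k l) := fun k l => by
    by_cases hkl : k = l
    · simp only [B, if_pos hkl]
      exact IsLocallyConstructible.empty
    · simp only [B, if_neg hkl]
      exact p.isLocallyConstructible_image ((hDc k).inter (hDc l)).isLocallyConstructible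
  have hvB₀ : v ∉ B₀ := by
    rintro ⟨q, hqZ, hqv⟩
    obtain ⟨k, rfl⟩ := hall q hqv
    exact hqZ (Set.mem_iUnion.mpr ⟨k, hzD k⟩)
  have hvB : ∀ k l, v ∉ B k l := by
    intro k l
    by_cases hkl : k = l
    · simp only [B, if_pos hkl]
      exact fun h => h
    · simp only [B, if_neg hkl]
      rintro ⟨q, ⟨hqk, hql⟩, hqv⟩
      exact hkl (hzinj ((huniq k q hqk hqv).symm.trans (huniq l q hql hqv)))
  -- locally constant pieces
  have hΨ : ∀ k, IsLocallyConstant (ptSum p (w ∘ ⇑r) (D k)) := fun k =>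
    IsWeighting.locConst hw a r p (IsPullback.of_hasPullback f a) (D k)
  have hM : ∀ k, ∃ M : Set V, IsOpen M ∧ v ∈ M ∧ ∀ t ∈ M,
      ptSum p (w ∘ ⇑r) (D k) t = ptSum p (w ∘ ⇑r) (D k) v := fun k =>
    (IsLocallyConstant.iff_exists_open _).mp (hΨ k) v
  choose M hMo hMv hMc using hM
  let N : Set V := ⋂ k, M k
  have hNo : IsOpen N := isOpen_iInter_of_finite hMo
  have hvN : v ∈ N := Set.mem_iInter.mpr hMv
  obtain ⟨V₀, hV₀, hvV₀, hV₀N⟩ := exists_isAffineOpen_mem_and_subset' hNo hvN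
  let G : Set V := B₀ᶜ ∩ ⋂ k, ⋂ l, (B k l)ᶜ
  have hG : IsLocallyConstructible G :=
    (isLocallyConstructible_compl hB₀).inter (IsLocallyConstructible.iInter fun k =>
      IsLocallyConstructible.iInter fun l => isLocallyConstructible_compl (hB k l))
  have hvG : v ∈ G :=
    ⟨hvB₀, Set.mem_iInter.mpr fun k => Set.mem_iInter.mpr fun l => hvB k l⟩
  have key : ∀ t ∈ G, t ∈ N →
      MoreMor.fibreIntegral f w (a t) = ∑ k, ptSum p (w ∘ ⇑r) (D k) v := by
    intro t htG htN
    rw [← fibreIntegral_baseChange (IsPullback.of_hasPullback f a)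
      (fun y' => f.finite_preimage_singleton y') w t]
    rw [fibreIntegral_eq_finsum_mem]
    have h1 : (((⊤ : (pullback f a).Opens) : Set ↑(pullback f a))) ∩ p ⁻¹' {t} =
        ⋃ k, ((D k : Set ↑(pullback f a)) ∩ p ⁻¹' {t}) := by
      ext q
      constructor
      · rintro ⟨-, hq⟩
        by_contra hcon
        apply htG.1
        refine ⟨q, fun hmem => hcon ?_, hq⟩
        obtain ⟨k, hk⟩ := Set.mem_iUnion.mp hmem
        exact Set.mem_iUnion.mpr ⟨k, hk, hq⟩
      · intro hq
        obtain ⟨k, -, hq⟩ := Set.mem_iUnion.mp hq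
        exact ⟨trivial, hq⟩
    have h2 : Pairwise (fun k l => Disjoint ((D k : Set ↑(pullback f a)) ∩ p ⁻¹' {t})
        ((D l : Set ↑(pullback f a)) ∩ p ⁻¹' {t})) := by
      intro k l hkl
      rw [Set.disjoint_iff]
      rintro q ⟨⟨hqk, hqt⟩, ⟨hql, -⟩⟩
      have := Set.mem_iInter.mp (Set.mem_iInter.mp htG.2 k) l
      apply this
      simp only [B, if_neg hkl]
      exact ⟨q, ⟨hqk, hql⟩, hqt⟩
    have h3 := ptSum_eq_sum p (w ∘ ⇑r) ⊤ D t h1 h2
    have h4 : ptSum p (w ∘ ⇑r) ((⊤ : (pullback f a).Opens) : Set ↑(pullback f a)) t =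
        ∑ᶠ x ∈ p ⁻¹' {t}, (w ∘ ⇑r) x * deg p x := by
      unfold ptSum
      rw [TopologicalSpace.Opens.coe_top, Set.univ_inter]
    rw [← h4, h3]
    exact Finset.sum_congr rfl fun k _ => hMc k t (Set.mem_iInter.mp htN k)
  haveI : IsAffine V₀.toScheme := hV₀
  let G₀ : Set V₀.toScheme := V₀.ι ⁻¹' G
  have hG₀ : IsConstructible G₀ :=
    (hG.preimage_of_isOpenEmbedding V₀.ι.isOpenEmbedding).isConstructible
  let c := V₀.ι ≫ a
  haveI : QuasiCompact c := quasiCompact_of_compactSpace c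
  refine ⟨c '' G₀, c.isConstructible_image hG₀, ?_, ?_⟩
  · obtain ⟨v₀, hv₀⟩ := exists_opens_ι_eq V₀ hvV₀
    refine ⟨v₀, ?_, ?_⟩
    · change V₀.ι v₀ ∈ G
      rw [hv₀]
      exact hvG
    · rw [Scheme.Hom.comp_apply, hv₀, hav]
  · rintro _ ⟨v', hv'G, rfl⟩
    rw [Scheme.Hom.comp_apply, key (V₀.ι v') hv'G (hV₀N (opens_ι_mem V₀ v')), ← hav,
      key v hvG hvN]

/-- Level sets of the fibre integral are locally constructible (Stacks 0F3K-style). -/
theorem isLocallyConstructible_fibreIntegral_eq {X Y : Scheme.{u}} (f : X ⟶ Y)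
    [LocallyQuasiFinite f] [LocallyOfFinitePresentation f] [QuasiCompact f] [QuasiSeparated f]
    (w : X → ℤ) (hw : MoreMor.IsWeighting f w) (n : ℤ) :
    IsLocallyConstructible {y : Y | MoreMor.fibreIntegral f w y = n} := by
  intro y
  obtain ⟨U, hU, hyU, -⟩ := exists_isAffineOpen_mem_and_subset' (v := y) isOpen_univ
    (Set.mem_univ y)
  refine ⟨U, U.isOpen.mem_nhds hyU, U.isOpen, ?_⟩
  haveI : IsAffine U.toScheme := hU
  let fU := f ∣_ U
  have hsq : IsPullback (f ⁻¹ᵁ U).ι fU f U.ι := (isPullback_morphismRestrict f U).flip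
  have hwU : MoreMor.IsWeighting fU (w ∘ ⇑(f ⁻¹ᵁ U).ι) :=
    isWeighting_baseChange f w hw fU (f ⁻¹ᵁ U).ι U.ι hsq
  have hφ : ∀ y' : U.toScheme, MoreMor.fibreIntegral fU (w ∘ ⇑(f ⁻¹ᵁ U).ι) y' =
      MoreMor.fibreIntegral f w (U.ι y') := fun y' =>
    fibreIntegral_baseChange hsq (fun y'' => f.finite_preimage_singleton y'') w y'
  have := (isConstructible_levelSet_of_forall_exists
    (φ := MoreMor.fibreIntegral fU (w ∘ ⇑(f ⁻¹ᵁ U).ι))
    (fun y' => exists_isConstructible_fibreIntegral_eq fU _ hwU y')).2 n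
  have hset : {y' : U.toScheme | MoreMor.fibreIntegral fU (w ∘ ⇑(f ⁻¹ᵁ U).ι) y' = n} =
      (U.ι ⁻¹' {y : Y | MoreMor.fibreIntegral f w y = n}) := by
    ext y'
    simp only [Set.mem_preimage, Set.mem_ofPred_eq]
    rw [hφ]
  rw [hset] at this
  exact this

end Groth.Agent.Lib.Helper6.Wt
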