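import Mathlib
import Groth.Agent.Lib.Helper6.Wt16

/-!
# Weightings: restriction to opens of the source and extension by zero along closed immersions
-/

set_option autoImplicit false
universe u

open CategoryTheory AlgebraicGeometry Limits IsLocalRing Topology

namespace Groth.Agent.Lib.Helper6.Wt

theorem isPurelyInseparable_of_mono {D W : Scheme.{u}} (j : D ⟶ W) [Mono j] (u : D) :
    (j.residueFieldMap u).hom.IsPurelyInseparable := by
  have h : UniversallyInjective j ↔
      (Function.Injective j ∧ ∀ x, (j.residueFieldMap x).hom.IsPurelyInseparable) :=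
    (tfae_universallyInjective j).out 0 2
  exact (h.mp inferInstance).2 u

theorem deg_of_mono {D W : Scheme.{u}} (j : D ⟶ W) [Mono j] (u : D) : deg j u = 1 :=
  deg_eq_one j u (isPurelyInseparable_of_mono j u)

theorem deg_comp_of_mono {D W T : Scheme.{u}} (j : D ⟶ W) [Mono j] [LocallyQuasiFinite j]
    (p : W ⟶ T) (u : D) : deg (j ≫ p) u = deg p (j u) := by
  rw [deg_comp, deg_of_mono, one_mul]

/-- The degree of a morphism at a point in the image of a section is one. -/
theorem deg_of_section {W T : Scheme.{u}} (s : T ⟶ W) (p : W ⟶ T) (hs : s ≫ p = 𝟙 T)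
    [LocallyQuasiFinite s] (t : T) : deg p (s t) = 1 := by
  haveI : Mono (s ≫ p) := by
    rw [hs]
    infer_instance
  haveI : Mono s := mono_of_mono s p
  have h1 : deg (s ≫ p) t = deg p (s t) := deg_comp_of_mono s p t
  rw [← h1, hs]
  exact deg_of_mono (𝟙 T) t

/-- Restriction of a weighting to an open of the source. -/
theorem isWeighting_comp_of_isOpenImmersion {X' X Y : Scheme.{u}} (j : X' ⟶ X)
    [IsOpenImmersion j] (f : X ⟶ Y) (w : X → ℤ) (hw : MoreMor.IsWeighting f w) :
    MoreMor.IsWeighting (j ≫ f) (w ∘ ⇑j) := by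
  refine isWeighting_of_isPullback (j ≫ f) (w ∘ ⇑j) ?_
  intro V a _
  let r := pullback.fst f a
  let p := pullback.snd f a
  let q := pullback.fst j r
  let ι' := pullback.snd j r
  have hsq : IsPullback q (ι' ≫ p) (j ≫ f) a :=
    (IsPullback.of_hasPullback j r).paste_vert (IsPullback.of_hasPullback f a)
  refine ⟨pullback j r, q, ι' ≫ p, hsq, ?_⟩
  intro D hD
  haveI := hD
  let jD : D.toScheme ⟶ pullback f a := D.ι ≫ ι'
  let O : (pullback f a).Opens := jD.opensRange
  let e := IsOpenImmersion.isoOfRangeEq jD O.ι (by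
    rw [Scheme.Opens.range_ι]
    rfl)
  have he : e.hom ≫ O.ι = jD := IsOpenImmersion.isoOfRangeEq_hom_fac _ _ _
  have he' : O.ι = e.inv ≫ jD := by rw [← he, Iso.inv_hom_id_assoc]
  haveI : IsFinite (O.ι ≫ p) := by
    rw [he', Category.assoc]
    have : jD ≫ p = D.ι ≫ ι' ≫ p := Category.assoc _ _ _
    rw [this]
    infer_instance
  have h0 := IsWeighting.locConst hw a r p (IsPullback.of_hasPullback f a) O
  have h1 : ptSum (ι' ≫ p) ((w ∘ ⇑j) ∘ ⇑q) (D : Set ↑(pullback j r)) =
      ptSum p (w ∘ ⇑r) (O : Set ↑(pullback f a)) := by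
    funext t
    rw [← fibreIntegral_opens]
    have hO : (O : Set ↑(pullback f a)) = Set.range jD := rfl
    rw [hO, ← fibreIntegral_of_isOpenImmersion jD p (w ∘ ⇑r) t]
    have h2 : D.ι ≫ ι' ≫ p = jD ≫ p := (Category.assoc _ _ _).symm
    rw [h2]
    congr 1
    funext u
    simp only [Function.comp_apply]
    congr 1
    exact congrArg (fun φ : pullback j r ⟶ X => φ (D.ι u)) (pullback.condition (f := j) (g := r))
  rw [h1]
  exact h0

/-- Extension by zero of a weighting along a closed immersion. -/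
theorem isWeighting_extend {X X' Y : Scheme.{u}} (i : X ⟶ X') [IsClosedImmersion i]
    (f' : X' ⟶ Y) (w : X → ℤ) (hw : MoreMor.IsWeighting (i ≫ f') w) :
    MoreMor.IsWeighting f' (Function.extend (⇑i) w 0) := by
  classical
  have hinj : Function.Injective i := i.isClosedEmbedding.injective
  refine isWeighting_of_isPullback f' _ ?_
  intro V a _
  let r' := pullback.fst f' a
  let p' := pullback.snd f' a
  let q := pullback.fst i r'
  let ι' := pullback.snd i r'
  have hsq : IsPullback q (ι' ≫ p') (i ≫ f') a :=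
    (IsPullback.of_hasPullback i r').paste_vert (IsPullback.of_hasPullback f' a)
  refine ⟨pullback f' a, r', p', IsPullback.of_hasPullback f' a, ?_⟩
  intro O' hO'
  haveI := hO'
  let D : (pullback i r').Opens := ι' ⁻¹ᵁ O'
  have hres : D.ι ≫ ι' = (ι' ∣_ O') ≫ O'.ι := (morphismRestrict_ι ι' O').symm
  haveI : IsFinite (D.ι ≫ ι' ≫ p') := by
    rw [← Category.assoc, hres, Category.assoc]
    infer_instance
  have h0 := IsWeighting.locConst hw a q (ι' ≫ p') hsq D
  have hcond : ∀ d, i (q d) = r' (ι' d) := fun d =>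
    congrArg (fun φ : pullback i r' ⟶ X' => φ d) (pullback.condition (f := i) (g := r'))
  have h1 : ptSum p' (Function.extend (⇑i) w 0 ∘ ⇑r') (O' : Set ↑(pullback f' a)) =
      ptSum (ι' ≫ p') (w ∘ ⇑q) (D : Set ↑(pullback i r')) := by
    funext t
    unfold ptSum
    have hinj' : Function.Injective ι' := ι'.isClosedEmbedding.injective
    have himg : ι' '' ((D : Set ↑(pullback i r')) ∩ ⇑(ι' ≫ p') ⁻¹' {t}) =
        ((O' : Set ↑(pullback f' a)) ∩ ⇑p' ⁻¹' {t}) ∩ Set.range ι' := by
      ext o
      constructor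
      · rintro ⟨d, ⟨hdD, hdt⟩, rfl⟩
        exact ⟨⟨hdD, hdt⟩, d, rfl⟩
      · rintro ⟨⟨hoO, hot⟩, d, rfl⟩
        exact ⟨d, ⟨hoO, hot⟩, rfl⟩
    have hzero : ∀ o, o ∉ Set.range ι' →
        (Function.extend (⇑i) w 0 ∘ ⇑r') o * deg p' o = 0 := by
      intro o ho
      have : r' o ∉ Set.range i := by
        rintro ⟨x, hx⟩
        obtain ⟨d, -, hd⟩ := Scheme.Pullback.exists_preimage_pullback (f := i) (g := r') x o hx
        exact ho ⟨d, hd⟩
      simp only [Function.comp_apply]
      rw [Function.extend_apply' _ _ _ (by simpa using this)]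
      simp
    have hlhs : ∑ᶠ o ∈ (O' : Set ↑(pullback f' a)) ∩ ⇑p' ⁻¹' {t},
        (Function.extend (⇑i) w 0 ∘ ⇑r') o * deg p' o =
        ∑ᶠ o ∈ ((O' : Set ↑(pullback f' a)) ∩ ⇑p' ⁻¹' {t}) ∩ Set.range ι',
        (Function.extend (⇑i) w 0 ∘ ⇑r') o * deg p' o := by
      refine finsum_mem_inter_support_eq' _ _ _ fun o hsupp => ?_
      constructor
      · intro ho
        refine ⟨ho, ?_⟩
        by_contra hcon
        exact hsupp (hzero o hcon)
      · intro ho
        exact ho.1
    rw [hlhs, ← himg, finsum_mem_image hinj'.injOn]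
    refine finsum_mem_congr rfl fun d _ => ?_
    simp only [Function.comp_apply]
    rw [← hcond, hinj.extend_apply, deg_comp_of_mono ι' p' d]
  rw [h1]
  exact h0

end Groth.Agent.Lib.Helper6.Wt
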