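import Mathlib
import Groth.Agent.Lib.Helper6.Wt17

/-!
# Algebra input: finite algebras are quotients of finite finitely presented algebras; the
complement of the diagonal of a finite type morphism of affine schemes is quasi-compact
-/

set_option autoImplicit false
universe u

open CategoryTheory AlgebraicGeometry Limits IsLocalRing Topology Polynomial TensorProduct

namespace Groth.Agent.Lib.Helper6.Wt

theorem exists_finite_finitePresentation_of_finset (A B : Type u) [CommRing A] [CommRing B]
    [Algebra A B] (s : Finset B) (hs : ∀ b ∈ s, IsIntegral A b) :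
    ∃ (B' : Type u) (_ : CommRing B') (_ : Algebra A B'), Module.Finite A B' ∧
      Algebra.FinitePresentation A B' ∧ ∃ g : B' →ₐ[A] B, ∀ b ∈ s, b ∈ g.range := by
  classical
  induction s using Finset.induction_on with
  | empty =>
    exact ⟨A, inferInstance, inferInstance, inferInstance, inferInstance, Algebra.ofId A B,
      fun b hb => (Finset.notMem_empty b hb).elim⟩
  | insert b s hb ih =>
    obtain ⟨B₁, _, _, hfin, hfp, g₁, hg₁⟩ := ih (fun x hx => hs x (Finset.mem_insert_of_mem hx))
    obtain ⟨P, hP, hPb⟩ := hs b (Finset.mem_insert_self b s)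
    let P₁ : B₁[X] := P.map (algebraMap A B₁)
    have hP₁ : P₁.Monic := hP.map _
    haveI : Module.Finite B₁ (AdjoinRoot P₁) := hP₁.finite_adjoinRoot
    haveI : Module.Finite A (AdjoinRoot P₁) := Module.Finite.trans B₁ _
    haveI : Algebra.FinitePresentation B₁ (AdjoinRoot P₁) := by
      haveI : Algebra.FinitePresentation B₁ B₁[X] := Algebra.FinitePresentation.polynomial B₁ B₁
      exact Algebra.FinitePresentation.quotient (R := B₁) (A := B₁[X])
        (I := Ideal.span {P₁}) ⟨{P₁}, by simp⟩
    haveI : Algebra.FinitePresentation A (AdjoinRoot P₁) :=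
      Algebra.FinitePresentation.trans A B₁ (AdjoinRoot P₁)
    have hev : Polynomial.eval₂ (↑g₁ : B₁ →+* B) b P₁ = 0 := by
      rw [Polynomial.eval₂_map]
      have : (↑g₁ : B₁ →+* B).comp (algebraMap A B₁) = algebraMap A B := g₁.comp_algebraMap
      rw [this]
      exact hPb
    let g : AdjoinRoot P₁ →ₐ[A] B := AdjoinRoot.liftAlgHom P₁ g₁ b hev
    refine ⟨AdjoinRoot P₁, inferInstance, inferInstance, inferInstance, inferInstance, g, ?_⟩
    intro x hx
    rcases Finset.mem_insert.mp hx with rfl | hx
    · exact ⟨AdjoinRoot.root P₁, AdjoinRoot.liftAlgHom_root _ _ _ _⟩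
    · obtain ⟨y, hy⟩ := hg₁ x hx
      exact ⟨AdjoinRoot.of P₁ y, (AdjoinRoot.liftAlgHom_of _ _ _ _ _).trans hy⟩

/-- A finite algebra is a quotient of a finite algebra of finite presentation. -/
theorem exists_finite_finitePresentation_surjective (A B : Type u) [CommRing A] [CommRing B]
    [Algebra A B] [Module.Finite A B] :
    ∃ (B' : Type u) (_ : CommRing B') (_ : Algebra A B'), Module.Finite A B' ∧
      Algebra.FinitePresentation A B' ∧ ∃ g : B' →ₐ[A] B, Function.Surjective g := by
  obtain ⟨s, hs⟩ := (inferInstance : Algebra.FiniteType A B).out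
  obtain ⟨B', i1, i2, h1, h2, g, hg⟩ := exists_finite_finitePresentation_of_finset A B s
    (fun b _ => Algebra.IsIntegral.isIntegral b)
  refine ⟨B', i1, i2, h1, h2, g, ?_⟩
  rw [← AlgHom.range_eq_top, eq_top_iff, ← hs]
  exact Algebra.adjoin_le fun b hb => hg b hb

/-- The complement of the diagonal of a morphism of finite type between affine schemes is
quasi-compact. -/
theorem isCompact_compl_range_diagonal (R S : Type u) [CommRing R] [CommRing S] [Algebra R S]
    [Algebra.FiniteType R S] :
    IsCompact (Set.range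
      (pullback.diagonal (Spec.map (CommRingCat.ofHom (algebraMap R S)))))ᶜ := by
  rw [diagonal_SpecMap R S]
  let e := pullbackSpecIso R S S
  let m : S ⊗[R] S →+* S := (Algebra.TensorProduct.lmul' R : S ⊗[R] S →ₐ[R] S).toRingHom
  have hm : Function.Surjective m := fun s => ⟨s ⊗ₜ 1, by simp [m]⟩
  have h1 : Set.range (Spec.map (CommRingCat.ofHom m)) =
      PrimeSpectrum.zeroLocus (RingHom.ker m) :=
    range_comap_of_surjective _ _ hm
  have hfg : (RingHom.ker m).FG := KaehlerDifferential.ideal_fg R S
  have hc : IsCompact (Set.range (Spec.map (CommRingCat.ofHom m)))ᶜ := by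
    rw [h1]
    exact (PrimeSpectrum.isCompact_isOpen_iff_ideal.mpr ⟨_, hfg, rfl⟩).1
  have h2 : (Set.range (Spec.map (CommRingCat.ofHom m) ≫ e.inv))ᶜ =
      e.inv '' (Set.range (Spec.map (CommRingCat.ofHom m)))ᶜ := by
    have hbij : Function.Bijective e.inv := (Scheme.homeoOfIso e.symm).bijective
    ext x
    simp only [Set.mem_compl_iff, Set.mem_range, Set.mem_image]
    constructor
    · intro hx
      obtain ⟨y, rfl⟩ := hbij.2 x
      refine ⟨y, ?_, rfl⟩
      rintro ⟨z, rfl⟩
      exact hx ⟨z, rfl⟩
    · rintro ⟨y, hy, rfl⟩ ⟨z, hz⟩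
      apply hy
      exact ⟨z, hbij.1 hz⟩
  rw [h2]
  exact hc.image e.inv.continuous

end Groth.Agent.Lib.Helper6.Wt
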