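import Mathlib
import Groth.Agent.Lib.Helper6.Wt18

/-!
# Weightings of finite morphisms of affine schemes: constructible neighbourhoods on which the
weighting is constant
-/

set_option autoImplicit false
universe u

open CategoryTheory AlgebraicGeometry Limits IsLocalRing Topology TensorProduct

namespace Groth.Agent.Lib.Helper6.Wt

theorem isIso_top_ι (X : Scheme.{u}) : IsIso (⊤ : X.Opens).ι :=
  (inferInstance : IsIso X.topIso.hom)

theorem fibreIntegral_eq_ptSum_top {W T : Scheme.{u}} (p : W ⟶ T) (ω : W → ℤ) (t : T) :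
    MoreMor.fibreIntegral p ω t = ptSum p ω ((⊤ : W.Opens) : Set W) t := by
  rw [fibreIntegral_eq_finsum_mem]
  unfold ptSum
  rw [TopologicalSpace.Opens.coe_top, Set.univ_inter]

/-- The fibre integral of a weighting of a finite morphism is locally constant. -/
theorem isLocallyConstant_fibreIntegral_of_isFinite {X Y : Scheme.{u}} (f : X ⟶ Y) [IsFinite f]
    (w : X → ℤ) (hw : MoreMor.IsWeighting f w) :
    IsLocallyConstant (MoreMor.fibreIntegral f w) := by
  haveI := isIso_top_ι X
  haveI : IsFinite ((⊤ : X.Opens).ι ≫ f) := inferInstance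
  have hsq : IsPullback (𝟙 X) f f (𝟙 Y) := IsPullback.of_horiz_isIso ⟨by simp⟩
  have h0 := IsWeighting.locConst hw (𝟙 Y) (𝟙 X) f hsq ⊤
  have h1 : MoreMor.fibreIntegral f w = ptSum f (w ∘ ⇑(𝟙 X)) ((⊤ : X.Opens) : Set X) := by
    funext t
    exact fibreIntegral_eq_ptSum_top f w t
  rw [h1]
  exact h0

set_option maxHeartbeats 3200000 in
/-- The finite, finitely presented case. -/
theorem exists_isConstructible_weighting_eq_of_finitePresentation (R S : Type u) [CommRing R]
    [CommRing S] [Algebra R S] [Module.Finite R S] [Algebra.FinitePresentation R S]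
    (ω : Spec (.of S) → ℤ)
    (hω : MoreMor.IsWeighting (Spec.map (CommRingCat.ofHom (algebraMap R S))) ω)
    (z : Spec (.of S)) :
    ∃ C : Set (Spec (.of S)), IsConstructible C ∧ z ∈ C ∧ ∀ u ∈ C, ω u = ω z := by
  classical
  let π : Spec (.of S) ⟶ Spec (.of R) := Spec.map (CommRingCat.ofHom (algebraMap R S))
  haveI : IsFinite π := (IsFinite.SpecMap_iff _).mpr (RingHom.finite_algebraMap.mpr inferInstance)
  haveI : LocallyOfFinitePresentation π :=
    (HasRingHomProperty.Spec_iff (P := @LocallyOfFinitePresentation)).mpr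
      (RingHom.finitePresentation_algebraMap.mpr inferInstance)
  let pr₁ := pullback.fst π π
  let pr₂ := pullback.snd π π
  let Δ := pullback.diagonal π
  have hΔ1 : Δ ≫ pr₁ = 𝟙 _ := pullback.diagonal_fst π
  have hΔ2 : Δ ≫ pr₂ = 𝟙 _ := pullback.diagonal_snd π
  let W : (pullback π π).Opens := ⟨(Set.range Δ)ᶜ, Δ.isClosedEmbedding.isClosed_range.isOpen_compl⟩
  have hWc : IsCompact (W : Set ↑(pullback π π)) := isCompact_compl_range_diagonal R S
  haveI : CompactSpace W.toScheme := isCompact_iff_compactSpace.mp hWc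
  haveI : QuasiCompact W.ι := quasiCompact_of_compactSpace W.ι
  let q := W.ι ≫ pr₁
  -- the weightings
  have hωT : MoreMor.IsWeighting pr₁ (ω ∘ ⇑pr₂) :=
    isWeighting_baseChange π ω hω pr₁ pr₂ π (IsPullback.of_hasPullback π π).flip
  have hωW : MoreMor.IsWeighting q ((ω ∘ ⇑pr₂) ∘ ⇑W.ι) :=
    isWeighting_comp_of_isOpenImmersion W.ι pr₁ _ hωT
  obtain ⟨C₁, hC₁, hzC₁, hψ⟩ := exists_isConstructible_fibreIntegral_eq q _ hωW z
  -- `φ`
  have hφ := isLocallyConstant_fibreIntegral_of_isFinite π ω hω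
  obtain ⟨N, hNo, hzN, hN⟩ := (IsLocallyConstant.iff_exists_open _).mp hφ (π z)
  obtain ⟨N₀, hN₀, hzN₀, hN₀N⟩ := exists_isAffineOpen_mem_and_subset' hNo hzN
  have hN₀c : IsConstructible (N₀ : Set (Spec (.of R))) := hN₀.isCompact.isConstructible N₀.isOpen
  have hpre : IsConstructible (π ⁻¹' (N₀ : Set (Spec (.of R)))) := π.isConstructible_preimage hN₀c
  -- the identity
  have hid : ∀ u : Spec (.of S), MoreMor.fibreIntegral π ω (π u) =
      ω u + MoreMor.fibreIntegral q ((ω ∘ ⇑pr₂) ∘ ⇑W.ι) u := by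
    intro u
    rw [← fibreIntegral_baseChange (IsPullback.of_hasPullback π π).flip
      (fun y => π.finite_preimage_singleton y) ω u, fibreIntegral_eq_finsum_mem]
    have hsplit : pr₁ ⁻¹' {u} = {Δ u} ∪ ((W : Set ↑(pullback π π)) ∩ pr₁ ⁻¹' {u}) := by
      ext x
      constructor
      · intro hx
        by_cases hxΔ : x ∈ Set.range Δ
        · left
          obtain ⟨u', rfl⟩ := hxΔ
          have h1 : pr₁ (Δ u') = u' := congrArg (fun φ : Spec (.of S) ⟶ Spec (.of S) => φ u') hΔ1
          have h2 : pr₁ (Δ u') = u := hx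
          rw [Set.mem_singleton_iff, ← h1, h2]
        · right
          exact ⟨hxΔ, hx⟩
      · rintro (hx | hx)
        · rw [Set.mem_singleton_iff] at hx
          rw [hx]
          exact congrArg (fun φ : Spec (.of S) ⟶ Spec (.of S) => φ u) hΔ1
        · exact hx.2
    have hdisj : Disjoint ({Δ u} : Set ↑(pullback π π))
        ((W : Set ↑(pullback π π)) ∩ pr₁ ⁻¹' {u}) := by
      rw [Set.disjoint_singleton_left]
      rintro ⟨h, -⟩
      exact h ⟨u, rfl⟩
    have hfin : (pr₁ ⁻¹' {u}).Finite := pr₁.finite_preimage_singleton u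
    rw [hsplit, finsum_mem_union hdisj (Set.finite_singleton _)
      (hfin.subset Set.inter_subset_right), finsum_mem_singleton]
    congr 1
    · have h1 : pr₂ (Δ u) = u := congrArg (fun φ : Spec (.of S) ⟶ Spec (.of S) => φ u) hΔ2
      rw [deg_of_section Δ pr₁ hΔ1 u, mul_one, Function.comp_apply, h1]
    · exact (fibreIntegral_opens pr₁ (ω ∘ ⇑pr₂) W u).symm
  refine ⟨C₁ ∩ π ⁻¹' (N₀ : Set (Spec (.of R))), hC₁.inter hpre, ⟨hzC₁, hzN₀⟩, ?_⟩
  rintro u ⟨huC₁, huN₀⟩
  have h1 := hid u
  have h2 := hid z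
  rw [hψ u huC₁, hN (π u) (hN₀N huN₀)] at h1
  linarith

/-- The finite case: a weighting of a finite morphism `Spec B ⟶ Spec A` is constant on a
constructible set around every point. -/
theorem exists_isConstructible_weighting_eq_of_finite (A B : Type u) [CommRing A]
    [CommRing B] [Algebra A B] [Module.Finite A B] (ω : Spec (.of B) → ℤ)
    (hω : MoreMor.IsWeighting (Spec.map (CommRingCat.ofHom (algebraMap A B))) ω)
    (z : Spec (.of B)) :
    ∃ C : Set (Spec (.of B)), IsConstructible C ∧ z ∈ C ∧ ∀ u ∈ C, ω u = ω z := by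
  classical
  obtain ⟨B', _, _, hfin, hfp, g, hg⟩ := exists_finite_finitePresentation_surjective A B
  let i : Spec (.of B) ⟶ Spec (.of B') := Spec.map (CommRingCat.ofHom g.toRingHom)
  haveI : IsClosedImmersion i := IsClosedImmersion.spec_of_surjective _ hg
  let π' : Spec (.of B') ⟶ Spec (.of A) := Spec.map (CommRingCat.ofHom (algebraMap A B'))
  have hcomp : i ≫ π' = Spec.map (CommRingCat.ofHom (algebraMap A B)) := by
    rw [← Spec.map_comp]
    congr 1
    ext a
    exact g.commutes a
  have hω' : MoreMor.IsWeighting π' (Function.extend (⇑i) ω 0) := by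
    apply isWeighting_extend i π' ω
    rw [hcomp]
    exact hω
  obtain ⟨C', hC', hzC', hconst⟩ :=
    exists_isConstructible_weighting_eq_of_finitePresentation A B' _ hω' (i z)
  have hinj : Function.Injective i := i.isClosedEmbedding.injective
  refine ⟨i ⁻¹' C', i.isConstructible_preimage hC', hzC', ?_⟩
  intro u hu
  have := hconst (i u) hu
  rwa [hinj.extend_apply, hinj.extend_apply] at this

end Groth.Agent.Lib.Helper6.Wt
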