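import Mathlib
import Groth.Agent.Lib.Helper6.Wt19

/-!
# Weightings: the level sets of a weighting are locally constructible (Stacks 0F3J)
-/

set_option autoImplicit false
universe u

open CategoryTheory AlgebraicGeometry Limits IsLocalRing Topology

namespace Groth.Agent.Lib.Helper6.Wt

/-- A weighting of a finite morphism of affine schemes is constant on a constructible set around
every point. -/
theorem exists_isConstructible_weighting_eq_of_isAffine {U V₁ : Scheme.{u}} (π : U ⟶ V₁)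
    [IsAffine U] [IsAffine V₁] [IsFinite π] (ω : U → ℤ) (hω : MoreMor.IsWeighting π ω) (z : U) :
    ∃ C : Set U, IsConstructible C ∧ z ∈ C ∧ ∀ u ∈ C, ω u = ω z := by
  let A := Γ(V₁, ⊤)
  let B := Γ(U, ⊤)
  let φ : A ⟶ B := π.appTop
  letI : Algebra A B := φ.hom.toAlgebra
  have hfinφ : φ.hom.Finite := ((HasAffineProperty.iff_of_isAffine (P := @IsFinite)).mp
    ‹IsFinite π›).2
  haveI : Module.Finite A B := hfinφ
  have hφ : CommRingCat.ofHom (algebraMap A B) = φ := rfl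
  have hsq : IsPullback U.isoSpec.inv (Spec.map φ) π V₁.isoSpec.inv :=
    IsPullback.of_horiz_isIso ⟨(Scheme.isoSpec_inv_naturality π).symm⟩
  have hω' : MoreMor.IsWeighting (Spec.map (CommRingCat.ofHom (algebraMap A B)))
      (ω ∘ ⇑U.isoSpec.inv) := by
    rw [hφ]
    exact isWeighting_baseChange π ω hω (Spec.map φ) U.isoSpec.inv V₁.isoSpec.inv hsq
  obtain ⟨C', hC', hzC', hconst⟩ :=
    exists_isConstructible_weighting_eq_of_finite A B _ hω' (U.isoSpec.hom z)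
  have hinv : ∀ u : U, U.isoSpec.inv (U.isoSpec.hom u) = u := fun u =>
    congrArg (fun ψ : U ⟶ U => ψ u) U.isoSpec.hom_inv_id
  refine ⟨U.isoSpec.hom ⁻¹' C', U.isoSpec.hom.isConstructible_preimage hC', hzC', ?_⟩
  intro u hu
  have := hconst (U.isoSpec.hom u) hu
  simp only [Function.comp_apply] at this
  rwa [hinv, hinv] at this

set_option maxHeartbeats 3200000 in
/-- A weighting of a locally quasi-finite morphism is constant on a constructible set around every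
point of an affine open of the source. -/
theorem exists_isConstructible_weighting_eq {X Y : Scheme.{u}} (f : X ⟶ Y)
    [LocallyQuasiFinite f] [LocallyOfFiniteType f] (w : X → ℤ) (hw : MoreMor.IsWeighting f w)
    (X₀ : X.Opens) (hX₀ : IsAffineOpen X₀) (x₀ : X₀.toScheme) :
    ∃ C : Set X₀.toScheme, IsConstructible C ∧ x₀ ∈ C ∧
      ∀ u ∈ C, w (X₀.ι u) = w (X₀.ι x₀) := by
  classical
  haveI : IsAffine X₀.toScheme := hX₀
  let x := X₀.ι x₀
  obtain ⟨V, a, v, hEt, hav, D, z, hzD, hDfin, hzv, -, -, -, hzx⟩ := exists_etale_nbhd_piece f x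
  haveI := hEt
  haveI := hDfin
  let p := pullback.snd f a
  let r := pullback.fst f a
  obtain ⟨V₀, hV₀, hvV₀, -⟩ := exists_isAffineOpen_mem_and_subset' (v := v) isOpen_univ
    (Set.mem_univ v)
  haveI : IsAffine V₀.toScheme := hV₀
  let G : (pullback f a).Opens := p ⁻¹ᵁ V₀
  let pV : G.toScheme ⟶ V₀.toScheme := p ∣_ V₀
  have hc : IsPullback G.ι pV p V₀.ι := (isPullback_morphismRestrict p V₀).flip
  let D₀ : G.toScheme.Opens := G.ι ⁻¹ᵁ D
  haveI : IsFinite (D₀.ι ≫ pV) := isFinite_preimage hc D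
  let π : D₀.toScheme ⟶ V₀.toScheme := D₀.ι ≫ pV
  haveI : IsFinite π := ‹IsFinite (D₀.ι ≫ pV)›
  haveI : IsAffine D₀.toScheme := isAffine_of_isAffineHom π
  let ρ : D₀.toScheme ⟶ X := D₀.ι ≫ G.ι ≫ r
  haveI : Etale ρ := inferInstance
  have sq : IsPullback (G.ι ≫ r) pV f (V₀.ι ≫ a) :=
    hc.paste_horiz (IsPullback.of_hasPullback f a)
  have hwP : MoreMor.IsWeighting pV (w ∘ ⇑(G.ι ≫ r)) :=
    isWeighting_baseChange f w hw pV (G.ι ≫ r) (V₀.ι ≫ a) sq
  have hwU : MoreMor.IsWeighting π ((w ∘ ⇑(G.ι ≫ r)) ∘ ⇑D₀.ι) :=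
    isWeighting_comp_of_isOpenImmersion D₀.ι pV _ hwP
  -- the point
  have hzG : z ∈ G := by
    change p z ∈ V₀
    rw [hzv]
    exact hvV₀
  obtain ⟨z₁, hz₁⟩ := exists_opens_ι_eq G hzG
  have hz₁D : z₁ ∈ D₀ := by
    change G.ι z₁ ∈ D
    rw [hz₁]
    exact hzD
  obtain ⟨zU, hzU⟩ := exists_opens_ι_eq D₀ hz₁D
  have hρz : ρ zU = x := by
    change r (G.ι (D₀.ι zU)) = x
    rw [hzU, hz₁, hzx]
  obtain ⟨CU, hCU, hzCU, hconst⟩ := exists_isConstructible_weighting_eq_of_isAffine π _ hwU zU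
  have hconst' : ∀ u ∈ CU, w (ρ u) = w x := by
    intro u hu
    have := hconst u hu
    rw [← hρz]
    exact this
  -- an affine open neighbourhood mapping into `X₀`
  obtain ⟨U₁, hU₁, hzU₁, hU₁X₀⟩ := exists_isAffineOpen_mem_and_subset'
    (V := D₀.toScheme) (v := zU) (N := ρ ⁻¹' (X₀ : Set X)) (X₀.isOpen.preimage ρ.continuous)
    (by
      change ρ zU ∈ X₀
      rw [hρz]
      exact opens_ι_mem X₀ x₀)
  haveI : IsAffine U₁.toScheme := hU₁
  have hrange : Set.range (U₁.ι ≫ ρ) ⊆ Set.range X₀.ι := by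
    rintro _ ⟨u₁, rfl⟩
    rw [Scheme.Opens.range_ι]
    exact hU₁X₀ (opens_ι_mem U₁ u₁)
  let ρ₁ : U₁.toScheme ⟶ X₀.toScheme := IsOpenImmersion.lift X₀.ι (U₁.ι ≫ ρ) hrange
  have hρ₁ : ρ₁ ≫ X₀.ι = U₁.ι ≫ ρ := IsOpenImmersion.lift_fac _ _ _
  have hρ₁' : ∀ u₁, X₀.ι (ρ₁ u₁) = ρ (U₁.ι u₁) := fun u₁ =>
    congrArg (fun ψ : U₁.toScheme ⟶ X => ψ u₁) hρ₁
  haveI : Etale ρ₁ := MorphismProperty.of_postcomp (W := @Etale) (W' := @IsOpenImmersion) ρ₁ X₀.ι
    inferInstance (by rw [hρ₁]; infer_instance)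
  haveI : QuasiCompact ρ₁ := quasiCompact_of_compactSpace ρ₁
  have hpre : IsConstructible (U₁.ι ⁻¹' CU) := U₁.ι.isConstructible_preimage hCU
  refine ⟨ρ₁ '' (U₁.ι ⁻¹' CU), ρ₁.isConstructible_image hpre, ?_, ?_⟩
  · obtain ⟨z₂, hz₂⟩ := exists_opens_ι_eq U₁ hzU₁
    refine ⟨z₂, ?_, ?_⟩
    · change U₁.ι z₂ ∈ CU
      rw [hz₂]
      exact hzCU
    · apply X₀.ι.isOpenEmbedding.injective
      rw [hρ₁', hz₂, hρz]
  · rintro _ ⟨u₁, hu₁, rfl⟩
    rw [hρ₁']
    exact hconst' _ hu₁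

/-- **Stacks 0F3J**: the level sets of a weighting are locally constructible. -/
theorem isLocallyConstructible_weighting_eq {X Y : Scheme.{u}} (f : X ⟶ Y)
    [LocallyQuasiFinite f] [LocallyOfFiniteType f] (w : X → ℤ) (hw : MoreMor.IsWeighting f w)
    (n : ℤ) : IsLocallyConstructible {x : X | w x = n} := by
  intro x
  obtain ⟨X₀, hX₀, hxX₀, -⟩ := exists_isAffineOpen_mem_and_subset' (v := x) isOpen_univ
    (Set.mem_univ x)
  refine ⟨X₀, X₀.isOpen.mem_nhds hxX₀, X₀.isOpen, ?_⟩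
  haveI : IsAffine X₀.toScheme := hX₀
  exact (isConstructible_levelSet_of_forall_exists (φ := fun u : X₀.toScheme => w (X₀.ι u))
    (fun u => exists_isConstructible_weighting_eq f w hw X₀ hX₀ u)).2 n

/-- A weighting takes finitely many values on an affine open of the source. -/
theorem finite_range_weighting_of_isAffineOpen {X Y : Scheme.{u}} (f : X ⟶ Y)
    [LocallyQuasiFinite f] [LocallyOfFiniteType f] (w : X → ℤ) (hw : MoreMor.IsWeighting f w)
    (X₀ : X.Opens) (hX₀ : IsAffineOpen X₀) : (w '' (X₀ : Set X)).Finite := by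
  haveI : IsAffine X₀.toScheme := hX₀
  have := (isConstructible_levelSet_of_forall_exists (φ := fun u : X₀.toScheme => w (X₀.ι u))
    (fun u => exists_isConstructible_weighting_eq f w hw X₀ hX₀ u)).1
  refine this.subset ?_
  rintro _ ⟨x, hx, rfl⟩
  obtain ⟨u, rfl⟩ := exists_opens_ι_eq X₀ hx
  exact ⟨u, rfl⟩

end Groth.Agent.Lib.Helper6.Wt
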