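import Mathlib
import Groth.Agent.Lib.Helper6.Wt20
import Groth.Agent.Lib.Helper6.BddFibQF

/-!
# Weightings: the fibre integral attains its maximum on a quasi-compact source (Stacks 0F3M)
-/

set_option autoImplicit false
universe u

open CategoryTheory AlgebraicGeometry Limits IsLocalRing Topology

namespace Groth.Agent.Lib.Helper6.Wt

set_option maxHeartbeats 1600000 in
/-- A scheme which is finite of degree at most `n` over a field has at most `n` points with values
in a given field extension. -/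
theorem card_lifts_le_of_finiteOfDegLE (K : CommRingCat.{u}) (hK : IsField K) {T : Scheme.{u}}
    (p : T ⟶ Spec K) (n : ℕ) (h : BddFib.FiniteOfDegLE K p n) {Ω : Type u} [Field Ω]
    (yb : Spec (CommRingCat.of Ω) ⟶ Spec K) :
    Finite (Lifts p yb) ∧ Nat.card (Lifts p yb) ≤ n := by
  letI := hK.toField
  letI : Algebra K Γ(T, ⊤) := BddFib.secAlgebra K p
  obtain ⟨hT, hfin, hrank⟩ := h
  haveI := hT
  haveI := hfin
  let γΩ := Scheme.ΓSpecIso (CommRingCat.of Ω)
  let γK := Scheme.ΓSpecIso K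
  letI : Algebra K Ω := (γK.inv ≫ yb.appTop ≫ γΩ.hom).hom.toAlgebra
  let Φ : Lifts p yb → (Γ(T, ⊤) →ₐ[K] Ω) := fun xb =>
    { toRingHom := (xb.1.appTop ≫ γΩ.hom).hom
      commutes' := fun k => by
        have h1 : p.appTop ≫ xb.1.appTop = yb.appTop := by
          rw [← Scheme.Hom.comp_appTop, xb.2]
        change (xb.1.appTop ≫ γΩ.hom).hom ((γK.inv ≫ p.appTop).hom k) =
          (γK.inv ≫ yb.appTop ≫ γΩ.hom).hom k
        rw [← h1]
        rfl }
  have hΦ : Function.Injective Φ := by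
    intro xb xb' hxx
    apply Subtype.ext
    apply ext_of_isAffine
    have h1 : (xb.1.appTop ≫ γΩ.hom).hom = (xb'.1.appTop ≫ γΩ.hom).hom :=
      congrArg (fun ψ : Γ(T, ⊤) →ₐ[K] Ω => ψ.toRingHom) hxx
    have h2 : xb.1.appTop ≫ γΩ.hom = xb'.1.appTop ≫ γΩ.hom := CommRingCat.hom_ext h1
    exact (cancel_mono γΩ.hom).mp h2
  haveI : Finite (Γ(T, ⊤) →ₐ[K] Ω) := Finite.algHom K Γ(T, ⊤) Ω
  refine ⟨Finite.of_injective Φ hΦ, ?_⟩
  exact (Nat.card_le_card_of_injective Φ hΦ).trans
    ((card_algHom_le_finrank K Γ(T, ⊤) Ω).trans hrank)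

/-- The number of lifts of a geometric point is bounded by a bound for the fibre degrees. -/
theorem card_lifts_le {X Y : Scheme.{u}} (f : X ⟶ Y) (n : ℕ) (hn : BddFib.FibreDegLE f n)
    (y : Y) : Finite (Lifts f (geomPt Y y)) ∧ Nat.card (Lifts f (geomPt Y y)) ≤ n := by
  let Ω := AlgebraicClosure (Y.residueField y)
  let yb' : Spec (CommRingCat.of Ω) ⟶ Spec (Y.residueField y) :=
    Spec.map (CommRingCat.ofHom (algebraMap (Y.residueField y) Ω))
  have hc : IsPullback (f.fiberι y) (f.fiberToSpecResidueField y) f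
      (Y.fromSpecResidueField y) := IsPullback.of_hasPullback f (Y.fromSpecResidueField y)
  obtain ⟨h1, h2⟩ := card_lifts_le_of_finiteOfDegLE (Y.residueField y)
    (Field.toIsField _) (f.fiberToSpecResidueField y) n (hn y) yb'
  let e : Lifts (f.fiberToSpecResidueField y) yb' ≃ Lifts f (geomPt Y y) :=
    liftsPullbackEquiv hc yb'
  exact ⟨Finite.of_equiv _ e, (Nat.card_congr e).symm.trans_le h2⟩

/-- The fibre integral is bounded in terms of a bound on `w` and the fibre degrees. -/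
theorem fibreIntegral_le_mul {X Y : Scheme.{u}} (f : X ⟶ Y) [LocallyQuasiFinite f] (n : ℕ)
    (hn : BddFib.FibreDegLE f n) (w : X → ℤ) (M : ℤ) (hM0 : 0 ≤ M) (hM : ∀ x, w x ≤ M) (y : Y) :
    MoreMor.fibreIntegral f w y ≤ M * n := by
  classical
  obtain ⟨h1, h2⟩ := card_lifts_le f n hn y
  haveI := h1
  have hyb : (geomPt Y y) (closedPoint (AlgebraicClosure (Y.residueField y))) = y :=
    geomPt_apply Y y _
  have h3 := fibreIntegral_eq_finsum_lifts f (geomPt Y y) w
    (fun u _ => isAlgebraic_residueField f u)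
  rw [hyb] at h3
  rw [h3]
  cases nonempty_fintype (Lifts f (geomPt Y y))
  rw [finsum_eq_sum_of_fintype]
  calc ∑ xb : Lifts f (geomPt Y y), w xb.center
      ≤ ∑ _xb : Lifts f (geomPt Y y), M := Finset.sum_le_sum fun xb _ => hM _
    _ = (Fintype.card (Lifts f (geomPt Y y)) : ℤ) * M := by
        rw [Finset.sum_const, Finset.card_univ, nsmul_eq_mul]
    _ ≤ M * n := by
        rw [mul_comm]
        apply mul_le_mul_of_nonneg_left _ hM0
        rw [Nat.card_eq_fintype_card] at h2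
        exact_mod_cast h2

/-- A weighting is bounded above on a quasi-compact source. -/
theorem exists_weighting_le {X Y : Scheme.{u}} (f : X ⟶ Y) [LocallyQuasiFinite f]
    [LocallyOfFiniteType f] [CompactSpace X] (w : X → ℤ) (hw : MoreMor.IsWeighting f w) :
    ∃ M : ℤ, 0 ≤ M ∧ ∀ x, w x ≤ M := by
  obtain ⟨s, hs, hcov⟩ := (isCompact_and_isOpen_iff_finite_and_eq_biUnion_affineOpens
    (X := X) (U := Set.univ)).mp ⟨isCompact_univ, isOpen_univ⟩
  have hfin : (w '' Set.univ).Finite := by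
    rw [hcov, Set.image_iUnion₂]
    exact hs.biUnion fun i _ => finite_range_weighting_of_isAffineOpen f w hw i.1 i.2
  obtain ⟨M, hM⟩ := hfin.bddAbove
  refine ⟨max M 0, le_max_right _ _, fun x => ?_⟩
  exact (hM ⟨x, Set.mem_univ x, rfl⟩).trans (le_max_left _ _)

/-- **Stacks 0F3M**: the fibre integral of a weighting attains its maximum when the source is
quasi-compact. -/
theorem exists_max_fibreIntegral {X Y : Scheme.{u}} (f : X ⟶ Y) [LocallyQuasiFinite f]
    [LocallyOfFiniteType f] [CompactSpace X] (w : X → ℤ) (hw : MoreMor.IsWeighting f w)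
    [Nonempty Y] : ∃ y₀ : Y, ∀ y : Y, MoreMor.fibreIntegral f w y ≤ MoreMor.fibreIntegral f w y₀ := by
  obtain ⟨M, hM0, hM⟩ := exists_weighting_le f w hw
  obtain ⟨n, hn⟩ := Groth.Agent.Lib.Helper6.BddFibLib.univBounded_of_locallyQuasiFinite f
  have hbd : ∀ y, MoreMor.fibreIntegral f w y ≤ M * n := fun y =>
    fibreIntegral_le_mul f n hn w M hM0 hM y
  obtain ⟨ub, ⟨y₀, hy₀⟩, hub⟩ := Int.exists_greatest_of_bdd
    (P := fun z => ∃ y, MoreMor.fibreIntegral f w y = z)
    ⟨M * n, fun z ⟨y, hy⟩ => hy ▸ hbd y⟩ ⟨_, Classical.arbitrary Y, rfl⟩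
  exact ⟨y₀, fun y => hy₀ ▸ hub _ ⟨y, rfl⟩⟩

end Groth.Agent.Lib.Helper6.Wt
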