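import Mathlib
import Groth.Agent.Lib.Helper6.Wt21

/-!
# The geometric number of points of the fibres of a locally quasi-finite morphism
-/

set_option autoImplicit false
universe u

open CategoryTheory AlgebraicGeometry Limits IsLocalRing Topology FlatMor

namespace Groth.Agent.Lib.Helper6.GN

theorem isSepClosed_of_ringEquiv {k k' : Type*} [Field k] [Field k'] (e : k ≃+* k')
    [IsSepClosed k] : IsSepClosed k' := by
  refine IsSepClosed.of_exists_root k' fun p _ hirr hsep => ?_
  have hsep' : (p.map (e.symm : k' →+* k)).Separable := hsep.map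
  have hdeg : (p.map (e.symm : k' →+* k)).degree ≠ 0 := by
    rw [Polynomial.degree_map]
    exact (Polynomial.degree_pos_of_irreducible hirr).ne'
  obtain ⟨x, hx⟩ := IsSepClosed.exists_root _ hdeg hsep'
  refine ⟨e x, ?_⟩
  have h1 : Polynomial.eval₂ (e.symm : k' →+* k) x p = 0 := by
    rw [← Polynomial.eval_map]
    exact hx
  have h2 := Polynomial.hom_eval₂ p (e.symm : k' →+* k) (e : k →+* k') x
  rw [h1, map_zero] at h2
  have h3 : (e : k →+* k').comp (e.symm : k' →+* k) = RingHom.id k' := by
    ext a
    simp
  rw [h3] at h2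
  exact h2.symm

theorem isSepClosed_residueField_spec (L : Type u) [Field L] [IsSepClosed L]
    (s : Spec (CommRingCat.of L)) : IsSepClosed ((Spec (CommRingCat.of L)).residueField s) := by
  let e1 : L ≃+* s.asIdeal.ResidueField :=
    (Ideal.algEquivResidueFieldOfField s.asIdeal).toRingEquiv
  let e2 : s.asIdeal.ResidueField ≃+* (Spec (CommRingCat.of L)).residueField s :=
    (Scheme.Spec.residueFieldIso (CommRingCat.of L) s).symm.commRingCatIsoToRingEquiv
  exact isSepClosed_of_ringEquiv (e1.trans e2)

instance (L : Type u) [Field L] : Subsingleton (Spec (CommRingCat.of L)) :=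
  (inferInstance : Subsingleton (PrimeSpectrum L))

/-- Base change of a scheme locally quasi-finite over a separably closed field along a field
extension is bijective on points. -/
theorem bijective_of_isPullback_of_isSepClosed {T T' : Scheme.{u}} {L L' : Type u} [Field L]
    [Field L'] [IsSepClosed L] (π : T ⟶ Spec (CommRingCat.of L)) [LocallyQuasiFinite π]
    (q : Spec (CommRingCat.of L') ⟶ Spec (CommRingCat.of L)) (r : T' ⟶ T)
    (π' : T' ⟶ Spec (CommRingCat.of L')) (h : IsPullback r π' π q) : Function.Bijective r := by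
  constructor
  · intro z₁ z₂ h12
    refine Wt.eq_of_isPullback_of_isPurelyInseparable h (r z₁) ?_ z₁ z₂ rfl h12.symm
      (Subsingleton.elim _ _)
    letI := (π.residueFieldMap (r z₁)).hom.toAlgebra
    haveI := isSepClosed_residueField_spec L (π (r z₁))
    haveI := Wt.isAlgebraic_residueField π (r z₁)
    exact (inferInstance : IsPurelyInseparable ((Spec (CommRingCat.of L)).residueField (π (r z₁)))
      (T.residueField (r z₁)))
  · intro t
    obtain ⟨z, hz, -⟩ := Scheme.exists_preimage_of_isPullback h t (closedPoint L')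
      (Subsingleton.elim _ _)
    exact ⟨z, hz⟩

/-- The number of points of the base change of `f` to a field-valued point. -/
noncomputable def cnt {X Y : Scheme.{u}} (f : X ⟶ Y) {L : Type u} [Field L]
    (ξ : Spec (CommRingCat.of L) ⟶ Y) : ℕ∞ :=
  ENat.card ↥(pullback f ξ)

theorem cnt_eq_of_isPullback {X Y W : Scheme.{u}} {f : X ⟶ Y} {L : Type u} [Field L]
    {ξ : Spec (CommRingCat.of L) ⟶ Y} {q : W ⟶ X} {p : W ⟶ Spec (CommRingCat.of L)}
    (h : IsPullback q p f ξ) : cnt f ξ = ENat.card W :=
  (ENat.card_congr (Scheme.homeoOfIso h.isoPullback).toEquiv).symm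

theorem cnt_comp {X Y : Scheme.{u}} (f : X ⟶ Y) [LocallyQuasiFinite f] {L L' : Type u} [Field L]
    [Field L'] [IsSepClosed L] (ξ : Spec (CommRingCat.of L) ⟶ Y)
    (q : Spec (CommRingCat.of L') ⟶ Spec (CommRingCat.of L)) : cnt f (q ≫ ξ) = cnt f ξ := by
  let π := pullback.snd f ξ
  let r : pullback f (q ≫ ξ) ⟶ pullback f ξ :=
    pullback.lift (pullback.fst f (q ≫ ξ)) (pullback.snd f (q ≫ ξ) ≫ q)
      (by rw [Category.assoc, pullback.condition])
  have hr1 : r ≫ pullback.fst f ξ = pullback.fst f (q ≫ ξ) := pullback.lift_fst _ _ _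
  have hr2 : r ≫ π = pullback.snd f (q ≫ ξ) ≫ q := pullback.lift_snd _ _ _
  have h : IsPullback r (pullback.snd f (q ≫ ξ)) π q := by
    refine IsPullback.of_right ?_ hr2 (IsPullback.of_hasPullback f ξ)
    rw [hr1]
    exact IsPullback.of_hasPullback f (q ≫ ξ)
  have hb := bijective_of_isPullback_of_isSepClosed π q r _ h
  exact ENat.card_congr (Equiv.ofBijective r hb)

/-- The canonical separably closed point over a point. -/
noncomputable def sepPt (Y : Scheme.{u}) (y : Y) :
    Spec (CommRingCat.of (SeparableClosure (Y.residueField y))) ⟶ Y :=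
  Spec.map (CommRingCat.ofHom (algebraMap (Y.residueField y)
    (SeparableClosure (Y.residueField y)))) ≫ Y.fromSpecResidueField y

@[simp]
theorem sepPt_apply (Y : Scheme.{u}) (y : Y) (z) : sepPt Y y z = y := by
  unfold sepPt
  rw [Scheme.Hom.comp_apply, Scheme.fromSpecResidueField_apply]

theorem cnt_eq_cnt_sepPt {X Y : Scheme.{u}} (f : X ⟶ Y) [LocallyQuasiFinite f] {L : Type u}
    [Field L] [IsSepClosed L] (ξ : Spec (CommRingCat.of L) ⟶ Y) (y : Y)
    (hy : ξ (closedPoint L) = y) : cnt f ξ = cnt f (sepPt Y y) := by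
  subst hy
  let χ := Scheme.descResidueField (Scheme.stalkClosedPointTo ξ)
  have hξ : Spec.map χ ≫ Y.fromSpecResidueField (ξ (closedPoint L)) = ξ :=
    Scheme.descResidueField_stalkClosedPointTo_fromSpecResidueField L Y ξ
  letI : Algebra (Y.residueField (ξ (closedPoint L))) L := χ.hom.toAlgebra
  let l : SeparableClosure (Y.residueField (ξ (closedPoint L))) →ₐ[Y.residueField
    (ξ (closedPoint L))] L := IsSepClosed.lift
  have hχ : χ = CommRingCat.ofHom (algebraMap (Y.residueField (ξ (closedPoint L)))
      (SeparableClosure (Y.residueField (ξ (closedPoint L))))) ≫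
      CommRingCat.ofHom l.toRingHom := by
    ext a
    exact (l.commutes a).symm
  have h2 : ξ = Spec.map (CommRingCat.ofHom l.toRingHom) ≫ sepPt Y (ξ (closedPoint L)) := by
    unfold sepPt
    rw [← Category.assoc, ← Spec.map_comp, ← hχ, hξ]
  conv_lhs => rw [h2]
  exact cnt_comp f _ _

theorem cnt_baseChange {X Y X' Y' : Scheme.{u}} {f : X ⟶ Y} {f' : X' ⟶ Y'} {h : X' ⟶ X}
    {g : Y' ⟶ Y} (hc : IsPullback h f' f g) {L : Type u} [Field L]
    (ξ' : Spec (CommRingCat.of L) ⟶ Y') : cnt f' ξ' = cnt f (ξ' ≫ g) :=
  (cnt_eq_of_isPullback ((IsPullback.of_hasPullback f' ξ').paste_horiz hc)).symm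

/-- Discrete spaces: irreducible and connected components are points. -/
theorem card_components_of_discrete (Z : Type u) [TopologicalSpace Z] [DiscreteTopology Z] :
    (irreducibleComponents Z).encard = ENat.card Z ∧
      ENat.card (_root_.ConnectedComponents Z) = ENat.card Z := by
  constructor
  · have h1 : irreducibleComponents Z = Set.range (fun z : Z => ({z} : Set Z)) := by
      ext s
      constructor
      · intro hs
        obtain ⟨x, rfl⟩ := isIrreducible_iff_singleton.mp hs.1
        exact ⟨x, rfl⟩
      · rintro ⟨x, rfl⟩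
        refine ⟨isIrreducible_singleton, fun t ht hxt => ?_⟩
        obtain ⟨y, rfl⟩ := isIrreducible_iff_singleton.mp ht
        have hxy : x = y := hxt rfl
        subst hxy
        exact le_refl _
    rw [h1, ← Set.image_univ, Function.Injective.encard_image Set.singleton_injective,
      Set.encard_univ]
  · have hbij : Function.Bijective
        (_root_.ConnectedComponents.mk : Z → _root_.ConnectedComponents Z) := by
      refine ⟨fun a b hab => ?_, ConnectedComponents.surjective_coe⟩
      have := ConnectedComponents.coe_eq_coe'.mp hab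
      rw [connectedComponent_eq_singleton] at this
      exact this
    exact (ENat.card_congr (Equiv.ofBijective _ hbij)).symm

theorem discreteTopology_geomFiber {X Y : Scheme.{u}} (f : X ⟶ Y) [LocallyQuasiFinite f] (y : Y) :
    DiscreteTopology ↥(MoreMor.geomFiber f y) := by
  let q := Spec.map (CommRingCat.ofHom
    (algebraMap (Y.residueField y) (SeparableClosure (Y.residueField y))))
  let p := pullback.snd (f.fiberToSpecResidueField y) q
  haveI : LocallyQuasiFinite (f.fiberToSpecResidueField y) :=
    MorphismProperty.pullback_snd _ _ inferInstance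
  haveI : LocallyQuasiFinite p := inferInstance
  have hd := p.isDiscrete_preimage_singleton (default : ↥(Spec
    (CommRingCat.of (SeparableClosure (Y.residueField y)))))
  have huniv : (⇑p ⁻¹' {default}) = Set.univ := by
    ext z
    simp only [Set.mem_preimage, Set.mem_singleton_iff, Set.mem_univ, iff_true]
    exact Subsingleton.elim _ _
  rw [huniv] at hd
  exact isDiscrete_univ_iff.mp hd

/-- The geometric number of connected components of the fibre as a count of points. -/
theorem nGeomConnComp_eq_cnt {X Y : Scheme.{u}} (f : X ⟶ Y) [LocallyQuasiFinite f] (y : Y) :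
    MoreMor.nGeomConnComp f y = cnt f (sepPt Y y) := by
  haveI := discreteTopology_geomFiber f y
  unfold MoreMor.nGeomConnComp
  rw [(card_components_of_discrete _).2]
  let q := Spec.map (CommRingCat.ofHom
    (algebraMap (Y.residueField y) (SeparableClosure (Y.residueField y))))
  have h1 : IsPullback (pullback.snd (f.fiberToSpecResidueField y) q)
      (pullback.fst (f.fiberToSpecResidueField y) q) q (f.fiberToSpecResidueField y) :=
    (IsPullback.of_hasPullback (f.fiberToSpecResidueField y) q).flip
  have h2 : IsPullback (f.fiberToSpecResidueField y) (f.fiberι y) (Y.fromSpecResidueField y) f :=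
    (IsPullback.of_hasPullback f (Y.fromSpecResidueField y)).flip
  have h3 := (h1.paste_vert h2).flip
  exact (cnt_eq_of_isPullback h3).symm

/-- Base change invariance of the geometric number of points. -/
theorem nGeomConnComp_baseChange {X Y X' Y' : Scheme.{u}} {f : X ⟶ Y} {f' : X' ⟶ Y'}
    {h : X' ⟶ X} {g : Y' ⟶ Y} (hc : IsPullback h f' f g) [LocallyQuasiFinite f] (y' : Y') :
    MoreMor.nGeomConnComp f' y' = MoreMor.nGeomConnComp f (g y') := by
  haveI : LocallyQuasiFinite f' := MorphismProperty.of_isPullback hc ‹_›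
  rw [nGeomConnComp_eq_cnt, nGeomConnComp_eq_cnt, cnt_baseChange hc]
  refine cnt_eq_cnt_sepPt f _ _ ?_
  rw [Scheme.Hom.comp_apply, sepPt_apply]

/-- The geometric number of points is at least the number of points of the fibre. -/
theorem card_fibre_le_nGeomConnComp {X Y : Scheme.{u}} (f : X ⟶ Y) [LocallyQuasiFinite f]
    (y : Y) : ENat.card (f ⁻¹' {y}) ≤ MoreMor.nGeomConnComp f y := by
  rw [nGeomConnComp_eq_cnt]
  unfold cnt
  let φ : ↥(pullback f (sepPt Y y)) → (f ⁻¹' {y}) := fun z => ⟨pullback.fst f (sepPt Y y) z, by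
    have := congrArg (fun ψ : pullback f (sepPt Y y) ⟶ Y => ψ z)
      (pullback.condition (f := f) (g := sepPt Y y))
    exact this.trans (sepPt_apply Y y _)⟩
  have hφ : Function.Surjective φ := by
    rintro ⟨x, hx⟩
    obtain ⟨z, hz, -⟩ := Scheme.Pullback.exists_preimage_pullback (f := f) (g := sepPt Y y) x
      (closedPoint _) (hx.trans (sepPt_apply Y y _).symm)
    exact ⟨z, Subtype.ext hz⟩
  exact ENat.card_le_card_of_injective (Function.injective_surjInv hφ)

/-- If all residue field extensions in the fibre are purely inseparable, the geometric number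
of points is the number of points of the fibre. -/
theorem nGeomConnComp_eq_card_fibre {X Y : Scheme.{u}} (f : X ⟶ Y) [LocallyQuasiFinite f]
    (y : Y) (hpi : ∀ x, f x = y → (f.residueFieldMap x).hom.IsPurelyInseparable) :
    MoreMor.nGeomConnComp f y = ENat.card (f ⁻¹' {y}) := by
  rw [nGeomConnComp_eq_cnt]
  unfold cnt
  let φ : ↥(pullback f (sepPt Y y)) → (f ⁻¹' {y}) := fun z => ⟨pullback.fst f (sepPt Y y) z, by
    have := congrArg (fun ψ : pullback f (sepPt Y y) ⟶ Y => ψ z)
      (pullback.condition (f := f) (g := sepPt Y y))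
    exact this.trans (sepPt_apply Y y _)⟩
  have hφ : Function.Bijective φ := by
    constructor
    · intro z₁ z₂ h12
      have h12' : pullback.fst f (sepPt Y y) z₁ = pullback.fst f (sepPt Y y) z₂ :=
        congrArg Subtype.val h12
      exact Wt.eq_of_isPullback_of_isPurelyInseparable (IsPullback.of_hasPullback f (sepPt Y y))
        _ (hpi _ (φ z₁).2) z₁ z₂ rfl h12'.symm (Subsingleton.elim _ _)
    · rintro ⟨x, hx⟩
      obtain ⟨z, hz, -⟩ := Scheme.Pullback.exists_preimage_pullback (f := f) (g := sepPt Y y) x
        (closedPoint _) (hx.trans (sepPt_apply Y y _).symm)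
      exact ⟨z, Subtype.ext hz⟩
  exact ENat.card_congr (Equiv.ofBijective φ hφ)

end Groth.Agent.Lib.Helper6.GN
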