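import Mathlib
import Groth.Agent.Lib.Helper6.GN1
import Groth.Agent.Lib.Helper6.AlgClosedTensor

/-!
# Geometric components: field extensions of separably closed fields are geometrically irreducible
-/

set_option autoImplicit false
universe u

open CategoryTheory AlgebraicGeometry Limits IsLocalRing Topology TensorProduct

namespace Groth.Agent.Lib.Helper6.GC

/-- The tensor product of two field extensions of a separably closed field has irreducible
spectrum. -/
theorem irreducibleSpace_tensor_of_isSepClosed (k K L : Type u) [Field k] [IsSepClosed k]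
    [Field K] [Field L] [Algebra k K] [Algebra k L] :
    IrreducibleSpace (PrimeSpectrum (K ⊗[k] L)) := by
  haveI : IsPurelyInseparable k (AlgebraicClosure k) := inferInstance
  have h1 : IsHomeomorph (PrimeSpectrum.comap (algebraMap L (L ⊗[k] AlgebraicClosure k))) :=
    PrimeSpectrum.isHomeomorph_comap_of_isPurelyInseparable k (AlgebraicClosure k) L
  haveI : IrreducibleSpace (PrimeSpectrum L) := inferInstance
  have h2 : IrreducibleSpace (PrimeSpectrum (L ⊗[k] AlgebraicClosure k)) :=
    (h1.homeomorph).irreducibleSpace_iff.mpr inferInstance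
  have h3 : IrreducibleSpace (PrimeSpectrum (AlgebraicClosure k ⊗[k] L)) :=
    (PrimeSpectrum.homeomorphOfRingEquiv
      (Algebra.TensorProduct.comm k (AlgebraicClosure k) L).toRingEquiv).irreducibleSpace_iff.mpr h2
  exact irreducibleSpace_of_irreducibleSpace_algClosure (Kbar := AlgebraicClosure k) h3 K

/-- A field extension of a separably closed field is geometrically irreducible. -/
theorem geometricallyIrreducible_SpecMap {k K : Type u} [Field k] [IsSepClosed k] [Field K]
    (φ : CommRingCat.of k ⟶ CommRingCat.of K) : GeometricallyIrreducible (Spec.map φ) := by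
  refine ⟨fun L _ y Z fst snd h => ?_⟩
  obtain ⟨ψ, rfl⟩ := Spec.map_surjective y
  letI := φ.hom.toAlgebra
  letI := ψ.hom.toAlgebra
  have e1 : Z ≅ pullback (Spec.map φ) (Spec.map ψ) := h.isoPullback
  have e2 : pullback (Spec.map φ) (Spec.map ψ) ≅ Spec (.of (K ⊗[k] L)) := pullbackSpecIso k K L
  haveI : IrreducibleSpace ↥(Spec (.of (K ⊗[k] L))) :=
    irreducibleSpace_tensor_of_isSepClosed k K L
  exact (Scheme.homeoOfIso (e1 ≪≫ e2)).irreducibleSpace_iff.mpr inferInstance

end Groth.Agent.Lib.Helper6.GC
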