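import Mathlib

/-!
# The fibre degree of a morphism with finite flat fibres
-/

set_option autoImplicit false
universe u

open CategoryTheory AlgebraicGeometry Limits IsLocalRing Topology

namespace Groth.Agent.Lib.Helper6.FD

/-- The degree of the fibre of `f` over `s`. -/
noncomputable def fdeg {X S : Scheme.{u}} (f : X ⟶ S) (s : S) : ℕ :=
  (f.fiberToSpecResidueField s).finrank (closedPoint (S.residueField s))

/-- All fibres of `f` are finite over the residue field. -/
def FinFib {X S : Scheme.{u}} (f : X ⟶ S) : Prop :=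
  ∀ s : S, IsFinite (f.fiberToSpecResidueField s)

theorem FinFib.of_quasiCompact {X S : Scheme.{u}} (f : X ⟶ S) [LocallyQuasiFinite f]
    [QuasiCompact f] : FinFib f := fun _ => inferInstance

theorem pullback_snd_comp_eq {X S Z W : Scheme.{u}} (f : X ⟶ S) (ξ : Z ⟶ S) (c : W ⟶ Z) :
    pullback.snd f (c ≫ ξ) =
      (pullbackLeftPullbackSndIso f ξ c).inv ≫ pullback.snd (pullback.snd f ξ) c := by
  rw [Iso.eq_inv_comp, pullbackLeftPullbackSndIso_hom_snd]

theorem isFinite_snd_comp {X S Z W : Scheme.{u}} (f : X ⟶ S) (ξ : Z ⟶ S) (c : W ⟶ Z)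
    [IsFinite (pullback.snd f ξ)] : IsFinite (pullback.snd f (c ≫ ξ)) := by
  rw [pullback_snd_comp_eq]
  infer_instance

theorem finrank_snd_comp {X S Z W : Scheme.{u}} (f : X ⟶ S) (ξ : Z ⟶ S) (c : W ⟶ Z)
    [IsFinite (pullback.snd f ξ)] [Flat (pullback.snd f ξ)] (w : W) :
    (pullback.snd f (c ≫ ξ)).finrank w = (pullback.snd f ξ).finrank (c w) := by
  rw [pullback_snd_comp_eq, Scheme.Hom.finrank_comp_left_of_isIso,
    Scheme.Hom.finrank_pullback_snd]

theorem exists_factor_residueField {S : Scheme.{u}} {K : Type u} [Field K]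
    (ξ : Spec (CommRingCat.of K) ⟶ S) :
    ∃ (s : S) (c : Spec (CommRingCat.of K) ⟶ Spec (S.residueField s)),
      ξ = c ≫ S.fromSpecResidueField s :=
  ⟨_, _, (Scheme.descResidueField_stalkClosedPointTo_fromSpecResidueField K S ξ).symm⟩

theorem FinFib.isFinite_snd {X S : Scheme.{u}} {f : X ⟶ S} (hf : FinFib f) {K : Type u} [Field K]
    (ξ : Spec (CommRingCat.of K) ⟶ S) : IsFinite (pullback.snd f ξ) := by
  obtain ⟨s, c, rfl⟩ := exists_factor_residueField ξ
  haveI : IsFinite (pullback.snd f (S.fromSpecResidueField s)) := hf s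
  exact isFinite_snd_comp f _ c

theorem finrank_field_eq_fdeg {X S : Scheme.{u}} {f : X ⟶ S} (hf : FinFib f) [Flat f]
    {K : Type u} [Field K] (ξ : Spec (CommRingCat.of K) ⟶ S) (pt : Spec (CommRingCat.of K)) :
    (pullback.snd f ξ).finrank pt = fdeg f (ξ pt) := by
  obtain ⟨s, c, rfl⟩ := exists_factor_residueField ξ
  haveI : IsFinite (pullback.snd f (S.fromSpecResidueField s)) := hf s
  rw [finrank_snd_comp, Scheme.Hom.comp_apply, Scheme.fromSpecResidueField_apply]
  unfold fdeg
  congr 1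
  exact Subsingleton.elim _ _

theorem FinFib.pullback_snd {X S Z : Scheme.{u}} {f : X ⟶ S} (hf : FinFib f) (ξ : Z ⟶ S) :
    FinFib (pullback.snd f ξ) := by
  intro z
  change IsFinite (pullback.snd (pullback.snd f ξ) (Z.fromSpecResidueField z))
  have h1 : pullback.snd (pullback.snd f ξ) (Z.fromSpecResidueField z) =
      (pullbackLeftPullbackSndIso f ξ (Z.fromSpecResidueField z)).hom ≫
        pullback.snd f (Z.fromSpecResidueField z ≫ ξ) := by
    rw [pullbackLeftPullbackSndIso_hom_snd]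
  rw [h1]
  haveI : IsFinite (pullback.snd f (Z.fromSpecResidueField z ≫ ξ)) := by
    rw [← Scheme.Hom.SpecMap_residueFieldMap_fromSpecResidueField]
    haveI : IsFinite (pullback.snd f (S.fromSpecResidueField (ξ z))) := hf _
    exact isFinite_snd_comp f _ _
  infer_instance

theorem finrank_snd_of_eq {X S Z W : Scheme.{u}} (f : X ⟶ S) (ξ : Z ⟶ S) (c : W ⟶ Z)
    (η : W ⟶ S) (h : η = c ≫ ξ)
    [IsFinite (pullback.snd f ξ)] [Flat (pullback.snd f ξ)] (w : W) :
    (pullback.snd f η).finrank w = (pullback.snd f ξ).finrank (c w) := by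
  subst h
  exact finrank_snd_comp f ξ c w

theorem isFinite_snd_of_eq {X S Z W : Scheme.{u}} (f : X ⟶ S) (ξ : Z ⟶ S) (c : W ⟶ Z)
    (η : W ⟶ S) (h : η = c ≫ ξ) [IsFinite (pullback.snd f ξ)] : IsFinite (pullback.snd f η) := by
  subst h
  exact isFinite_snd_comp f ξ c

theorem fdeg_pullback_snd {X S Z : Scheme.{u}} {f : X ⟶ S} (hf : FinFib f) [Flat f]
    (ξ : Z ⟶ S) (z : Z) : fdeg (pullback.snd f ξ) z = fdeg f (ξ z) := by
  have h1 : pullback.snd (pullback.snd f ξ) (Z.fromSpecResidueField z) =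
      (pullbackLeftPullbackSndIso f ξ (Z.fromSpecResidueField z)).hom ≫
        pullback.snd f (Z.fromSpecResidueField z ≫ ξ) := by
    rw [pullbackLeftPullbackSndIso_hom_snd]
  haveI : IsFinite (pullback.snd f (S.fromSpecResidueField (ξ z))) := hf _
  have h0 : Z.fromSpecResidueField z ≫ ξ =
      Spec.map (ξ.residueFieldMap z) ≫ S.fromSpecResidueField (ξ z) :=
    (Scheme.Hom.SpecMap_residueFieldMap_fromSpecResidueField ξ z).symm
  haveI : IsFinite (pullback.snd f (Z.fromSpecResidueField z ≫ ξ)) :=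
    isFinite_snd_of_eq f _ _ _ h0
  change (pullback.snd (pullback.snd f ξ) (Z.fromSpecResidueField z)).finrank _ = _
  rw [h1, Scheme.Hom.finrank_comp_left_of_isIso, finrank_snd_of_eq f _ _ _ h0]
  unfold fdeg
  congr 1
  exact Subsingleton.elim _ _

theorem fdeg_comp_left_of_isIso {X X' S : Scheme.{u}} (e : X' ⟶ X) [IsIso e] (f : X ⟶ S)
    [Flat f] (hf : FinFib f) (s : S) : fdeg (e ≫ f) s = fdeg f s := by
  haveI : IsFinite (pullback.snd f (S.fromSpecResidueField s)) := hf s
  unfold fdeg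
  change (pullback.snd (e ≫ f) (S.fromSpecResidueField s)).finrank _ =
    (pullback.snd f (S.fromSpecResidueField s)).finrank _
  have h1 : pullback.snd (e ≫ f) (S.fromSpecResidueField s) =
      (pullbackRightPullbackFstIso f (S.fromSpecResidueField s) e).inv ≫
        pullback.snd e (pullback.fst f (S.fromSpecResidueField s)) ≫
          pullback.snd f (S.fromSpecResidueField s) := by
    rw [Iso.eq_inv_comp, pullbackRightPullbackFstIso_hom_snd]
  rw [h1, Scheme.Hom.finrank_comp_left_of_isIso, Scheme.Hom.finrank_comp_left_of_isIso]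

theorem fdeg_of_isPullback {X S X' S' : Scheme.{u}} {f : X ⟶ S} (hf : FinFib f) [Flat f]
    {f' : X' ⟶ S'} {g' : X' ⟶ X} {g : S' ⟶ S} (h : IsPullback g' f' f g) (s' : S') :
    fdeg f' s' = fdeg f (g s') := by
  rw [← fdeg_pullback_snd hf g s']
  have : f' = h.isoPullback.hom ≫ pullback.snd f g := by simp
  rw [this]
  exact fdeg_comp_left_of_isIso _ _ (hf.pullback_snd g) s'

theorem fdeg_eq_finrank {X S : Scheme.{u}} (f : X ⟶ S) [IsFinite f] [Flat f] (s : S) :
    fdeg f s = f.finrank s := by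
  unfold fdeg
  change (pullback.snd f (S.fromSpecResidueField s)).finrank _ = _
  rw [Scheme.Hom.finrank_pullback_snd, Scheme.fromSpecResidueField_apply]

end Groth.Agent.Lib.Helper6.FD
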