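import Mathlib
import Groth.Agent.Lib.Helper6.FD1

/-!
# The rank of a finite scheme over a field, and strict monotonicity for closed subschemes
-/

set_option autoImplicit false
universe u

open CategoryTheory AlgebraicGeometry Limits IsLocalRing Topology

namespace Groth.Agent.Lib.Helper6.FD

/-- The structure ring map of a scheme over `Spec K`. -/
noncomputable abbrev strMap {Q : Scheme.{u}} {K : Type u} [Field K]
    (q : Q ⟶ Spec (CommRingCat.of K)) : CommRingCat.of K ⟶ Γ(Q, ⊤) :=
  (Scheme.ΓSpecIso (CommRingCat.of K)).inv ≫ q.appTop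

theorem eq_isoSpec_hom_comp {Q : Scheme.{u}} {K : Type u} [Field K] [IsAffine Q]
    (q : Q ⟶ Spec (CommRingCat.of K)) : q = Q.isoSpec.hom ≫ Spec.map (strMap q) := by
  unfold strMap
  rw [Spec.map_comp, ← Category.assoc, Scheme.isoSpec_hom_naturality, Category.assoc,
    Scheme.isoSpec_Spec_hom, ← Spec.map_comp, Iso.inv_hom_id, Spec.map_id, Category.comp_id]

instance flat_of_field {Q : Scheme.{u}} {K : Type u} [Field K]
    (q : Q ⟶ Spec (CommRingCat.of K)) : Flat q := inferInstance

/-- The rank of a finite scheme over a field is the dimension of its ring of functions. -/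
theorem finrank_eq_finrank_Γ {Q : Scheme.{u}} {K : Type u} [Field K]
    (q : Q ⟶ Spec (CommRingCat.of K)) [IsFinite q] (pt : Spec (CommRingCat.of K)) :
    q.finrank pt = (letI := (strMap q).hom.toAlgebra; Module.finrank K Γ(Q, ⊤)) := by
  haveI : IsAffine Q := isAffine_of_isAffineHom q
  have hq : q = Q.isoSpec.hom ≫ Spec.map (strMap q) := eq_isoSpec_hom_comp q
  haveI : IsFinite (Spec.map (strMap q)) := by
    have : Spec.map (strMap q) = Q.isoSpec.inv ≫ q := by
      rw [Iso.eq_inv_comp]; exact hq.symm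
    rw [this]; infer_instance
  have h1 : q.finrank pt = (Spec.map (strMap q)).finrank pt := by
    conv_lhs => rw [hq]
    rw [Scheme.Hom.finrank_comp_left_of_isIso]
  have hfin : (strMap q).hom.Finite := (IsFinite.SpecMap_iff (strMap q)).mp inferInstance
  have hflat : (strMap q).hom.Flat := (Flat.SpecMap_iff).mp inferInstance
  rw [h1, Scheme.Hom.finrank_SpecMap_eq_finrank hfin hflat]
  unfold RingHom.finrank
  algebraize [(strMap q).hom]
  rw [Module.rankAtStalk_eq_finrank_of_free]
  rfl

theorem module_finite_Γ {Q : Scheme.{u}} {K : Type u} [Field K]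
    (q : Q ⟶ Spec (CommRingCat.of K)) [IsFinite q] :
    (letI := (strMap q).hom.toAlgebra; Module.Finite K Γ(Q, ⊤)) := by
  haveI : IsAffine Q := isAffine_of_isAffineHom q
  have hq : q = Q.isoSpec.hom ≫ Spec.map (strMap q) := eq_isoSpec_hom_comp q
  haveI : IsFinite (Spec.map (strMap q)) := by
    have : Spec.map (strMap q) = Q.isoSpec.inv ≫ q := by
      rw [Iso.eq_inv_comp]; exact hq.symm
    rw [this]; infer_instance
  have hfin : (strMap q).hom.Finite := (IsFinite.SpecMap_iff (strMap q)).mp inferInstance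
  exact hfin

/-- A proper closed subscheme of a finite scheme over a field has strictly smaller rank. -/
theorem finrank_lt_of_isClosedImmersion {Q U : Scheme.{u}} {K : Type u} [Field K]
    (q : Q ⟶ Spec (CommRingCat.of K)) [IsFinite q] (j : U ⟶ Q) [IsClosedImmersion j]
    (hj : ¬ IsIso j) (pt : Spec (CommRingCat.of K)) :
    (j ≫ q).finrank pt < q.finrank pt := by
  haveI : IsAffine Q := isAffine_of_isAffineHom q
  obtain ⟨hU, hsurj⟩ := IsClosedImmersion.isAffine_surjective_of_isAffine j
  haveI := hU
  rw [finrank_eq_finrank_Γ q pt, finrank_eq_finrank_Γ (j ≫ q) pt]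
  letI A : Algebra K Γ(Q, ⊤) := (strMap q).hom.toAlgebra
  letI A₁ : Algebra K Γ(U, ⊤) := (strMap (j ≫ q)).hom.toAlgebra
  have hcomp : ∀ k : K, j.appTop.hom (algebraMap K Γ(Q, ⊤) k) = algebraMap K Γ(U, ⊤) k := by
    intro k
    change j.appTop.hom ((strMap q).hom k) = (strMap (j ≫ q)).hom k
    unfold strMap
    rw [Scheme.Hom.comp_appTop]
    rfl
  let ρ : Γ(Q, ⊤) →ₗ[K] Γ(U, ⊤) :=
    { toFun := j.appTop.hom
      map_add' := map_add _
      map_smul' := fun k x => by
        rw [Algebra.smul_def, map_mul, hcomp, ← Algebra.smul_def]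
        rfl }
  haveI : Module.Finite K Γ(Q, ⊤) := module_finite_Γ q
  haveI : Module.Finite K Γ(U, ⊤) := module_finite_Γ (j ≫ q)
  have hρs : Function.Surjective ρ := hsurj
  by_contra hge
  push Not at hge
  have hle : Module.finrank K Γ(U, ⊤) ≤ Module.finrank K Γ(Q, ⊤) :=
    LinearMap.finrank_le_finrank_of_surjective hρs
  have heq : Module.finrank K Γ(Q, ⊤) = Module.finrank K Γ(U, ⊤) := le_antisymm hge hle
  have hinj : Function.Injective ρ :=
    (LinearMap.injective_iff_surjective_of_finrank_eq_finrank heq).mpr hρs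
  apply hj
  have hbij : Function.Bijective j.appTop.hom := ⟨hinj, hsurj⟩
  haveI : IsIso j.appTop := (ConcreteCategory.isIso_iff_bijective _).mpr hbij
  exact (HasAffineProperty.iff_of_isAffine (P := MorphismProperty.isomorphisms Scheme)).mpr
    ⟨hU, inferInstance⟩

end Groth.Agent.Lib.Helper6.FD
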