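import Mathlib
import Groth.Agent.Lib.Helper6.FD2

/-!
# The fibre degree of a clopen part
-/

set_option autoImplicit false
universe u

open CategoryTheory AlgebraicGeometry Limits IsLocalRing Topology

namespace Groth.Agent.Lib.Helper6.FD

section

variable {P V : Scheme.{u}} (p : P ⟶ V) (W : P.Opens) (v : V)

/-- The inclusion of the part of the fibre lying in `W`. -/
noncomputable abbrev fibInc : pullback W.ι (pullback.fst p (V.fromSpecResidueField v)) ⟶
    pullback p (V.fromSpecResidueField v) :=
  pullback.snd W.ι (pullback.fst p (V.fromSpecResidueField v))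

theorem range_fibInc : Set.range (fibInc p W v) =
    (pullback.fst p (V.fromSpecResidueField v)) ⁻¹' (W : Set P) := by
  unfold fibInc
  rw [Scheme.Pullback.range_snd, Scheme.Opens.range_ι]

theorem isClosedImmersion_fibInc (hW : IsClosed (W : Set P)) :
    IsClosedImmersion (fibInc p W v) := by
  refine IsClosedImmersion.of_isPreimmersion _ ?_
  rw [range_fibInc]
  exact hW.preimage (pullback.fst p (V.fromSpecResidueField v)).continuous

theorem snd_eq_fibInc :
    pullback.snd (W.ι ≫ p) (V.fromSpecResidueField v) =
      (pullbackRightPullbackFstIso p (V.fromSpecResidueField v) W.ι).inv ≫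
        fibInc p W v ≫ pullback.snd p (V.fromSpecResidueField v) := by
  rw [Iso.eq_inv_comp, pullbackRightPullbackFstIso_hom_snd]

theorem finFib_clopen (hp : FinFib p) (hW : IsClosed (W : Set P)) : FinFib (W.ι ≫ p) := by
  intro v
  change IsFinite (pullback.snd (W.ι ≫ p) (V.fromSpecResidueField v))
  rw [snd_eq_fibInc]
  haveI := isClosedImmersion_fibInc p W v hW
  haveI : IsFinite (pullback.snd p (V.fromSpecResidueField v)) := hp v
  infer_instance

theorem fdeg_clopen_eq (hp : FinFib p) (hW : IsClosed (W : Set P)) :
    fdeg (W.ι ≫ p) v = (fibInc p W v ≫ pullback.snd p (V.fromSpecResidueField v)).finrank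
      (closedPoint (V.residueField v)) := by
  haveI := isClosedImmersion_fibInc p W v hW
  haveI : IsFinite (pullback.snd p (V.fromSpecResidueField v)) := hp v
  unfold fdeg
  change (pullback.snd (W.ι ≫ p) (V.fromSpecResidueField v)).finrank _ = _
  rw [snd_eq_fibInc, Scheme.Hom.finrank_comp_left_of_isIso]

/-- If the fibre over `v` lies in `W`, the degree is that of `W`. -/
theorem fdeg_clopen_of_subset (hp : FinFib p) (hW : IsClosed (W : Set P))
    (hv : p ⁻¹' {v} ⊆ (W : Set P)) : fdeg (W.ι ≫ p) v = fdeg p v := by
  haveI : IsFinite (pullback.snd p (V.fromSpecResidueField v)) := hp v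
  rw [fdeg_clopen_eq p W v hp hW]
  haveI : IsIso (fibInc p W v) := by
    rw [isIso_iff_isOpenImmersion_and_surjective]
    refine ⟨inferInstance, ⟨?_⟩⟩
    rw [← Set.range_eq_univ, range_fibInc, Set.eq_univ_iff_forall]
    intro x
    apply hv
    change p (pullback.fst p (V.fromSpecResidueField v) x) = v
    rw [← Scheme.Hom.comp_apply, pullback.condition, Scheme.Hom.comp_apply,
      Scheme.fromSpecResidueField_apply]
  rw [Scheme.Hom.finrank_comp_left_of_isIso]
  rfl

/-- If the fibre over `v` does not lie in `W`, the degree is bigger than that of `W`. -/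
theorem fdeg_clopen_lt (hp : FinFib p) (hW : IsClosed (W : Set P))
    (x : P) (hx : p x = v) (hxW : x ∉ W) : fdeg (W.ι ≫ p) v < fdeg p v := by
  haveI : IsFinite (pullback.snd p (V.fromSpecResidueField v)) := hp v
  rw [fdeg_clopen_eq p W v hp hW]
  haveI := isClosedImmersion_fibInc p W v hW
  refine finrank_lt_of_isClosedImmersion (K := V.residueField v)
    (pullback.snd p (V.fromSpecResidueField v)) (fibInc p W v) ?_ _
  intro hiso
  have hsurj : Function.Surjective (fibInc p W v) :=
    ((isIso_iff_isOpenImmersion_and_surjective _).mp hiso).2.1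
  obtain ⟨x', hx'1, -⟩ := Scheme.Pullback.exists_preimage_pullback (f := p)
    (g := V.fromSpecResidueField v) x (closedPoint (V.residueField v))
    (by rw [hx, Scheme.fromSpecResidueField_apply])
  have : x' ∈ Set.range (fibInc p W v) := hsurj x'
  rw [range_fibInc] at this
  apply hxW
  have h2 : pullback.fst p (V.fromSpecResidueField v) x' ∈ (W : Set P) := this
  rwa [hx'1] at h2

end

end Groth.Agent.Lib.Helper6.FD
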