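import Mathlib
import Groth.Agent.Lib.Helper6.GN1
import Groth.Prelude.Def_EGA43

/-!
# The geometric number of points of a separated quasi-finite morphism at points where it is
universally open (EGA IV 15.5.9)
-/

set_option autoImplicit false
universe u

open CategoryTheory AlgebraicGeometry Limits IsLocalRing Topology

namespace Groth.Agent.Lib.Helper6.GN

set_option maxHeartbeats 1600000 in
/-- The key local statement. -/
theorem exists_etale_nbhd_of_isUnivOpenAt {X Y : Scheme.{u}} (f : X ⟶ Y)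
    [LocallyOfFiniteType f] [IsSeparated f] [LocallyQuasiFinite f] [QuasiCompact f]
    (y : Y) (hopenAt : ∀ x : X, f x = y → EGA43.IsUnivOpenAt f x) :
    ∃ (V : Scheme.{u}) (a : V ⟶ Y) (v₀ : V) (N₁ : V.Opens), Etale a ∧ a v₀ = y ∧ v₀ ∈ N₁ ∧
      (∀ v ∈ N₁, MoreMor.nGeomConnComp f y ≤ MoreMor.nGeomConnComp f (a v)) ∧
      (∀ NV : V.Opens, NV ≤ N₁ →
        (∀ v ∈ NV, MoreMor.nGeomConnComp f (a v) = MoreMor.nGeomConnComp f y) →
        IsFinite (pullback.snd f a ∣_ NV)) := by
  classical
  have hfin : ∀ y : Y, (f ⁻¹' {y}).Finite := fun y => f.finite_preimage_singleton y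
  obtain ⟨V, a, v₀, hEt, hav₀, κ, hκ, D, z, hD, -, hdisj, hcov⟩ :=
    Wt.exists_etale_nbhd_fibre f hfin y
  haveI := hEt
  haveI := hκ
  haveI : ∀ k, IsFinite ((D k).ι ≫ pullback.snd f a) := fun k => (hD k).2.1
  have hsq : IsPullback (pullback.fst f a) (pullback.snd f a) f a :=
    IsPullback.of_hasPullback f a
  have hfin' : ∀ v : V, ((pullback.snd f a) ⁻¹' {v}).Finite := fun v =>
    Wt.finite_preimage_singleton_of_isPullback hsq hfin v
  -- the number of geometric points at `y`
  have hny : MoreMor.nGeomConnComp f y = (Fintype.card κ : ℕ∞) := by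
    rw [← hav₀, ← nGeomConnComp_baseChange hsq v₀]
    rw [nGeomConnComp_eq_card_fibre (pullback.snd f a) v₀ (fun x hx => by
      obtain ⟨k, rfl⟩ := hcov x hx
      exact (hD k).2.2.2.2)]
    have hbij : Function.Bijective (fun k : κ =>
        (⟨z k, (hD k).2.2.1⟩ : ((pullback.snd f a) ⁻¹' {v₀}))) := by
      constructor
      · intro k l hkl
        by_contra hne
        have h1 : z k ∈ (D k : Set ↑(pullback f a)) := (hD k).1
        have h2 : z k ∈ (D l : Set ↑(pullback f a)) := by
          have : z k = z l := congrArg Subtype.val hkl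
          rw [this]
          exact (hD l).1
        exact Set.disjoint_left.mp (hdisj hne) h1 h2
      · rintro ⟨x, hx⟩
        obtain ⟨k, rfl⟩ := hcov x hx
        exact ⟨k, rfl⟩
    rw [← ENat.card_congr (Equiv.ofBijective _ hbij), ENat.card_eq_coe_fintype_card]
  -- the images of the pieces are open
  have hnhds : ∀ k, (pullback.snd f a) '' (D k : Set ↑(pullback f a)) ∈ nhds v₀ := fun k => by
    have hfz : f (pullback.fst f a (z k)) = y := by
      rw [← Scheme.Hom.comp_apply, pullback.condition, Scheme.Hom.comp_apply, (hD k).2.2.1, hav₀]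
    have h1 := hopenAt _ hfz V a (z k) rfl (D k : Set ↑(pullback f a))
      ((D k).isOpen.mem_nhds (hD k).1)
    have h2 : (pullback.snd f a).base (z k) = v₀ := (hD k).2.2.1
    rw [h2] at h1
    exact h1
  let N₁ : V.Opens := ⟨⋂ k, interior ((pullback.snd f a) '' (D k : Set ↑(pullback f a))),
    isOpen_iInter_of_finite fun k => isOpen_interior⟩
  have hv₀N : v₀ ∈ N₁ := Set.mem_iInter.mpr fun k => mem_interior_iff_mem_nhds.mpr (hnhds k)
  -- lower bound for the number of points of the fibres over `N₁`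
  have hlow : ∀ v ∈ N₁, ∀ (S : Set ↑(pullback f a)), S ⊆ (pullback.snd f a) ⁻¹' {v} →
      (∀ k, Disjoint S (D k : Set ↑(pullback f a))) →
      (Fintype.card κ : ℕ∞) + S.encard ≤ MoreMor.nGeomConnComp f (a v) := by
    intro v hv S hS hSD
    rw [← nGeomConnComp_baseChange hsq v]
    refine le_trans ?_ (card_fibre_le_nGeomConnComp (pullback.snd f a) v)
    have hv' : ∀ k, ∃ x, x ∈ (D k : Set ↑(pullback f a)) ∧ pullback.snd f a x = v :=
      fun k => (interior_subset (Set.mem_iInter.mp hv k) :
        v ∈ (pullback.snd f a) '' (D k : Set ↑(pullback f a)))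
    choose ζ hζD hζv using hv'
    have hζinj : Function.Injective ζ := by
      intro k l hkl
      by_contra hne
      have h2 : ζ k ∈ (D l : Set ↑(pullback f a)) := by
        rw [hkl]
        exact hζD l
      exact Set.disjoint_left.mp (hdisj hne) (hζD k) h2
    have hdisj2 : Disjoint (Set.range ζ) S := by
      rw [Set.disjoint_left]
      rintro _ ⟨k, rfl⟩ hS'
      exact Set.disjoint_left.mp (hSD k) hS' (hζD k)
    have hsub : Set.range ζ ∪ S ⊆ (pullback.snd f a) ⁻¹' {v} := by
      rintro x (⟨k, rfl⟩ | hx)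
      · exact hζv k
      · exact hS hx
    calc (Fintype.card κ : ℕ∞) + S.encard = (Set.range ζ).encard + S.encard := by
          rw [← Set.image_univ, hζinj.encard_image, Set.encard_univ,
            ENat.card_eq_coe_fintype_card]
      _ = (Set.range ζ ∪ S).encard := (Set.encard_union_eq hdisj2).symm
      _ ≤ ((pullback.snd f a) ⁻¹' {v}).encard := Set.encard_le_encard hsub
      _ = ENat.card ((pullback.snd f a) ⁻¹' {v}) := rfl
  refine ⟨V, a, v₀, N₁, hEt, hav₀, hv₀N, fun v hv => ?_, fun NV hNV hconst => ?_⟩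
  · rw [hny]
    have := hlow v hv ∅ (Set.empty_subset _) (fun k => Set.empty_disjoint _)
    rwa [Set.encard_empty, add_zero] at this
  · -- over `NV` everything lies in the union of the `D k`
    have hcover : ∀ x : ↑(pullback f a), pullback.snd f a x ∈ NV → ∃ k, x ∈ D k := by
      intro x hx
      by_contra hcon
      push Not at hcon
      have := hlow _ (hNV hx) {x} (by simp) (fun k => by
        rw [Set.disjoint_left]
        rintro x' (rfl : x' = x) hx'
        exact hcon k hx')
      rw [hconst _ hx, hny, Set.encard_singleton] at this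
      have h2 : ((Fintype.card κ + 1 : ℕ) : ℕ∞) ≤ (Fintype.card κ : ℕ) := by
        exact_mod_cast this
      have h3 : Fintype.card κ + 1 ≤ Fintype.card κ := by exact_mod_cast h2
      omega
    have hres : IsPullback (pullback.snd f a ⁻¹ᵁ NV).ι (pullback.snd f a ∣_ NV)
        (pullback.snd f a) NV.ι := (isPullback_morphismRestrict (pullback.snd f a) NV).flip
    haveI hUfin : IsFinite ((⨆ k, D k).ι ≫ pullback.snd f a) :=
      EtLoc.isFinite_iSup_of_pairwise_disjoint _ D (fun k l hkl => by
        change Disjoint (D k) (D l)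
        rw [disjoint_iff]
        ext x
        have := hdisj hkl
        change Disjoint (D k : Set ↑(pullback f a)) (D l) at this
        rw [Set.disjoint_left] at this
        simp only [TopologicalSpace.Opens.coe_inf, Set.mem_inter_iff, SetLike.mem_coe,
          TopologicalSpace.Opens.coe_bot, Set.mem_empty_iff_false, iff_false, not_and]
        exact fun h1 h2 => this h1 h2) inferInstance
    have htop : (pullback.snd f a ⁻¹ᵁ NV).ι ⁻¹ᵁ (⨆ k, D k) = ⊤ := by
      ext x
      simp only [TopologicalSpace.Opens.coe_top, Set.mem_univ, iff_true]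
      have hx : pullback.snd f a ((pullback.snd f a ⁻¹ᵁ NV).ι x) ∈ NV := by
        have : (pullback.snd f a ⁻¹ᵁ NV).ι x ∈ Set.range (pullback.snd f a ⁻¹ᵁ NV).ι := ⟨_, rfl⟩
        rw [Scheme.Opens.range_ι] at this
        exact this
      obtain ⟨k, hk⟩ := hcover _ hx
      change (pullback.snd f a ⁻¹ᵁ NV).ι x ∈ (⨆ k, D k : (pullback f a).Opens)
      exact (le_iSup D k) hk
    have h1 := Wt.isFinite_preimage hres (⨆ k, D k)
    rw [htop] at h1
    exact (MorphismProperty.cancel_left_of_respectsIso @IsFinite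
      (Scheme.topIso _).hom (pullback.snd f a ∣_ NV)).mp h1

theorem isUnivOpenAt_of_universallyOpen {X Y : Scheme.{u}} (f : X ⟶ Y) [UniversallyOpen f]
    (x : X) : EGA43.IsUnivOpenAt f x := by
  intro Y' g x' _ U hU
  exact (pullback.snd f g).isOpenMap.image_mem_nhds hU

/-- Lower semicontinuity of the geometric number of points at a point where `f` is universally
open along the fibre. -/
theorem exists_nhds_le {X Y : Scheme.{u}} (f : X ⟶ Y)
    [LocallyOfFiniteType f] [IsSeparated f] [LocallyQuasiFinite f] [QuasiCompact f]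
    (y : Y) (hopenAt : ∀ x : X, f x = y → EGA43.IsUnivOpenAt f x) :
    ∃ V ∈ nhds y, ∀ z ∈ V, MoreMor.nGeomConnComp f y ≤ MoreMor.nGeomConnComp f z := by
  obtain ⟨V, a, v₀, N₁, hEt, hav₀, hv₀N, hge, -⟩ := exists_etale_nbhd_of_isUnivOpenAt f y hopenAt
  haveI := hEt
  have hopen : IsOpen (a '' (N₁ : Set V)) := a.isOpenMap _ N₁.isOpen
  have hmem : y ∈ a '' (N₁ : Set V) := ⟨v₀, hv₀N, hav₀⟩
  refine ⟨_, hopen.mem_nhds hmem, ?_⟩
  rintro _ ⟨v, hv, rfl⟩
  exact hge v hv

set_option maxHeartbeats 1600000 in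
/-- If moreover the geometric number of points is constant near `y₀`, then `f` is finite over a
neighbourhood of `y₀`. -/
theorem exists_isFinite_restrict {X Y : Scheme.{u}} (f : X ⟶ Y)
    [LocallyOfFiniteType f] [IsSeparated f] [LocallyQuasiFinite f] [QuasiCompact f]
    (y₀ : Y) (hopenAt : ∀ x : X, f x = y₀ → EGA43.IsUnivOpenAt f x)
    (hconst : ∃ V ∈ nhds y₀, ∀ z ∈ V, MoreMor.nGeomConnComp f z = MoreMor.nGeomConnComp f y₀) :
    ∃ U : Y.Opens, y₀ ∈ U ∧ IsFinite (f ∣_ U) := by
  classical
  obtain ⟨M, hM, hMc⟩ := hconst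
  obtain ⟨V, a, v₀, N₁, hEt, hav₀, hv₀N, -, hfinite⟩ :=
    exists_etale_nbhd_of_isUnivOpenAt f y₀ hopenAt
  haveI := hEt
  let NV : V.Opens := ⟨(N₁ : Set V) ∩ a ⁻¹' (interior M),
    N₁.isOpen.inter (isOpen_interior.preimage a.continuous)⟩
  have hv₀NV : v₀ ∈ NV := ⟨hv₀N, by
    change a v₀ ∈ interior M
    rw [hav₀]
    exact mem_interior_iff_mem_nhds.mpr hM⟩
  have hfinN : IsFinite (pullback.snd f a ∣_ NV) :=
    hfinite NV (fun v hv => hv.1) (fun v hv => hMc _ (interior_subset hv.2))
  let U : Y.Opens := ⟨a '' (NV : Set V), a.isOpenMap _ NV.isOpen⟩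
  have hy₀U : y₀ ∈ U := ⟨v₀, hv₀NV, hav₀⟩
  refine ⟨U, hy₀U, ?_⟩
  haveI : IsSeparated (f ∣_ U) :=
    IsZariskiLocalAtTarget.restrict (P := @IsSeparated) inferInstance U
  haveI : LocallyOfFiniteType (f ∣_ U) :=
    IsZariskiLocalAtTarget.restrict (P := @LocallyOfFiniteType) inferInstance U
  haveI : LocallyQuasiFinite (f ∣_ U) :=
    IsZariskiLocalAtTarget.restrict (P := @LocallyQuasiFinite) inferInstance U
  have hrange : Set.range (NV.ι ≫ a) ⊆ Set.range U.ι := by
    rw [Scheme.Opens.range_ι]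
    rintro _ ⟨n, rfl⟩
    have : NV.ι n ∈ Set.range NV.ι := ⟨_, rfl⟩
    rw [Scheme.Opens.range_ι] at this
    exact ⟨NV.ι n, this, rfl⟩
  let e : NV.toScheme ⟶ U.toScheme := IsOpenImmersion.lift U.ι (NV.ι ≫ a) hrange
  have he : e ≫ U.ι = NV.ι ≫ a := IsOpenImmersion.lift_fac _ _ _
  haveI : Etale e := by
    refine MorphismProperty.of_postcomp (W := @Etale) (W' := @IsOpenImmersion) e U.ι
      inferInstance ?_
    rw [he]; infer_instance
  haveI : UniversallyClosed (f ∣_ U) := by
    refine Wt.universallyClosed_of_etale_nbhds _ fun y' => ?_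
    refine ⟨NV.toScheme, e, inferInstance, ?_, ?_⟩
    · have hy'U : U.ι y' ∈ U := by
        have : U.ι y' ∈ Set.range U.ι := ⟨_, rfl⟩
        rwa [Scheme.Opens.range_ι] at this
      obtain ⟨v, hv, hv'⟩ := hy'U
      obtain ⟨n, hn⟩ : v ∈ Set.range NV.ι := by
        rw [Scheme.Opens.range_ι]; exact hv
      refine ⟨n, U.ι.isOpenEmbedding.injective ?_⟩
      rw [← Scheme.Hom.comp_apply, he, Scheme.Hom.comp_apply, hn, hv']
    · have hsq : IsPullback (pullback.fst f a) (pullback.snd f a) f a :=
        IsPullback.of_hasPullback f a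
      have hres : IsPullback (pullback.snd f a ⁻¹ᵁ NV).ι (pullback.snd f a ∣_ NV)
          (pullback.snd f a) NV.ι := (isPullback_morphismRestrict (pullback.snd f a) NV).flip
      have hA : IsPullback ((pullback.snd f a ⁻¹ᵁ NV).ι ≫ pullback.fst f a)
          (pullback.snd f a ∣_ NV) f (NV.ι ≫ a) := hres.paste_horiz hsq
      have hB : IsPullback (pullback.fst (f ∣_ U) e ≫ (f ⁻¹ᵁ U).ι)
          (pullback.snd (f ∣_ U) e) f (e ≫ U.ι) :=
        (IsPullback.of_hasPullback (f ∣_ U) e).paste_horiz
          (isPullback_morphismRestrict f U).flip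
      rw [he] at hB
      have hiso := hB.isoIsPullback_hom_snd _ _ hA
      rw [← hiso]
      haveI := hfinN
      infer_instance
  rw [IsFinite.iff_isProper_and_locallyQuasiFinite]
  exact ⟨{ }, inferInstance⟩

end Groth.Agent.Lib.Helper6.GN
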