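import Mathlib
import Groth.Agent.Lib.Helper6.FD3
import Groth.Agent.Lib.Helper6.GN3

/-!
# The fibre degree: étale local structure
-/

set_option autoImplicit false
universe u

open CategoryTheory AlgebraicGeometry Limits IsLocalRing Topology

namespace Groth.Agent.Lib.Helper6.FD

set_option maxHeartbeats 1600000 in
/-- The key local statement. -/
theorem exists_etale_nbhd {X S : Scheme.{u}} (f : X ⟶ S) [Flat f]
    [LocallyOfFinitePresentation f] [IsSeparated f] [LocallyQuasiFinite f]
    (hfin : ∀ s : S, (f ⁻¹' {s}).Finite) (hFib : FinFib f) (y : S) :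
    ∃ (V : Scheme.{u}) (a : V ⟶ S) (v₀ : V) (N : V.Opens) (R : (pullback f a).Opens),
      Etale a ∧ a v₀ = y ∧ v₀ ∈ N ∧ IsClosed (R : Set ↑(pullback f a)) ∧
      IsConstructible (R : Set ↑(pullback f a)) ∧
      v₀ ∉ (pullback.snd f a) '' (R : Set ↑(pullback f a)) ∧
      (∀ v ∈ N, v ∉ (pullback.snd f a) '' (R : Set ↑(pullback f a)) →
        fdeg f (a v) = fdeg f y) ∧
      (∀ v ∈ N, v ∈ (pullback.snd f a) '' (R : Set ↑(pullback f a)) →
        fdeg f y < fdeg f (a v)) ∧
      (∀ NV : V.Opens, NV ≤ N →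
        Disjoint (NV : Set V) ((pullback.snd f a) '' (R : Set ↑(pullback f a))) →
        IsFinite (pullback.snd f a ∣_ NV)) := by
  classical
  obtain ⟨V, a, v₀, hEt, hav₀, κ, hκ, D, z, hD, hclopen, hdisj, hcov⟩ :=
    Wt.exists_etale_nbhd_fibre f hfin y
  haveI := hEt
  haveI := hκ
  have hpFib : FinFib (pullback.snd f a) := hFib.pullback_snd a
  haveI : ∀ k, IsFinite ((D k).ι ≫ pullback.snd f a) := fun k => (hD k).2.1
  haveI hWfin : IsFinite ((⨆ k, D k).ι ≫ pullback.snd f a) :=
    EtLoc.isFinite_iSup_of_pairwise_disjoint _ D (fun k l hkl => by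
      change Disjoint (D k) (D l)
      rw [disjoint_iff]
      ext x
      have := hdisj hkl
      change Disjoint (D k : Set ↑(pullback f a)) (D l) at this
      rw [Set.disjoint_left] at this
      simp only [TopologicalSpace.Opens.coe_inf, Set.mem_inter_iff, SetLike.mem_coe,
        TopologicalSpace.Opens.coe_bot, Set.mem_empty_iff_false, iff_false, not_and]
      exact fun h1 h2 => this h1 h2) inferInstance
  have hWcoe : ((⨆ k, D k : (pullback f a).Opens) : Set ↑(pullback f a)) =
      ⋃ k, (D k : Set ↑(pullback f a)) := by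
    simp
  have hWclosed : IsClosed ((⨆ k, D k : (pullback f a).Opens) : Set ↑(pullback f a)) := by
    rw [hWcoe]
    exact isClosed_iUnion_of_finite fun k => (hclopen k).1
  -- constructibility of the pieces
  haveI : ∀ k, QuasiCompact (D k).ι := fun k => QuasiCompact.of_comp (D k).ι (pullback.snd f a)
  have hDc : ∀ k, IsConstructible (D k : Set ↑(pullback f a)) := fun k =>
    (IsRetrocompact_iff_isSpectralMap_subtypeVal.mpr (D k).ι.isSpectralMap).isConstructible
      (D k).isOpen
  let R : (pullback f a).Opens :=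
    ⟨((⨆ k, D k : (pullback f a).Opens) : Set ↑(pullback f a))ᶜ, hWclosed.isOpen_compl⟩
  have hRcoe : (R : Set ↑(pullback f a)) =
      ((⨆ k, D k : (pullback f a).Opens) : Set ↑(pullback f a))ᶜ := rfl
  have hRclosed : IsClosed (R : Set ↑(pullback f a)) := by
    rw [hRcoe]
    exact (⨆ k, D k : (pullback f a).Opens).isOpen.isClosed_compl
  have hRc : IsConstructible (R : Set ↑(pullback f a)) := by
    rw [hRcoe, hWcoe]
    exact (IsConstructible.iUnion hDc).compl
  -- local constancy of the rank of the finite part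
  have hlc := Scheme.Hom.isLocallyConstant_finrank ((⨆ k, D k).ι ≫ pullback.snd f a)
  obtain ⟨N, hNo, hv₀N, hNc⟩ := (IsLocallyConstant.iff_exists_open _).mp hlc v₀
  have key : ∀ v, fdeg f (a v) = fdeg (pullback.snd f a) v := fun v =>
    (fdeg_pullback_snd hFib a v).symm
  have hWrk : ∀ v, fdeg ((⨆ k, D k).ι ≫ pullback.snd f a) v =
      ((⨆ k, D k).ι ≫ pullback.snd f a).finrank v := fun v => fdeg_eq_finrank _ v
  have hsub : ∀ v, v ∉ (pullback.snd f a) '' (R : Set ↑(pullback f a)) →
      (pullback.snd f a) ⁻¹' {v} ⊆ ((⨆ k, D k : (pullback f a).Opens) : Set ↑(pullback f a)) := by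
    intro v hv x hx
    by_contra hxW
    exact hv ⟨x, hxW, hx⟩
  have hv₀R : v₀ ∉ (pullback.snd f a) '' (R : Set ↑(pullback f a)) := by
    rintro ⟨x, hxR, hx⟩
    obtain ⟨k, rfl⟩ := hcov x hx
    apply hxR
    rw [hWcoe]
    exact Set.mem_iUnion.mpr ⟨k, (hD k).1⟩
  have hy : fdeg f y = ((⨆ k, D k).ι ≫ pullback.snd f a).finrank v₀ := by
    rw [← hav₀, key, ← fdeg_clopen_of_subset _ _ _ hpFib hWclosed (hsub v₀ hv₀R), hWrk]
  refine ⟨V, a, v₀, ⟨N, hNo⟩, R, hEt, hav₀, hv₀N, hRclosed, hRc, hv₀R, ?_, ?_, ?_⟩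
  · intro v hvN hvR
    rw [hy, key, ← fdeg_clopen_of_subset _ _ _ hpFib hWclosed (hsub v hvR), hWrk]
    exact hNc v hvN
  · rintro v hvN ⟨x, hxR, hx⟩
    rw [hy, key, ← hNc v hvN, ← hWrk]
    exact fdeg_clopen_lt _ _ _ hpFib hWclosed x hx hxR
  · intro NV hNV hdis
    have hcover : ∀ x : ↑(pullback f a), pullback.snd f a x ∈ NV →
        x ∈ (⨆ k, D k : (pullback f a).Opens) := by
      intro x hx
      by_contra hcon
      exact Set.disjoint_left.mp hdis hx ⟨x, hcon, rfl⟩
    have hres : IsPullback (pullback.snd f a ⁻¹ᵁ NV).ι (pullback.snd f a ∣_ NV)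
        (pullback.snd f a) NV.ι := (isPullback_morphismRestrict (pullback.snd f a) NV).flip
    have htop : (pullback.snd f a ⁻¹ᵁ NV).ι ⁻¹ᵁ (⨆ k, D k) = ⊤ := by
      ext x
      simp only [TopologicalSpace.Opens.coe_top, Set.mem_univ, iff_true]
      have hx : pullback.snd f a ((pullback.snd f a ⁻¹ᵁ NV).ι x) ∈ NV := by
        have : (pullback.snd f a ⁻¹ᵁ NV).ι x ∈ Set.range (pullback.snd f a ⁻¹ᵁ NV).ι := ⟨_, rfl⟩
        rw [Scheme.Opens.range_ι] at this
        exact this
      exact hcover _ hx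
    have h1 := Wt.isFinite_preimage hres (⨆ k, D k)
    rw [htop] at h1
    exact (MorphismProperty.cancel_left_of_respectsIso @IsFinite
      (Scheme.topIso _).hom (pullback.snd f a ∣_ NV)).mp h1

end Groth.Agent.Lib.Helper6.FD
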