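import Mathlib
import Groth.Agent.Lib.Helper6.FD4

/-!
# The fibre degree: semicontinuity and the finiteness criterion
-/

set_option autoImplicit false
universe u

open CategoryTheory AlgebraicGeometry Limits IsLocalRing Topology

namespace Groth.Agent.Lib.Helper6.FD

set_option maxHeartbeats 1600000 in
/-- Finiteness descends along an étale neighbourhood. -/
theorem isFinite_restrict_of_etale {X S V : Scheme.{u}} (f : X ⟶ S)
    [LocallyOfFiniteType f] [IsSeparated f] [LocallyQuasiFinite f] (a : V ⟶ S) [Etale a]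
    (NV : V.Opens) (hfinN : IsFinite (pullback.snd f a ∣_ NV)) :
    IsFinite (f ∣_ (⟨a '' (NV : Set V), a.isOpenMap _ NV.isOpen⟩ : S.Opens)) := by
  classical
  let U : S.Opens := ⟨a '' (NV : Set V), a.isOpenMap _ NV.isOpen⟩
  change IsFinite (f ∣_ U)
  haveI : IsSeparated (f ∣_ U) :=
    IsZariskiLocalAtTarget.restrict (P := @IsSeparated) inferInstance U
  haveI : LocallyOfFiniteType (f ∣_ U) :=
    IsZariskiLocalAtTarget.restrict (P := @LocallyOfFiniteType) inferInstance U
  haveI : LocallyQuasiFinite (f ∣_ U) :=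
    IsZariskiLocalAtTarget.restrict (P := @LocallyQuasiFinite) inferInstance U
  have hrange : Set.range (NV.ι ≫ a) ⊆ Set.range U.ι := by
    rw [Scheme.Opens.range_ι]
    rintro _ ⟨n, rfl⟩
    have : NV.ι n ∈ Set.range NV.ι := ⟨_, rfl⟩
    rw [Scheme.Opens.range_ι] at this
    exact ⟨NV.ι n, this, rfl⟩
  let e : NV.toScheme ⟶ U.toScheme := IsOpenImmersion.lift U.ι (NV.ι ≫ a) hrange
  have he : e ≫ U.ι = NV.ι ≫ a := IsOpenImmersion.lift_fac _ _ _
  haveI : Etale e := by
    refine MorphismProperty.of_postcomp (W := @Etale) (W' := @IsOpenImmersion) e U.ι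
      inferInstance ?_
    rw [he]; infer_instance
  haveI : UniversallyClosed (f ∣_ U) := by
    refine Wt.universallyClosed_of_etale_nbhds _ fun y' => ?_
    refine ⟨NV.toScheme, e, inferInstance, ?_, ?_⟩
    · have hy'U : U.ι y' ∈ U := by
        have : U.ι y' ∈ Set.range U.ι := ⟨_, rfl⟩
        rwa [Scheme.Opens.range_ι] at this
      obtain ⟨v, hv, hv'⟩ := hy'U
      obtain ⟨n, hn⟩ : v ∈ Set.range NV.ι := by
        rw [Scheme.Opens.range_ι]; exact hv
      refine ⟨n, U.ι.isOpenEmbedding.injective ?_⟩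
      rw [← Scheme.Hom.comp_apply, he, Scheme.Hom.comp_apply, hn, hv']
    · have hsq : IsPullback (pullback.fst f a) (pullback.snd f a) f a :=
        IsPullback.of_hasPullback f a
      have hres : IsPullback (pullback.snd f a ⁻¹ᵁ NV).ι (pullback.snd f a ∣_ NV)
          (pullback.snd f a) NV.ι := (isPullback_morphismRestrict (pullback.snd f a) NV).flip
      have hA : IsPullback ((pullback.snd f a ⁻¹ᵁ NV).ι ≫ pullback.fst f a)
          (pullback.snd f a ∣_ NV) f (NV.ι ≫ a) := hres.paste_horiz hsq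
      have hB : IsPullback (pullback.fst (f ∣_ U) e ≫ (f ⁻¹ᵁ U).ι)
          (pullback.snd (f ∣_ U) e) f (e ≫ U.ι) :=
        (IsPullback.of_hasPullback (f ∣_ U) e).paste_horiz
          (isPullback_morphismRestrict f U).flip
      rw [he] at hB
      have hiso := hB.isoIsPullback_hom_snd _ _ hA
      rw [← hiso]
      haveI := hfinN
      infer_instance
  rw [IsFinite.iff_isProper_and_locallyQuasiFinite]
  exact ⟨{ }, inferInstance⟩

/-- Upper semicontinuity of the fibre degree. -/
theorem isClosed_fdeg_le {X S : Scheme.{u}} (f : X ⟶ S) [Flat f]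
    [LocallyOfFinitePresentation f] [IsSeparated f] [LocallyQuasiFinite f]
    (hfin : ∀ s : S, (f ⁻¹' {s}).Finite) (hFib : FinFib f) (r : ℕ) :
    IsClosed {s : S | fdeg f s ≤ r} := by
  rw [← isOpen_compl_iff, isOpen_iff_mem_nhds]
  intro y hy
  have hy' : r < fdeg f y := not_le.mp hy
  obtain ⟨V, a, v₀, N, R, hEt, hav₀, hv₀N, -, -, -, heq, hlt, -⟩ :=
    exists_etale_nbhd f hfin hFib y
  haveI := hEt
  have hopen : IsOpen (a '' (N : Set V)) := a.isOpenMap _ N.isOpen
  refine Filter.mem_of_superset (hopen.mem_nhds ⟨v₀, hv₀N, hav₀⟩) ?_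
  rintro _ ⟨v, hv, rfl⟩
  change ¬ (fdeg f (a v) ≤ r)
  by_cases hvR : v ∈ (pullback.snd f a) '' (R : Set ↑(pullback f a))
  · have := hlt v hv hvR
    omega
  · rw [heq v hv hvR]
    omega

/-- If the fibre degree is constant, the morphism is finite. -/
theorem isFinite_of_fdeg_eq {X S : Scheme.{u}} (f : X ⟶ S) [Flat f]
    [LocallyOfFinitePresentation f] [IsSeparated f] [LocallyQuasiFinite f]
    (hfin : ∀ s : S, (f ⁻¹' {s}).Finite) (hFib : FinFib f) (r : ℕ)
    (hr : ∀ s : S, fdeg f s = r) : IsFinite f := by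
  refine IsZariskiLocalAtTarget.of_forall_exists_morphismRestrict (P := @IsFinite) fun y => ?_
  obtain ⟨V, a, v₀, N, R, hEt, hav₀, hv₀N, -, -, -, -, hlt, hfinite⟩ :=
    exists_etale_nbhd f hfin hFib y
  haveI := hEt
  have hdis : Disjoint (N : Set V) ((pullback.snd f a) '' (R : Set ↑(pullback f a))) := by
    rw [Set.disjoint_left]
    intro v hvN hvR
    have := hlt v hvN hvR
    rw [hr, hr] at this
    exact lt_irrefl _ this
  have h1 := hfinite N le_rfl hdis
  exact ⟨⟨a '' (N : Set V), a.isOpenMap _ N.isOpen⟩, ⟨v₀, hv₀N, hav₀⟩,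
    isFinite_restrict_of_etale f a N h1⟩

end Groth.Agent.Lib.Helper6.FD
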