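import Mathlib
import Groth.Agent.Lib.Helper6.FD5
import Groth.Agent.Lib.Helper6.Wt16
import Groth.Prelude.Def_Mor2

/-!
# The fibre degree: the stratification
-/

set_option autoImplicit false
universe u

open CategoryTheory AlgebraicGeometry Limits IsLocalRing Topology

namespace Groth.Agent.Lib.Helper6.FD

theorem isFinLocFreeOfDeg_iff {X S : Scheme.{u}} (f : X ⟶ S) [Flat f]
    [LocallyOfFinitePresentation f] [IsSeparated f] [LocallyQuasiFinite f]
    (hfin : ∀ s : S, (f ⁻¹' {s}).Finite) (hFib : FinFib f) (T : Scheme.{u}) (g : T ⟶ S) (r : ℕ) :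
    Mor2.IsFinLocFreeOfDeg r (pullback.snd f g) ↔ ∀ t : T, fdeg f (g t) = r := by
  constructor
  · rintro ⟨⟨h1, h2, h3⟩, hrk⟩ t
    haveI := h1
    rw [← fdeg_pullback_snd hFib g t, fdeg_eq_finrank, hrk]
  · intro h
    have hsq : IsPullback (pullback.fst f g) (pullback.snd f g) f g :=
      IsPullback.of_hasPullback f g
    have hfin' : ∀ t : T, ((pullback.snd f g) ⁻¹' {t}).Finite := fun t =>
      Wt.finite_preimage_singleton_of_isPullback hsq hfin t
    have hFib' : FinFib (pullback.snd f g) := hFib.pullback_snd g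
    have hdeg : ∀ t : T, fdeg (pullback.snd f g) t = r := fun t => by
      rw [fdeg_pullback_snd hFib g t, h]
    haveI : IsFinite (pullback.snd f g) := isFinite_of_fdeg_eq _ hfin' hFib' r hdeg
    refine ⟨⟨inferInstance, inferInstance, inferInstance⟩, fun t => ?_⟩
    rw [← fdeg_eq_finrank, hdeg]

set_option maxHeartbeats 1600000 in
/-- Around every point of a qcqs base, the fibre degree is constant on a constructible set
containing the point. -/
theorem exists_isConstructible_fdeg_eq {X S : Scheme.{u}} (f : X ⟶ S) [Flat f]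
    [LocallyOfFinitePresentation f] [IsSeparated f] [LocallyQuasiFinite f] [QuasiCompact f]
    [CompactSpace S] [QuasiSeparatedSpace S] (y : S) :
    ∃ C : Set S, IsConstructible C ∧ y ∈ C ∧ ∀ y' ∈ C, fdeg f y' = fdeg f y := by
  obtain ⟨V, a, v₀, N, R, hEt, hav₀, hv₀N, -, hRc, hv₀R, heq, -, -⟩ :=
    exists_etale_nbhd f (fun s => f.finite_preimage_singleton s) (FinFib.of_quasiCompact f) y
  haveI := hEt
  have hB₀ : IsLocallyConstructible ((pullback.snd f a) '' (R : Set ↑(pullback f a))) :=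
    (pullback.snd f a).isLocallyConstructible_image hRc.isLocallyConstructible
  have hG : IsLocallyConstructible ((pullback.snd f a) '' (R : Set ↑(pullback f a)))ᶜ :=
    Wt.isLocallyConstructible_compl hB₀
  obtain ⟨V₀, hV₀, hvV₀, hV₀N⟩ := Wt.exists_isAffineOpen_mem_and_subset' N.isOpen hv₀N
  haveI : IsAffine V₀.toScheme := hV₀
  let G₀ : Set V₀.toScheme := V₀.ι ⁻¹' ((pullback.snd f a) '' (R : Set ↑(pullback f a)))ᶜ
  have hG₀ : IsConstructible G₀ :=
    (hG.preimage_of_isOpenEmbedding V₀.ι.isOpenEmbedding).isConstructible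
  let c := V₀.ι ≫ a
  haveI : QuasiCompact c := quasiCompact_of_compactSpace c
  refine ⟨c '' G₀, c.isConstructible_image hG₀, ?_, ?_⟩
  · obtain ⟨w₀, hw₀⟩ : v₀ ∈ Set.range V₀.ι := by
      rw [Scheme.Opens.range_ι]; exact hvV₀
    refine ⟨w₀, ?_, ?_⟩
    · change V₀.ι w₀ ∈ ((pullback.snd f a) '' (R : Set ↑(pullback f a)))ᶜ
      rw [hw₀]
      exact hv₀R
    · rw [Scheme.Hom.comp_apply, hw₀, hav₀]
  · rintro _ ⟨v', hv'G, rfl⟩
    rw [Scheme.Hom.comp_apply]
    have hv'V₀ : V₀.ι v' ∈ V₀ := by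
      have : V₀.ι v' ∈ Set.range V₀.ι := ⟨_, rfl⟩
      rwa [Scheme.Opens.range_ι] at this
    exact heq (V₀.ι v') (hV₀N hv'V₀) hv'G

end Groth.Agent.Lib.Helper6.FD
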