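import Mathlib
import Groth.Agent.Lib.Helper6.FD6

/-!
# The fibre degree: level sets are locally constructible and retrocompact
-/

set_option autoImplicit false
universe u

open CategoryTheory AlgebraicGeometry Limits IsLocalRing Topology

namespace Groth.Agent.Lib.Helper6.FD

section top

variable {X : Type*} [TopologicalSpace X]

/-- Constructible sets are retrocompact. -/
theorem isRetrocompact_of_isConstructible {s : Set X} (hs : IsConstructible s) :
    IsRetrocompact s := by
  refine BooleanSubalgebra.closure_sdiff_sup_induction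
    (s := {U : Set X | IsOpen U ∧ IsRetrocompact U})
    (p := fun E _ => IsRetrocompact E)
    ⟨fun _ hs _ ht ↦ ⟨hs.1.union ht.1, hs.2.union ht.2⟩,
      fun _ hs _ ht ↦ ⟨hs.1.inter ht.1, hs.2.inter_isOpen ht.2 ht.1⟩⟩
    ⟨isOpen_empty, .empty⟩ ⟨isOpen_univ, .univ⟩ ?_ ?_ s hs
  · intro U hU V hV K hKc hKo
    have : U \ V ∩ K = (U ∩ K) ∩ Vᶜ := by
      ext x; simp only [Set.mem_inter_iff, Set.mem_sdiff, Set.mem_compl_iff]; tauto
    rw [this]
    exact (hU.2 hKc hKo).inter_right hV.1.isClosed_compl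
  · intro s _ t _ hs ht
    exact hs.union ht

/-- Locally constructible sets are retrocompact. -/
theorem isRetrocompact_of_isLocallyConstructible [PrespectralSpace X] {s : Set X}
    (hs : IsLocallyConstructible s) : IsRetrocompact s := by
  intro K hKc hKo
  have H : ∀ x ∈ K, ∃ C : Set X, IsOpen C ∧ x ∈ C ∧ C ⊆ K ∧ IsCompact (s ∩ C) := by
    intro x hxK
    obtain ⟨O, hxO, hO, hOs⟩ := hs x
    have hmem : O ∩ K ∈ 𝓝 x := Filter.inter_mem hxO (hKo.mem_nhds hxK)
    obtain ⟨C, ⟨hC₁, hC₂⟩, hxC, hCsub⟩ :=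
      PrespectralSpace.isTopologicalBasis.mem_nhds_iff.mp hmem
    refine ⟨C, hC₁, hxC, fun _ h => (hCsub h).2, ?_⟩
    have hretro := isRetrocompact_of_isConstructible hOs
    have hemb : IsEmbedding (Subtype.val : O → X) := IsEmbedding.subtypeVal
    have hC' : IsCompact ((Subtype.val : O → X) ⁻¹' C) := by
      rw [hemb.isCompact_iff, Subtype.image_preimage_coe]
      have : O ∩ C = C := Set.inter_eq_right.mpr fun _ h => (hCsub h).1
      rw [this]
      exact hC₂
    have h1 := hretro hC' (hC₁.preimage continuous_subtype_val)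
    rw [← Set.preimage_inter, hemb.isCompact_iff, Subtype.image_preimage_coe] at h1
    have : O ∩ (s ∩ C) = s ∩ C := Set.inter_eq_right.mpr fun _ h => (hCsub h.2).1
    rwa [this] at h1
  choose! C hCo hxC hCK hCc using H
  obtain ⟨t, hcov⟩ := hKc.elim_nhds_subcover' (fun x hx => C x)
    (fun x hx => (hCo x hx).mem_nhds (hxC x hx))
  have : s ∩ K = ⋃ x ∈ t, (s ∩ C x.1) := by
    ext y
    simp only [Set.mem_inter_iff, Set.mem_iUnion, exists_prop]
    constructor
    · rintro ⟨hys, hyK⟩
      obtain ⟨x, hxt, hyx⟩ := Set.mem_iUnion₂.mp (hcov hyK)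
      exact ⟨x, hxt, hys, hyx⟩
    · rintro ⟨x, hxt, hys, hyx⟩
      exact ⟨hys, hCK x.1 x.2 hyx⟩
  rw [this]
  exact t.isCompact_biUnion fun x _ => hCc x.1 x.2

end top

set_option maxHeartbeats 1600000 in
/-- Level sets of the fibre degree are locally constructible. -/
theorem isLocallyConstructible_fdeg_eq {X S : Scheme.{u}} (f : X ⟶ S) [Flat f]
    [LocallyOfFinitePresentation f] [IsSeparated f] [LocallyQuasiFinite f] [QuasiCompact f]
    (n : ℕ) : IsLocallyConstructible {s : S | fdeg f s = n} := by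
  intro y
  obtain ⟨U, hU, hyU, -⟩ := Wt.exists_isAffineOpen_mem_and_subset' (v := y) isOpen_univ
    (Set.mem_univ y)
  refine ⟨U, U.isOpen.mem_nhds hyU, U.isOpen, ?_⟩
  haveI : IsAffine U.toScheme := hU
  have hsq : IsPullback (f ⁻¹ᵁ U).ι (f ∣_ U) f U.ι := (isPullback_morphismRestrict f U).flip
  have hφ : ∀ y' : U.toScheme, fdeg (f ∣_ U) y' = fdeg f (U.ι y') := fun y' =>
    fdeg_of_isPullback (FinFib.of_quasiCompact f) hsq y'
  haveI : Flat (f ∣_ U) := MorphismProperty.of_isPullback hsq inferInstance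
  haveI : LocallyOfFinitePresentation (f ∣_ U) := MorphismProperty.of_isPullback hsq inferInstance
  haveI : IsSeparated (f ∣_ U) := MorphismProperty.of_isPullback hsq inferInstance
  haveI : LocallyQuasiFinite (f ∣_ U) := MorphismProperty.of_isPullback hsq inferInstance
  haveI : QuasiCompact (f ∣_ U) := MorphismProperty.of_isPullback hsq inferInstance
  have := (Wt.isConstructible_levelSet_of_forall_exists (φ := fdeg (f ∣_ U))
    (fun y' => exists_isConstructible_fdeg_eq (f ∣_ U) y')).2 n
  have hset : {y' : U.toScheme | fdeg (f ∣_ U) y' = n} =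
      (U.ι ⁻¹' {y : S | fdeg f y = n}) := by
    ext y'
    simp only [Set.mem_preimage, Set.mem_ofPred_eq]
    rw [hφ]
  rw [hset] at this
  exact this

theorem isRetrocompact_fdeg_eq {X S : Scheme.{u}} (f : X ⟶ S) [Flat f]
    [LocallyOfFinitePresentation f] [IsSeparated f] [LocallyQuasiFinite f] [QuasiCompact f]
    (n : ℕ) : IsRetrocompact {s : S | fdeg f s = n} :=
  isRetrocompact_of_isLocallyConstructible (isLocallyConstructible_fdeg_eq f n)

end Groth.Agent.Lib.Helper6.FD
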