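import Groth.Agent.Lib.Helper6.AlgClosedTensor
import Mathlib.RingTheory.Unramified.Field
import Mathlib.RingTheory.LocalRing.ResidueField.Ideal
import Mathlib.FieldTheory.PurelyInseparable.PerfectClosure
import Mathlib.FieldTheory.Perfect
import Mathlib.RingTheory.Nilpotent.GeometricallyReduced

/-!
# Geometric reducedness (ring level)

* `isReduced_tensor_of_forall_residueField` (Stacks 034N-type): if `E ⊗[F] κ(p)` is reduced for all
  primes `p` of a reduced `F`-algebra `T`, then `E ⊗[F] T` is reduced.
* `isReduced_of_forall_finite`: `L/k` algebraic, `L ⊗ R` reduced if `F ⊗ R` reduced for all finite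
  subextensions.
* `isReduced_tensor_of_isSeparable`: `E/F` separable algebraic, `L/F` a field: `E ⊗[F] L` reduced.
* `isReduced_tensor_of_isSeparable_of_isReduced`: `E/F` separable algebraic, `T` reduced:
  `E ⊗[F] T` reduced.
* `isReduced_tensor_of_isAlgClosed`: over algebraically closed field, field ⊗ reduced is reduced.
* `isReduced_of_isReduced_algClosure`: alg. closure suffices as a test field for reducedness.
-/

set_option autoImplicit false

namespace Groth.Agent.Lib.Helper6

open TensorProduct

section LemmaR

variable {F E T : Type*} [Field F] [CommRing E] [Algebra F E] [CommRing T] [Algebra F T]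

theorem equivFinsuppOfBasisLeft_map_right {ι : Type*} [DecidableEq ι] (ℬ : Module.Basis ι F E)
    {T' : Type*} [CommRing T'] [Algebra F T'] (g : T →ₐ[F] T') (x : E ⊗[F] T) (i : ι) :
    TensorProduct.equivFinsuppOfBasisLeft ℬ (Algebra.TensorProduct.map (AlgHom.id F E) g x) i
      = g (TensorProduct.equivFinsuppOfBasisLeft ℬ x i) := by
  induction x with
  | zero => simp
  | tmul e t =>
    rw [Algebra.TensorProduct.map_tmul, TensorProduct.equivFinsuppOfBasisLeft_apply_tmul_apply,
      TensorProduct.equivFinsuppOfBasisLeft_apply_tmul_apply]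
    simp
  | add x y hx hy => simp [hx, hy]

/-- If `E ⊗[F] κ(p)` is reduced for all primes `p` of the reduced ring `T`, then `E ⊗[F] T` is
reduced. -/
theorem isReduced_tensor_of_forall_residueField [IsReduced T]
    (h : ∀ (p : Ideal T) [p.IsPrime], IsReduced (E ⊗[F] p.ResidueField)) :
    IsReduced (E ⊗[F] T) := by
  classical
  constructor
  intro x hx
  let ℬ := Module.Free.chooseBasis F E
  have hc : TensorProduct.equivFinsuppOfBasisLeft ℬ x = 0 := by
    ext i
    simp only [Finsupp.coe_zero, Pi.zero_apply]
    have hmem : TensorProduct.equivFinsuppOfBasisLeft ℬ x i ∈ nilradical T := by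
      rw [nilradical_eq_sInf, Ideal.mem_sInf]
      intro p hp
      have hp' : p.IsPrime := hp
      have := h p
      let g : T →ₐ[F] p.ResidueField := IsScalarTower.toAlgHom F T p.ResidueField
      have h0 : Algebra.TensorProduct.map (AlgHom.id F E) g x = 0 :=
        (hx.map (Algebra.TensorProduct.map (AlgHom.id F E) g)).eq_zero
      have h1 := equivFinsuppOfBasisLeft_map_right ℬ g x i
      rw [h0, map_zero] at h1
      simp only [Finsupp.coe_zero, Pi.zero_apply] at h1
      have h2 : algebraMap T p.ResidueField (TensorProduct.equivFinsuppOfBasisLeft ℬ x i) = 0 :=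
        h1.symm
      exact Ideal.algebraMap_residueField_eq_zero.mp h2
    exact (mem_nilradical.mp hmem).eq_zero
  simpa using hc

end LemmaR

section Union

variable {k L R : Type*} [Field k] [Field L] [Algebra k L] [CommRing R] [Algebra k R]

theorem isReduced_of_forall_finite [Algebra.IsAlgebraic k L]
    (h : ∀ F : IntermediateField k L, FiniteDimensional k F → IsReduced (F ⊗[k] R)) :
    IsReduced (L ⊗[k] R) := by
  constructor
  intro x hx
  obtain ⟨F, hF, hx', -⟩ := exists_finite_intermediateField x x
  obtain ⟨x', rfl⟩ := (AlgHom.mem_range _).mp hx'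
  have := h F hF
  have hinj := map_intermediateField_val_injective (R := R) F
  rw [IsNilpotent.map_iff hinj] at hx
  rw [hx.eq_zero, map_zero]

end Union

section Sep

variable {F E : Type*} [Field F] [Field E] [Algebra F E]

theorem isReduced_tensor_of_isSeparable [Algebra.IsSeparable F E]
    (L : Type*) [Field L] [Algebra F L] : IsReduced (E ⊗[F] L) := by
  apply isReduced_of_forall_finite
  intro E₀ hE₀
  have h1 : Algebra.FormallyUnramified F E₀ := Algebra.FormallyUnramified.of_isSeparable F E₀
  have h2 : IsReduced (L ⊗[F] E₀) := Algebra.FormallyUnramified.isReduced_of_field L (L ⊗[F] E₀)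
  exact isReduced_of_injective (Algebra.TensorProduct.comm F E₀ L).toAlgHom
    (Algebra.TensorProduct.comm F E₀ L).injective

theorem isReduced_tensor_of_isSeparable_of_isReduced [Algebra.IsSeparable F E]
    (T : Type*) [CommRing T] [Algebra F T] [IsReduced T] : IsReduced (E ⊗[F] T) :=
  isReduced_tensor_of_forall_residueField fun _ _ => isReduced_tensor_of_isSeparable _

/-- If `P/k` is a perfect field, `Kbar/P` algebraic and `P ⊗[k] S` is reduced then `Kbar ⊗[k] S`
is reduced. -/
theorem isReduced_tensor_of_perfectField_of_isAlgebraic {k P Kbar S : Type*} [Field k] [Field P]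
    [Field Kbar] [Algebra k P] [Algebra k Kbar] [Algebra P Kbar] [IsScalarTower k P Kbar]
    [PerfectField P] [Algebra.IsAlgebraic P Kbar] [CommRing S] [Algebra k S]
    (h : IsReduced (P ⊗[k] S)) : IsReduced (Kbar ⊗[k] S) := by
  have h2 : IsReduced (Kbar ⊗[P] (P ⊗[k] S)) :=
    isReduced_tensor_of_isSeparable_of_isReduced _
  let e := Algebra.TensorProduct.cancelBaseChange k P Kbar Kbar S
  exact isReduced_of_injective e.symm.toAlgHom e.symm.injective

end Sep

section AlgClosed

theorem isReduced_tensor_of_isAlgClosed {K Ω T : Type*} [Field K] [IsAlgClosed K] [Field Ω]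
    [Algebra K Ω] [CommRing T] [Algebra K T] [IsReduced T] : IsReduced (Ω ⊗[K] T) :=
  isReduced_tensor_of_forall_residueField fun p _ =>
    have : IsDomain (Ω ⊗[K] p.ResidueField) := isDomain_tensor_of_isAlgClosed
    inferInstance

universe u v
variable {k : Type u} {Kbar : Type v} {R : Type u} [Field k] [Field Kbar] [Algebra k Kbar]
  [IsAlgClosed Kbar] [Algebra.IsAlgebraic k Kbar] [CommRing R] [Algebra k R]

/-- If `Kbar ⊗[k] R` is reduced for an algebraic closure `Kbar` of `k`, then `k' ⊗[k] R` is
reduced for all field extensions `k'/k`. -/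
theorem isReduced_of_isReduced_algClosure (h : IsReduced (Kbar ⊗[k] R))
    (k' : Type u) [Field k'] [Algebra k k'] : IsReduced (k' ⊗[k] R) := by
  let Ω := AlgebraicClosure k'
  let f : Kbar →ₐ[k] Ω := IsAlgClosed.lift
  let _ : Algebra Kbar Ω := f.toRingHom.toAlgebra
  have : IsScalarTower k Kbar Ω := IsScalarTower.of_algHom f
  have h1 : IsReduced (Ω ⊗[Kbar] (Kbar ⊗[k] R)) := isReduced_tensor_of_isAlgClosed
  let e := Algebra.TensorProduct.cancelBaseChange k Kbar Ω Ω R
  have h2 : IsReduced (Ω ⊗[k] R) := isReduced_of_injective e.symm.toAlgHom e.symm.injective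
  exact isReduced_of_injective _ (map_algebraMap_injective (R := R) k' Ω)

end AlgClosed

end Groth.Agent.Lib.Helper6
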