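import Mathlib.AlgebraicGeometry.Morphisms.QuasiCompact
import Mathlib.AlgebraicGeometry.PullbackCarrier

set_option autoImplicit false
universe u
open CategoryTheory AlgebraicGeometry Limits

namespace Groth.Agent.Lib.Helper6

theorem exists_specializes_affine {R S : CommRingCat.{u}} (φ : R ⟶ S) (z : Spec R)
    (hz : z ∈ closure (Set.range (Spec.map φ))) : ∃ x, (Spec.map φ) x ⤳ z := by
  have h1 : closure (Set.range (Spec.map φ)) = PrimeSpectrum.zeroLocus (RingHom.ker φ.hom) :=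
    PrimeSpectrum.closure_range_comap φ.hom
  rw [h1] at hz
  have hz' : (⊥ : Ideal S).comap φ.hom ≤ z.asIdeal := (PrimeSpectrum.mem_zeroLocus _ _).mp hz
  obtain ⟨Q, -, hQ, hle⟩ := Ideal.exists_ideal_comap_le_prime z.asIdeal ⊥ hz'
  refine ⟨⟨Q, hQ⟩, ?_⟩
  exact (PrimeSpectrum.le_iff_specializes (PrimeSpectrum.comap φ.hom ⟨Q, hQ⟩) z).mp hle

theorem exists_specializes {X Y : Scheme.{u}} (f : X ⟶ Y) [QuasiCompact f] (z : Y)
    (hz : z ∈ closure (Set.range f)) : ∃ x, f x ⤳ z := by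
  wlog hY : ∃ R, Y = Spec R
  · let 𝒰 := Y.affineCover
    obtain ⟨i, z', rfl⟩ := 𝒰.exists_eq z
    have _ : QuasiCompact (𝒰.pullbackHom f i) := MorphismProperty.pullback_snd _ _ ‹_›
    have hz' : z' ∈ closure (Set.range (𝒰.pullbackHom f i)) := by
      have : Set.range (𝒰.pullbackHom f i) = (𝒰.f i) ⁻¹' Set.range f :=
        Scheme.Pullback.range_snd _ _
      rw [this]
      exact (𝒰.f i).isOpenEmbedding.isOpenMap.preimage_closure_subset_closure_preimage hz
    obtain ⟨x', hx'⟩ := this (𝒰.pullbackHom f i) z' hz' ⟨_, rfl⟩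
    refine ⟨(pullback.fst f (𝒰.f i)) x', ?_⟩
    have := hx'.map (𝒰.f i).continuous
    have h3 : f ((pullback.fst f (𝒰.f i)) x') = (𝒰.f i) ((𝒰.pullbackHom f i) x') :=
      congrArg (fun h : pullback f (𝒰.f i) ⟶ Y => h.base x') pullback.condition
    rw [h3]
    exact this
  obtain ⟨R, rfl⟩ := hY
  wlog hX : ∃ S, X = Spec S
  · obtain ⟨S, g, hg⟩ := compactSpace_iff_exists.mp (QuasiCompact.compactSpace_of_compactSpace f)
    have inst : QuasiCompact (g ≫ f) := HasAffineProperty.iff_of_isAffine.mpr (by infer_instance)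
    have hz' : z ∈ closure (Set.range (g ≫ f)) := by
      simp only [Scheme.Hom.comp_base, TopCat.coe_comp]
      rw [Set.range_comp, Set.range_eq_univ.mpr hg, Set.image_univ]
      exact hz
    obtain ⟨x', hx'⟩ := this R (g ≫ f) z hz' ⟨_, rfl⟩
    exact ⟨g x', hx'⟩
  obtain ⟨S, rfl⟩ := hX
  obtain ⟨φ, rfl⟩ := Spec.homEquiv.symm.surjective f
  exact exists_specializes_affine φ z hz


theorem range_snd_of_isPullback {X S X' S' : Scheme.{u}} {f : X ⟶ S} {g : S' ⟶ S}
    {g' : X' ⟶ X} {f' : X' ⟶ S'} (hsq : IsPullback g' f' f g) :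
    Set.range f' = g ⁻¹' Set.range f := by
  have h1 : f' = hsq.isoPullback.hom ≫ pullback.snd f g := (hsq.isoPullback_hom_snd).symm
  have h2 : Set.range hsq.isoPullback.hom = Set.univ :=
    Set.range_eq_univ.mpr hsq.isoPullback.hom.homeomorph.surjective
  rw [h1, Scheme.Hom.comp_base, TopCat.coe_comp, Set.range_comp, h2, Set.image_univ]
  exact Scheme.Pullback.range_snd f g

theorem exists_of_isPullback {X S X' S' : Scheme.{u}} {f : X ⟶ S} {g : S' ⟶ S}
    {g' : X' ⟶ X} {f' : X' ⟶ S'} (hsq : IsPullback g' f' f g) (x : X) (s' : S')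
    (h : f x = g s') : ∃ x' : X', g' x' = x ∧ f' x' = s' := by
  obtain ⟨z, hz1, hz2⟩ := Scheme.Pullback.exists_preimage_pullback x s' h
  refine ⟨hsq.isoPullback.inv z, ?_, ?_⟩
  · rw [← Scheme.Hom.comp_apply, hsq.isoPullback_inv_fst]
    exact hz1
  · rw [← Scheme.Hom.comp_apply, hsq.isoPullback_inv_snd]
    exact hz2

end Groth.Agent.Lib.Helper6
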