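import Groth.Agent.Lib.Helper6.BddFibFlat
import Mathlib.AlgebraicGeometry.Morphisms.Etale
import Mathlib.RingTheory.Etale.Field
import Mathlib.RingTheory.Unramified.Field
import Mathlib.RingTheory.Unramified.Finite

set_option autoImplicit false
universe u

open CategoryTheory AlgebraicGeometry Limits TensorProduct

namespace Groth.Agent.Lib.Helper6.BddFibLib

/-- For an étale morphism to the spectrum of a field, sections over affine opens are étale
algebras over the field. -/
theorem etale_appLE_of_etale {k : Type u} [Field k] {T : Scheme.{u}}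
    (p : T ⟶ Spec (CommRingCat.of k)) [Etale p] (U : T.affineOpens) :
    ((Scheme.ΓSpecIso (CommRingCat.of k)).inv ≫ p.appLE ⊤ U le_top).hom.Etale := by
  have h1 : (p.appLE ⊤ U le_top).hom.Etale :=
    HasRingHomProperty.appLE (P := @Etale) p inferInstance ⟨⊤, isAffineOpen_top _⟩ U le_top
  exact RingHom.Etale.respectsIso.2 _
    (Scheme.ΓSpecIso (CommRingCat.of k)).symm.commRingCatIsoToRingEquiv h1

theorem isArtinianRing_of_etale_field {k A : Type u} [Field k] [CommRing A] (φ : k →+* A)
    (hφ : φ.Etale) : IsArtinianRing A := by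
  algebraize [φ]
  have := Algebra.FormallyUnramified.finite_of_free k A
  exact IsArtinianRing.of_finite k A

theorem discreteTopology_of_etale_field {k : Type u} [Field k] {T : Scheme.{u}}
    (p : T ⟶ Spec (CommRingCat.of k)) [Etale p] : DiscreteTopology T := by
  rw [discreteTopology_iff_isOpen_singleton]
  intro x
  obtain ⟨_, ⟨U, hU, rfl⟩, hxU, -⟩ :=
    T.isBasis_affineOpens.exists_subset_of_mem_open (Set.mem_univ x) isOpen_univ
  have hart := isArtinianRing_of_etale_field _ (etale_appLE_of_etale p ⟨U, hU⟩)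
  have hd : DiscreteTopology (PrimeSpectrum Γ(T, U)) := inferInstance
  have hd' : DiscreteTopology U := by
    let e := TopCat.homeoOfIso (asIso hU.isoSpec.hom.base)
    exact DiscreteTopology.of_continuous_injective e.continuous e.injective
  have h1 : IsOpen ({⟨x, hxU⟩} : Set U) := isOpen_discrete _
  have h2 := U.isOpen.isOpenMap_subtype_val _ h1
  have e : ({x} : Set T) = Subtype.val '' ({⟨x, hxU⟩} : Set U) := by
    ext y
    constructor
    · rintro rfl
      exact ⟨⟨y, hxU⟩, rfl, rfl⟩
    · rintro ⟨z, hz, rfl⟩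
      rw [hz]
      rfl
  rw [e]
  exact h2

theorem finDeg_of_etale_of_isAlgClosed {k A : Type u} [Field k] [IsAlgClosed k] [CommRing A]
    (φ : k →+* A) (hφ : φ.Etale) [Finite (PrimeSpectrum A)] (n : ℕ)
    (hcard : Nat.card (PrimeSpectrum A) ≤ n) : FinDeg φ n := by
  algebraize [φ]
  let e : A ≃ₐ[k] (PrimeSpectrum A → k) := Algebra.FormallyEtale.equivPiOfIsSepClosed k A
  cases nonempty_fintype (PrimeSpectrum A)
  refine ⟨Module.Finite.equiv e.symm.toLinearEquiv, ?_⟩
  rw [e.toLinearEquiv.finrank_eq, Module.finrank_fintype_fun_eq_card, ← Nat.card_eq_fintype_card]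
  exact hcard

theorem finiteOfDegLE_of_etale_of_isAlgClosed {k : Type u} [Field k] [IsAlgClosed k]
    {T : Scheme.{u}} (p : T ⟶ Spec (CommRingCat.of k)) [Etale p] (n : ℕ) [Finite T]
    (hcard : Nat.card T ≤ n) : BddFib.FiniteOfDegLE (CommRingCat.of k) p n := by
  have hd : DiscreteTopology T := discreteTopology_of_etale_field p
  have hT : IsAffine T := inferInstance
  rw [finiteOfDegLE_iff]
  refine ⟨hT, ?_⟩
  have h1 : p.appTop.hom.Etale := HasRingHomProperty.appTop (P := @Etale) p inferInstance
  have h2 : ((Scheme.ΓSpecIso (CommRingCat.of k)).inv ≫ p.appTop).hom.Etale :=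
    RingHom.Etale.respectsIso.2 _
      (Scheme.ΓSpecIso (CommRingCat.of k)).symm.commRingCatIsoToRingEquiv h1
  let e : T ≃ PrimeSpectrum Γ(T, ⊤) := (TopCat.homeoOfIso (asIso T.isoSpec.hom.base)).toEquiv
  have : Finite (PrimeSpectrum Γ(T, ⊤)) := Finite.of_equiv _ e
  refine finDeg_of_etale_of_isAlgClosed _ h2 n ?_
  rw [← Nat.card_congr e]
  exact hcard

end Groth.Agent.Lib.Helper6.BddFibLib
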