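import Mathlib.AlgebraicGeometry.Sites.Fpqc
import Mathlib.AlgebraicGeometry.Morphisms.FlatDescent
import Mathlib.AlgebraicGeometry.Morphisms.LocalFlatDescent

set_option autoImplicit false
universe u

open CategoryTheory Limits AlgebraicGeometry MorphismProperty

namespace Groth.Agent.Lib.Helper6.FpqcDescent

variable {P : MorphismProperty Scheme.{u}}

section BC
variable [P.IsStableUnderBaseChange]

theorem bc_comp_iff {X S T T' : Scheme.{u}} (g : X ⟶ S) (t : T ⟶ S) (h : T' ⟶ T) :
    P (pullback.snd g (h ≫ t)) ↔ P (pullback.snd (pullback.snd g t) h) := by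
  rw [← pullbackLeftPullbackSndIso_hom_snd g t h, P.cancel_left_of_respectsIso]

theorem bc_comp {X S T T' : Scheme.{u}} (g : X ⟶ S) (t : T ⟶ S) (h : T' ⟶ T)
    (H : P (pullback.snd g t)) : P (pullback.snd g (h ≫ t)) := by
  rw [bc_comp_iff (P := P)]; exact P.pullback_snd _ _ H

end BC

theorem of_finite_affine_family [IsZariskiLocalAtTarget P] [P.IsStableUnderBaseChange]
    [P.DescendsAlong (@Surjective ⊓ @Flat ⊓ @QuasiCompact)]
    {S X : Scheme.{u}} [IsAffine S] (g : X ⟶ S) {ι : Type u} [Finite ι] (Y : ι → Scheme.{u})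
    [∀ i, IsAffine (Y i)] (φ : ∀ i, Y i ⟶ S)
    (hflat : ∀ i, Flat (φ i)) (hsurj : ∀ s : S, ∃ i, s ∈ Set.range (φ i))
    (h : ∀ i, P (pullback.snd g (φ i))) : P g := by
  let p : ∐ Y ⟶ S := Sigma.desc φ
  have hp : ∀ i, Sigma.ι Y i ≫ p = φ i := fun i => Sigma.ι_desc _ _
  have hpflat : Flat p := by
    have : ∀ i, Flat (φ i) := hflat
    infer_instance
  have hpsurj : Surjective p := by
    refine ⟨fun s => ?_⟩
    obtain ⟨i, y, rfl⟩ := hsurj s
    refine ⟨Sigma.ι Y i y, ?_⟩
    rw [← Scheme.Hom.comp_apply, hp]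
  have hpqc : QuasiCompact p := inferInstance
  have hP : P (pullback.snd g p) := by
    rw [IsZariskiLocalAtTarget.iff_of_openCover (P := P) (sigmaOpenCover Y)]
    intro (i : ι)
    change P (pullback.snd (pullback.snd g p) (Sigma.ι Y i))
    rw [← bc_comp_iff (P := P), hp]
    exact h i
  exact of_pullback_snd_of_descendsAlong (P := P) (Q := @Surjective ⊓ @Flat ⊓ @QuasiCompact)
    ⟨⟨hpsurj, hpflat⟩, hpqc⟩ hP

end Groth.Agent.Lib.Helper6.FpqcDescent

namespace Groth.Agent.Lib.Helper6.FpqcDescent

variable {P : MorphismProperty Scheme.{u}}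

universe w

theorem of_quasiCompactCover_of_isAffine [IsZariskiLocalAtTarget P] [P.IsStableUnderBaseChange]
    [P.DescendsAlong (@Surjective ⊓ @Flat ⊓ @QuasiCompact)]
    {S X : Scheme.{u}} [IsAffine S] (g : X ⟶ S) (E : PreZeroHypercover.{w} S)
    [QuasiCompactCover E] (hflat : ∀ i, Flat (E.f i))
    (h : ∀ i, P (pullback.snd g (E.f i))) : P g := by
  obtain ⟨n, f, V, hV, hcov⟩ := QuasiCompactCover.exists_isAffineOpen_of_isCompact E
    (U := (⊤ : S.Opens)) isCompact_univ
  have : ∀ i : ULift.{u} (Fin n), IsAffine ((V i.down : (E.X (f i.down)).Opens) : Scheme.{u}) :=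
    fun i => hV i.down
  refine of_finite_affine_family (P := P) g (ι := ULift.{u} (Fin n))
    (fun i => ((V i.down : (E.X (f i.down)).Opens) : Scheme.{u}))
    (fun i => (V i.down).ι ≫ E.f (f i.down)) ?_ ?_ ?_
  · intro i
    have := hflat (f i.down)
    infer_instance
  · intro s
    have hs : s ∈ ((⊤ : S.Opens) : Set S) := trivial
    rw [← hcov] at hs
    obtain ⟨i, hi⟩ := Set.mem_iUnion.mp hs
    obtain ⟨y, hy, rfl⟩ := hi
    exact ⟨⟨i⟩, ⟨y, hy⟩, rfl⟩
  · intro i
    exact bc_comp (P := P) g (E.f (f i.down)) (V i.down).ι (h (f i.down))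

end Groth.Agent.Lib.Helper6.FpqcDescent

namespace Groth.Agent.Lib.Helper6.FpqcDescent

variable {P : MorphismProperty Scheme.{u}}

universe w

/-- Descent along flat quasi-compact covering families: if `P` is Zariski-local on the target, stable
under base change and descends along fpqc morphisms, then `P g` holds as soon as it holds after
base change to every member of a flat quasi-compact cover of the target. -/
theorem of_quasiCompactCover [IsZariskiLocalAtTarget P] [P.IsStableUnderBaseChange]
    [P.DescendsAlong (@Surjective ⊓ @Flat ⊓ @QuasiCompact)]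
    {S X : Scheme.{u}} (g : X ⟶ S) (E : PreZeroHypercover.{w} S)
    [QuasiCompactCover E] (hflat : ∀ i, Flat (E.f i))
    (h : ∀ i, P (pullback.snd g (E.f i))) : P g := by
  rw [IsZariskiLocalAtTarget.iff_of_openCover (P := P) S.affineCover]
  intro j
  change P (pullback.snd g (S.affineCover.f j))
  refine of_quasiCompactCover_of_isAffine (P := P) (pullback.snd g (S.affineCover.f j))
    (E.pullback₁ (S.affineCover.f j)) ?_ ?_
  · intro i
    change Flat (pullback.fst (S.affineCover.f j) (E.f i))
    have := hflat i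
    infer_instance
  · intro i
    change P (pullback.snd (pullback.snd g (S.affineCover.f j))
      (pullback.fst (S.affineCover.f j) (E.f i)))
    rw [← bc_comp_iff (P := P), pullback.condition]
    exact bc_comp (P := P) g (E.f i) (pullback.snd (S.affineCover.f j) (E.f i)) (h i)

end Groth.Agent.Lib.Helper6.FpqcDescent

namespace Groth.Agent.Lib.Helper6.FpqcDescent

variable {P : MorphismProperty Scheme.{u}}

/-- Descent along fpqc covering families (presieve form). -/
theorem of_mem_fpqcPrecoverage [IsZariskiLocalAtTarget P] [P.IsStableUnderBaseChange]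
    [P.DescendsAlong (@Surjective ⊓ @Flat ⊓ @QuasiCompact)]
    {S X : Scheme.{u}} (g : X ⟶ S) (R : Presieve S) (hR : R ∈ Scheme.fpqcPrecoverage S)
    (h : ∀ ⦃S' : Scheme.{u}⦄ (f : S' ⟶ S), R f → P (pullback.snd g f)) : P g := by
  obtain ⟨E, rfl⟩ := R.exists_eq_preZeroHypercover
  have h1 : E.presieve₀ ∈ Scheme.qcPrecoverage S := hR.1
  have h2 : E.presieve₀ ∈ Scheme.precoverage @Flat S := hR.2
  rw [Scheme.presieve₀_mem_qcPrecoverage_iff] at h1
  have h3 := (Scheme.presieve₀_mem_precoverage_iff (P := @Flat) E).mp h2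
  exact of_quasiCompactCover (P := P) g E h3.2 (fun i => h (E.f i) ⟨i⟩)

end Groth.Agent.Lib.Helper6.FpqcDescent

namespace Groth.Agent.Lib.Helper6.FpqcDescent

theorem flat_codescendsAlong_faithfullyFlat :
    RingHom.CodescendsAlong RingHom.Flat RingHom.FaithfullyFlat := by
  refine .mk _ RingHom.Flat.respectsIso fun R S T _ _ _ _ _ h h' ↦ ?_
  rw [RingHom.flat_algebraMap_iff] at h' ⊢
  rw [RingHom.faithfullyFlat_algebraMap_iff] at h
  exact Module.Flat.of_flat_tensorProduct R T S

/-- Flatness satisfies fpqc descent. -/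
theorem descendsAlong_flat :
    DescendsAlong @Flat (@Surjective ⊓ @Flat ⊓ @QuasiCompact : MorphismProperty Scheme.{u}) :=
  HasRingHomProperty.descendsAlong_flat flat_codescendsAlong_faithfullyFlat

end Groth.Agent.Lib.Helper6.FpqcDescent
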