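import Groth.Agent.Lib.Helper6.Torsor
import Groth.Agent.Lib.Helper6.FpqcDescent

set_option autoImplicit false
universe u

open CategoryTheory MonoidalCategory CartesianMonoidalCategory MonObj GrpObj AlgebraicGeometry
open CategoryTheory.Limits

namespace Groth.Agent.Lib.Helper6.Torsor

variable {S : Scheme.{u}} {G X : Over S} [GrpObj G]

/-- The trivialisation map `(g, t) ↦ (g · σ(t), t)` attached to a `T`-point `σ` of `X`. -/
noncomputable def trivMap (a : AlgGrp.Action G X) {T : Over S} (σ : T ⟶ X) : G ⊗ T ⟶ X ⊗ T :=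
  lift ((G ◁ σ) ≫ a.act) (snd G T)

@[reassoc (attr := simp)]
theorem trivMap_snd (a : AlgGrp.Action G X) {T : Over S} (σ : T ⟶ X) :
    trivMap a σ ≫ snd X T = snd G T := by
  simp [trivMap]

@[reassoc (attr := simp)]
theorem trivMap_fst (a : AlgGrp.Action G X) {T : Over S} (σ : T ⟶ X) :
    trivMap a σ ≫ fst X T = (G ◁ σ) ≫ a.act := by
  simp [trivMap]

theorem trivMap_whiskerLeft (a : AlgGrp.Action G X) {T : Over S} (σ : T ⟶ X) :
    trivMap a σ ≫ (X ◁ σ) = (G ◁ σ) ≫ lift a.act (snd G X) := by
  apply CartesianMonoidalCategory.hom_ext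
  · simp [trivMap]
  · simp [trivMap]

/-- The inverse of the trivialisation map of a pseudo-torsor. -/
noncomputable def trivInv (a : AlgGrp.Action G X) [IsIso (lift a.act (snd G X))] {T : Over S}
    (σ : T ⟶ X) : X ⊗ T ⟶ G ⊗ T :=
  lift ((X ◁ σ) ≫ inv (lift a.act (snd G X)) ≫ fst G X) (snd X T)

theorem trivMap_trivInv (a : AlgGrp.Action G X) [IsIso (lift a.act (snd G X))] {T : Over S}
    (σ : T ⟶ X) : trivMap a σ ≫ trivInv a σ = 𝟙 (G ⊗ T) := by
  apply CartesianMonoidalCategory.hom_ext
  · unfold trivInv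
    rw [Category.assoc, lift_fst, ← Category.assoc, trivMap_whiskerLeft, Category.assoc,
      IsIso.hom_inv_id_assoc]
    simp
  · unfold trivInv
    simp

theorem trivInv_trivMap (a : AlgGrp.Action G X) [IsIso (lift a.act (snd G X))] {T : Over S}
    (σ : T ⟶ X) : trivInv a σ ≫ trivMap a σ = 𝟙 (X ⊗ T) := by
  set w : X ⊗ T ⟶ G ⊗ X := (X ◁ σ) ≫ inv (lift a.act (snd G X)) with hw
  have h1 : w ≫ lift a.act (snd G X) = X ◁ σ := by
    rw [hw, Category.assoc, IsIso.inv_hom_id, Category.comp_id]
  have h2 : w ≫ a.act = fst X T := by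
    have := congrArg (fun k => k ≫ fst X X) h1
    simpa using this
  have h3 : w ≫ snd G X = snd X T ≫ σ := by
    have := congrArg (fun k => k ≫ snd X X) h1
    simpa using this
  have h4 : trivInv a σ = lift (w ≫ fst G X) (snd X T) := by
    unfold trivInv
    rw [hw, Category.assoc]
  have h5 : trivInv a σ ≫ (G ◁ σ) = w := by
    rw [h4]
    apply CartesianMonoidalCategory.hom_ext
    · simp
    · simp [h3]
  apply CartesianMonoidalCategory.hom_ext
  · rw [Category.assoc, trivMap_fst, ← Category.assoc, h5, h2, Category.id_comp]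
  · rw [Category.assoc, trivMap_snd, h4, lift_snd, Category.id_comp]

theorem isIso_trivMap (a : AlgGrp.Action G X) (h : NonAbH1.IsPseudoTorsorSch a) {T : Over S}
    (σ : T ⟶ X) : IsIso (trivMap a σ) := by
  have : IsIso (lift a.act (snd G X)) := h
  exact ⟨trivInv a σ, trivMap_trivInv a σ, trivInv_trivMap a σ⟩

end Groth.Agent.Lib.Helper6.Torsor

namespace Groth.Agent.Lib.Helper6.Torsor

variable {S : Scheme.{u}} {G X : Over S} [GrpObj G]

/-- A pseudo-torsor which has a section over `f : S' ⟶ S` becomes isomorphic to `G` after base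
change along `f`, compatibly with the projections to `S'`. -/
theorem exists_iso_pullback_of_hasSectionOver (a : AlgGrp.Action G X)
    (h : NonAbH1.IsPseudoTorsorSch a) {S' : Scheme.{u}} (f : S' ⟶ S)
    (hs : NonAbH1.HasSectionOver X f) :
    ∃ e : pullback G.hom f ≅ pullback X.hom f,
      e.hom ≫ pullback.snd X.hom f = pullback.snd G.hom f := by
  obtain ⟨s, hs⟩ := hs
  let σ : Over.mk f ⟶ X := Over.homMk s hs
  have hiso := isIso_trivMap a h σ
  have hiso' : IsIso (trivMap a σ).left := by
    have : IsIso ((Over.forget S).map (trivMap a σ)) := inferInstance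
    exact this
  refine ⟨asIso (trivMap a σ).left, ?_⟩
  have := congrArg (fun k => k.left) (trivMap_snd a σ)
  exact this

theorem iff_of_hasSectionOver {P : MorphismProperty Scheme.{u}} [P.RespectsIso]
    (a : AlgGrp.Action G X)
    (h : NonAbH1.IsPseudoTorsorSch a) {S' : Scheme.{u}} (f : S' ⟶ S)
    (hs : NonAbH1.HasSectionOver X f) :
    P (pullback.snd X.hom f) ↔ P (pullback.snd G.hom f) := by
  obtain ⟨e, he⟩ := exists_iso_pullback_of_hasSectionOver a h f hs
  rw [← he, P.cancel_left_of_respectsIso]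

end Groth.Agent.Lib.Helper6.Torsor

namespace Groth.Agent.Lib.Helper6.Torsor

variable {S : Scheme.{u}} {G X : Over S} [GrpObj G]

/-- A property of morphisms which is Zariski-local on the target, stable under base change and
satisfies fpqc descent passes from the structure morphism of `G` to that of any fpqc `G`-torsor. -/
theorem of_isTorsorFor_fpqc {P : MorphismProperty Scheme.{u}} [IsZariskiLocalAtTarget P]
    [P.IsStableUnderBaseChange] [P.DescendsAlong (@Surjective ⊓ @Flat ⊓ @QuasiCompact)]
    (a : AlgGrp.Action G X) (ha : NonAbH1.IsTorsorFor Scheme.fpqcPrecoverage a) (hG : P G.hom) :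
    P X.hom := by
  obtain ⟨hpt, R, hR, hsec⟩ := ha
  refine FpqcDescent.of_mem_fpqcPrecoverage (P := P) X.hom R hR fun S' f hf => ?_
  rw [iff_of_hasSectionOver (P := P) a hpt f (hsec f hf)]
  exact P.pullback_snd _ _ hG

end Groth.Agent.Lib.Helper6.Torsor
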