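import Groth.Agent.Lib.Helper6.TorsorLocal
import Groth.Agent.S0082
import Groth.Agent.S0079
import Groth.Agent.S0084

set_option autoImplicit false
universe u

open CategoryTheory MonoidalCategory CartesianMonoidalCategory MonObj GrpObj AlgebraicGeometry
open CategoryTheory.Limits MorphismProperty

namespace Groth.Agent.Lib.Helper6.Torsor

variable {S : Scheme.{u}} {G X : Over S} [GrpObj G]

set_option backward.isDefEq.respectTransparency.types false in
theorem isAffineHom_of_isTorsorFor_fpqc (a : AlgGrp.Action G X)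
    (ha : NonAbH1.IsTorsorFor Scheme.fpqcPrecoverage a) [IsAffineHom G.hom] :
    IsAffineHom X.hom := by
  have := Groth.Agent.S0082.result.{u}
  exact of_isTorsorFor_fpqc (P := @IsAffineHom) a ha inferInstance

set_option backward.isDefEq.respectTransparency.types false in
theorem flat_of_isTorsorFor_fpqc (a : AlgGrp.Action G X)
    (ha : NonAbH1.IsTorsorFor Scheme.fpqcPrecoverage a) [Flat G.hom] :
    Flat X.hom := by
  have := FpqcDescent.descendsAlong_flat.{u}
  exact of_isTorsorFor_fpqc (P := @Flat) a ha inferInstance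

set_option backward.isDefEq.respectTransparency.types false in
theorem quasiCompact_of_isTorsorFor_fpqc (a : AlgGrp.Action G X)
    (ha : NonAbH1.IsTorsorFor Scheme.fpqcPrecoverage a) [QuasiCompact G.hom] :
    QuasiCompact X.hom := by
  have := Groth.Agent.S0079.result.{u}
  exact of_isTorsorFor_fpqc (P := @QuasiCompact) a ha inferInstance

set_option backward.isDefEq.respectTransparency.types false in
theorem isFinite_of_isTorsorFor_fpqc (a : AlgGrp.Action G X)
    (ha : NonAbH1.IsTorsorFor Scheme.fpqcPrecoverage a) [IsFinite G.hom] :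
    IsFinite X.hom := by
  have := Groth.Agent.S0084.result.{u}
  exact of_isTorsorFor_fpqc (P := @IsFinite) a ha inferInstance

set_option backward.isDefEq.respectTransparency.types false in
theorem locallyOfFiniteType_of_isTorsorFor_fpqc (a : AlgGrp.Action G X)
    (ha : NonAbH1.IsTorsorFor Scheme.fpqcPrecoverage a) [LocallyOfFiniteType G.hom] :
    LocallyOfFiniteType X.hom :=
  of_isTorsorFor_fpqc (P := @LocallyOfFiniteType) a ha inferInstance

set_option backward.isDefEq.respectTransparency.types false in
theorem locallyOfFinitePresentation_of_isTorsorFor_fpqc (a : AlgGrp.Action G X)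
    (ha : NonAbH1.IsTorsorFor Scheme.fpqcPrecoverage a) [LocallyOfFinitePresentation G.hom] :
    LocallyOfFinitePresentation X.hom :=
  of_isTorsorFor_fpqc (P := @LocallyOfFinitePresentation) a ha inferInstance

set_option backward.isDefEq.respectTransparency.types false in
theorem smooth_of_isTorsorFor_fpqc (a : AlgGrp.Action G X)
    (ha : NonAbH1.IsTorsorFor Scheme.fpqcPrecoverage a) [Smooth G.hom] :
    Smooth X.hom :=
  of_isTorsorFor_fpqc (P := @Smooth) a ha inferInstance

set_option backward.isDefEq.respectTransparency.types false in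
theorem etale_of_isTorsorFor_fpqc (a : AlgGrp.Action G X)
    (ha : NonAbH1.IsTorsorFor Scheme.fpqcPrecoverage a) [Etale G.hom] :
    Etale X.hom :=
  of_isTorsorFor_fpqc (P := @Etale) a ha inferInstance

set_option backward.isDefEq.respectTransparency.types false in
theorem surjective_of_isTorsorFor_fpqc (a : AlgGrp.Action G X)
    (ha : NonAbH1.IsTorsorFor Scheme.fpqcPrecoverage a) [Surjective G.hom] :
    Surjective X.hom :=
  of_isTorsorFor_fpqc (P := @Surjective) a ha inferInstance

end Groth.Agent.Lib.Helper6.Torsor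

namespace Groth.Agent.Lib.Helper6.Torsor

variable {S : Scheme.{u}} {G X : Over S} [GrpObj G]

theorem surjective_hom_of_grpObj : Surjective G.hom := by
  refine ⟨fun s => ⟨η[G].left s, ?_⟩⟩
  rw [← Scheme.Hom.comp_apply, Over.w η[G]]
  rfl

theorem isLocallyTrivialFor_fpqc_of_fpqc (X : Over S) [Flat X.hom] [Surjective X.hom]
    [QuasiCompact X.hom] : NonAbH1.IsLocallyTrivialFor Scheme.fpqcPrecoverage X := by
  refine ⟨Presieve.singleton X.hom, Scheme.Hom.singleton_mem_fpqcPrecoverage X.hom, ?_⟩
  rintro S' f ⟨⟩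
  exact ⟨𝟙 _, Category.id_comp _⟩

theorem isTorsorFor_fpqc_iff (a : AlgGrp.Action G X) [Flat G.hom] [QuasiCompact G.hom] :
    NonAbH1.IsTorsorFor Scheme.fpqcPrecoverage a ↔
      (NonAbH1.IsPseudoTorsorSch a ∧ Surjective X.hom ∧ Flat X.hom ∧ QuasiCompact X.hom) := by
  constructor
  · intro h
    have := surjective_hom_of_grpObj (G := G)
    exact ⟨h.1, surjective_of_isTorsorFor_fpqc a h, flat_of_isTorsorFor_fpqc a h,
      quasiCompact_of_isTorsorFor_fpqc a h⟩
  · rintro ⟨h1, h2, h3, h4⟩
    exact ⟨h1, isLocallyTrivialFor_fpqc_of_fpqc X⟩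

end Groth.Agent.Lib.Helper6.Torsor

namespace Groth.Agent.Lib.Helper6.Torsor

variable {S : Scheme.{u}} {G X : Over S} [GrpObj G]

theorem isLocallyTrivialFor_fppf_of_fppf (X : Over S) [Flat X.hom] [Surjective X.hom]
    [LocallyOfFinitePresentation X.hom] :
    NonAbH1.IsLocallyTrivialFor Scheme.fppfPrecoverage X := by
  refine ⟨Presieve.singleton X.hom, Scheme.Hom.singleton_mem_fppfPrecoverage X.hom, ?_⟩
  rintro S' f ⟨⟩
  exact ⟨𝟙 _, Category.id_comp _⟩

theorem isTorsorFor_fppf_of_isTorsorFor_fpqc (a : AlgGrp.Action G X) [Flat G.hom]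
    [LocallyOfFinitePresentation G.hom]
    (h : NonAbH1.IsTorsorFor Scheme.fpqcPrecoverage a) :
    NonAbH1.IsTorsorFor Scheme.fppfPrecoverage a := by
  have := surjective_hom_of_grpObj (G := G)
  have := surjective_of_isTorsorFor_fpqc a h
  have := flat_of_isTorsorFor_fpqc a h
  have := locallyOfFinitePresentation_of_isTorsorFor_fpqc a h
  exact ⟨h.1, isLocallyTrivialFor_fppf_of_fppf X⟩

end Groth.Agent.Lib.Helper6.Torsor
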