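import Mathlib
import Groth.Agent.Lib.Helper6.Wt16
import Groth.Agent.Lib.Helper14.LfpOfComp

/-!
# Morphisms induced on fibres (EGA IV 9.6): pointwise descriptions
-/

set_option autoImplicit false
universe u

open CategoryTheory AlgebraicGeometry Limits Topology

namespace Groth.Agent.Lib.Helper6.Fib

/-- The morphism induced on fibres. -/
noncomputable abbrev fibMap {X Y S T : Scheme.{u}} (f : X ⟶ Y) (g : Y ⟶ S) (ξ : T ⟶ S) :
    pullback (f ≫ g) ξ ⟶ pullback g ξ :=
  pullback.lift (pullback.fst (f ≫ g) ξ ≫ f) (pullback.snd (f ≫ g) ξ)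
    ((Category.assoc _ _ _).trans pullback.condition)

theorem fibMap_isPullback {X Y S T : Scheme.{u}} (f : X ⟶ Y) (g : Y ⟶ S) (ξ : T ⟶ S) :
    IsPullback (pullback.fst (f ≫ g) ξ) (fibMap f g ξ) f (pullback.fst g ξ) := by
  have h1 : fibMap f g ξ ≫ pullback.snd g ξ = pullback.snd (f ≫ g) ξ := pullback.lift_snd _ _ _
  have h2 : fibMap f g ξ ≫ pullback.fst g ξ = pullback.fst (f ≫ g) ξ ≫ f := pullback.lift_fst _ _ _
  have hbig : IsPullback (fibMap f g ξ ≫ pullback.snd g ξ) (pullback.fst (f ≫ g) ξ) ξ (f ≫ g) := by
    rw [h1]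
    exact (IsPullback.of_hasPullback (f ≫ g) ξ).flip
  exact (IsPullback.of_right hbig h2 (IsPullback.of_hasPullback g ξ).flip).flip

theorem of_comp_props {X Y S : Scheme.{u}} (f : X ⟶ Y) (g : Y ⟶ S)
    [LocallyOfFinitePresentation g] [QuasiSeparated g]
    [LocallyOfFinitePresentation (f ≫ g)] [QuasiCompact (f ≫ g)] [QuasiSeparated (f ≫ g)] :
    LocallyOfFinitePresentation f ∧ QuasiCompact f ∧ QuasiSeparated f :=
  ⟨Groth.Agent.Lib.Helper14.AS.locallyOfFinitePresentation_of_comp f g inferInstance inferInstance,
    QuasiCompact.of_comp f g, QuasiSeparated.of_comp f g⟩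

/-- The fibre map over `s` is surjective iff every point of `Y` over `s` is in the image of `f`. -/
theorem fibMap_surjective_iff {X Y S : Scheme.{u}} (f : X ⟶ Y) (g : Y ⟶ S) (s : S) :
    Function.Surjective (fibMap f g (S.fromSpecResidueField s)).base ↔
      ∀ y : Y, g y = s → y ∈ Set.range f := by
  have hsq := fibMap_isPullback f g (S.fromSpecResidueField s)
  constructor
  · intro hsurj y hy
    obtain ⟨y', hy', -⟩ := Scheme.Pullback.exists_preimage_pullback (f := g)
      (g := S.fromSpecResidueField s) y (IsLocalRing.closedPoint _)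
      (hy.trans (Scheme.fromSpecResidueField_apply s _).symm)
    obtain ⟨x', rfl⟩ := hsurj y'
    refine ⟨pullback.fst (f ≫ g) (S.fromSpecResidueField s) x', ?_⟩
    rw [← hy']
    exact (congrArg (fun ψ : pullback (f ≫ g) (S.fromSpecResidueField s) ⟶ Y => ψ x') hsq.w)
  · intro h y'
    have hy : g (pullback.fst g (S.fromSpecResidueField s) y') = s := by
      have := congrArg (fun ψ : pullback g (S.fromSpecResidueField s) ⟶ S => ψ y')
        (pullback.condition (f := g) (g := S.fromSpecResidueField s))
      exact this.trans (Scheme.fromSpecResidueField_apply s _)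
    obtain ⟨x, hx⟩ := h _ hy
    obtain ⟨x', -, hx'⟩ := Scheme.exists_preimage_of_isPullback hsq x y' hx
    exact ⟨x', hx'⟩

/-- EGA IV 9.6.1 (i): the locus where the fibre map is surjective is locally constructible. -/
theorem isLocallyConstructible_fibMap_surjective {X Y S : Scheme.{u}} (f : X ⟶ Y) (g : Y ⟶ S)
    [LocallyOfFinitePresentation g] [QuasiCompact g] [QuasiSeparated g]
    [LocallyOfFinitePresentation (f ≫ g)] [QuasiCompact (f ≫ g)] [QuasiSeparated (f ≫ g)] :
    IsLocallyConstructible {s : S |
      Function.Surjective (fibMap f g (S.fromSpecResidueField s)).base} := by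
  obtain ⟨h1, h2, -⟩ := of_comp_props f g
  have hset : {s : S | Function.Surjective (fibMap f g (S.fromSpecResidueField s)).base} =
      (g '' (Set.range f)ᶜ)ᶜ := by
    ext s
    rw [Set.mem_ofPred_eq, fibMap_surjective_iff]
    simp only [Set.mem_compl_iff, Set.mem_image, not_exists, not_and]
    constructor
    · intro h y hy hgy
      exact hy (h y hgy)
    · intro h y hgy
      by_contra hy
      exact h y hy hgy
  rw [hset]
  have hr : IsLocallyConstructible (Set.range f) := by
    rw [← Set.image_univ]
    exact f.isLocallyConstructible_image IsLocallyConstructible.univ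
  exact Wt.isLocallyConstructible_compl
    (g.isLocallyConstructible_image (Wt.isLocallyConstructible_compl hr))

end Groth.Agent.Lib.Helper6.Fib
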