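import Mathlib
import Groth.Agent.Lib.Helper6.Fib1

/-!
# Morphisms induced on fibres: universal injectivity (EGA IV 9.6.1 (ii))
-/

set_option autoImplicit false
universe u

open CategoryTheory AlgebraicGeometry Limits Topology

namespace Groth.Agent.Lib.Helper6.Fib

section Cat

variable {C : Type*} [Category C] [HasPullbacks C]
variable {X' Y' X Y : C} {a : X' ⟶ X} {f' : X' ⟶ Y'} {f : X ⟶ Y} {h : Y' ⟶ Y}

/-- The map on self fibre products induced by a commutative square. -/
noncomputable abbrev diagMap (hsq : IsPullback a f' f h) : pullback f' f' ⟶ pullback f f :=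
  pullback.map f' f' f f a a h hsq.w.symm hsq.w.symm

theorem diagMap_isPullback_fst (hsq : IsPullback a f' f h) :
    IsPullback (diagMap hsq) (pullback.fst f' f') (pullback.fst f f) a := by
  have h1 : diagMap hsq ≫ pullback.fst f f = pullback.fst f' f' ≫ a := pullback.lift_fst _ _ _
  have h2 : diagMap hsq ≫ pullback.snd f f = pullback.snd f' f' ≫ a := pullback.lift_snd _ _ _
  have houter : IsPullback (pullback.snd f' f' ≫ a) (pullback.fst f' f') f (f' ≫ h) :=
    (IsPullback.of_hasPullback f' f').flip.paste_horiz hsq
  have hbig : IsPullback (diagMap hsq ≫ pullback.snd f f) (pullback.fst f' f') f (a ≫ f) := by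
    rw [h2, hsq.w]
    exact houter
  exact IsPullback.of_right hbig h1 (IsPullback.of_hasPullback f f).flip

theorem diagMap_isPullback_diagonal (hsq : IsPullback a f' f h) :
    IsPullback (pullback.diagonal f') a (diagMap hsq) (pullback.diagonal f) := by
  have h1 : pullback.diagonal f' ≫ diagMap hsq = a ≫ pullback.diagonal f := by
    apply pullback.hom_ext
    · simp only [Category.assoc, pullback.lift_fst, pullback.diagonal_fst,
        pullback.diagonal_fst_assoc, Category.comp_id]
    · simp only [Category.assoc, pullback.lift_snd, pullback.diagonal_snd,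
        pullback.diagonal_snd_assoc, Category.comp_id]
  have hbig : IsPullback (pullback.diagonal f' ≫ pullback.fst f' f') a a
      (pullback.diagonal f ≫ pullback.fst f f) := by
    rw [pullback.diagonal_fst, pullback.diagonal_fst]
    exact IsPullback.of_horiz_isIso ⟨by simp⟩
  exact IsPullback.of_right hbig h1 (diagMap_isPullback_fst hsq).flip

end Cat

/-- If every point of `X' ×_{Y'} X'` maps into the diagonal of `f`, then the base change `f'` of
`f` is universally injective. -/
theorem universallyInjective_of_diagMap {X' Y' X Y : Scheme.{u}} {a : X' ⟶ X} {f' : X' ⟶ Y'}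
    {f : X ⟶ Y} {h : Y' ⟶ Y} (hsq : IsPullback a f' f h)
    (H : ∀ w : ↥(pullback f' f'), diagMap hsq w ∈ Set.range (pullback.diagonal f)) :
    UniversallyInjective f' := by
  rw [UniversallyInjective.iff_diagonal]
  refine ⟨fun w => ?_⟩
  obtain ⟨x, hx⟩ := H w
  obtain ⟨x', hx', -⟩ := Scheme.exists_preimage_of_isPullback
    (diagMap_isPullback_diagonal hsq) w x hx.symm
  exact ⟨x', hx'⟩

/-- The pointwise criterion for universal injectivity of the fibre map. -/
theorem fibMap_universallyInjective_iff {X Y S : Scheme.{u}} (f : X ⟶ Y) (g : Y ⟶ S) (s : S) :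
    UniversallyInjective (fibMap f g (S.fromSpecResidueField s)) ↔
      ∀ z : ↥(pullback f f), (pullback.fst f f ≫ f ≫ g) z = s →
        z ∈ Set.range (pullback.diagonal f) := by
  have hsq := fibMap_isPullback f g (S.fromSpecResidueField s)
  constructor
  · intro hui z hz
    haveI := hui
    obtain ⟨x₁', hx₁', -⟩ := Scheme.Pullback.exists_preimage_pullback (f := f ≫ g)
      (g := S.fromSpecResidueField s) (pullback.fst f f z) (IsLocalRing.closedPoint _)
      (by
        rw [Scheme.fromSpecResidueField_apply]
        exact hz)
    obtain ⟨w, hw, -⟩ := Scheme.exists_preimage_of_isPullback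
      (diagMap_isPullback_fst hsq) z x₁' hx₁'.symm
    obtain ⟨x', rfl⟩ :=
      ((UniversallyInjective.iff_diagonal _).mp hui).1 w
    refine ⟨pullback.fst (f ≫ g) (S.fromSpecResidueField s) x', ?_⟩
    rw [← hw]
    exact (congrArg (fun ψ : pullback (f ≫ g) (S.fromSpecResidueField s) ⟶ pullback f f => ψ x')
      (diagMap_isPullback_diagonal hsq).w).symm
  · intro H
    refine universallyInjective_of_diagMap hsq fun w => H _ ?_
    have e1 : diagMap hsq ≫ pullback.fst f f ≫ f ≫ g =
        (pullback.fst _ _ ≫ pullback.snd (f ≫ g) (S.fromSpecResidueField s)) ≫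
          S.fromSpecResidueField s := by
      rw [pullback.lift_fst_assoc, Category.assoc, Category.assoc, ← pullback.condition]
    have := congrArg (fun ψ : pullback (fibMap f g (S.fromSpecResidueField s))
      (fibMap f g (S.fromSpecResidueField s)) ⟶ S => ψ w) e1
    exact this.trans (Scheme.fromSpecResidueField_apply s _)

/-- EGA IV 9.6.1 (ii): the locus where the fibre map is universally injective is locally
constructible. -/
theorem isLocallyConstructible_fibMap_universallyInjective {X Y S : Scheme.{u}} (f : X ⟶ Y)
    (g : Y ⟶ S) [LocallyOfFinitePresentation g] [QuasiCompact g] [QuasiSeparated g]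
    [LocallyOfFinitePresentation (f ≫ g)] [QuasiCompact (f ≫ g)] [QuasiSeparated (f ≫ g)] :
    IsLocallyConstructible {s : S |
      UniversallyInjective (fibMap f g (S.fromSpecResidueField s))} := by
  obtain ⟨h1, h2, h3⟩ := of_comp_props f g
  have hset : {s : S | UniversallyInjective (fibMap f g (S.fromSpecResidueField s))} =
      ((pullback.fst f f ≫ f ≫ g) '' (Set.range (pullback.diagonal f))ᶜ)ᶜ := by
    ext s
    rw [Set.mem_ofPred_eq, fibMap_universallyInjective_iff]
    simp only [Set.mem_compl_iff, Set.mem_image, not_exists, not_and]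
    constructor
    · intro h y hy hgy
      exact hy (h y hgy)
    · intro h y hgy
      by_contra hy
      exact h y hy hgy
  rw [hset]
  haveI : LocallyOfFinitePresentation (pullback.diagonal f) :=
    Groth.Agent.Lib.Helper14.AS.locallyOfFinitePresentation_of_comp (pullback.diagonal f)
      (pullback.fst f f) (by rw [pullback.diagonal_fst]; infer_instance) inferInstance
  haveI : QuasiCompact (pullback.diagonal f) := inferInstance
  have hr : IsLocallyConstructible (Set.range (pullback.diagonal f)) := by
    rw [← Set.image_univ]
    exact (pullback.diagonal f).isLocallyConstructible_image IsLocallyConstructible.univ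
  exact Wt.isLocallyConstructible_compl
    ((pullback.fst f f ≫ f ≫ g).isLocallyConstructible_image
      (Wt.isLocallyConstructible_compl hr))

end Groth.Agent.Lib.Helper6.Fib
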