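import Mathlib
import Groth.Prelude.Def_Flat
import Groth.Agent.Lib.Helper14.LscSp
import Groth.Agent.Lib.Helper21.FibDim3
import Groth.Agent.Lib.Helper6.EtaleSq

/-!
# The locus of zero-dimensional fibres of a proper flat finitely presented morphism
-/

set_option autoImplicit false
universe u

open CategoryTheory CategoryTheory.Limits AlgebraicGeometry

namespace Groth.Agent.Lib.Helper6.DimZ

open Groth.Agent.Lib.Helper18 Groth.Agent.Lib.Helper21

variable {X Y : Scheme.{u}} (f : X ⟶ Y)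

/-- the dimension of the set-theoretic fibre is the dimension of the scheme-theoretic fibre -/
theorem dim_preimage_eq (y : Y) :
    topologicalKrullDim (f.base ⁻¹' {y}) = topologicalKrullDim (f.fiber y) :=
  (IsHomeomorph.topologicalKrullDim_eq _ (f.fiberHomeo y).isHomeomorph).symm

theorem fiberι_mem (y : Y) (t : f.fiber y) : f (f.fiberι y t) = y :=
  (f.fiberHomeo y t).2

/-- characterisation of the points with zero-dimensional fibre -/
theorem dim_eq_zero_iff (y : Y) :
    topologicalKrullDim (f.base ⁻¹' {y}) = 0 ↔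
      (y ∈ Set.range f ∧ ∀ x, f x = y → FlatMor.fibreDimAt f x ≤ ((0 : ℕ) : WithBot ℕ∞)) := by
  rw [dim_preimage_eq, Nat.cast_zero]
  constructor
  · intro h
    refine ⟨?_, fun x hx => ?_⟩
    · by_contra hne
      haveI : IsEmpty (f.fiber y) := ⟨fun t => hne ⟨f.fiberι y t, fiberι_mem f y t⟩⟩
      have h2 : topologicalKrullDim (f.fiber y) = ⊥ := by
        unfold topologicalKrullDim
        haveI : IsEmpty (TopologicalSpace.IrreducibleCloseds (f.fiber y)) :=
          ⟨fun Z => (Z.isIrreducible.nonempty).elim fun t _ => IsEmpty.false t⟩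
        exact Order.krullDim_eq_bot
      rw [h2] at h
      exact absurd h (by simp)
    · subst hx
      exact (FibDim.fibreDimAt_le_topologicalKrullDim_fiber f x).trans h.le
  · rintro ⟨⟨x₀, hx₀⟩, hall⟩
    refine le_antisymm ?_ ?_
    · rw [TopDim.topologicalKrullDim_eq_iSup_localDim]
      refine iSup_le fun t => ?_
      rw [EtaleSq.localDim_fiber_eq_fibreDimAt f (f.fiberι y t) y (fiberι_mem f y t) t rfl]
      exact hall _ (fiberι_mem f y t)
    · subst hx₀
      exact (TopDim.zero_le_localDim (f.asFiber x₀)).trans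
        (TopDim.localDim_le_topologicalKrullDim _)

theorem isClopen_dimZero [IsProper f] [Flat f] [LocallyOfFinitePresentation f] :
    IsClopen {y : Y | topologicalKrullDim (f.base ⁻¹' {y}) = 0} := by
  have hZo : IsOpen {x : X | FlatMor.fibreDimAt f x ≤ ((0 : ℕ) : WithBot ℕ∞)} :=
    FibDim.isOpen_setOf_fibreDimAt_le f 0
  have hP : IsOpen {s : Y | ∃ x : X, f x = s ∧
      ((0 : ℕ) : WithBot ℕ∞) < FlatMor.fibreDimAt f x} :=
    Groth.Agent.Lib.Helper14.AS.isOpen_exists_lt_fibreDimAt f 0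
  have himg : f '' {x : X | FlatMor.fibreDimAt f x ≤ ((0 : ℕ) : WithBot ℕ∞)}ᶜ =
      {s : Y | ∃ x : X, f x = s ∧ ((0 : ℕ) : WithBot ℕ∞) < FlatMor.fibreDimAt f x} := by
    ext s
    simp only [Set.mem_image, Set.mem_compl_iff, Set.mem_ofPred_eq, not_le]
    constructor
    · rintro ⟨x, hx, rfl⟩; exact ⟨x, rfl, hx⟩
    · rintro ⟨x, rfl, hx⟩; exact ⟨x, hx, rfl⟩
  have hPc : IsClosed {s : Y | ∃ x : X, f x = s ∧
      ((0 : ℕ) : WithBot ℕ∞) < FlatMor.fibreDimAt f x} := by
    rw [← himg]
    exact f.isClosedMap _ hZo.isClosed_compl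
  have hset : {y : Y | topologicalKrullDim (f.base ⁻¹' {y}) = 0} =
      Set.range f ∩ {s : Y | ∃ x : X, f x = s ∧
        ((0 : ℕ) : WithBot ℕ∞) < FlatMor.fibreDimAt f x}ᶜ := by
    ext y
    simp only [Set.mem_ofPred_eq, Set.mem_inter_iff, Set.mem_compl_iff]
    rw [dim_eq_zero_iff]
    constructor
    · rintro ⟨h1, h2⟩
      refine ⟨h1, ?_⟩
      rintro ⟨x, hx, hlt⟩
      exact absurd (h2 x hx) (not_le.mpr hlt)
    · rintro ⟨h1, h2⟩
      refine ⟨h1, fun x hx => ?_⟩
      by_contra hcon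
      exact h2 ⟨x, hx, not_le.mp hcon⟩
  rw [hset]
  exact ⟨f.isClosedMap.isClosed_range.inter hP.isClosed_compl,
    f.isOpenMap.isOpen_range.inter hPc.isOpen_compl⟩

end Groth.Agent.Lib.Helper6.DimZ
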