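import Mathlib
import Groth.Prelude.Def_Flat
import Groth.Agent.Lib.Helper6.DimZ1

/-!
# A proper morphism is finite over opens where the fibres are zero-dimensional
-/

set_option autoImplicit false
universe u

open CategoryTheory CategoryTheory.Limits AlgebraicGeometry

namespace Groth.Agent.Lib.Helper6.DimZ

open Groth.Agent.Lib.Helper18 Groth.Agent.Lib.Helper21

variable {X Y : Scheme.{u}} (f : X ⟶ Y)

theorem quasiFiniteAt_of_dim_eq_zero [LocallyOfFiniteType f] [QuasiCompact f] (x : X)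
    (h : topologicalKrullDim (f.base ⁻¹' {f x}) = 0) : f.QuasiFiniteAt x := by
  have h1 := ((dim_eq_zero_iff f (f x)).mp h).2 x rfl
  rw [Nat.cast_zero] at h1
  have h2 : FlatMor.localDim (f.fiber (f x)) (f.asFiber x) = 0 :=
    le_antisymm h1 (TopDim.zero_le_localDim _)
  haveI : LocallyOfFiniteType (f.fiberToSpecResidueField (f x)) :=
    MorphismProperty.pullback_snd _ _ inferInstance
  haveI : IsLocallyNoetherian (f.fiber (f x)) :=
    LocallyOfFiniteType.isLocallyNoetherian (f.fiberToSpecResidueField (f x))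
  haveI : IsNoetherian (f.fiber (f x)) := { }
  exact Scheme.Hom.quasiFiniteAt_iff_isOpen_singleton_asFiber.mpr
    ((TopDim.isOpen_singleton_iff_localDim_eq_zero _).mpr h2)

theorem isFinite_restrict [IsProper f] (U : Y.Opens)
    (hU : (U : Set Y) ⊆ {y : Y | topologicalKrullDim (f.base ⁻¹' {y}) = 0}) :
    IsFinite (f ∣_ U) := by
  suffices LocallyQuasiFinite (f ∣_ U) from .of_isProper_of_locallyQuasiFinite _
  rw [← Scheme.Hom.quasiFiniteLocus_eq_top_iff]
  ext x
  have hx : f ((f ⁻¹ᵁ U).ι x) ∈ U := by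
    have : (f ⁻¹ᵁ U).ι x ∈ Set.range (f ⁻¹ᵁ U).ι := ⟨_, rfl⟩
    rw [Scheme.Opens.range_ι] at this
    exact this
  have : f.QuasiFiniteAt ((f ⁻¹ᵁ U).ι x) := quasiFiniteAt_of_dim_eq_zero f _ (hU hx)
  rw [← Scheme.Hom.quasiFiniteAt_comp_iff_of_isOpenImmersion, ← morphismRestrict_ι,
    Scheme.Hom.quasiFiniteAt_comp_iff] at this
  simpa

end Groth.Agent.Lib.Helper6.DimZ
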