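import Mathlib

set_option autoImplicit false
universe u

open CategoryTheory AlgebraicGeometry Limits

namespace Groth.Agent.Lib.Helper6.EtLoc

/-- A property local at the target passes to smaller restrictions. -/
theorem restrict_of_le (Q : MorphismProperty Scheme.{u}) [IsZariskiLocalAtTarget Q]
    {V U : Scheme.{u}} (h : V ⟶ U) {U₀ U' : U.Opens} (hle : U' ≤ U₀) (hQ : Q (h ∣_ U₀)) :
    Q (h ∣_ U') := by
  have h1 : Q ((h ∣_ U₀) ∣_ (U₀.ι ⁻¹ᵁ U')) := IsZariskiLocalAtTarget.restrict hQ _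
  have h2 := (Q.arrow_mk_iso_iff (morphismRestrictRestrict h U₀ (U₀.ι ⁻¹ᵁ U'))).mp h1
  have e : U₀.ι ''ᵁ (U₀.ι ⁻¹ᵁ U') = U' := by
    rw [Scheme.Hom.image_preimage_eq_opensRange_inf, Scheme.Opens.opensRange_ι]
    exact inf_eq_right.mpr hle
  exact (Q.arrow_mk_iso_iff (morphismRestrictEq h e)).mp h2

section maps
variable {X S U : Scheme.{u}} (f : X ⟶ S) (g : U ⟶ S)

/-- The open immersion `X ×_S U₀ ⟶ X ×_S U`. -/
noncomputable def shrinkMap (U₀ : U.Opens) : pullback f (U₀.ι ≫ g) ⟶ pullback f g :=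
  pullback.lift (pullback.fst f (U₀.ι ≫ g)) (pullback.snd f (U₀.ι ≫ g) ≫ U₀.ι)
    (by rw [pullback.condition, Category.assoc])

@[reassoc (attr := simp)]
theorem shrinkMap_fst (U₀ : U.Opens) :
    shrinkMap f g U₀ ≫ pullback.fst f g = pullback.fst f (U₀.ι ≫ g) :=
  pullback.lift_fst _ _ _

@[reassoc (attr := simp)]
theorem shrinkMap_snd (U₀ : U.Opens) :
    shrinkMap f g U₀ ≫ pullback.snd f g = pullback.snd f (U₀.ι ≫ g) ≫ U₀.ι :=
  pullback.lift_snd _ _ _

theorem isPullback_shrinkMap (U₀ : U.Opens) :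
    IsPullback (shrinkMap f g U₀) (pullback.snd f (U₀.ι ≫ g)) (pullback.snd f g) U₀.ι := by
  refine IsPullback.of_right ?_ (shrinkMap_snd f g U₀) (IsPullback.of_hasPullback f g)
  rw [shrinkMap_fst]
  exact IsPullback.of_hasPullback f (U₀.ι ≫ g)

instance (U₀ : U.Opens) : IsOpenImmersion (shrinkMap f g U₀) :=
  MorphismProperty.of_isPullback (isPullback_shrinkMap f g U₀).flip inferInstance

/-- The open immersion `X₀ ×_S U ⟶ X ×_S U`. -/
noncomputable def enlargeMap (X₀ : X.Opens) : pullback (X₀.ι ≫ f) g ⟶ pullback f g :=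
  pullback.lift (pullback.fst (X₀.ι ≫ f) g ≫ X₀.ι) (pullback.snd (X₀.ι ≫ f) g)
    (by rw [Category.assoc, pullback.condition])

@[reassoc (attr := simp)]
theorem enlargeMap_fst (X₀ : X.Opens) :
    enlargeMap f g X₀ ≫ pullback.fst f g = pullback.fst (X₀.ι ≫ f) g ≫ X₀.ι :=
  pullback.lift_fst _ _ _

@[reassoc (attr := simp)]
theorem enlargeMap_snd (X₀ : X.Opens) :
    enlargeMap f g X₀ ≫ pullback.snd f g = pullback.snd (X₀.ι ≫ f) g :=
  pullback.lift_snd _ _ _

theorem isPullback_enlargeMap (X₀ : X.Opens) :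
    IsPullback (enlargeMap f g X₀) (pullback.fst (X₀.ι ≫ f) g) (pullback.fst f g) X₀.ι := by
  refine IsPullback.of_right ?_ (enlargeMap_fst f g X₀) (IsPullback.of_hasPullback f g).flip
  rw [enlargeMap_snd]
  exact (IsPullback.of_hasPullback (X₀.ι ≫ f) g).flip

instance (X₀ : X.Opens) : IsOpenImmersion (enlargeMap f g X₀) :=
  MorphismProperty.of_isPullback (isPullback_enlargeMap f g X₀).flip inferInstance

end maps



section maps
variable {X S U : Scheme.{u}} (f : X ⟶ S) (g : U ⟶ S)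

theorem shrink_prop (Q : MorphismProperty Scheme.{u}) [Q.RespectsIso]
    (U₀ : U.Opens) (V : (pullback f g).Opens)
    (hQ : Q ((V.ι ≫ pullback.snd f g) ∣_ U₀)) :
    Q ((shrinkMap f g U₀ ⁻¹ᵁ V).ι ≫ pullback.snd f (U₀.ι ≫ g)) := by
  have h1 := (isPullback_morphismRestrict (shrinkMap f g U₀) V).paste_vert
    (isPullback_shrinkMap f g U₀)
  have h2 := (isPullback_morphismRestrict (V.ι ≫ pullback.snd f g) U₀).flip
  have e := h1.isoIsPullback_hom_snd _ _ h2
  rw [← e]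
  exact (Q.cancel_left_of_respectsIso _ _).mpr hQ

theorem enlarge_prop (Q : MorphismProperty Scheme.{u}) [Q.RespectsIso]
    (X₀ : X.Opens) (V : (pullback (X₀.ι ≫ f) g).Opens)
    (hQ : Q (V.ι ≫ pullback.snd (X₀.ι ≫ f) g)) :
    Q ((enlargeMap f g X₀ ''ᵁ V).ι ≫ pullback.snd f g) := by
  have e : ((enlargeMap f g X₀).isoImage V).hom ≫ (enlargeMap f g X₀ ''ᵁ V).ι ≫ pullback.snd f g =
      V.ι ≫ pullback.snd (X₀.ι ≫ f) g := by
    rw [Scheme.Hom.isoImage_hom_ι_assoc, enlargeMap_snd]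
  rw [← Q.cancel_left_of_respectsIso ((enlargeMap f g X₀).isoImage V).hom, e]
  exact hQ

end maps



section maps
variable {X S U : Scheme.{u}} (f : X ⟶ S) (g : U ⟶ S)

theorem shrinkMap_injective (U₀ : U.Opens) : Function.Injective (shrinkMap f g U₀) :=
  (shrinkMap f g U₀).isOpenEmbedding.injective

theorem enlargeMap_injective (X₀ : X.Opens) : Function.Injective (enlargeMap f g X₀) :=
  (enlargeMap f g X₀).isOpenEmbedding.injective

theorem fst_shrinkMap_apply (U₀ : U.Opens) (m : ↑(pullback f (U₀.ι ≫ g))) :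
    pullback.fst f g (shrinkMap f g U₀ m) = pullback.fst f (U₀.ι ≫ g) m :=
  congr($(shrinkMap_fst f g U₀) m)

theorem snd_shrinkMap_apply (U₀ : U.Opens) (m : ↑(pullback f (U₀.ι ≫ g))) :
    pullback.snd f g (shrinkMap f g U₀ m) = (pullback.snd f (U₀.ι ≫ g) m).1 :=
  congr($(shrinkMap_snd f g U₀) m)

theorem fst_enlargeMap_apply (X₀ : X.Opens) (m : ↑(pullback (X₀.ι ≫ f) g)) :
    pullback.fst f g (enlargeMap f g X₀ m) = (pullback.fst (X₀.ι ≫ f) g m).1 :=
  congr($(enlargeMap_fst f g X₀) m)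

theorem snd_enlargeMap_apply (X₀ : X.Opens) (m : ↑(pullback (X₀.ι ≫ f) g)) :
    pullback.snd f g (enlargeMap f g X₀ m) = pullback.snd (X₀.ι ≫ f) g m :=
  congr($(enlargeMap_snd f g X₀) m)

theorem exists_shrinkMap_eq (U₀ : U.Opens) (w : ↑(pullback f g))
    (hw : pullback.snd f g w ∈ U₀) : ∃ m, shrinkMap f g U₀ m = w := by
  obtain ⟨m, hm, -⟩ := Scheme.exists_preimage_of_isPullback
    (isPullback_shrinkMap f g U₀) w (⟨_, hw⟩ : U₀.toScheme) rfl
  exact ⟨m, hm⟩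

theorem exists_enlargeMap_eq (X₀ : X.Opens) (w : ↑(pullback f g))
    (hw : pullback.fst f g w ∈ X₀) : ∃ m, enlargeMap f g X₀ m = w := by
  obtain ⟨m, hm, -⟩ := Scheme.exists_preimage_of_isPullback
    (isPullback_enlargeMap f g X₀) w (⟨_, hw⟩ : X₀.toScheme) rfl
  exact ⟨m, hm⟩

end maps

/-- A property local at the source holds on a union of opens if it holds on each. -/
theorem of_iSup_opens (Q : MorphismProperty Scheme.{u}) [IsZariskiLocalAtSource Q]
    {X S : Scheme.{u}} (f : X ⟶ S) {ι : Type*} (W : ι → X.Opens)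
    (h : ∀ i, Q ((W i).ι ≫ f)) : Q ((⨆ i, W i).ι ≫ f) := by
  let 𝒰 : (⨆ i, W i).toScheme.OpenCover :=
    Scheme.Cover.mkOfCovers ι (fun i => (W i).toScheme)
      (fun i => X.homOfLE (le_iSup W i)) (fun y => by
        obtain ⟨i, hi⟩ := TopologicalSpace.Opens.mem_iSup.mp y.2
        exact ⟨i, ⟨y.1, hi⟩, Scheme.homOfLE_apply' _ _ _⟩)
  refine IsZariskiLocalAtSource.of_openCover 𝒰 fun i => ?_
  change Q (X.homOfLE (le_iSup W i) ≫ _ ≫ f)
  rw [Scheme.homOfLE_ι_assoc]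
  exact h i

end Groth.Agent.Lib.Helper6.EtLoc
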