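import Mathlib

/-!
# Universal closedness can be tested on affine spaces: ring-theoretic core
-/

set_option autoImplicit false
universe u v

open TensorProduct

namespace Groth.Agent.Lib.Helper6.UC

/-- If no prime of `R ⊗ B` containing `Q` lies over `p`, then `s ⊗ 1 ∈ Q + p (R ⊗ B)` for some
`s ∉ p`. -/
theorem exists_notMem_tmul_mem {A R B : Type u} [CommRing A] [CommRing R] [CommRing B]
    [Algebra A R] [Algebra A B] (Q : Ideal (R ⊗[A] B)) (p : Ideal R) [p.IsPrime]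
    (h : ∀ P : Ideal (R ⊗[A] B), P.IsPrime → Q ≤ P →
      P.comap (Algebra.TensorProduct.includeLeftRingHom : R →+* R ⊗[A] B) ≠ p) :
    ∃ s ∉ p, s ⊗ₜ[A] (1 : B) ∈
      Q ⊔ p.map (Algebra.TensorProduct.includeLeftRingHom : R →+* R ⊗[A] B) := by
  by_contra hcon
  push Not at hcon
  set I : Ideal (R ⊗[A] B) :=
    Q ⊔ p.map (Algebra.TensorProduct.includeLeftRingHom : R →+* R ⊗[A] B) with hI
  let M : Submonoid (R ⊗[A] B) :=
    p.primeCompl.map (Algebra.TensorProduct.includeLeftRingHom : R →+* R ⊗[A] B)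
  have hdisj : Disjoint (I : Set (R ⊗[A] B)) (M : Set (R ⊗[A] B)) := by
    rw [Set.disjoint_left]
    rintro x hxI ⟨s, hs, rfl⟩
    exact hcon s hs hxI
  obtain ⟨P, hP, hIP, hPM⟩ := Ideal.exists_le_prime_disjoint I M hdisj
  refine h P hP (le_sup_left.trans hIP) ?_
  ext x
  constructor
  · intro hx
    by_contra hxp
    rw [Set.disjoint_left] at hPM
    exact hPM hx ⟨x, hxp, rfl⟩
  · intro hx
    exact hIP (Ideal.mem_sup_right (Ideal.mem_map_of_mem _ hx))

/-- Elements of `p (R ⊗ B)` can be lifted along any `ψ : R' → R` whose range contains a suitable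
finite set. -/
theorem exists_finset_lift_mem_map {A R B : Type u} [CommRing A] [CommRing R] [CommRing B]
    [Algebra A R] [Algebra A B] (p : Ideal R) (c : R ⊗[A] B)
    (hc : c ∈ p.map (Algebra.TensorProduct.includeLeftRingHom : R →+* R ⊗[A] B)) :
    ∃ E : Finset R, ∀ (R' : Type u) [CommRing R'] [Algebra A R'] (ψ : R' →ₐ[A] R),
      (↑E : Set R) ⊆ Set.range ψ →
      ∃ c' ∈ (p.comap ψ.toRingHom).map
          (Algebra.TensorProduct.includeLeftRingHom : R' →+* R' ⊗[A] B),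
        Algebra.TensorProduct.map ψ (AlgHom.id A B) c' = c := by
  classical
  have hc' : c ∈ (p.map (Algebra.TensorProduct.includeLeft : R →ₐ[A] R ⊗[A] B)).restrictScalars A :=
    hc
  rw [Ideal.map_includeLeft_eq] at hc'
  obtain ⟨c₀, rfl⟩ := hc'
  clear hc
  induction c₀ using TensorProduct.induction_on with
  | zero =>
    refine ⟨∅, fun R' _ _ ψ _ => ⟨0, Ideal.zero_mem _, ?_⟩⟩
    simp
  | tmul x b =>
    refine ⟨{(x : R)}, fun R' _ _ ψ hE => ?_⟩
    obtain ⟨x', hx'⟩ := hE (by simp : (x : R) ∈ ((({(x : R)} : Finset R)) : Set R))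
    refine ⟨x' ⊗ₜ[A] b, ?_, ?_⟩
    · have h1 : x' ⊗ₜ[A] b = (Algebra.TensorProduct.includeLeftRingHom : R' →+* R' ⊗[A] B) x' *
          ((1 : R') ⊗ₜ[A] b) := by
        simp [Algebra.TensorProduct.tmul_mul_tmul]
      rw [h1]
      refine Ideal.mul_mem_right _ _ (Ideal.mem_map_of_mem _ ?_)
      change ψ x' ∈ p
      rw [hx']
      exact x.2
    · simp [hx']
  | add y z hy hz =>
    obtain ⟨E₁, h₁⟩ := hy
    obtain ⟨E₂, h₂⟩ := hz
    refine ⟨E₁ ∪ E₂, fun R' _ _ ψ hE => ?_⟩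
    obtain ⟨c₁, hc₁, e₁⟩ := h₁ R' ψ (fun x hx => hE (by simp [Finset.mem_coe.mp hx]))
    obtain ⟨c₂, hc₂, e₂⟩ := h₂ R' ψ (fun x hx => hE (by simp [Finset.mem_coe.mp hx]))
    refine ⟨c₁ + c₂, Ideal.add_mem _ hc₁ hc₂, ?_⟩
    rw [map_add, e₁, e₂, map_add]

/-- One chart: a finite set of elements of `R` witnessing that the fibre over `p` of `V(Q)` is
empty. -/
theorem exists_finset_forall_not_liesOver {A R B : Type u} [CommRing A] [CommRing R] [CommRing B]
    [Algebra A R] [Algebra A B] (Q : Ideal (R ⊗[A] B)) (p : Ideal R) [p.IsPrime]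
    (h : ∀ P : Ideal (R ⊗[A] B), P.IsPrime → Q ≤ P →
      P.comap (Algebra.TensorProduct.includeLeftRingHom : R →+* R ⊗[A] B) ≠ p) :
    ∃ E : Finset R, ∀ (R' : Type u) [CommRing R'] [Algebra A R'] (ψ : R' →ₐ[A] R),
      (↑E : Set R) ⊆ Set.range ψ →
      ∀ P : Ideal (R' ⊗[A] B), P.IsPrime →
        Q.comap (Algebra.TensorProduct.map ψ (AlgHom.id A B)).toRingHom ≤ P →
        P.comap (Algebra.TensorProduct.includeLeftRingHom : R' →+* R' ⊗[A] B) ≠
          p.comap ψ.toRingHom := by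
  classical
  obtain ⟨s, hs, hsI⟩ := exists_notMem_tmul_mem Q p h
  obtain ⟨q, hq, c, hc, hqc⟩ := Submodule.mem_sup.mp hsI
  obtain ⟨E, hE⟩ := exists_finset_lift_mem_map p c hc
  refine ⟨insert s E, fun R' _ _ ψ hR' P hP hQP hcomap => ?_⟩
  obtain ⟨s', hs'⟩ := hR' (by simp : s ∈ ((insert s E : Finset R) : Set R))
  obtain ⟨c', hc', e'⟩ := hE R' ψ (fun x hx => hR' (by simp [Finset.mem_coe.mp hx]))
  -- `s' ⊗ 1 - c'` maps to `q ∈ Q`
  have h1 : s' ⊗ₜ[A] (1 : B) - c' ∈ P := by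
    apply hQP
    change Algebra.TensorProduct.map ψ (AlgHom.id A B) (s' ⊗ₜ[A] (1 : B) - c') ∈ Q
    rw [map_sub, e', Algebra.TensorProduct.map_tmul, hs', AlgHom.id_apply, ← hqc]
    simpa using hq
  have h2 : c' ∈ P := by
    have : (p.comap ψ.toRingHom).map
        (Algebra.TensorProduct.includeLeftRingHom : R' →+* R' ⊗[A] B) ≤ P := by
      rw [Ideal.map_le_iff_le_comap, ← hcomap]
    exact this hc'
  have h3 : s' ⊗ₜ[A] (1 : B) ∈ P := by
    have := P.add_mem h1 h2
    simpa using this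
  have h4 : s' ∈ P.comap (Algebra.TensorProduct.includeLeftRingHom : R' →+* R' ⊗[A] B) := h3
  rw [hcomap] at h4
  apply hs
  rw [← hs']
  exact h4

/-- **Ring-theoretic core**: finitely many charts; if for each chart no prime containing `Q j`
lies over `p`, this already holds after replacing `R` by a polynomial ring in finitely many
variables. -/
theorem exists_mvPolynomial_forall_not_liesOver {A R : Type u} [CommRing A] [CommRing R]
    [Algebra A R] {ι : Type v} [Finite ι] (B : ι → Type u) [∀ j, CommRing (B j)]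
    [∀ j, Algebra A (B j)] (Q : ∀ j, Ideal (R ⊗[A] B j)) (p : Ideal R) [p.IsPrime]
    (h : ∀ j (P : Ideal (R ⊗[A] B j)), P.IsPrime → Q j ≤ P →
      P.comap (Algebra.TensorProduct.includeLeftRingHom : R →+* R ⊗[A] B j) ≠ p) :
    ∃ (n : ℕ) (ψ : MvPolynomial (ULift.{u} (Fin n)) A →ₐ[A] R),
      ∀ j (P : Ideal (MvPolynomial (ULift.{u} (Fin n)) A ⊗[A] B j)), P.IsPrime →
        (Q j).comap (Algebra.TensorProduct.map ψ (AlgHom.id A (B j))).toRingHom ≤ P →
        P.comap (Algebra.TensorProduct.includeLeftRingHom :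
          MvPolynomial (ULift.{u} (Fin n)) A →+* MvPolynomial (ULift.{u} (Fin n)) A ⊗[A] B j) ≠
          p.comap ψ.toRingHom := by
  classical
  cases nonempty_fintype ι
  choose E hE using fun j => exists_finset_forall_not_liesOver (Q j) p (h j)
  let F : Finset R := Finset.univ.biUnion E
  let e : ↥F ≃ Fin F.card := F.equivFin
  let ψ : MvPolynomial (ULift.{u} (Fin F.card)) A →ₐ[A] R :=
    MvPolynomial.aeval (fun i => ((e.symm i.down : ↥F) : R))
  refine ⟨F.card, ψ, fun j P hP hQP => hE j _ ψ ?_ P hP hQP⟩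
  intro x hx
  have hxF : x ∈ F := Finset.mem_biUnion.mpr ⟨j, Finset.mem_univ _, hx⟩
  refine ⟨MvPolynomial.X ⟨e ⟨x, hxF⟩⟩, ?_⟩
  simp [ψ]

end Groth.Agent.Lib.Helper6.UC
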