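import Groth.Agent.Lib.Helper6.SqCubeP

set_option autoImplicit false
universe u

open CategoryTheory AlgebraicGeometry Limits TensorProduct Polynomial

namespace Groth.Agent.Lib.Helper6.SqCube

open Groth.Agent.Lib.Helper6.UnivHomeoRing

section RingLevel

variable {R R' R'' : Type u} [CommRing R] [CommRing R'] [CommRing R'']

/-- Ring-level form of "`Spec φ` is a universal homeomorphism". -/
def UH (φ : R →+* R') : Prop :=
  φ.IsIntegral ∧
  (∀ (K : Type u) [Field K] (σ τ : R' →+* K), σ.comp φ = τ.comp φ → σ = τ) ∧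
  Function.Surjective (PrimeSpectrum.comap φ)

/-- Ring-level form of "`Spec φ` induces isomorphisms on residue fields". -/
def TR (φ : R →+* R') : Prop :=
  ∀ (q : PrimeSpectrum R') (c : R'), ∃ s a : R, φ s ∉ q.asIdeal ∧ φ s * c - φ a ∈ q.asIdeal

theorem uh_iff (φ : R →+* R') :
    FlatMor.IsUnivHomeo (Spec.map (CommRingCat.ofHom φ)) ↔ UH φ :=
  isUnivHomeo_SpecMap_iff (CommRingCat.ofHom φ)

theorem tr_iff (φ : R →+* R') :
    (∀ x : Spec (CommRingCat.of R'), Function.Surjective
      ((Spec.map (CommRingCat.ofHom φ)).residueFieldMap x)) ↔ TR φ := by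
  constructor
  · intro h x
    exact (residueFieldMap_surjective_iff (CommRingCat.ofHom φ) x).mp (h x)
  · intro h x
    exact (residueFieldMap_surjective_iff (CommRingCat.ofHom φ) x).mpr (h x)

theorem UH.comp {φ : R →+* R'} {ψ : R' →+* R''} (h₁ : UH φ) (h₂ : UH ψ) : UH (ψ.comp φ) := by
  refine ⟨RingHom.IsIntegral.trans _ _ h₁.1 h₂.1, ?_, ?_⟩
  · intro K _ σ τ hστ
    apply h₂.2.1
    apply h₁.2.1
    rw [RingHom.comp_assoc, RingHom.comp_assoc]
    exact hστ
  · intro p
    obtain ⟨q, rfl⟩ := h₁.2.2 p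
    obtain ⟨r, rfl⟩ := h₂.2.2 q
    exact ⟨r, rfl⟩

theorem TR.comp {φ : R →+* R'} {ψ : R' →+* R''} (h₁ : TR φ) (h₂ : TR ψ) : TR (ψ.comp φ) := by
  intro q c
  obtain ⟨s, a, hs, hsa⟩ := h₂ q c
  obtain ⟨s₁, a₁, hs₁, hsa₁⟩ := h₁ (PrimeSpectrum.comap ψ q) s
  obtain ⟨s₂, a₂, hs₂, hsa₂⟩ := h₁ (PrimeSpectrum.comap ψ q) a
  have hs₁' : ψ (φ s₁) ∉ q.asIdeal := hs₁
  have hs₂' : ψ (φ s₂) ∉ q.asIdeal := hs₂
  have hsa₁' : ψ (φ s₁ * s - φ a₁) ∈ q.asIdeal := hsa₁
  have hsa₂' : ψ (φ s₂ * a - φ a₂) ∈ q.asIdeal := hsa₂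
  have ha₁ : ψ (φ a₁) ∉ q.asIdeal := by
    intro hmem
    have : ψ (φ s₁) * ψ s ∈ q.asIdeal := by
      have := Ideal.add_mem _ hsa₁' hmem
      simpa [map_sub, map_mul] using this
    exact (q.2.mem_or_mem this).elim hs₁' hs
  refine ⟨s₂ * a₁, s₁ * a₂, ?_, ?_⟩
  · simp only [RingHom.comp_apply, map_mul]
    exact fun hmem => (q.2.mem_or_mem hmem).elim hs₂' ha₁
  · have : (ψ.comp φ) (s₂ * a₁) * c - (ψ.comp φ) (s₁ * a₂) =
        ψ (φ s₁) * ψ (φ s₂) * (ψ s * c - ψ a) - ψ (φ s₂) * c * ψ (φ s₁ * s - φ a₁) +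
          ψ (φ s₁) * ψ (φ s₂ * a - φ a₂) := by
      simp only [RingHom.comp_apply, map_mul, map_sub]
      ring
    rw [this]
    exact Ideal.add_mem _ (Ideal.sub_mem _ (Ideal.mul_mem_left _ _ hsa)
      (Ideal.mul_mem_left _ _ hsa₁')) (Ideal.mul_mem_left _ _ hsa₂')

theorem UH.of_comp_injective {φ : R →+* R'} {ψ : R' →+* R''} (h : UH (ψ.comp φ))
    (hinj : Function.Injective ψ) : UH ψ := by
  have hint : ψ.IsIntegral := RingHom.IsIntegral.tower_top φ ψ h.1
  refine ⟨hint, ?_, hint.comap_surjective hinj⟩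
  intro K _ σ τ hστ
  apply h.2.1
  rw [← RingHom.comp_assoc, ← RingHom.comp_assoc, hστ]

theorem TR.of_comp {φ : R →+* R'} {ψ : R' →+* R''} (h : TR (ψ.comp φ)) : TR ψ := by
  intro q c
  obtain ⟨s, a, hs, hsa⟩ := h q c
  exact ⟨φ s, φ a, hs, hsa⟩

theorem UH.of_bijective {φ : R →+* R'} (hφ : Function.Bijective φ) : UH φ := by
  refine ⟨?_, ?_, ?_⟩
  · exact RingHom.isIntegral_of_surjective _ hφ.2
  · intro K _ σ τ hστ
    ext c
    obtain ⟨r, rfl⟩ := hφ.2 c
    exact congrArg (fun k => k r) hστ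
  · have hint : φ.IsIntegral := RingHom.isIntegral_of_surjective _ hφ.2
    exact hint.comap_surjective hφ.1

theorem TR.of_surjective {φ : R →+* R'} (hφ : Function.Surjective φ) : TR φ := by
  intro q c
  obtain ⟨r, rfl⟩ := hφ c
  refine ⟨1, r, ?_, ?_⟩
  · rw [map_one]; exact q.2.one_notMem
  · rw [map_one, one_mul, sub_self]; exact Ideal.zero_mem _

section Generator

variable {φ : R →+* R'} {t : R'}

theorem isIntegral_of_generator
    (hgen : Function.Surjective (Polynomial.eval₂RingHom φ t))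
    (hint : φ.IsIntegralElem t) : φ.IsIntegral := by
  intro c
  obtain ⟨g, rfl⟩ := hgen c
  induction g using Polynomial.induction_on' with
  | add p q hp hq => rw [map_add]; exact RingHom.IsIntegralElem.add φ hp hq
  | monomial n a =>
    rw [← C_mul_X_pow_eq_monomial, map_mul, map_pow]
    apply RingHom.IsIntegralElem.mul
    · simp only [coe_eval₂RingHom, eval₂_C]
      exact φ.isIntegralElem_map
    · simp only [coe_eval₂RingHom, eval₂_X]
      let _ := φ.toAlgebra
      exact IsIntegral.pow hint n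

theorem hom_ext_of_generator
    (hgen : Function.Surjective (Polynomial.eval₂RingHom φ t))
    {S : Type*} [Semiring S] (σ τ : R' →+* S) (h₁ : σ.comp φ = τ.comp φ) (h₂ : σ t = τ t) :
    σ = τ := by
  ext c
  obtain ⟨g, rfl⟩ := hgen c
  have : σ.comp (Polynomial.eval₂RingHom φ t) = τ.comp (Polynomial.eval₂RingHom φ t) := by
    apply Polynomial.ringHom_ext
    · intro a
      simp only [RingHom.comp_apply, coe_eval₂RingHom, eval₂_C]
      exact congrArg (fun k => k a) h₁
    · simp only [RingHom.comp_apply, coe_eval₂RingHom, eval₂_X]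
      exact h₂
  exact congrArg (fun k => k g) this

theorem UH.of_generator
    (hgen : Function.Surjective (Polynomial.eval₂RingHom φ t))
    (hinj : Function.Injective φ) (hint : φ.IsIntegralElem t)
    (hcrit : ∀ (K : Type u) [Field K] (σ τ : R' →+* K), σ.comp φ = τ.comp φ → σ t = τ t) :
    UH φ := by
  have h := isIntegral_of_generator hgen hint
  refine ⟨h, ?_, h.comap_surjective hinj⟩
  intro K _ σ τ hστ
  exact hom_ext_of_generator hgen σ τ hστ (hcrit K σ τ hστ)

theorem TR.of_generator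
    (hgen : Function.Surjective (Polynomial.eval₂RingHom φ t))
    (h : ∀ q : PrimeSpectrum R', ∃ s a : R, φ s ∉ q.asIdeal ∧ φ s * t - φ a ∈ q.asIdeal) :
    TR φ := by
  let _ := φ.toAlgebra
  intro q c
  obtain ⟨g, rfl⟩ := hgen c
  induction g using Polynomial.induction_on' with
  | add p q' hp hq => rw [map_add]; exact trivRF_aux_add q hp hq
  | monomial n a =>
    rw [← C_mul_X_pow_eq_monomial, map_mul, map_pow]
    apply trivRF_aux_mul q
    · refine ⟨1, a, ?_, ?_⟩
      · rw [map_one]; exact q.2.one_notMem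
      · simp only [coe_eval₂RingHom, eval₂_C]
        rw [map_one, one_mul]
        change φ a - φ a ∈ q.asIdeal
        rw [sub_self]
        exact Ideal.zero_mem _
    · simp only [coe_eval₂RingHom, eval₂_X]
      induction n with
      | zero =>
        refine ⟨1, 1, ?_, ?_⟩
        · rw [map_one]; exact q.2.one_notMem
        · rw [pow_zero, map_one, one_mul, sub_self]
          exact Ideal.zero_mem _
      | succ n ih =>
        rw [pow_succ]
        exact trivRF_aux_mul q ih (h q)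

/-- Adjoining an element whose square and cube lie in the base ring. -/
theorem UH.sq_cube
    (hgen : Function.Surjective (Polynomial.eval₂RingHom φ t))
    (hinj : Function.Injective φ) (x y : R) (h2 : t ^ 2 = φ x) (h3 : t ^ 3 = φ y) :
    UH φ ∧ TR φ := by
  constructor
  · apply UH.of_generator hgen hinj
    · refine ⟨X ^ 2 - C x, monic_X_pow_sub_C x (by norm_num), ?_⟩
      simp [h2]
    · intro K _ σ τ hστ
      have hx : σ (φ x) = τ (φ x) := congrArg (fun k => k x) hστ
      have hy : σ (φ y) = τ (φ y) := congrArg (fun k => k y) hστ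
      rw [← h2, map_pow, map_pow] at hx
      rw [← h3, map_pow, map_pow] at hy
      by_cases h0 : σ t = 0
      · rw [h0] at hx ⊢
        have : τ t ^ 2 = 0 := by rw [← hx]; simp
        exact (pow_eq_zero_iff two_ne_zero).mp this |>.symm
      · have h0' : τ t ≠ 0 := by
          intro h0'
          apply h0
          have : σ t ^ 2 = 0 := by rw [hx, h0']; simp
          exact (pow_eq_zero_iff two_ne_zero).mp this
        have e1 : σ t = σ t ^ 3 / σ t ^ 2 := by field_simp
        have e2 : τ t = τ t ^ 3 / τ t ^ 2 := by field_simp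
        rw [e1, e2, hx, hy]
  · apply TR.of_generator hgen
    intro q
    by_cases hx : φ x ∈ q.asIdeal
    · refine ⟨1, 0, ?_, ?_⟩
      · rw [map_one]; exact q.2.one_notMem
      · rw [map_one, one_mul, map_zero, sub_zero]
        rw [← h2] at hx
        exact q.2.mem_of_pow_mem 2 hx
    · refine ⟨x, y, hx, ?_⟩
      rw [← h2, ← h3]
      have : t ^ 2 * t - t ^ 3 = 0 := by ring
      rw [this]
      exact Ideal.zero_mem _

/-- Adjoining an element `t` with `p t` and `t ^ p` in the base ring. -/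
theorem UH.p_step
    (hgen : Function.Surjective (Polynomial.eval₂RingHom φ t))
    (hinj : Function.Injective φ) (p : ℕ) (hp : p.Prime) (x y : R)
    (h1 : t ^ p = φ x) (h2 : (p : R') * t = φ y) :
    UH φ := by
  apply UH.of_generator hgen hinj
  · refine ⟨X ^ p - C x, monic_X_pow_sub_C x hp.ne_zero, ?_⟩
    simp [h1]
  · intro K _ σ τ hστ
    have hx : σ (φ x) = τ (φ x) := congrArg (fun k => k x) hστ
    have hy : σ (φ y) = τ (φ y) := congrArg (fun k => k y) hστ
    rw [← h1, map_pow, map_pow] at hx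
    rw [← h2, map_mul, map_mul, map_natCast, map_natCast] at hy
    by_cases hpK : (p : K) = 0
    · have : CharP K p := (CharP.charP_iff_prime_eq_zero hp).mpr hpK
      have : Fact p.Prime := ⟨hp⟩
      apply frobenius_inj K p
      exact hx
    · exact mul_left_cancel₀ hpK hy

end Generator

end RingLevel

section Adjoin

variable {A B : Type u} [CommRing A] [CommRing B] [Algebra A B]

/-- The inclusion `A[s] → A[s, b]`. -/
noncomputable def incl (s : Set B) (b : B) :
    Algebra.adjoin A s →+* Algebra.adjoin A (s ∪ {b}) :=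
  (Subalgebra.inclusion (Algebra.adjoin_mono Set.subset_union_left)).toRingHom

/-- The new generator of `A[s, b]`. -/
def gen (s : Set B) (b : B) : Algebra.adjoin A (s ∪ {b}) :=
  ⟨b, Algebra.subset_adjoin (Or.inr rfl)⟩

theorem incl_injective (s : Set B) (b : B) : Function.Injective (incl (A := A) s b) :=
  Subalgebra.inclusion_injective _

theorem incl_comp_algebraMap (s : Set B) (b : B) :
    (incl (A := A) s b).comp (algebraMap A (Algebra.adjoin A s)) =
      algebraMap A (Algebra.adjoin A (s ∪ {b})) := by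
  ext a; rfl

theorem gen_surjective (s : Set B) (b : B) :
    Function.Surjective (Polynomial.eval₂RingHom (incl (A := A) s b) (gen s b)) := by
  rintro ⟨c, hc⟩
  induction hc using Algebra.adjoin_induction with
  | mem x hx =>
    rcases hx with hx | hx
    · refine ⟨C ⟨x, Algebra.subset_adjoin hx⟩, ?_⟩
      simp only [coe_eval₂RingHom, eval₂_C]
      rfl
    · refine ⟨X, ?_⟩
      simp only [coe_eval₂RingHom, eval₂_X]
      exact Subtype.ext hx.symm
  | algebraMap a =>
    refine ⟨C (algebraMap A _ a), ?_⟩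
    simp only [coe_eval₂RingHom, eval₂_C]
    rfl
  | add x y hx hy ihx ihy =>
    obtain ⟨g₁, h₁⟩ := ihx
    obtain ⟨g₂, h₂⟩ := ihy
    refine ⟨g₁ + g₂, ?_⟩
    rw [map_add, h₁, h₂]
    rfl
  | mul x y hx hy ihx ihy =>
    obtain ⟨g₁, h₁⟩ := ihx
    obtain ⟨g₂, h₂⟩ := ihy
    refine ⟨g₁ * g₂, ?_⟩
    rw [map_mul, h₁, h₂]
    rfl

theorem incl_sq_cube (s : Set B) (b : B) (h2 : b ^ 2 ∈ Algebra.adjoin A s)
    (h3 : b ^ 3 ∈ Algebra.adjoin A s) : UH (incl (A := A) s b) ∧ TR (incl (A := A) s b) :=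
  UH.sq_cube (gen_surjective s b) (incl_injective s b) ⟨b ^ 2, h2⟩ ⟨b ^ 3, h3⟩
    (Subtype.ext rfl) (Subtype.ext rfl)

theorem incl_p_step (s : Set B) (b : B) (p : ℕ) (hp : p.Prime)
    (h1 : (p : B) * b ∈ Algebra.adjoin A s)
    (h2 : b ^ p ∈ Algebra.adjoin A s) : UH (incl (A := A) s b) :=
  UH.p_step (gen_surjective s b) (incl_injective s b) p hp ⟨b ^ p, h2⟩ ⟨(p : B) * b, h1⟩
    (Subtype.ext rfl) (Subtype.ext (by simp [gen, incl]))

end Adjoin

section Tower

variable {A B : Type u} [CommRing A] [CommRing B] [Algebra A B]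

/-- The set of the first `k` entries of a list. -/
def pre (l : List B) (k : ℕ) : Set B := {b | ∃ j : Fin l.length, j.val < k ∧ b = l.get j}

theorem pre_zero (l : List B) : pre l 0 = ∅ := by
  ext b
  simp [pre]

theorem pre_succ (l : List B) (k : ℕ) (hk : k < l.length) :
    pre l (k + 1) = pre l k ∪ {l.get ⟨k, hk⟩} := by
  ext b
  constructor
  · rintro ⟨j, hj, rfl⟩
    by_cases h : j.val < k
    · exact Or.inl ⟨j, h, rfl⟩
    · right
      have hjk : j.val = k := by omega
      have : j = ⟨k, hk⟩ := Fin.ext hjk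
      rw [this]; rfl
  · rintro (⟨j, hj, rfl⟩ | h)
    · exact ⟨j, by omega, rfl⟩
    · exact ⟨⟨k, hk⟩, by simp, h⟩

theorem pre_length (l : List B) : pre l l.length = {b | b ∈ l} := by
  ext b
  constructor
  · rintro ⟨j, _, rfl⟩
    exact List.get_mem l j
  · intro hb
    obtain ⟨j, hj⟩ := List.mem_iff_get.mp hb
    exact ⟨j, j.2, hj.symm⟩

theorem pre_mono (l : List B) {k k' : ℕ} (h : k ≤ k') : pre l k ⊆ pre l k' := by
  rintro b ⟨j, hj, rfl⟩
  exact ⟨j, by omega, rfl⟩

/-- The tower condition of the statements, for a general step predicate `Q`. -/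
def IsTower (Q : Subalgebra A B → B → Prop) (l : List B) : Prop :=
  ∀ i : Fin l.length,
    Q (Algebra.adjoin A {b : B | ∃ j : Fin l.length, j < i ∧ b = l.get j}) (l.get i)

theorem isTower_iff (Q : Subalgebra A B → B → Prop) (l : List B) :
    IsTower Q l ↔ ∀ i : Fin l.length, Q (Algebra.adjoin A (pre l i.val)) (l.get i) :=
  Iff.rfl

theorem isTower_nil (Q : Subalgebra A B → B → Prop) : IsTower Q [] := by
  intro i
  exact i.elim0

theorem pre_append_left (l₁ l₂ : List B) (k : ℕ) (hk : k ≤ l₁.length) :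
    pre (l₁ ++ l₂) k = pre l₁ k := by
  ext b
  constructor
  · rintro ⟨j, hj, rfl⟩
    refine ⟨⟨j.val, by omega⟩, hj, ?_⟩
    simp only [List.get_eq_getElem]
    exact List.getElem_append_left (by omega)
  · rintro ⟨j, hj, rfl⟩
    refine ⟨⟨j.val, by simp; omega⟩, hj, ?_⟩
    simp only [List.get_eq_getElem]
    exact (List.getElem_append_left (by omega)).symm

theorem pre_append_right (l₁ l₂ : List B) (k : ℕ) :
    {b | b ∈ l₁} ∪ pre l₂ k ⊆ pre (l₁ ++ l₂) (l₁.length + k) := by
  rintro b (hb | ⟨j, hj, rfl⟩)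
  · obtain ⟨j, hj⟩ := List.mem_iff_get.mp hb
    refine ⟨⟨j.val, by simp; omega⟩, by simp; omega, ?_⟩
    simp only [List.get_eq_getElem] at hj ⊢
    rw [← hj]
    exact (List.getElem_append_left (by omega)).symm
  · refine ⟨⟨l₁.length + j.val, by simp⟩, by simp; omega, ?_⟩
    simp only [List.get_eq_getElem]
    rw [List.getElem_append_right (by omega)]
    simp

theorem isTower_append {Q : Subalgebra A B → B → Prop}
    (hQ : ∀ S S' : Subalgebra A B, S ≤ S' → ∀ b, Q S b → Q S' b)
    {l₁ l₂ : List B} (h₁ : IsTower Q l₁) (h₂ : IsTower Q l₂) : IsTower Q (l₁ ++ l₂) := by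
  rw [isTower_iff] at h₁ h₂ ⊢
  intro i
  by_cases hi : i.val < l₁.length
  · rw [pre_append_left l₁ l₂ i.val (by omega)]
    have e : (l₁ ++ l₂).get i = l₁.get ⟨i.val, hi⟩ := by
      simp only [List.get_eq_getElem]
      exact List.getElem_append_left hi
    rw [e]
    exact h₁ ⟨i.val, hi⟩
  · have hi2 : i.val - l₁.length < l₂.length := by
      have := i.2
      simp only [List.length_append] at this
      omega
    have e : (l₁ ++ l₂).get i = l₂.get ⟨i.val - l₁.length, hi2⟩ := by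
      simp only [List.get_eq_getElem]
      exact List.getElem_append_right (by omega)
    rw [e]
    apply hQ _ _ _ _ (h₂ ⟨i.val - l₁.length, hi2⟩)
    apply Algebra.adjoin_mono
    have h3 := pre_append_right l₁ l₂ (i.val - l₁.length)
    have h4 : l₁.length + (i.val - l₁.length) = i.val := by omega
    rw [h4] at h3
    exact Set.subset_union_right.trans h3

theorem isTower_append_singleton {Q : Subalgebra A B → B → Prop}
    (hQ : ∀ S S' : Subalgebra A B, S ≤ S' → ∀ b, Q S b → Q S' b)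
    {l : List B} (h : IsTower Q l) (b : B) (hb : Q (Algebra.adjoin A {x | x ∈ l}) b) :
    IsTower Q (l ++ [b]) := by
  rw [isTower_iff] at h ⊢
  intro i
  by_cases hi : i.val < l.length
  · rw [pre_append_left l [b] i.val (by omega)]
    have e : (l ++ [b]).get i = l.get ⟨i.val, hi⟩ := by
      simp only [List.get_eq_getElem]
      exact List.getElem_append_left hi
    rw [e]
    exact h ⟨i.val, hi⟩
  · have hi2 : i.val = l.length := by
      have := i.2
      simp only [List.length_append, List.length_singleton] at this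
      omega
    have e : (l ++ [b]).get i = b := by
      simp only [List.get_eq_getElem]
      rw [List.getElem_append_right (by omega)]
      simp
    rw [e]
    apply hQ _ _ _ _ hb
    apply Algebra.adjoin_mono
    have h3 := pre_append_right l [b] 0
    rw [add_zero, ← hi2] at h3
    exact Set.subset_union_left.trans h3

theorem subset_adjoin_append_left (l₁ l₂ : List B) :
    Algebra.adjoin A {x | x ∈ l₁} ≤ Algebra.adjoin A {x | x ∈ l₁ ++ l₂} := by
  apply Algebra.adjoin_mono
  intro x hx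
  exact List.mem_append_left _ hx

theorem subset_adjoin_append_right (l₁ l₂ : List B) :
    Algebra.adjoin A {x | x ∈ l₂} ≤ Algebra.adjoin A {x | x ∈ l₁ ++ l₂} := by
  apply Algebra.adjoin_mono
  intro x hx
  exact List.mem_append_right _ hx

theorem mem_sSup_of_directedOn (𝒮 : Set (Subalgebra A B)) (hne : 𝒮.Nonempty)
    (hdir : DirectedOn (· ≤ ·) 𝒮) (b : B) : b ∈ sSup 𝒮 ↔ ∃ S ∈ 𝒮, b ∈ S := by
  have : Nonempty 𝒮 := hne.to_subtype
  rw [sSup_eq_iSup', ← SetLike.mem_coe, Subalgebra.coe_iSup_of_directed hdir.directed_val]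
  simp

/-- Towers yield good subalgebras. -/
theorem good_of_isTower
    (P : ∀ {R R' : Type u} [CommRing R] [CommRing R'], (R →+* R') → Prop)
    (hcomp : ∀ {R R' R'' : Type u} [CommRing R] [CommRing R'] [CommRing R'']
      (φ : R →+* R') (ψ : R' →+* R''), P φ → P ψ → P (ψ.comp φ))
    (hbij : ∀ {R R' : Type u} [CommRing R] [CommRing R'] (φ : R →+* R'),
      Function.Bijective φ → P φ)
    (Q : Subalgebra A B → B → Prop)
    (hstep : ∀ (s : Set B) (b : B), Q (Algebra.adjoin A s) b → P (incl (A := A) s b))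
    (hinj : Function.Injective (algebraMap A B)) (l : List B) (h : IsTower Q l) :
    P (algebraMap A (Algebra.adjoin A {x | x ∈ l})) := by
  have key : ∀ k, k ≤ l.length → P (algebraMap A (Algebra.adjoin A (pre l k))) := by
    intro k
    induction k with
    | zero =>
      intro _
      apply hbij
      constructor
      · intro a a' haa'
        apply hinj
        exact congrArg Subtype.val haa'
      · rintro ⟨c, hc⟩
        rw [pre_zero, Algebra.adjoin_empty] at hc
        obtain ⟨a, rfl⟩ := Algebra.mem_bot.mp hc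
        exact ⟨a, rfl⟩
    | succ k ih =>
      intro hk
      rw [pre_succ l k (by omega), ← incl_comp_algebraMap]
      exact hcomp _ _ (ih (by omega)) (hstep _ _ (h ⟨k, by omega⟩))
  have := key l.length le_rfl
  rw [pre_length] at this
  exact this

theorem UH.of_forall_mem (hinj : Function.Injective (algebraMap A B))
    (h : ∀ b : B, ∃ S : Subalgebra A B, b ∈ S ∧ UH (algebraMap A S)) : UH (algebraMap A B) := by
  have hint : (algebraMap A B).IsIntegral := by
    intro b
    obtain ⟨S, hbS, hS⟩ := h b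
    obtain ⟨p, hp, hp0⟩ := hS.1 ⟨b, hbS⟩
    refine ⟨p, hp, ?_⟩
    have := congrArg S.val hp0
    rw [map_zero] at this
    rw [← this]
    exact (Polynomial.hom_eval₂ p (algebraMap A S) S.val.toRingHom ⟨b, hbS⟩).symm
  refine ⟨hint, ?_, hint.comap_surjective hinj⟩
  intro K _ σ τ hστ
  ext b
  obtain ⟨S, hbS, hS⟩ := h b
  have := hS.2.1 K (σ.comp S.val.toRingHom) (τ.comp S.val.toRingHom) (by
    ext a
    exact congrArg (fun k => k a) hστ)
  exact congrArg (fun k => k ⟨b, hbS⟩) this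

theorem TR.of_forall_mem
    (h : ∀ b : B, ∃ S : Subalgebra A B, b ∈ S ∧ TR (algebraMap A S)) : TR (algebraMap A B) := by
  intro q c
  obtain ⟨S, hcS, hS⟩ := h c
  obtain ⟨s, a, hs, hsa⟩ := hS (PrimeSpectrum.comap S.val.toRingHom q) ⟨c, hcS⟩
  exact ⟨s, a, hs, hsa⟩

/-- If every proper subalgebra admits a step, towers exhaust `B`. -/
theorem exists_tower (Q : Subalgebra A B → B → Prop)
    (hQ : ∀ S S' : Subalgebra A B, S ≤ S' → ∀ b, Q S b → Q S' b)
    (hQfin : ∀ (𝒮 : Set (Subalgebra A B)), 𝒮.Nonempty → DirectedOn (· ≤ ·) 𝒮 →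
      ∀ b, Q (sSup 𝒮) b → ∃ S ∈ 𝒮, Q S b)
    (hex : ∀ S : Subalgebra A B, S ≠ ⊤ → ∃ b, b ∉ S ∧ Q S b) (E : Finset B) :
    ∃ l : List B, (↑E : Set B) ⊆ Algebra.adjoin A {b : B | b ∈ l} ∧ IsTower Q l := by
  classical
  let 𝒯 : Set (Subalgebra A B) := {S | ∃ l : List B, IsTower Q l ∧ S = Algebra.adjoin A {x | x ∈ l}}
  have hne : 𝒯.Nonempty := ⟨_, [], isTower_nil Q, rfl⟩
  have hdir : DirectedOn (· ≤ ·) 𝒯 := by
    rintro _ ⟨l₁, h₁, rfl⟩ _ ⟨l₂, h₂, rfl⟩
    exact ⟨_, ⟨l₁ ++ l₂, isTower_append hQ h₁ h₂, rfl⟩, subset_adjoin_append_left l₁ l₂,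
      subset_adjoin_append_right l₁ l₂⟩
  have htop : sSup 𝒯 = ⊤ := by
    by_contra hcon
    obtain ⟨b, hb, hQb⟩ := hex _ hcon
    obtain ⟨_, ⟨l, hl, rfl⟩, hQl⟩ := hQfin 𝒯 hne hdir b hQb
    apply hb
    have h1 : IsTower Q (l ++ [b]) := isTower_append_singleton hQ hl b hQl
    have h2 : Algebra.adjoin A {x | x ∈ l ++ [b]} ≤ sSup 𝒯 := le_sSup ⟨l ++ [b], h1, rfl⟩
    apply h2
    apply Algebra.subset_adjoin
    simp
  induction E using Finset.induction_on with
  | empty => exact ⟨[], by simp, isTower_nil Q⟩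
  | insert e E' _ ih =>
    obtain ⟨l', hl', ht'⟩ := ih
    have he : e ∈ sSup 𝒯 := by rw [htop]; trivial
    obtain ⟨_, ⟨lₑ, hlₑ, rfl⟩, heS⟩ := (mem_sSup_of_directedOn 𝒯 hne hdir e).mp he
    refine ⟨l' ++ lₑ, ?_, isTower_append hQ ht' hlₑ⟩
    intro x hx
    rw [Finset.coe_insert] at hx
    rcases hx with rfl | hx
    · exact subset_adjoin_append_right l' lₑ heS
    · exact subset_adjoin_append_left l' lₑ (hl' hx)

/-- The square-cube step predicate. -/
def Qsc (S : Subalgebra A B) (b : B) : Prop := b ^ 2 ∈ S ∧ b ^ 3 ∈ S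

/-- The step predicate allowing also `p b, b ^ p`. -/
def Qp (S : Subalgebra A B) (b : B) : Prop :=
  (b ^ 2 ∈ S ∧ b ^ 3 ∈ S) ∨ ∃ p : ℕ, p.Prime ∧ (p : B) * b ∈ S ∧ b ^ p ∈ S

theorem qsc_mono (S S' : Subalgebra A B) (h : S ≤ S') (b : B) (hb : Qsc S b) : Qsc S' b :=
  ⟨h hb.1, h hb.2⟩

theorem qp_mono (S S' : Subalgebra A B) (h : S ≤ S') (b : B) (hb : Qp S b) : Qp S' b := by
  rcases hb with hb | ⟨p, hp, h1, h2⟩
  · exact Or.inl ⟨h hb.1, h hb.2⟩
  · exact Or.inr ⟨p, hp, h h1, h h2⟩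

theorem exists_mem_two_of_directedOn (𝒮 : Set (Subalgebra A B)) (hne : 𝒮.Nonempty)
    (hdir : DirectedOn (· ≤ ·) 𝒮) (x y : B) (hx : x ∈ sSup 𝒮) (hy : y ∈ sSup 𝒮) :
    ∃ S ∈ 𝒮, x ∈ S ∧ y ∈ S := by
  obtain ⟨S₁, hS₁, hx₁⟩ := (mem_sSup_of_directedOn 𝒮 hne hdir x).mp hx
  obtain ⟨S₂, hS₂, hy₂⟩ := (mem_sSup_of_directedOn 𝒮 hne hdir y).mp hy
  obtain ⟨S₃, hS₃, h13, h23⟩ := hdir S₁ hS₁ S₂ hS₂
  exact ⟨S₃, hS₃, h13 hx₁, h23 hy₂⟩

theorem qsc_fin (𝒮 : Set (Subalgebra A B)) (hne : 𝒮.Nonempty)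
    (hdir : DirectedOn (· ≤ ·) 𝒮) (b : B) (hb : Qsc (sSup 𝒮) b) : ∃ S ∈ 𝒮, Qsc S b := by
  obtain ⟨S, hS, h1, h2⟩ := exists_mem_two_of_directedOn 𝒮 hne hdir _ _ hb.1 hb.2
  exact ⟨S, hS, h1, h2⟩

theorem qp_fin (𝒮 : Set (Subalgebra A B)) (hne : 𝒮.Nonempty)
    (hdir : DirectedOn (· ≤ ·) 𝒮) (b : B) (hb : Qp (sSup 𝒮) b) : ∃ S ∈ 𝒮, Qp S b := by
  rcases hb with hb | ⟨p, hp, h1, h2⟩
  · obtain ⟨S, hS, h1, h2⟩ := exists_mem_two_of_directedOn 𝒮 hne hdir _ _ hb.1 hb.2
    exact ⟨S, hS, Or.inl ⟨h1, h2⟩⟩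
  · obtain ⟨S, hS, h1, h2⟩ := exists_mem_two_of_directedOn 𝒮 hne hdir _ _ h1 h2
    exact ⟨S, hS, Or.inr ⟨p, hp, h1, h2⟩⟩

theorem mem_range_algebraMap_subalgebra (S : Subalgebra A B) (x : B) :
    x ∈ (algebraMap S B).range ↔ x ∈ S := by
  constructor
  · rintro ⟨y, rfl⟩
    exact y.2
  · intro h
    exact ⟨⟨x, h⟩, rfl⟩

theorem not_surjective_of_ne_top (S : Subalgebra A B) (h : S ≠ ⊤) :
    ¬ Function.Surjective (algebraMap S B) := by
  intro hs
  apply h
  rw [eq_top_iff]
  rintro b -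
  obtain ⟨y, rfl⟩ := hs b
  exact y.2

theorem algebraMap_subalgebra_comp (S : Subalgebra A B) :
    (algebraMap S B).comp (algebraMap A S) = algebraMap A B := by
  ext a; rfl

/-- Stacks 0CNE-type characterisation: universal homeomorphisms with trivial residue field
extensions are exactly the extensions exhausted by square-cube towers. -/
theorem uh_tr_iff_towers (hinj : Function.Injective (algebraMap A B)) :
    (UH (algebraMap A B) ∧ TR (algebraMap A B)) ↔
      ∀ E : Finset B, ∃ l : List B, (↑E : Set B) ⊆ Algebra.adjoin A {b : B | b ∈ l} ∧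
        IsTower (Qsc (A := A)) l := by
  constructor
  · rintro ⟨hU, hT⟩
    apply exists_tower Qsc qsc_mono qsc_fin
    intro S hS
    have hU' : UH (algebraMap S B) := by
      apply UH.of_comp_injective (φ := algebraMap A S) _ Subtype.val_injective
      rw [algebraMap_subalgebra_comp]; exact hU
    have hT' : TR (algebraMap S B) := by
      apply TR.of_comp (φ := algebraMap A S)
      rw [algebraMap_subalgebra_comp]; exact hT
    obtain ⟨b, h1, h2, h3⟩ := exists_sq_cube (not_surjective_of_ne_top S hS)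
      ((uh_iff _).mpr hU') hT'
    exact ⟨b, fun h => h1 ((mem_range_algebraMap_subalgebra S b).mpr h),
      (mem_range_algebraMap_subalgebra S _).mp h2, (mem_range_algebraMap_subalgebra S _).mp h3⟩
  · intro h
    have key : ∀ l : List B, IsTower (Qsc (A := A)) l →
        UH (algebraMap A (Algebra.adjoin A {x | x ∈ l})) ∧
          TR (algebraMap A (Algebra.adjoin A {x | x ∈ l})) := by
      intro l hl
      exact good_of_isTower (fun φ => UH φ ∧ TR φ)
        (fun φ ψ h₁ h₂ => ⟨h₁.1.comp h₂.1, h₁.2.comp h₂.2⟩)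
        (fun φ hφ => ⟨UH.of_bijective hφ, TR.of_surjective hφ.2⟩) Qsc
        (fun s b hb => incl_sq_cube s b hb.1 hb.2) hinj l hl
    constructor
    · apply UH.of_forall_mem hinj
      intro b
      obtain ⟨l, hl, ht⟩ := h {b}
      exact ⟨_, hl (by simp), (key l ht).1⟩
    · apply TR.of_forall_mem
      intro b
      obtain ⟨l, hl, ht⟩ := h {b}
      exact ⟨_, hl (by simp), (key l ht).2⟩

theorem uh_iff_towers (hinj : Function.Injective (algebraMap A B)) :
    UH (algebraMap A B) ↔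
      ∀ E : Finset B, ∃ l : List B, (↑E : Set B) ⊆ Algebra.adjoin A {b : B | b ∈ l} ∧
        IsTower (Qp (A := A)) l := by
  constructor
  · intro hU
    apply exists_tower Qp qp_mono qp_fin
    intro S hS
    have hU' : UH (algebraMap S B) := by
      apply UH.of_comp_injective (φ := algebraMap A S) _ Subtype.val_injective
      rw [algebraMap_subalgebra_comp]; exact hU
    rcases exists_sq_cube_or_p (not_surjective_of_ne_top S hS) ((uh_iff _).mpr hU') with
      ⟨b, h1, h2, h3⟩ | ⟨p, b, hp, h1, h2, h3⟩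
    · exact ⟨b, fun h => h1 ((mem_range_algebraMap_subalgebra S b).mpr h),
        Or.inl ⟨(mem_range_algebraMap_subalgebra S _).mp h2,
          (mem_range_algebraMap_subalgebra S _).mp h3⟩⟩
    · exact ⟨b, fun h => h1 ((mem_range_algebraMap_subalgebra S b).mpr h),
        Or.inr ⟨p, hp, (mem_range_algebraMap_subalgebra S _).mp h2,
          (mem_range_algebraMap_subalgebra S _).mp h3⟩⟩
  · intro h
    have key : ∀ l : List B, IsTower (Qp (A := A)) l →
        UH (algebraMap A (Algebra.adjoin A {x | x ∈ l})) := by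
      intro l hl
      refine good_of_isTower (fun φ => UH φ)
        (fun φ ψ h₁ h₂ => h₁.comp h₂)
        (fun φ hφ => UH.of_bijective hφ) Qp ?_ hinj l hl
      intro s b hb
      rcases hb with hb | ⟨p, hp, h1, h2⟩
      · exact (incl_sq_cube s b hb.1 hb.2).1
      · exact incl_p_step s b p hp h1 h2
    apply UH.of_forall_mem hinj
    intro b
    obtain ⟨l, hl, ht⟩ := h {b}
    exact ⟨_, hl (by simp), key l ht⟩

end Tower

end Groth.Agent.Lib.Helper6.SqCube
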