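import Groth.Agent.Lib.Helper6.UnivHomeoRing

set_option autoImplicit false
universe u

open CategoryTheory AlgebraicGeometry Limits TensorProduct

namespace Groth.Agent.Lib.Helper6.UnivHomeoRing

/-- Ring-level criterion for `Spec.map φ` to be a universal homeomorphism. -/
theorem isUnivHomeo_SpecMap_iff {A B : CommRingCat.{u}} (φ : A ⟶ B) :
    FlatMor.IsUnivHomeo (Spec.map φ) ↔
      φ.hom.IsIntegral ∧
      (∀ (K : Type u) [Field K] (σ τ : B →+* K), σ.comp φ.hom = τ.comp φ.hom → σ = τ) ∧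
      Function.Surjective (PrimeSpectrum.comap φ.hom) := by
  rw [Groth.Agent.Lib.Helper12.isUnivHomeo_iff, IsIntegralHom.SpecMap_iff,
    universallyInjective_SpecMap_iff, surjective_iff]
  rfl

/-- For an integral ring map, surjectivity on spectra is equivalent to the kernel being nil. -/
theorem comap_surjective_of_isIntegral_of_ker_le {A R : Type*} [CommRing A] [CommRing R]
    (f : A →+* R) (hf : f.IsIntegral) (hker : RingHom.ker f ≤ nilradical A) :
    Function.Surjective (PrimeSpectrum.comap f) := by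
  have h1 : IsClosed (Set.range (PrimeSpectrum.comap f)) :=
    (PrimeSpectrum.isClosedMap_comap_of_isIntegral f hf).isClosed_range
  have h2 : DenseRange (PrimeSpectrum.comap f) :=
    (PrimeSpectrum.denseRange_comap_iff_ker_le_nilRadical f).mpr hker
  rw [← Set.range_eq_univ, ← h1.closure_eq]
  exact h2.closure_eq

theorem ker_le_nilradical_of_isDominant {A B : Type u} [CommRing A] [CommRing B] [Algebra A B]
    [IsDominant (Spec.map (CommRingCat.ofHom (algebraMap A B)))] :
    RingHom.ker (algebraMap A B) ≤ nilradical A := by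
  have h : DenseRange (Spec.map (CommRingCat.ofHom (algebraMap A B))) :=
    IsDominant.denseRange
  exact (PrimeSpectrum.denseRange_comap_iff_ker_le_nilRadical (algebraMap A B)).mp h

end Groth.Agent.Lib.Helper6.UnivHomeoRing

namespace Groth.Agent.Lib.Helper6.UnivHomeoRing

section Range

variable {A B C : Type u} [CommRing A] [CommRing B] [CommRing C] [Algebra A B] [Algebra A C]

/-- The image in `B` of a universal homeomorphism `A → C` is a universal homeomorphism over `A`,
as soon as `ker (A → B)` is nil. -/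
theorem isUnivHomeo_range (hker : RingHom.ker (algebraMap A B) ≤ nilradical A)
    (g : C →ₐ[A] B)
    (h : FlatMor.IsUnivHomeo (Spec.map (CommRingCat.ofHom (algebraMap A C)))) :
    FlatMor.IsUnivHomeo (Spec.map (CommRingCat.ofHom (algebraMap A g.range))) := by
  rw [isUnivHomeo_SpecMap_iff] at h ⊢
  obtain ⟨h1, h2, -⟩ := h
  have hsurj : Function.Surjective g.rangeRestrict := g.rangeRestrict_surjective
  have hint : (algebraMap A g.range).IsIntegral := by
    intro b
    obtain ⟨c, rfl⟩ := hsurj b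
    have hc : IsIntegral A c := h1 c
    exact hc.map g.rangeRestrict
  refine ⟨hint, ?_, ?_⟩
  · intro K _ σ τ hστ
    have h3 := h2 K (σ.comp g.rangeRestrict.toRingHom) (τ.comp g.rangeRestrict.toRingHom) (by
      ext a
      have := congrArg (fun k => k a) hστ
      simpa using this)
    ext b
    obtain ⟨c, rfl⟩ := hsurj b
    exact congrArg (fun k => k c) h3
  · apply comap_surjective_of_isIntegral_of_ker_le _ hint
    intro a ha
    apply hker
    rw [RingHom.mem_ker] at ha ⊢
    have := congrArg (fun b : g.range => (b : B)) ha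
    simpa using this

end Range

end Groth.Agent.Lib.Helper6.UnivHomeoRing

namespace Groth.Agent.Lib.Helper6.UnivHomeoRing

section Tensor

variable {A C₁ C₂ : Type u} [CommRing A] [CommRing C₁] [CommRing C₂] [Algebra A C₁] [Algebra A C₂]

theorem isUnivHomeo_tensorProduct
    (h₁ : FlatMor.IsUnivHomeo (Spec.map (CommRingCat.ofHom (algebraMap A C₁))))
    (h₂ : FlatMor.IsUnivHomeo (Spec.map (CommRingCat.ofHom (algebraMap A C₂)))) :
    FlatMor.IsUnivHomeo (Spec.map (CommRingCat.ofHom (algebraMap A (C₁ ⊗[A] C₂)))) := by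
  have e : Spec.map (CommRingCat.ofHom (algebraMap A (C₁ ⊗[A] C₂))) =
      Spec.map (CommRingCat.ofHom (algebraMap C₁ (C₁ ⊗[A] C₂))) ≫
        Spec.map (CommRingCat.ofHom (algebraMap A C₁)) := by
    rw [← Spec.map_comp]
    rfl
  rw [e]
  refine Groth.Agent.Lib.Helper12.IsUnivHomeo.comp ?_ h₁
  rw [← pullbackSpecIso_inv_fst' A C₁ C₂,
    MorphismProperty.cancel_left_of_respectsIso (FlatMor.IsUnivHomeo.{u})]
  exact MorphismProperty.pullback_fst _ _ h₂

end Tensor

section Directed

variable {A B : Type u} [CommRing A] [CommRing B] [Algebra A B]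

theorem isUnivHomeo_sSup_of_directedOn (𝒮 : Set (Subalgebra A B)) (hne : 𝒮.Nonempty)
    (hdir : DirectedOn (· ≤ ·) 𝒮)
    (h : ∀ S ∈ 𝒮, FlatMor.IsUnivHomeo (Spec.map (CommRingCat.ofHom (algebraMap A S)))) :
    FlatMor.IsUnivHomeo (Spec.map (CommRingCat.ofHom (algebraMap A (sSup 𝒮 : Subalgebra A B)))) := by
  have hmem : ∀ b : B, b ∈ sSup 𝒮 ↔ ∃ S ∈ 𝒮, b ∈ S := by
    intro b
    have : Nonempty 𝒮 := hne.to_subtype
    rw [sSup_eq_iSup', ← SetLike.mem_coe, Subalgebra.coe_iSup_of_directed hdir.directed_val]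
    simp
  have hint : (algebraMap A (sSup 𝒮 : Subalgebra A B)).IsIntegral := by
    rintro ⟨b, hb⟩
    obtain ⟨S, hS, hbS⟩ := (hmem b).mp hb
    have h1 := ((isUnivHomeo_SpecMap_iff _).mp (h S hS)).1
    have h2 : IsIntegral A (⟨b, hbS⟩ : S) := h1 ⟨b, hbS⟩
    have h3 : IsIntegral A ((Subalgebra.inclusion (le_sSup hS)) ⟨b, hbS⟩) :=
      h2.map (Subalgebra.inclusion (le_sSup hS))
    exact h3
  rw [isUnivHomeo_SpecMap_iff]
  refine ⟨hint, ?_, ?_⟩
  · intro K _ σ τ hστ
    ext ⟨b, hb⟩
    obtain ⟨S, hS, hbS⟩ := (hmem b).mp hb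
    have h2 := ((isUnivHomeo_SpecMap_iff _).mp (h S hS)).2.1
    let ι : S →+* (sSup 𝒮 : Subalgebra A B) := (Subalgebra.inclusion (le_sSup hS)).toRingHom
    have h3 := h2 K (σ.comp ι) (τ.comp ι) (by
      ext a
      have := congrArg (fun k => k a) hστ
      exact this)
    exact congrArg (fun k => k ⟨b, hbS⟩) h3
  · obtain ⟨S, hS⟩ := hne
    have h3 := ((isUnivHomeo_SpecMap_iff _).mp (h S hS)).2.2
    -- Spec (sSup) → Spec S is surjective (integral, injective)
    let ι : S →+* (sSup 𝒮 : Subalgebra A B) := (Subalgebra.inclusion (le_sSup hS)).toRingHom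
    have hι : ι.IsIntegral := by
      have hcomp : ι.comp (algebraMap A S) = algebraMap A (sSup 𝒮 : Subalgebra A B) := by
        ext a; rfl
      exact RingHom.IsIntegral.tower_top (algebraMap A S) ι (hcomp ▸ hint)
    have hιs : Function.Surjective (PrimeSpectrum.comap ι) :=
      hι.comap_surjective (Subalgebra.inclusion_injective (le_sSup hS))
    intro p
    obtain ⟨q, rfl⟩ := h3 p
    obtain ⟨r, rfl⟩ := hιs q
    exact ⟨r, rfl⟩

end Directed

end Groth.Agent.Lib.Helper6.UnivHomeoRing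

namespace Groth.Agent.Lib.Helper6.UnivHomeoRing

section Max

variable {A B : Type u} [CommRing A] [CommRing B] [Algebra A B]

theorem isUnivHomeo_algebraMap_self :
    FlatMor.IsUnivHomeo (Spec.map (CommRingCat.ofHom (algebraMap A A))) := by
  have : IsIso (Spec.map (CommRingCat.ofHom (algebraMap A A))) := by
    have : CommRingCat.ofHom (algebraMap A A) = 𝟙 (CommRingCat.of A) := rfl
    rw [this]
    infer_instance
  exact Groth.Agent.Lib.Helper12.isUnivHomeo_of_isIso _

theorem exists_max_isUnivHomeo_subalgebra (hker : RingHom.ker (algebraMap A B) ≤ nilradical A) :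
    ∃ B' : Subalgebra A B,
      FlatMor.IsUnivHomeo (Spec.map (CommRingCat.ofHom (algebraMap A B'))) ∧
      ∀ (C : Type u) [CommRing C] [Algebra A C] (g : C →ₐ[A] B),
        FlatMor.IsUnivHomeo (Spec.map (CommRingCat.ofHom (algebraMap A C))) → g.range ≤ B' := by
  let 𝒮 : Set (Subalgebra A B) := {S | ∃ (C : Type u) (_ : CommRing C) (_ : Algebra A C)
    (g : C →ₐ[A] B), FlatMor.IsUnivHomeo (Spec.map (CommRingCat.ofHom (algebraMap A C))) ∧
      g.range = S}
  have hne : 𝒮.Nonempty :=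
    ⟨(Algebra.ofId A B).range, A, _, _, Algebra.ofId A B, isUnivHomeo_algebraMap_self, rfl⟩
  have hdir : DirectedOn (· ≤ ·) 𝒮 := by
    rintro _ ⟨C₁, _, _, g₁, h₁, rfl⟩ _ ⟨C₂, _, _, g₂, h₂, rfl⟩
    refine ⟨(Algebra.TensorProduct.productMap g₁ g₂).range,
      ⟨C₁ ⊗[A] C₂, _, _, _, isUnivHomeo_tensorProduct h₁ h₂, rfl⟩, ?_, ?_⟩
    · rintro _ ⟨c, rfl⟩
      exact ⟨c ⊗ₜ 1, by simp⟩
    · rintro _ ⟨c, rfl⟩
      exact ⟨1 ⊗ₜ c, by simp⟩
  have hall : ∀ S ∈ 𝒮, FlatMor.IsUnivHomeo (Spec.map (CommRingCat.ofHom (algebraMap A S))) := by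
    rintro _ ⟨C, _, _, g, h, rfl⟩
    exact isUnivHomeo_range hker g h
  refine ⟨sSup 𝒮, isUnivHomeo_sSup_of_directedOn 𝒮 hne hdir hall, ?_⟩
  intro C _ _ g h
  exact le_sSup ⟨C, _, _, g, h, rfl⟩

end Max

end Groth.Agent.Lib.Helper6.UnivHomeoRing
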