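import Mathlib
import Groth.Prelude.Def_Cyc

/-!
# Affine space over a scheme has relative dimension `n`
-/

set_option autoImplicit false
universe u
open AlgebraicGeometry CategoryTheory Limits

namespace Groth.Agent.Lib.Helper6.QFac

/-- the Krull dimension of the underlying space of the affine space over a field -/
theorem topologicalKrullDim_affineSpace_field (K : Type u) [Field K] (n : Type u) [Finite n] :
    topologicalKrullDim ↥(𝔸(n; Spec (CommRingCat.of K))) = (Nat.card n : WithBot ℕ∞) := by
  have h1 := (Scheme.homeoOfIso (AffineSpace.SpecIso n (CommRingCat.of K))).isHomeomorph.topologicalKrullDim_eq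
  rw [h1]
  change topologicalKrullDim (PrimeSpectrum (MvPolynomial n K)) = _
  rw [PrimeSpectrum.topologicalKrullDim_eq_ringKrullDim,
    MvPolynomial.ringKrullDim_of_isNoetherianRing, ringKrullDim_eq_zero_of_field, zero_add]

theorem hasRelDim_affineSpace (Y : Scheme.{u}) (n : Type u) [Finite n] :
    Cyc.HasRelDim (𝔸(n; Y) ↘ Y) (Nat.card n) := by
  intro y T hT
  have hpb := AffineSpace.isPullback_map (n := n) (Y.fromSpecResidueField y)
  let e : 𝔸(n; Spec (Y.residueField y)) ≅ (𝔸(n; Y) ↘ Y).fiber y := hpb.isoPullback
  let h := Scheme.homeoOfIso e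
  haveI : IrreducibleSpace ↥((𝔸(n; Y) ↘ Y).fiber y) := by
    have h0 : IsIrreducible (Set.univ : Set ↥(𝔸(n; Spec (Y.residueField y)))) :=
      IrreducibleSpace.isIrreducible_univ _
    have h1 := h0.image h h.continuous.continuousOn
    rw [Set.image_univ, h.surjective.range_eq] at h1
    exact (irreducibleSpace_def _).mpr h1
  rw [irreducibleComponents_eq_singleton] at hT
  obtain rfl : T = Set.univ := hT
  rw [(Homeomorph.Set.univ _).isHomeomorph.topologicalKrullDim_eq,
    ← h.isHomeomorph.topologicalKrullDim_eq]
  exact topologicalKrullDim_affineSpace_field (Y.residueField y) n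

set_option backward.isDefEq.respectTransparency.types false in
/-- Affine space is flat over its base. -/
theorem flat_affineSpace_over (n : Type u) (S : Scheme.{u}) : Flat (𝔸(n; S) ↘ S) :=
  MorphismProperty.pullback_fst _ _ <| by
  have := isIso_of_isTerminal specULiftZIsTerminal.{u} terminalIsTerminal (terminal.from _)
  rw [← terminal.comp_from (Spec.map (CommRingCat.ofHom
      (MvPolynomial.C (R := ULift.{u} ℤ) (σ := n)))),
    MorphismProperty.cancel_right_of_respectsIso (P := @Flat),
    HasRingHomProperty.Spec_iff (P := @Flat)]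
  exact RingHom.flat_algebraMap_iff.mpr
    (inferInstance : Module.Flat (ULift.{u} ℤ) (MvPolynomial n (ULift.{u} ℤ)))

theorem universallyOpen_affineSpace_over (n : Type u) [Finite n] (S : Scheme.{u}) :
    UniversallyOpen (𝔸(n; S) ↘ S) := by
  haveI := flat_affineSpace_over n S
  exact UniversallyOpen.of_flat _

theorem generalizingMap_affineSpace_over (n : Type u) (S : Scheme.{u}) :
    GeneralizingMap (𝔸(n; S) ↘ S) := by
  haveI := flat_affineSpace_over n S
  exact Flat.generalizingMap _

end Groth.Agent.Lib.Helper6.QFac
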