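import Mathlib
import Groth.Agent.Lib.Helper6.UO1
import Groth.Prelude.Def_EGA43

/-!
# Pointwise universal openness can be tested on polynomial rings (ring part)
-/

set_option autoImplicit false
universe u

open TensorProduct CategoryTheory AlgebraicGeometry Limits

namespace Groth.Agent.Lib.Helper6.PUO

open Groth.Agent.Lib.Helper6.Chev

/-- Transfer of openness at a point of `Spec C[σ] → Spec A[σ]` along an equivalence of the
variables. -/
theorem isOpenAt_comap_map_of_equiv {A C : Type u} [CommRing A] [CommRing C] (φ : A →+* C)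
    {σ τ : Type u} (e : σ ≃ τ) (q : PrimeSpectrum (MvPolynomial σ C))
    (H : EGA43.IsOpenAt (PrimeSpectrum.comap
      (MvPolynomial.map φ : MvPolynomial τ A →+* MvPolynomial τ C))
      (PrimeSpectrum.comap ((MvPolynomial.renameEquiv C e.symm : MvPolynomial τ C ≃ₐ[C]
        MvPolynomial σ C) : MvPolynomial τ C →+* MvPolynomial σ C) q)) :
    EGA43.IsOpenAt (PrimeSpectrum.comap
      (MvPolynomial.map φ : MvPolynomial σ A →+* MvPolynomial σ C)) q := by
  have h : (PrimeSpectrum.comap (MvPolynomial.map φ : MvPolynomial σ A →+* MvPolynomial σ C)) =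
      PrimeSpectrum.comap ((MvPolynomial.renameEquiv A e : MvPolynomial σ A ≃ₐ[A]
        MvPolynomial τ A) : MvPolynomial σ A →+* MvPolynomial τ A) ∘
      PrimeSpectrum.comap (MvPolynomial.map φ : MvPolynomial τ A →+* MvPolynomial τ C) ∘
      PrimeSpectrum.comap ((MvPolynomial.renameEquiv C e.symm : MvPolynomial τ C ≃ₐ[C]
        MvPolynomial σ C) : MvPolynomial τ C →+* MvPolynomial σ C) := by
    funext P
    simp only [Function.comp_apply]
    rw [← PrimeSpectrum.comap_comp_apply, ← PrimeSpectrum.comap_comp_apply]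
    congr 1
    apply MvPolynomial.ringHom_ext
    · intro a
      simp
    · intro i
      simp
  rw [h]
  have h1 : IsOpenMap (PrimeSpectrum.comap ((MvPolynomial.renameEquiv A e : MvPolynomial σ A ≃ₐ[A]
        MvPolynomial τ A) : MvPolynomial σ A →+* MvPolynomial τ A)) :=
    (PrimeSpectrum.isHomeomorph_comap_of_bijective
      (MvPolynomial.renameEquiv A e).bijective).isOpenMap
  have h2 : IsOpenMap (PrimeSpectrum.comap ((MvPolynomial.renameEquiv C e.symm :
      MvPolynomial τ C ≃ₐ[C] MvPolynomial σ C) : MvPolynomial τ C →+* MvPolynomial σ C)) :=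
    (PrimeSpectrum.isHomeomorph_comap_of_bijective
      (MvPolynomial.renameEquiv C e.symm).bijective).isOpenMap
  intro U hU
  rw [Set.image_comp, Set.image_comp]
  exact h1.image_mem_nhds (H _ (h2.image_mem_nhds hU))

attribute [local instance] MvPolynomial.algebraMvPolynomial in
set_option maxHeartbeats 1000000 in
/-- Pointwise universal openness can be tested on polynomial rings in a positive number of
variables (ring form). -/
theorem isOpenAt_comap_tensor {A C R : Type u} [CommRing A] [CommRing C] [CommRing R]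
    [Algebra A C] [Algebra A R] (Q : PrimeSpectrum (R ⊗[A] C))
    (H : ∀ (σ : Type u) [Finite σ] [Nonempty σ] (q₀ : PrimeSpectrum (MvPolynomial σ C)),
      PrimeSpectrum.comap (MvPolynomial.C : C →+* MvPolynomial σ C) q₀ =
        PrimeSpectrum.comap
          (Algebra.TensorProduct.includeRight : C →ₐ[A] R ⊗[A] C).toRingHom Q →
      EGA43.IsOpenAt (PrimeSpectrum.comap
        (MvPolynomial.map (algebraMap A C) : MvPolynomial σ A →+* MvPolynomial σ C)) q₀) :
    EGA43.IsOpenAt (PrimeSpectrum.comap (algebraMap R (R ⊗[A] C))) Q := by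
  classical
  intro N hN
  obtain ⟨_, ⟨_, ⟨g, rfl⟩, rfl⟩, hQg, hgN⟩ :=
    PrimeSpectrum.isBasis_basic_opens.mem_nhds_iff.mp hN
  obtain ⟨s₀, hs₀⟩ := TensorProduct.exists_finset g
  obtain ⟨s, hs, hne⟩ : ∃ s : Finset (R × C), g = ∑ i ∈ s, i.1 ⊗ₜ[A] i.2 ∧ s.Nonempty := by
    refine ⟨insert (0, 0) s₀, ?_, Finset.insert_nonempty _ _⟩
    by_cases h0 : ((0 : R), (0 : C)) ∈ s₀
    · rw [Finset.insert_eq_of_mem h0]; exact hs₀
    · rw [Finset.sum_insert h0, ← hs₀]; simp
  haveI : Nonempty ↥s := hne.to_subtype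
  let π : MvPolynomial (↥s) A →ₐ[A] R := MvPolynomial.aeval (fun i => i.1.1)
  let ρ : MvPolynomial (↥s) C →+* R ⊗[A] C :=
    MvPolynomial.eval₂Hom (Algebra.TensorProduct.includeRight : C →ₐ[A] R ⊗[A] C).toRingHom
      (fun i => i.1.1 ⊗ₜ[A] (1 : C))
  let g₀ : MvPolynomial (↥s) C := ∑ i : ↥s, MvPolynomial.X i * MvPolynomial.C i.1.2
  have hρg : ρ g₀ = g := by
    simp only [ρ, g₀, map_sum, map_mul, MvPolynomial.eval₂Hom_X', MvPolynomial.eval₂Hom_C]
    rw [hs, ← Finset.sum_coe_sort s]
    refine Finset.sum_congr rfl fun i _ => ?_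
    simp [Algebra.TensorProduct.tmul_mul_tmul]
  have hright : IsPullback
      (Spec.map (CommRingCat.ofHom (algebraMap C (MvPolynomial (↥s) C))))
      (Spec.map (CommRingCat.ofHom (algebraMap (MvPolynomial (↥s) A) (MvPolynomial (↥s) C))))
      (Spec.map (CommRingCat.ofHom (algebraMap A C)))
      (Spec.map (CommRingCat.ofHom (algebraMap A (MvPolynomial (↥s) A)))) :=
    isPullback_SpecMap_of_isPushout _ _ _ _
      (CommRingCat.isPushout_of_isPushout A C (MvPolynomial (↥s) A) (MvPolynomial (↥s) C))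
  have hbig : IsPullback
      (Spec.map (CommRingCat.ofHom
        (Algebra.TensorProduct.includeRight : C →ₐ[A] R ⊗[A] C).toRingHom))
      (Spec.map (CommRingCat.ofHom (algebraMap R (R ⊗[A] C))))
      (Spec.map (CommRingCat.ofHom (algebraMap A C)))
      (Spec.map (CommRingCat.ofHom (algebraMap A R))) :=
    (isPullback_SpecMap_of_isPushout _ _ _ _ (CommRingCat.isPushout_tensorProduct A R C)).flip
  have r1 : ρ.comp (MvPolynomial.C : C →+* MvPolynomial (↥s) C) =
      (Algebra.TensorProduct.includeRight : C →ₐ[A] R ⊗[A] C).toRingHom := by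
    ext c
    simp [ρ]
  have e1 : Spec.map (CommRingCat.ofHom ρ) ≫
      Spec.map (CommRingCat.ofHom (algebraMap C (MvPolynomial (↥s) C))) =
      Spec.map (CommRingCat.ofHom
        (Algebra.TensorProduct.includeRight : C →ₐ[A] R ⊗[A] C).toRingHom) := by
    rw [← Spec.map_comp, ← CommRingCat.ofHom_comp]
    congr 2
  have e2 : Spec.map (CommRingCat.ofHom π.toRingHom) ≫
      Spec.map (CommRingCat.ofHom (algebraMap A (MvPolynomial (↥s) A))) =
      Spec.map (CommRingCat.ofHom (algebraMap A R)) := by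
    rw [← Spec.map_comp, ← CommRingCat.ofHom_comp]
    congr 2
    ext a
    simp [π]
  have r3 : ρ.comp (MvPolynomial.map (algebraMap A C) :
      MvPolynomial (↥s) A →+* MvPolynomial (↥s) C) =
      (algebraMap R (R ⊗[A] C)).comp π.toRingHom := by
    apply MvPolynomial.ringHom_ext
    · intro a
      simp only [RingHom.comp_apply, MvPolynomial.map_C]
      simp [ρ, π, Algebra.TensorProduct.algebraMap_apply]
    · intro i
      simp only [RingHom.comp_apply, MvPolynomial.map_X]
      simp [ρ, π]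
  have e3 : Spec.map (CommRingCat.ofHom ρ) ≫
      Spec.map (CommRingCat.ofHom (algebraMap (MvPolynomial (↥s) A) (MvPolynomial (↥s) C))) =
      Spec.map (CommRingCat.ofHom (algebraMap R (R ⊗[A] C))) ≫
        Spec.map (CommRingCat.ofHom π.toRingHom) := by
    rw [← Spec.map_comp, ← Spec.map_comp, ← CommRingCat.ofHom_comp, ← CommRingCat.ofHom_comp]
    congr 2
  have hleft : IsPullback (Spec.map (CommRingCat.ofHom ρ))
      (Spec.map (CommRingCat.ofHom (algebraMap R (R ⊗[A] C))))
      (Spec.map (CommRingCat.ofHom (algebraMap (MvPolynomial (↥s) A) (MvPolynomial (↥s) C))))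
      (Spec.map (CommRingCat.ofHom π.toRingHom)) := by
    refine IsPullback.of_right ?_ e3 hright
    rw [e1, e2]
    exact hbig
  have key := Scheme.image_preimage_eq_of_isPullback hleft
    (PrimeSpectrum.basicOpen g₀ : Set (PrimeSpectrum (MvPolynomial (↥s) C)))
  have h1 : (PrimeSpectrum.comap (algebraMap R (R ⊗[A] C))) ''
      (PrimeSpectrum.basicOpen g : Set (PrimeSpectrum (R ⊗[A] C))) =
      (PrimeSpectrum.comap π.toRingHom) ⁻¹' ((PrimeSpectrum.comap
        (MvPolynomial.map (algebraMap A C) : MvPolynomial (↥s) A →+* MvPolynomial (↥s) C)) ''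
        (PrimeSpectrum.basicOpen g₀ : Set (PrimeSpectrum (MvPolynomial (↥s) C)))) := by
    rw [← hρg, ← PrimeSpectrum.comap_basicOpen]
    exact key
  -- the point
  set q₀ : PrimeSpectrum (MvPolynomial (↥s) C) := PrimeSpectrum.comap ρ Q with hq₀
  have hq₀g : q₀ ∈ (PrimeSpectrum.basicOpen g₀ : Set (PrimeSpectrum (MvPolynomial (↥s) C))) := by
    change g₀ ∉ q₀.asIdeal
    rw [hq₀, PrimeSpectrum.comap_asIdeal, Ideal.mem_comap, hρg]
    exact hQg
  have hq₀C : PrimeSpectrum.comap (MvPolynomial.C : C →+* MvPolynomial (↥s) C) q₀ =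
      PrimeSpectrum.comap
        (Algebra.TensorProduct.includeRight : C →ₐ[A] R ⊗[A] C).toRingHom Q := by
    rw [hq₀, ← PrimeSpectrum.comap_comp_apply, r1]
  have hopen := H (↥s) q₀ hq₀C _ ((PrimeSpectrum.basicOpen g₀).2.mem_nhds hq₀g)
  have hpt : PrimeSpectrum.comap
      (MvPolynomial.map (algebraMap A C) : MvPolynomial (↥s) A →+* MvPolynomial (↥s) C) q₀ =
      PrimeSpectrum.comap π.toRingHom (PrimeSpectrum.comap (algebraMap R (R ⊗[A] C)) Q) := by
    rw [hq₀, ← PrimeSpectrum.comap_comp_apply, ← PrimeSpectrum.comap_comp_apply, r3]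
  rw [hpt] at hopen
  have h2 : (PrimeSpectrum.comap π.toRingHom) ⁻¹' ((PrimeSpectrum.comap
        (MvPolynomial.map (algebraMap A C) : MvPolynomial (↥s) A →+* MvPolynomial (↥s) C)) ''
        (PrimeSpectrum.basicOpen g₀ : Set (PrimeSpectrum (MvPolynomial (↥s) C)))) ∈
      nhds (PrimeSpectrum.comap (algebraMap R (R ⊗[A] C)) Q) :=
    (PrimeSpectrum.continuous_comap π.toRingHom).continuousAt hopen
  rw [← h1] at h2
  exact Filter.mem_of_superset h2 (Set.image_mono hgN)

end Groth.Agent.Lib.Helper6.PUO
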