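import Mathlib
import Groth.Prelude.Def_EGA43
import Groth.Agent.Lib.Helper14.UnivOpenAt

/-!
# Pointwise universal openness: formal lemmas
-/

set_option autoImplicit false
set_option linter.style.haveILetI false
universe u
open AlgebraicGeometry CategoryTheory Limits TopologicalSpace

namespace Groth.Agent.Lib.Helper6.QFac

open Groth.Agent.Lib.Helper14.UOA EGA43

/-- generisations inside a fibre lift along base change (the map between fibres is flat) -/
theorem exists_generization_of_isPullback {P X Y Z : Scheme.{u}} {fst : P ⟶ X} {snd : P ⟶ Y}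
    {f : X ⟶ Z} {g : Y ⟶ Z} (h : IsPullback fst snd f g) (p : P) (ζ : X) (hζ : ζ ⤳ fst p)
    (hfζ : f ζ = f (fst p)) : ∃ ζ' : P, ζ' ⤳ p ∧ fst ζ' = ζ ∧ snd ζ' = snd p := by
  have hsq := isPullback_fiberToSpecResidueField_of_isPullback h (snd p)
  set φ : snd.fiber (snd p) ⟶ f.fiber (g (snd p)) :=
    pullback.map snd (Y.fromSpecResidueField (snd p)) f (Z.fromSpecResidueField (g (snd p))) fst
    (Spec.map (g.residueFieldMap (snd p))) g h.w.symm (by simp) with hφ
  haveI : Flat (Spec.map (g.residueFieldMap (snd p))) := by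
    rw [HasRingHomProperty.Spec_iff (P := @Flat)]
    algebraize [(g.residueFieldMap (snd p)).hom]
    exact RingHom.flat_algebraMap_iff.mpr inferInstance
  haveI : Flat φ := MorphismProperty.of_isPullback (P := @Flat) hsq.flip inferInstance
  have hφι : φ ≫ f.fiberι (g (snd p)) = snd.fiberι (snd p) ≫ fst := by
    rw [hφ]
    exact pullback.lift_fst _ _ _
  have key : ∀ w : snd.fiber (snd p),
      f.fiberι (g (snd p)) (φ w) = fst (snd.fiberι (snd p) w) := fun w =>
    congrArg (fun k : snd.fiber (snd p) ⟶ X => k w) hφι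
  have hgy : f ζ = g (snd p) := by
    rw [hfζ]
    exact congrArg (fun k : P ⟶ Z => k p) h.w
  let ζy : f.fiber (g (snd p)) := (f.fiberHomeo (g (snd p))).symm ⟨ζ, hgy⟩
  have hζy : f.fiberι (g (snd p)) ζy = ζ :=
    Scheme.Hom.fiberι_fiberHomeo_symm f (g (snd p)) ⟨ζ, hgy⟩
  have hpy : f.fiberι (g (snd p)) (φ (snd.asFiber p)) = fst p := by
    rw [key, Scheme.Hom.fiberι_asFiber]
  have hsp : ζy ⤳ φ (snd.asFiber p) := by
    rw [← (f.fiberι (g (snd p))).isEmbedding.isInducing.specializes_iff, hζy, hpy]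
    exact hζ
  obtain ⟨ζ'y, hζ'y, hφζ'⟩ := Flat.generalizingMap φ hsp
  refine ⟨snd.fiberι (snd p) ζ'y, ?_, ?_, ?_⟩
  · have := hζ'y.map (snd.fiberι (snd p)).continuous
    rwa [Scheme.Hom.fiberι_asFiber] at this
  · rw [← key, hφζ', hζy]
  · exact (snd.fiberHomeo (snd p) ζ'y).2

/-- universal openness at a point can be checked on a scheme mapping to the source -/
theorem isUnivOpenAt_of_comp {W X Y : Scheme.{u}} (ι : W ⟶ X) (f : X ⟶ Y) (w : W)
    (h : IsUnivOpenAt (ι ≫ f) w) : IsUnivOpenAt f (ι w) := by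
  intro Y' g x' hx'
  -- the pullback of `ι` along `pullback.fst f g`
  have sq1 : IsPullback (pullback.fst ι (pullback.fst f g)) (pullback.snd ι (pullback.fst f g)) ι
      (pullback.fst f g) := IsPullback.of_hasPullback _ _
  have sq2 : IsPullback (pullback.fst f g) (pullback.snd f g) f g := IsPullback.of_hasPullback _ _
  have sq := sq1.paste_vert sq2
  obtain ⟨z, hz1, hz2⟩ := exists_preimage_of_isPullback sq1 w x' hx'.symm
  have hop := isOpenAt_snd_of_isUnivOpenAt h sq z hz1
  intro N hN
  have hN' : (pullback.snd ι (pullback.fst f g)) ⁻¹' N ∈ nhds z :=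
    (pullback.snd ι (pullback.fst f g)).continuous.continuousAt (by rw [hz2]; exact hN)
  have h3 := hop _ hN'
  have h4 : (pullback.snd ι (pullback.fst f g) ≫ pullback.snd f g) z = (pullback.snd f g) x' := by
    rw [Scheme.Hom.comp_apply, hz2]
  rw [h4] at h3
  refine Filter.mem_of_superset h3 ?_
  rintro _ ⟨a, ha, rfl⟩
  exact ⟨(pullback.snd ι (pullback.fst f g)) a, ha, rfl⟩

theorem isUnivOpenAt_of_universallyOpen {X Y : Scheme.{u}} (f : X ⟶ Y) [hf : UniversallyOpen f]
    (x : X) : IsUnivOpenAt f x := by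
  intro Y' g x' _
  have : UniversallyOpen (pullback.snd f g) := inferInstance
  exact isOpenAt_of_isOpenMap _ (pullback.snd f g).isOpenMap x'

theorem universallyOpen_of_forall_isUnivOpenAt {X Y : Scheme.{u}} (f : X ⟶ Y)
    (h : ∀ x, IsUnivOpenAt f x) : UniversallyOpen f := by
  rw [UniversallyOpen.eq]
  intro P T i₁ i₂ f' hsq
  intro N hN
  rw [isOpen_iff_mem_nhds]
  rintro _ ⟨a, ha, rfl⟩
  exact isOpenAt_snd_of_isUnivOpenAt (h (i₁ a)) hsq.flip a rfl N (hN.mem_nhds ha)

/-- universal openness at the maximal points of a fibre implies universal openness at all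
points of the fibre, provided every point of the fibre has a maximal generisation in it -/
theorem isUnivOpenAt_of_maximal {X Y : Scheme.{u}} (f : X ⟶ Y) (x : X) (ζ : X) (hζx : ζ ⤳ x)
    (hfζ : f ζ = f x) (h : IsUnivOpenAt f ζ) : IsUnivOpenAt f x := by
  intro Y' g x' hx'
  have sq : IsPullback (pullback.fst f g) (pullback.snd f g) f g := IsPullback.of_hasPullback _ _
  obtain ⟨ζ', hζ', h1, h2⟩ := exists_generization_of_isPullback sq x' ζ (by rw [hx']; exact hζx)
    (by rw [hx']; exact hfζ)
  intro N hN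
  have hN' : N ∈ nhds ζ' := by
    obtain ⟨O, hON, hO, hxO⟩ := mem_nhds_iff.mp hN
    exact Filter.mem_of_superset (hO.mem_nhds (hζ'.mem_open hO hxO)) hON
  have := h Y' g ζ' h1 N hN'
  rwa [h2] at this

end Groth.Agent.Lib.Helper6.QFac
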