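import Mathlib
import Groth.Agent.Lib.Helper6.UO4

/-!
# Universal openness over Dedekind-like bases: torsion-free reductions
-/

set_option autoImplicit false
universe u

open TensorProduct CategoryTheory AlgebraicGeometry Limits

namespace Groth.Agent.Lib.Helper6.UO

/-- If `g` is surjective and `g ≫ f` is universally open, then `f` is universally open. -/
theorem universallyOpen_of_comp_surjective {X' X Y : Scheme.{u}} (g : X' ⟶ X) (f : X ⟶ Y)
    [Surjective g] [hgf : UniversallyOpen (g ≫ f)] : UniversallyOpen f := by
  rw [UniversallyOpen.eq] at hgf ⊢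
  intro P T i₁ i₂ f' hsq
  have htop : IsPullback (pullback.fst g i₁) (pullback.snd g i₁) g i₁ :=
    IsPullback.of_hasPullback _ _
  have hpaste := htop.paste_vert hsq.flip
  have hopen : IsOpenMap ⇑(pullback.snd g i₁ ≫ f') := hgf _ _ _ hpaste.flip
  haveI : Surjective (pullback.snd g i₁) := inferInstance
  intro W hW
  have h3 : f' '' W = (pullback.snd g i₁ ≫ f') '' ((pullback.snd g i₁) ⁻¹' W) := by
    ext z
    constructor
    · rintro ⟨w, hw, rfl⟩
      obtain ⟨w', rfl⟩ := (pullback.snd g i₁).surjective w
      exact ⟨w', hw, by simp⟩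
    · rintro ⟨w', hw', rfl⟩
      exact ⟨(pullback.snd g i₁) w', hw', by simp⟩
  rw [h3]
  exact hopen _ (hW.preimage (pullback.snd g i₁).continuous)

/-- Over a domain all of whose localizations at maximal ideals are valuation rings, a finite type
algebra whose minimal primes all contract to zero has a universally open spectrum map. -/
theorem universallyOpen_SpecMap_of_minimalPrimes {A B : Type u} [CommRing A] [IsDomain A]
    [IsNoetherianRing A] [CommRing B] [Algebra A B] [Algebra.FiniteType A B]
    (hval : ∀ (P : Ideal A) [P.IsMaximal], ValuationRing (Localization P.primeCompl))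
    (hmin : ∀ q ∈ minimalPrimes B, q.comap (algebraMap A B) = ⊥) :
    UniversallyOpen (Spec.map (CommRingCat.ofHom (algebraMap A B))) := by
  let Br := B ⧸ nilradical B
  -- torsion-freeness of the reduction
  have htf : Submodule.torsion A Br = ⊥ := by
    rw [eq_bot_iff]
    rintro β' ⟨⟨a, ha⟩, hβ⟩
    obtain ⟨β, rfl⟩ := Ideal.Quotient.mk_surjective β'
    have ha0 : a ≠ 0 := nonZeroDivisors.ne_zero ha
    change a • (Ideal.Quotient.mk (nilradical B) β) = 0 at hβ
    rw [Submodule.mem_bot, Ideal.Quotient.eq_zero_iff_mem, nilradical_eq_sInf, Ideal.mem_sInf]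
    intro q hq
    haveI : q.IsPrime := hq
    obtain ⟨q₀, hq₀, hq₀q⟩ := Ideal.exists_minimalPrimes_le (I := (⊥ : Ideal B)) (J := q) bot_le
    haveI : q₀.IsPrime := hq₀.1.1
    apply hq₀q
    have h1 : algebraMap A B a * β ∈ nilradical B := by
      rw [← Ideal.Quotient.eq_zero_iff_mem, map_mul]
      rw [Algebra.smul_def] at hβ
      exact hβ
    have h2 : algebraMap A B a * β ∈ q₀ := nilradical_le_prime q₀ h1
    rcases Ideal.IsPrime.mem_or_mem ‹_› h2 with h3 | h3
    · exfalso
      have h4 : a ∈ q₀.comap (algebraMap A B) := h3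
      rw [hmin q₀ hq₀] at h4
      exact ha0 h4
    · exact h3
  haveI : Module.Flat A Br :=
    (Module.Flat.flat_iff_torsion_eq_bot_of_valuationRing_localization_isMaximal hval).mpr htf
  haveI : Algebra.FiniteType A Br :=
    Algebra.FiniteType.of_surjective (Ideal.Quotient.mkₐ A (nilradical B))
      Ideal.Quotient.mk_surjective
  haveI : Algebra.FinitePresentation A Br := Algebra.FinitePresentation.of_finiteType.mp inferInstance
  haveI : Flat (Spec.map (CommRingCat.ofHom (algebraMap A Br))) := by
    rw [HasRingHomProperty.Spec_iff (P := @Flat)]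
    exact (RingHom.flat_algebraMap_iff).mpr inferInstance
  haveI : LocallyOfFinitePresentation (Spec.map (CommRingCat.ofHom (algebraMap A Br))) := by
    rw [HasRingHomProperty.Spec_iff (P := @LocallyOfFinitePresentation)]
    exact (RingHom.finitePresentation_algebraMap).mpr inferInstance
  have hcomp : Spec.map (CommRingCat.ofHom (algebraMap A Br)) =
      Spec.map (CommRingCat.ofHom (Ideal.Quotient.mk (nilradical B))) ≫
        Spec.map (CommRingCat.ofHom (algebraMap A B)) := by
    rw [← Spec.map_comp, ← CommRingCat.ofHom_comp]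
  haveI : Surjective (Spec.map (CommRingCat.ofHom (Ideal.Quotient.mk (nilradical B)))) := by
    constructor
    intro x
    have : (show PrimeSpectrum B from x) ∈ Set.range (PrimeSpectrum.comap
        (Ideal.Quotient.mk (nilradical B))) := by
      rw [range_comap_of_surjective _ _ Ideal.Quotient.mk_surjective, Ideal.mk_ker]
      exact nilradical_le_prime _
    exact this
  haveI : UniversallyOpen (Spec.map (CommRingCat.ofHom (Ideal.Quotient.mk (nilradical B))) ≫
      Spec.map (CommRingCat.ofHom (algebraMap A B))) := by
    rw [← hcomp]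
    infer_instance
  exact universallyOpen_of_comp_surjective
    (Spec.map (CommRingCat.ofHom (Ideal.Quotient.mk (nilradical B)))) _

end Groth.Agent.Lib.Helper6.UO
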