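import Mathlib
import Groth.Agent.Lib.Helper6.UO5
import Groth.Agent.Lib.Helper21.MinFin3
import Groth.Agent.Lib.Helper21.RegularLocal

/-!
# Universal openness over a one-dimensional regular base near a fibre
-/

set_option autoImplicit false
universe u

open TensorProduct CategoryTheory AlgebraicGeometry Limits

namespace Groth.Agent.Lib.Helper6.UO

open Groth.Agent.Lib.Helper6.Chev Groth.Agent.Lib.Helper21 Groth.Agent.Lib.Helper21.MinFin

/-- Localizations of the coordinate ring of an affine open of a scheme with regular local rings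
of dimension at most one are valuation rings. -/
theorem valuationRing_localization_of_regular_stalks {Y : Scheme.{u}} [IsIntegral Y]
    [IsLocallyNoetherian Y]
    (hY : ∀ y : Y, IsRegularLocalRing (Y.presheaf.stalk y) ∧ ringKrullDim (Y.presheaf.stalk y) ≤ 1)
    (V : Y.Opens) (hV : IsAffineOpen V) [Nonempty V] (P : Ideal Γ(Y, V)) [hP : P.IsPrime] :
    ValuationRing (Localization P.primeCompl) := by
  let y : PrimeSpectrum Γ(Y, V) := ⟨P, hP⟩
  have hy : hV.fromSpec y ∈ V := (hV.isoSpec.inv _).2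
  letI : Algebra Γ(Y, V) (Y.presheaf.stalk (hV.fromSpec y)) :=
    TopCat.Presheaf.algebra_section_stalk Y.presheaf ⟨hV.fromSpec y, hy⟩
  haveI : IsLocalization.AtPrime (Y.presheaf.stalk (hV.fromSpec y)) P :=
    hV.isLocalization_stalk' y hy
  let e : Y.presheaf.stalk (hV.fromSpec y) ≃+* Localization.AtPrime P :=
    (IsLocalization.algEquiv P.primeCompl (Y.presheaf.stalk (hV.fromSpec y))
      (Localization.AtPrime P)).toRingEquiv
  haveI := (hY (hV.fromSpec y)).1
  haveI : IsRegularLocalRing (Localization.AtPrime P) := IsRegularLocalRing.of_ringEquiv e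
  haveI : IsNoetherianRing Γ(Y, V) := IsLocallyNoetherian.component_noetherian ⟨V, hV⟩
  have hdim : ringKrullDim (Localization.AtPrime P) ≤ 1 := by
    rw [← ringKrullDim_eq_of_ringEquiv e]
    exact (hY _).2
  have h1 := (IsRegularLocalRing.iff_finrank_cotangentSpace (Localization.AtPrime P)).mp
    inferInstance
  have h2 : Module.finrank (IsLocalRing.ResidueField (Localization.AtPrime P))
      (IsLocalRing.CotangentSpace (Localization.AtPrime P)) ≤ 1 := by
    have : ((Module.finrank (IsLocalRing.ResidueField (Localization.AtPrime P))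
        (IsLocalRing.CotangentSpace (Localization.AtPrime P)) : ℕ) : WithBot ℕ∞) ≤ 1 :=
      h1 ▸ hdim
    exact_mod_cast this
  exact ((tfae_of_isNoetherianRing_of_isLocalRing_of_isDomain (Localization.AtPrime P)).out 5 1).mp
    h2

/-- The prime of the generic point of an integral scheme in an affine chart is zero. -/
theorem primeIdealOf_genericPoint_eq_bot {Y : Scheme.{u}} [IsIntegral Y] (V : Y.Opens)
    (hV : IsAffineOpen V) [Nonempty V] (hη : genericPoint Y ∈ V) :
    (hV.primeIdealOf ⟨genericPoint Y, hη⟩).asIdeal = ⊥ := by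
  have hbot : (⊥ : Ideal Γ(Y, V)).IsPrime := Ideal.isPrime_bot
  let z : PrimeSpectrum Γ(Y, V) := ⟨⊥, hbot⟩
  have hz : hV.fromSpec z ∈ V := fromSpec_mem hV z
  have h1 : genericPoint Y ⤳ hV.fromSpec z := by
    rw [specializes_iff_mem_closure, (genericPoint_spec Y).def]; trivial
  have h2 := (Groth.Agent.Lib.Helper21.ChartPt.specializes_iff_primeIdealOf_le hV
    ⟨genericPoint Y, hη⟩ ⟨hV.fromSpec z, hz⟩).mp h1
  rw [primeIdealOf_fromSpec hV z] at h2
  exact le_bot_iff.mp h2

set_option maxHeartbeats 1000000 in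
/-- Local step: a neighbourhood of a point of the fibre over which `f` is universally open. -/
theorem exists_nhd_universallyOpen_of_dedekind {X Y : Scheme.{u}} [IsLocallyNoetherian Y]
    [IsIntegral Y]
    (hY : ∀ y : Y, IsRegularLocalRing (Y.presheaf.stalk y) ∧ ringKrullDim (Y.presheaf.stalk y) ≤ 1)
    (f : X ⟶ Y) [LocallyOfFiniteType f] (x : X)
    (h : ∀ Z ∈ irreducibleComponents (X : Type u), x ∈ Z → Dense (f '' Z)) :
    ∃ W : X.Opens, x ∈ W ∧ UniversallyOpen (W.ι ≫ f) := by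
  classical
  obtain ⟨_, ⟨V, hV : IsAffineOpen V, rfl⟩, hfx, -⟩ :=
    Y.isBasis_affineOpens.exists_subset_of_mem_open (Set.mem_univ (f x)) isOpen_univ
  obtain ⟨_, ⟨W₀, hW₀ : IsAffineOpen W₀, rfl⟩, hxW₀, hW₀V⟩ :=
    X.isBasis_affineOpens.exists_subset_of_mem_open (show x ∈ (f ⁻¹ᵁ V : Set X) from hfx)
      (f ⁻¹ᵁ V).isOpen
  have e₀ : W₀ ≤ f ⁻¹ᵁ V := hW₀V
  haveI : Nonempty V := ⟨⟨f x, hfx⟩⟩
  haveI : IsLocallyNoetherian X := LocallyOfFiniteType.isLocallyNoetherian f
  haveI : IsNoetherianRing Γ(X, W₀) := IsLocallyNoetherian.component_noetherian ⟨W₀, hW₀⟩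
  haveI : IsNoetherianRing Γ(Y, V) := IsLocallyNoetherian.component_noetherian ⟨V, hV⟩
  set px := hW₀.primeIdealOf ⟨x, hxW₀⟩ with hpx
  -- the finite set of minimal primes
  have hTfin : {q : PrimeSpectrum Γ(X, W₀) | q.asIdeal ∈ minimalPrimes Γ(X, W₀)}.Finite := by
    refine Set.Finite.preimage ?_ (minimalPrimes.finite_of_isNoetherianRing Γ(X, W₀))
    intro a _ b _ hab
    exact PrimeSpectrum.ext hab
  -- bad minimal primes do not specialize to `x`
  let g : PrimeSpectrum Γ(X, W₀) → Y := fun q => f (hW₀.fromSpec q)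
  have hbad : ∀ q : PrimeSpectrum Γ(X, W₀), q.asIdeal ∈ minimalPrimes Γ(X, W₀) →
      g q ≠ genericPoint Y → ∃ c : Γ(X, W₀), c ∈ q.asIdeal ∧ c ∉ px.asIdeal := by
    intro q hq hne
    by_contra hcon
    push Not at hcon
    have hle : q.asIdeal ≤ px.asIdeal := hcon
    have hqW : hW₀.fromSpec q ∈ W₀ := fromSpec_mem hW₀ q
    have hsp : hW₀.fromSpec q ⤳ x := by
      rw [Groth.Agent.Lib.Helper21.ChartPt.specializes_iff_primeIdealOf_le hW₀
        ⟨hW₀.fromSpec q, hqW⟩ ⟨x, hxW₀⟩, primeIdealOf_fromSpec hW₀ q]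
      exact hle
    haveI := q.isPrime
    have hZ : closure {hW₀.fromSpec q} ∈ irreducibleComponents X :=
      closure_mem_irreducibleComponents_of_minimalPrime W₀ hW₀ q.asIdeal hq
    have hd := h _ hZ (specializes_iff_mem_closure.mp hsp)
    have h1 : f '' closure {hW₀.fromSpec q} ⊆ closure {f (hW₀.fromSpec q)} := by
      refine (image_closure_subset_closure_image f.continuous).trans ?_
      rw [Set.image_singleton]
    have h2 : closure {f (hW₀.fromSpec q)} = Set.univ := by
      have := hd.mono h1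
      rw [dense_closure] at this
      exact this.closure_eq
    have h3 : IsGenericPoint (f (hW₀.fromSpec q)) Set.univ := h2
    exact hne (h3.eq (genericPoint_spec Y))
  choose! c hc1 hc2 using hbad
  set S : Finset (PrimeSpectrum Γ(X, W₀)) :=
    hTfin.toFinset.filter (fun q => g q ≠ genericPoint Y) with hS
  set b : Γ(X, W₀) := ∏ q ∈ S, c q with hb
  have hbx : b ∉ px.asIdeal := by
    rw [hb, Ideal.IsPrime.prod_mem_iff]
    rintro ⟨q, hqS, hcq⟩
    rw [hS, Finset.mem_filter, Set.Finite.mem_toFinset] at hqS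
    exact hc2 q hqS.1 hqS.2 hcq
  have hbq : ∀ q ∈ S, b ∈ q.asIdeal := by
    intro q hqS
    have hqS' := hqS
    rw [hS, Finset.mem_filter, Set.Finite.mem_toFinset] at hqS'
    rw [hb]
    exact Ideal.mem_of_dvd _ (Finset.dvd_prod_of_mem c hqS) (hc1 q hqS'.1 hqS'.2)
  -- the basic open
  have hW : IsAffineOpen (X.basicOpen b) := hW₀.basicOpen b
  have hWW₀ : X.basicOpen b ≤ W₀ := X.basicOpen_le b
  have hxW : x ∈ X.basicOpen b :=
    (Groth.Agent.Lib.Helper7.mem_basicOpen_iff_notMem_primeIdealOf X hW₀ x hxW₀ b).mpr hbx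
  have e : X.basicOpen b ≤ f ⁻¹ᵁ V := hWW₀.trans e₀
  refine ⟨X.basicOpen b, hxW, ?_⟩
  -- ring-level input
  letI : Algebra Γ(Y, V) Γ(X, X.basicOpen b) := (f.appLE V (X.basicOpen b) e).hom.toAlgebra
  haveI : Algebra.FiniteType Γ(Y, V) Γ(X, X.basicOpen b) :=
    HasRingHomProperty.appLE @LocallyOfFiniteType f inferInstance ⟨V, hV⟩ ⟨X.basicOpen b, hW⟩ e
  have hmin : ∀ q' ∈ minimalPrimes Γ(X, X.basicOpen b),
      q'.comap (algebraMap Γ(Y, V) Γ(X, X.basicOpen b)) = ⊥ := by
    intro q' hq'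
    haveI : q'.IsPrime := hq'.1.1
    set ξ := hW.fromSpec ⟨q', inferInstance⟩ with hξ
    have hξW : ξ ∈ X.basicOpen b := fromSpec_mem hW _
    have hξW₀ : ξ ∈ W₀ := hWW₀ hξW
    have hZ : closure {ξ} ∈ irreducibleComponents X :=
      closure_mem_irreducibleComponents_of_minimalPrime (X.basicOpen b) hW q' hq'
    have hqmin := primeIdealOf_mem_minimalPrimes hW₀ ξ hZ hξW₀
    have hbq' : b ∉ (hW₀.primeIdealOf ⟨ξ, hξW₀⟩).asIdeal :=
      (Groth.Agent.Lib.Helper7.mem_basicOpen_iff_notMem_primeIdealOf X hW₀ ξ hξW₀ b).mp hξW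
    have hfξ : f ξ = genericPoint Y := by
      by_contra hne
      apply hbq'
      apply hbq
      rw [hS, Finset.mem_filter, Set.Finite.mem_toFinset]
      refine ⟨hqmin, ?_⟩
      change f (hW₀.fromSpec (hW₀.primeIdealOf ⟨ξ, hξW₀⟩)) ≠ genericPoint Y
      rw [hW₀.fromSpec_primeIdealOf ⟨ξ, hξW₀⟩]
      exact hne
    have h1 := IsAffineOpen.comap_primeIdealOf_appLE (f := f) V hV (X.basicOpen b) hW e hξW
    have h2 : hW.primeIdealOf ⟨ξ, hξW⟩ = ⟨q', inferInstance⟩ := primeIdealOf_fromSpec hW _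
    have h3 : (hV.primeIdealOf ⟨f ξ, e hξW⟩).asIdeal = ⊥ := by
      have key : ∀ (z : Y) (hz : z ∈ V), z = genericPoint Y →
          (hV.primeIdealOf ⟨z, hz⟩).asIdeal = ⊥ := by
        rintro z hz rfl
        exact primeIdealOf_genericPoint_eq_bot V hV hz
      exact key _ _ hfξ
    rw [h2] at h1
    have h4 := congrArg PrimeSpectrum.asIdeal h1
    rw [h3] at h4
    exact h4
  have hval : ∀ (P : Ideal Γ(Y, V)) [P.IsMaximal], ValuationRing (Localization P.primeCompl) :=
    fun P _ => valuationRing_localization_of_regular_stalks hY V hV P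
  have huo := universallyOpen_SpecMap_of_minimalPrimes (A := Γ(Y, V))
    (B := Γ(X, X.basicOpen b)) hval hmin
  have hφ : CommRingCat.ofHom (algebraMap Γ(Y, V) Γ(X, X.basicOpen b)) =
      f.appLE V (X.basicOpen b) e := rfl
  rw [hφ] at huo
  have hfac : (X.basicOpen b).ι ≫ f =
      hW.isoSpec.hom ≫ Spec.map (f.appLE V (X.basicOpen b) e) ≫ hV.fromSpec := by
    rw [IsAffineOpen.SpecMap_appLE_fromSpec f hV hW e, ← Category.assoc]
    congr 1
    rw [← hW.isoSpec_inv_ι, Iso.hom_inv_id_assoc]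
  rw [hfac]
  infer_instance

/-- **EGA IV 14.?**: over an irreducible locally Noetherian scheme with regular local rings of
dimension at most one, if every component of `X` meeting the fibre over `y` dominates, then `f` is
universally open on a neighbourhood of the fibre. -/
theorem exists_open_universallyOpen_of_dedekind {X Y : Scheme.{u}} [IsLocallyNoetherian Y]
    [IrreducibleSpace Y]
    (hY : ∀ y : Y, IsRegularLocalRing (Y.presheaf.stalk y) ∧ ringKrullDim (Y.presheaf.stalk y) ≤ 1)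
    (f : X ⟶ Y) [LocallyOfFiniteType f] (y : Y)
    (h : ∀ Z ∈ irreducibleComponents (X : Type u), (Z ∩ f ⁻¹' {y}).Nonempty → Dense (f '' Z)) :
    ∃ U : X.Opens, f ⁻¹' {y} ⊆ (U : Set X) ∧ UniversallyOpen (U.ι ≫ f) := by
  haveI : IsReduced Y := by
    haveI : ∀ y : Y, _root_.IsReduced (Y.presheaf.stalk y) := fun y => by
      haveI := (hY y).1
      haveI := isDomain_of_isRegularLocalRing (Y.presheaf.stalk y)
      infer_instance
    exact isReduced_of_isReduced_stalk Y
  haveI : IsIntegral Y := isIntegral_of_irreducibleSpace_of_isReduced Y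
  have hloc : ∀ x : X, f x = y → ∃ W : X.Opens, x ∈ W ∧ UniversallyOpen (W.ι ≫ f) := by
    intro x hx
    exact exists_nhd_universallyOpen_of_dedekind hY f x
      (fun Z hZ hxZ => h Z hZ ⟨x, hxZ, hx⟩)
  choose W hW1 hW2 using hloc
  refine ⟨⨆ x : {x : X // f x = y}, W x.1 x.2, ?_, ?_⟩
  · intro x hx
    exact TopologicalSpace.Opens.mem_iSup.mpr ⟨⟨x, hx⟩, hW1 x hx⟩
  · refine of_forall_exists_openImmersion @UniversallyOpen _ fun u => ?_
    obtain ⟨⟨x, hx⟩, hu⟩ := TopologicalSpace.Opens.mem_iSup.mp u.2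
    have hle : W x hx ≤ ⨆ x : {x : X // f x = y}, W x.1 x.2 :=
      le_iSup (fun x : {x : X // f x = y} => W x.1 x.2) ⟨x, hx⟩
    refine ⟨(W x hx).toScheme, X.homOfLE hle, inferInstance, ⟨⟨u.1, hu⟩, ?_⟩, ?_⟩
    · apply Subtype.ext
      exact Scheme.homOfLE_apply hle ⟨u.1, hu⟩
    rw [← Category.assoc, Scheme.homOfLE_ι]
    exact hW2 x hx

end Groth.Agent.Lib.Helper6.UO
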