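import Mathlib
import Groth.Agent.Lib.Helper6.UO6
import Groth.Prelude.Def_EGA43

/-!
# Openness of integral extensions over unibranch points
-/

set_option autoImplicit false
universe u

open TensorProduct CategoryTheory AlgebraicGeometry Limits

namespace Groth.Agent.Lib.Helper6.UBO

open Groth.Agent.Lib.Helper6.GU

/-- An integral extension of domains over an integrally closed base is open on spectra. -/
theorem isOpenMap_comap_of_isIntegrallyClosed {R S : Type u} [CommRing R] [IsDomain R]
    [IsIntegrallyClosed R] [CommRing S] [IsDomain S] [Algebra R S] [FaithfulSMul R S]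
    [Algebra.IsIntegral R S] :
    IsOpenMap (PrimeSpectrum.comap (algebraMap R S)) := by
  rw [PrimeSpectrum.isBasis_basic_opens.isOpenMap_iff]
  rintro _ ⟨_, ⟨s, rfl⟩, rfl⟩
  have hs : IsIntegral R s := Algebra.IsIntegral.isIntegral s
  let T := Algebra.adjoin R ({s} : Set S)
  let s' : T := ⟨s, Algebra.subset_adjoin (Set.mem_singleton s)⟩
  haveI : Algebra.FinitePresentation R T :=
    Algebra.FinitePresentation.equiv (minpoly.equivAdjoin hs)
  haveI : Algebra.IsIntegral R T :=
    ⟨fun t => (isIntegral_algebraMap_iff (A := T) (B := S) Subtype.val_injective).mp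
      (Algebra.IsIntegral.isIntegral (R := R) (t : S))⟩
  have hopenT : IsOpenMap (PrimeSpectrum.comap (algebraMap R T)) :=
    PrimeSpectrum.isOpenMap_comap_of_hasGoingDown_of_finitePresentation
  haveI : Algebra.IsIntegral T S := Algebra.IsIntegral.tower_top (R := R)
  have hsurj : Function.Surjective (PrimeSpectrum.comap (algebraMap T S)) :=
    (algebraMap_isIntegral_iff.mpr inferInstance : (algebraMap T S).IsIntegral).comap_surjective
      Subtype.val_injective
  have himg : (PrimeSpectrum.comap (algebraMap R S)) ''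
      (PrimeSpectrum.basicOpen s : Set (PrimeSpectrum S)) =
      (PrimeSpectrum.comap (algebraMap R T)) ''
        (PrimeSpectrum.basicOpen s' : Set (PrimeSpectrum T)) := by
    have h1 : (PrimeSpectrum.basicOpen s : Set (PrimeSpectrum S)) =
        (PrimeSpectrum.comap (algebraMap T S)) ⁻¹'
          (PrimeSpectrum.basicOpen s' : Set (PrimeSpectrum T)) := by
      ext Q
      simp only [Set.mem_preimage, SetLike.mem_coe, PrimeSpectrum.mem_basicOpen]
      rfl
    rw [h1]
    ext P
    constructor
    · rintro ⟨Q, hQ, rfl⟩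
      refine ⟨PrimeSpectrum.comap (algebraMap T S) Q, hQ, ?_⟩
      rw [← PrimeSpectrum.comap_comp_apply]
      rfl
    · rintro ⟨Q', hQ', rfl⟩
      obtain ⟨Q, rfl⟩ := hsurj Q'
      refine ⟨Q, hQ', ?_⟩
      rw [← PrimeSpectrum.comap_comp_apply]
      rfl
  rw [himg]
  exact hopenT _ (PrimeSpectrum.basicOpen s').2

/-- An integral ring map with nil kernel is surjective on spectra. -/
theorem comap_surjective_of_isIntegral_of_ker_le_nilradical {R S : Type u} [CommRing R]
    [CommRing S] (f : R →+* S) (hf : f.IsIntegral) (hker : RingHom.ker f ≤ nilradical R) :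
    Function.Surjective (PrimeSpectrum.comap f) := by
  intro P
  letI := f.toAlgebra
  haveI : Algebra.IsIntegral R S := ⟨hf⟩
  haveI := P.isPrime
  obtain ⟨Q, -, hQ, hQP⟩ := Ideal.exists_ideal_over_prime_of_isIntegral P.asIdeal (⊥ : Ideal S)
    (by
      rw [← RingHom.ker_eq_comap_bot]
      exact hker.trans (nilradical_le_prime _))
  exact ⟨⟨Q, hQ⟩, PrimeSpectrum.ext hQP⟩

/-- Openness at a point of `Spec S → Spec R` (integral), given a normal domain `R'` integral over
`R` with a unique prime over the image point. -/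
theorem isOpenAt_comap_of_square {R S R' L : Type u} [CommRing R] [CommRing S]
    [CommRing R'] [IsDomain R'] [IsIntegrallyClosed R'] [CommRing L] [IsDomain L]
    (a : R →+* S) (b : R →+* R') (c : R' →+* L) (d : S →+* L) (hcomm : c.comp b = d.comp a)
    (ha : a.IsIntegral) (hb : b.IsIntegral) (hbker : RingHom.ker b ≤ nilradical R)
    (hc : Function.Injective c) (hdker : RingHom.ker d ≤ nilradical S) (q : PrimeSpectrum S)
    (huniq : ∀ P₁ P₂ : PrimeSpectrum R', PrimeSpectrum.comap b P₁ = PrimeSpectrum.comap a q →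
      PrimeSpectrum.comap b P₂ = PrimeSpectrum.comap a q → P₁ = P₂) :
    EGA43.IsOpenAt (PrimeSpectrum.comap a) q := by
  letI : Algebra R' L := c.toAlgebra
  let S' := integralClosure R' L
  have hd_int : ∀ s, d s ∈ S' := by
    intro s
    obtain ⟨p, hp, hps⟩ := ha s
    refine ⟨p.map b, hp.map b, ?_⟩
    rw [Polynomial.eval₂_map]
    change Polynomial.eval₂ (c.comp b) (d s) p = 0
    rw [hcomm, ← Polynomial.hom_eval₂, hps, map_zero]
  let e : S →+* S' := d.codRestrict S' hd_int
  have he_ker : RingHom.ker e ≤ nilradical S := by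
    intro x hx
    apply hdker
    rw [RingHom.mem_ker] at hx ⊢
    exact congrArg Subtype.val hx
  have hcomm' : (algebraMap R' S').comp b = e.comp a := by
    ext r
    exact RingHom.congr_fun hcomm r
  have he_int : e.IsIntegral := by
    have h1 : (algebraMap R' S').IsIntegral := algebraMap_isIntegral_iff.mpr inferInstance
    have h2 : ((algebraMap R' S').comp b).IsIntegral := hb.trans _ _ h1
    rw [hcomm'] at h2
    exact RingHom.IsIntegral.tower_top a e h2
  haveI : FaithfulSMul R' S' := by
    rw [faithfulSMul_iff_algebraMap_injective]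
    intro x y hxy
    apply hc
    exact congrArg Subtype.val hxy
  have hβ : IsOpenMap (PrimeSpectrum.comap (algebraMap R' S')) :=
    isOpenMap_comap_of_isIntegrallyClosed
  have hα : Function.Surjective (PrimeSpectrum.comap e) :=
    comap_surjective_of_isIntegral_of_ker_le_nilradical e he_int he_ker
  have hγc : IsClosedMap (PrimeSpectrum.comap b) := PrimeSpectrum.isClosedMap_comap_of_isIntegral b hb
  have hγs : Function.Surjective (PrimeSpectrum.comap b) :=
    comap_surjective_of_isIntegral_of_ker_le_nilradical b hb hbker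
  have hsq : ∀ z : PrimeSpectrum S', PrimeSpectrum.comap b (PrimeSpectrum.comap (algebraMap R' S') z) =
      PrimeSpectrum.comap a (PrimeSpectrum.comap e z) := by
    intro z
    rw [← PrimeSpectrum.comap_comp_apply, ← PrimeSpectrum.comap_comp_apply, hcomm']
  intro U hU
  obtain ⟨N, hNU, hN, hqN⟩ := mem_nhds_iff.mp hU
  set W := (PrimeSpectrum.comap (algebraMap R' S')) '' ((PrimeSpectrum.comap e) ⁻¹' N) with hW
  have hWo : IsOpen W := hβ _ (hN.preimage (PrimeSpectrum.continuous_comap e))
  obtain ⟨q', hq'⟩ := hα q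
  have hp'W : PrimeSpectrum.comap (algebraMap R' S') q' ∈ W := ⟨q', by
    change PrimeSpectrum.comap e q' ∈ N
    rw [hq']; exact hqN, rfl⟩
  have hp' : PrimeSpectrum.comap b (PrimeSpectrum.comap (algebraMap R' S') q') =
      PrimeSpectrum.comap a q := by rw [hsq, hq']
  have hO : IsOpen ((PrimeSpectrum.comap b) '' Wᶜ)ᶜ := (hγc _ hWo.isClosed_compl).isOpen_compl
  have hpO : PrimeSpectrum.comap a q ∈ ((PrimeSpectrum.comap b) '' Wᶜ)ᶜ := by
    rintro ⟨w', hw', hw'p⟩
    apply hw'
    rw [huniq w' _ hw'p hp']
    exact hp'W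
  refine Filter.mem_of_superset (hO.mem_nhds hpO) ?_
  intro r hr
  obtain ⟨w, rfl⟩ := hγs r
  have hwW : w ∈ W := by
    by_contra hw
    exact hr ⟨w, hw, rfl⟩
  obtain ⟨z, hz, rfl⟩ := hwW
  refine ⟨PrimeSpectrum.comap e z, hNU hz, ?_⟩
  rw [hsq]

end Groth.Agent.Lib.Helper6.UBO
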