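import Mathlib
import Groth.Agent.Lib.Helper6.UBO1

/-!
# Openness of integral extensions over unibranch points, part 2
-/

set_option autoImplicit false
universe u

open TensorProduct CategoryTheory AlgebraicGeometry Limits

namespace Groth.Agent.Lib.Helper6.UBO

open Groth.Agent.Lib.Helper6.GU

/-- Over a prime `p` with unibranch localization, the normalization has a unique prime. -/
theorem unique_prime_integralClosure_of_isUnibranch {A : Type u} [CommRing A] [IsDomain A]
    (p : Ideal A) [p.IsPrime] (O : Type u) [CommRing O] [Algebra A O] [IsLocalization.AtPrime O p]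
    [IsLocalRing O] (hU : CAlg2.IsUnibranch O)
    (K : Type u) [Field K] [Algebra A K] [IsFractionRing A K] [Algebra O K] [IsScalarTower A O K]
    (P₁ P₂ : Ideal (integralClosure A K)) [P₁.IsPrime] [P₂.IsPrime]
    (h₁ : P₁.comap (algebraMap A (integralClosure A K)) = p)
    (h₂ : P₂.comap (algebraMap A (integralClosure A K)) = p) : P₁ = P₂ := by
  haveI : IsDomain O := IsLocalization.isDomain_of_le_nonZeroDivisors (M := p.primeCompl) O
    (p.primeCompl_le_nonZeroDivisors)
  haveI : IsFractionRing O K :=
    IsFractionRing.isFractionRing_of_isDomain_of_isLocalization p.primeCompl O K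
  haveI : IsLocalRing (CAlg2.normRed O) := hU.2
  haveI : IsLocalRing (integralClosure O K) := (normEquiv O K).symm.isLocalRing
  let ι : integralClosure A K →+* integralClosure O K :=
    ((integralClosure A K).val.toRingHom).codRestrict (integralClosure O K)
      (fun x => IsIntegral.tower_top (A := O) x.2)
  set P₀ := (IsLocalRing.maximalIdeal (integralClosure O K)).comap ι with hP₀
  have key : ∀ (P : Ideal (integralClosure A K)) [P.IsPrime],
      P.comap (algebraMap A (integralClosure A K)) = p → P = P₀ := by
    intro P _ hP
    have hle : P ≤ P₀ := by
      intro t ht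
      rw [hP₀, Ideal.mem_comap, IsLocalRing.mem_maximalIdeal, mem_nonunits_iff]
      intro hu
      obtain ⟨u, hu⟩ := hu.exists_right_inv
      obtain ⟨m, hm⟩ := IsIntegral.exists_multiple_integral_of_isLocalization p.primeCompl
        (u : K) u.2
      let v : integralClosure A K := ⟨m • (u : K), hm⟩
      have htv : t * v = algebraMap A (integralClosure A K) m := by
        apply Subtype.ext
        have h1 : (t : K) * (u : K) = 1 := congrArg Subtype.val hu
        change (t : K) * (m • (u : K)) = algebraMap A K m
        rw [Submonoid.smul_def, Algebra.smul_def, mul_left_comm, h1, mul_one]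
      have hmP : (m : A) ∈ P.comap (algebraMap A (integralClosure A K)) := by
        rw [Ideal.mem_comap, ← htv]
        exact Ideal.mul_mem_right _ _ ht
      rw [hP] at hmP
      exact m.2 hmP
    have hP₀p : P₀.comap (algebraMap A (integralClosure A K)) = p := by
      apply le_antisymm
      · intro a ha
        by_contra hap
        rw [hP₀, Ideal.mem_comap, Ideal.mem_comap, IsLocalRing.mem_maximalIdeal,
          mem_nonunits_iff] at ha
        apply ha
        have h1 : IsUnit (algebraMap A O a) :=
          IsLocalization.map_units O (⟨a, hap⟩ : p.primeCompl)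
        have h2 : ι (algebraMap A (integralClosure A K) a) =
            algebraMap O (integralClosure O K) (algebraMap A O a) := by
          apply Subtype.ext
          change algebraMap A K a = algebraMap O K (algebraMap A O a)
          rw [← IsScalarTower.algebraMap_apply]
        rw [h2]
        exact h1.map _
      · rw [← hP]
        exact Ideal.comap_mono hle
    haveI : P₀.IsPrime := Ideal.IsPrime.comap ι
    by_contra hne
    have hlt : P < P₀ := lt_of_le_of_ne hle hne
    have := Ideal.IsIntegral.comap_lt_comap (R := A) hlt
    rw [hP, hP₀p] at this
    exact lt_irrefl _ this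
  rw [key P₁ h₁, key P₂ h₂]

/-- **Integral extensions of domains are open at points over unibranch points.** -/
theorem isOpenAt_comap_of_isUnibranch (A B : Type u) [CommRing A] [IsDomain A] [CommRing B]
    [IsDomain B] [Algebra A B] (hinj : Function.Injective (algebraMap A B))
    [Algebra.IsIntegral A B] (q : PrimeSpectrum B)
    (hU : CAlg2.IsUnibranch (Localization.AtPrime (q.asIdeal.comap (algebraMap A B)))) :
    EGA43.IsOpenAt (PrimeSpectrum.comap (algebraMap A B)) q := by
  set p := q.asIdeal.comap (algebraMap A B) with hp
  let K := FractionRing A
  let L := FractionRing B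
  have hinjAL : Function.Injective ((algebraMap B L).comp (algebraMap A B)) :=
    (IsFractionRing.injective B L).comp hinj
  letI : Algebra A L := ((algebraMap B L).comp (algebraMap A B)).toAlgebra
  let lift : K →+* L := IsFractionRing.lift (A := A) (K := K) (g := algebraMap A L) hinjAL
  let R' := integralClosure A K
  haveI : IsIntegrallyClosed R' := integralClosure.isIntegrallyClosedOfFiniteExtension K (L := K)
  let c : R' →+* L := lift.comp R'.val.toRingHom
  have hcomm : c.comp (algebraMap A R') = (algebraMap B L).comp (algebraMap A B) := by
    ext x
    change lift (algebraMap A K x) = _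
    exact IsFractionRing.lift_algebraMap hinjAL x
  -- the localization `O` inside `K`
  letI : Algebra (Localization.AtPrime p) K :=
    (IsLocalization.lift (M := p.primeCompl) (g := algebraMap A K) (fun y => by
      have : (y : A) ≠ 0 := fun h0 => y.2 (by rw [h0]; exact zero_mem _)
      exact IsUnit.mk0 _ (by simpa using this))).toAlgebra
  haveI : IsScalarTower A (Localization.AtPrime p) K := IsScalarTower.of_algebraMap_eq (fun x => by
    rw [RingHom.algebraMap_toAlgebra]
    exact (IsLocalization.lift_eq _ x).symm)
  refine isOpenAt_comap_of_square (algebraMap A B) (algebraMap A R') c (algebraMap B L) hcomm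
    (algebraMap_isIntegral_iff.mpr inferInstance) (algebraMap_isIntegral_iff.mpr inferInstance)
    ?_ ?_ ?_ q ?_
  · have hb : Function.Injective (algebraMap A R') := by
      intro x y hxy
      have := congrArg Subtype.val hxy
      exact IsFractionRing.injective A K this
    rw [(RingHom.injective_iff_ker_eq_bot _).mp hb]
    exact bot_le
  · intro x y hxy
    apply Subtype.ext
    exact lift.injective hxy
  · rw [(RingHom.injective_iff_ker_eq_bot _).mp (IsFractionRing.injective B L)]
    exact bot_le
  · intro P₁ P₂ h₁ h₂
    apply PrimeSpectrum.ext
    haveI := P₁.isPrime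
    haveI := P₂.isPrime
    exact unique_prime_integralClosure_of_isUnibranch p (Localization.AtPrime p) hU K
      P₁.asIdeal P₂.asIdeal (congrArg PrimeSpectrum.asIdeal h₁) (congrArg PrimeSpectrum.asIdeal h₂)

end Groth.Agent.Lib.Helper6.UBO
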