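import Mathlib
import Groth.Agent.Lib.Helper6.UBO2

/-!
# Transfer lemmas for unibranch local rings
-/

set_option autoImplicit false
universe u

open TensorProduct CategoryTheory AlgebraicGeometry Limits

namespace Groth.Agent.Lib.Helper6.UBO

open Groth.Agent.Lib.Helper6.GU Groth.Agent.Lib.Helper6.UB

/-- Transport of localness of the integral closure along compatible ring isomorphisms. -/
theorem isLocalRing_integralClosure_of_equiv {O O' K K' : Type u} [CommRing O] [CommRing O']
    [CommRing K] [CommRing K'] [Algebra O K] [Algebra O' K'] (e : O ≃+* O') (eK : K ≃+* K')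
    (he : ∀ o, eK (algebraMap O K o) = algebraMap O' K' (e o))
    (h : IsLocalRing (integralClosure O K)) : IsLocalRing (integralClosure O' K') := by
  have hcomp : (algebraMap O' K').comp e.toRingHom = eK.toRingHom.comp (algebraMap O K) := by
    ext o; exact (he o).symm
  have hcomp' : (algebraMap O K).comp e.symm.toRingHom =
      eK.symm.toRingHom.comp (algebraMap O' K') := by
    ext o'
    apply eK.injective
    simp only [RingHom.comp_apply, RingEquiv.toRingHom_eq_coe, RingHom.coe_coe,
      RingEquiv.apply_symm_apply]
    rw [he, RingEquiv.apply_symm_apply]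
  let φ : integralClosure O K →+* integralClosure O' K' :=
    (eK.toRingHom.comp (integralClosure O K).val.toRingHom).codRestrict (integralClosure O' K')
      (fun x => IsIntegral.map_of_comp_eq e.toRingHom eK.toRingHom hcomp x.2)
  let ψ : integralClosure O' K' →+* integralClosure O K :=
    (eK.symm.toRingHom.comp (integralClosure O' K').val.toRingHom).codRestrict
      (integralClosure O K)
      (fun x => IsIntegral.map_of_comp_eq e.symm.toRingHom eK.symm.toRingHom hcomp' x.2)
  let Φ : integralClosure O K ≃+* integralClosure O' K' :=
    RingEquiv.ofRingHom φ ψ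
      (by ext x; exact eK.apply_symm_apply _)
      (by ext x; exact eK.symm_apply_apply _)
  exact Φ.isLocalRing

/-- Unibranchness is invariant under ring isomorphisms (general local rings). -/
theorem isUnibranch_of_ringEquiv' {A B : Type u} [CommRing A] [CommRing B] [IsLocalRing A]
    [IsLocalRing B] (e : A ≃+* B) (h : CAlg2.IsUnibranch A) : CAlg2.IsUnibranch B := by
  have hnil : nilradical B = Ideal.map (e : A →+* B) (nilradical A) := by
    apply le_antisymm
    · intro x hx
      have h1 : e.symm x ∈ nilradical A := by
        rw [mem_nilradical] at hx ⊢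
        exact hx.map e.symm
      have := Ideal.mem_map_of_mem (e : A →+* B) h1
      simpa using this
    · rw [Ideal.map_le_iff_le_comap]
      intro x hx
      rw [Ideal.mem_comap, mem_nilradical]
      exact (mem_nilradical.mp hx).map (e : A →+* B)
  let ē : CAlg2.red A ≃+* CAlg2.red B := Ideal.quotientEquiv (nilradical A) (nilradical B) e hnil
  haveI : IsDomain (CAlg2.red A) := h.1
  haveI hdomB : IsDomain (CAlg2.red B) := ē.toMulEquiv.isDomain_iff.mp inferInstance
  refine ⟨hdomB, ?_⟩
  refine isLocalRing_integralClosure_of_equiv ē (IsFractionRing.ringEquivOfRingEquiv ē) ?_ h.2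
  intro o
  exact IsFractionRing.ringEquivOfRingEquiv_algebraMap ē o

/-- A local domain onto which a unibranch local ring surjects with nil kernel is unibranch. -/
theorem isUnibranch_of_surjective_of_ker_eq_nilradical {R R' : Type u} [CommRing R]
    [IsLocalRing R] [CommRing R'] [IsDomain R'] [IsLocalRing R']
    (φ : R →+* R') (hφ : Function.Surjective φ) (hker : RingHom.ker φ = nilradical R)
    (h : CAlg2.IsUnibranch R) : CAlg2.IsUnibranch R' := by
  let e : CAlg2.red R ≃+* R' :=
    (Ideal.quotEquivOfEq hker.symm).trans (RingHom.quotientKerEquivOfSurjective hφ)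
  haveI hdomR : IsDomain (CAlg2.red R) := h.1
  haveI : IsDomain (CAlg2.red R') := isDomain_red R'
  let ē : CAlg2.red R ≃+* CAlg2.red R' := e.trans (redEquiv R')
  refine ⟨inferInstance, ?_⟩
  refine isLocalRing_integralClosure_of_equiv ē (IsFractionRing.ringEquivOfRingEquiv ē) ?_ h.2
  intro o
  exact IsFractionRing.ringEquivOfRingEquiv_algebraMap ē o

end Groth.Agent.Lib.Helper6.UBO
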