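import Mathlib
import Groth.Agent.Lib.Helper6.UB9
import Groth.Agent.Lib.Helper6.Chev5

/-!
# Smooth algebras over a geometrically unibranch local domain: transfer lemmas
-/

set_option autoImplicit false
universe u

open TensorProduct

namespace Groth.Agent.Lib.Helper6.UB

open Groth.Agent.Lib.Helper6.GU

/-- Transfer of `GU'` from an integrally closed intermediate ring `O ⊆ T ⊆ L` to the fraction
field `L`. -/
theorem gu'_fractionRing_of_gu' (O T L : Type u) [CommRing O] [IsDomain O] [CommRing T] [IsDomain T]
    [IsIntegrallyClosed T] [Field L] [Algebra O T] [Algebra O L] [Algebra T L]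
    [IsScalarTower O T L] [IsFractionRing T L] (h : GU' O T) : GU' O L := by
  have hinj : Function.Injective (algebraMap T L) := IsFractionRing.injective T L
  let φ : integralClosure O T →+* integralClosure O L :=
    ((algebraMap T L).comp (integralClosure O T).val.toRingHom).codRestrict (integralClosure O L)
      (fun x => (x.2 : IsIntegral O (x : T)).map (IsScalarTower.toAlgHom O T L))
  have hφ : ∀ x : integralClosure O T, ((φ x : integralClosure O L) : L) = algebraMap T L x :=
    fun _ => rfl
  have hφinj : Function.Injective φ := by
    intro x y hxy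
    apply Subtype.ext
    apply hinj
    rw [← hφ, ← hφ, hxy]
  have hφsurj : Function.Surjective φ := by
    intro y
    have h1 : IsIntegral T (y : L) := (y.2 : IsIntegral O (y : L)).tower_top
    obtain ⟨t, ht⟩ := (IsIntegrallyClosed.isIntegral_iff (R := T) (K := L)).mp h1
    have h2 : IsIntegral O t := by
      rw [← isIntegral_algHom_iff (IsScalarTower.toAlgHom O T L) hinj]
      change IsIntegral O (algebraMap T L t)
      rw [ht]
      exact y.2
    exact ⟨⟨t, h2⟩, Subtype.ext ht⟩
  let ψ : integralClosure O T ≃+* integralClosure O L := RingEquiv.ofBijective φ ⟨hφinj, hφsurj⟩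
  have hψalg : ∀ o : O, ψ (algebraMap O (integralClosure O T) o) =
      algebraMap O (integralClosure O L) o := by
    intro o
    apply Subtype.ext
    change algebraMap T L (algebraMap O T o) = algebraMap O L o
    rw [← IsScalarTower.algebraMap_apply]
  obtain ⟨hloc, q, hq, hres⟩ := h
  haveI := hloc
  refine ⟨ψ.isLocalRing, q, ?_, ?_⟩
  · rcases hq with h1 | ⟨hp, hu⟩
    · exact Or.inl h1
    · refine Or.inr ⟨hp, fun hu' => hu ?_⟩
      have := hu'.map ψ.symm
      rwa [map_natCast] at this
  · intro x'
    obtain ⟨n, o, hno⟩ := hres (ψ.symm x')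
    refine ⟨n, o, fun hu => hno ?_⟩
    have := hu.map ψ.symm
    rw [map_sub, map_pow] at this
    have e : ψ.symm (algebraMap O (integralClosure O L) o) = algebraMap O (integralClosure O T) o := by
      rw [← hψalg, RingEquiv.symm_apply_apply]
    rwa [e] at this

end Groth.Agent.Lib.Helper6.UB
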