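import Mathlib
import Groth.Agent.Lib.Helper6.UBS1
import Groth.Agent.Lib.Helper6.UB7

/-!
# Smooth algebras over a geometrically unibranch local domain are geometrically unibranch
-/

set_option autoImplicit false
universe u

open TensorProduct

namespace Groth.Agent.Lib.Helper6.UB

open Groth.Agent.Lib.Helper6.GU

section Main

variable (A K : Type u) [CommRing A] [IsDomain A] [IsLocalRing A] [Field K] [Algebra A K]
  [IsFractionRing A K] (B : Type u) [CommRing B] [IsDomain B] [Algebra A B] [Algebra.Smooth A B]


omit [IsLocalRing A] [Algebra.Smooth A B] in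
set_option maxHeartbeats 800000 in
set_option synthInstance.maxHeartbeats 400000 in
/-- The generic fibre of a localization of `B` is integrally closed if that of `B` is. -/
theorem isIntegrallyClosed_tensor_localization (hn : IsIntegrallyClosed (B ⊗[A] K))
    (hinjAB : Function.Injective (algebraMap A B)) (q : Ideal B) [q.IsPrime]
    (O : Type u) [CommRing O] [Algebra B O] [IsLocalization.AtPrime O q] [Algebra A O]
    [IsScalarTower A B O] :
    IsIntegrallyClosed (O ⊗[A] K) := by
  have hlocBK : IsLocalization (Algebra.algebraMapSubmonoid B (nonZeroDivisors A)) (B ⊗[A] K) :=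
    IsLocalization.tensor K (nonZeroDivisors A)
  have hleB : Algebra.algebraMapSubmonoid B (nonZeroDivisors A) ≤ nonZeroDivisors B := by
    rintro _ ⟨a, ha, rfl⟩
    exact mem_nonZeroDivisors_of_ne_zero
      (fun h0 => nonZeroDivisors.ne_zero ha (hinjAB (h0.trans (map_zero _).symm)))
  haveI hBKdom : IsDomain (B ⊗[A] K) := IsLocalization.isDomain_of_le_nonZeroDivisors _ hleB
  have hinjBBK : Function.Injective (algebraMap B (B ⊗[A] K)) := IsLocalization.injective _ hleB
  letI algBKOK : Algebra (B ⊗[A] K) (O ⊗[A] K) :=
    (Algebra.TensorProduct.map (IsScalarTower.toAlgHom A B O)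
      (AlgHom.id A K)).toRingHom.toAlgebra
  haveI : IsScalarTower B (B ⊗[A] K) (O ⊗[A] K) :=
    IsScalarTower.of_algebraMap_eq fun b => by
      change _ = (Algebra.TensorProduct.map (IsScalarTower.toAlgHom A B O)
        (AlgHom.id A K)) (algebraMap B (B ⊗[A] K) b)
      rw [Algebra.TensorProduct.algebraMap_apply, Algebra.TensorProduct.algebraMap_apply,
        Algebra.TensorProduct.map_tmul]
      simp
  haveI hlocOK : IsLocalization (Algebra.algebraMapSubmonoid (B ⊗[A] K) q.primeCompl)
      (O ⊗[A] K) := by
    refine IsLocalization.tensorProduct_tensorProduct A K q.primeCompl O ?_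
    ext k
    change (Algebra.TensorProduct.map (IsScalarTower.toAlgHom A B O)
        (AlgHom.id A K)) ((1 : B) ⊗ₜ[A] k) = (1 : O) ⊗ₜ[A] k
    rw [Algebra.TensorProduct.map_tmul]
    simp
  have hleM : Algebra.algebraMapSubmonoid (B ⊗[A] K) q.primeCompl ≤ nonZeroDivisors (B ⊗[A] K) := by
    rintro _ ⟨b, hb, rfl⟩
    refine mem_nonZeroDivisors_of_ne_zero (fun h0 => ?_)
    have hb0 : b = 0 := hinjBBK (h0.trans (map_zero _).symm)
    exact hb (hb0 ▸ zero_mem _)
  exact isIntegrallyClosed_of_isLocalization (O ⊗[A] K)
    (Algebra.algebraMapSubmonoid (B ⊗[A] K) q.primeCompl) hleM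

set_option maxHeartbeats 1600000 in
set_option synthInstance.maxHeartbeats 400000 in
/-- **Smooth domains over a geometrically unibranch local domain, with normal generic fibre, are
geometrically unibranch** at primes over the closed point. -/
theorem isGeomUnibranch_localization_of_smooth_of_gu' (hn : IsIntegrallyClosed (B ⊗[A] K))
    (hGU : GU' A K) (q : Ideal B) [q.IsPrime]
    (hq : q.comap (algebraMap A B) = IsLocalRing.maximalIdeal A)
    (O : Type u) [CommRing O] [Algebra B O] [IsLocalization.AtPrime O q] [Algebra A O]
    [IsScalarTower A B O] [IsLocalRing O] :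
    CAlg2.IsGeomUnibranch O := by
  haveI hdom : IsDomain O :=
    IsLocalization.isDomain_of_le_nonZeroDivisors (R := B) (M := q.primeCompl) O
      (le_nonZeroDivisors_of_noZeroDivisors (fun h0 => h0 (zero_mem _)))
  haveI : Module.Flat B O := IsLocalization.flat O q.primeCompl
  haveI : Module.Flat A B := inferInstance
  haveI : Module.Flat A O := Module.Flat.trans A B O
  have hinjAO : Function.Injective (algebraMap A O) := by
    rw [injective_iff_map_eq_zero]
    intro a ha
    by_contra hne
    have hreg : IsSMulRegular O a :=
      Module.Flat.isSMulRegular_of_nonZeroDivisors (mem_nonZeroDivisors_of_ne_zero hne)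
    have : a • (1 : O) = a • 0 := by
      rw [Algebra.smul_def, mul_one, ha, smul_zero]
    exact one_ne_zero (hreg this)
  have hlocT : IsLocalization
      (Algebra.algebraMapSubmonoid O (nonZeroDivisors A))
      (O ⊗[A] K) := IsLocalization.tensor K (nonZeroDivisors A)
  have hle : Algebra.algebraMapSubmonoid O (nonZeroDivisors A) ≤
      nonZeroDivisors O := by
    rintro _ ⟨a, ha, rfl⟩
    exact mem_nonZeroDivisors_of_ne_zero
      (fun h0 => nonZeroDivisors.ne_zero ha (hinjAO (h0.trans (map_zero _).symm)))
  haveI hTdom : IsDomain (O ⊗[A] K) :=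
    IsLocalization.isDomain_of_le_nonZeroDivisors _ hle
  have hinjOT : Function.Injective
      (algebraMap O (O ⊗[A] K)) :=
    IsLocalization.injective _ hle
  -- the key: `GU'` with respect to the generic fibre
  have hGUT : GU' O (O ⊗[A] K) := by
    apply gu'_of_hom_eq
    intro Ω _ σ τ hστ hker
    have hΦ : Function.Bijective (TensorProduct.toIntegralClosure A O K) :=
      TensorProduct.toIntegralClosure_bijective_of_tower (R := A) (S := B)
        (T := O) (B := K)
        TensorProduct.toIntegralClosure_bijective_of_smooth
        (TensorProduct.toIntegralClosure_bijective_of_isLocalization q.primeCompl)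
    haveI : IsLocalization.AtPrime A (IsLocalRing.maximalIdeal A) :=
      IsLocalization.of_le_isUnit (fun s hs => by
        have : s ∉ IsLocalRing.maximalIdeal A := hs
        rw [IsLocalRing.mem_maximalIdeal, mem_nonunits_iff, not_not] at this
        exact this)
    let Φ : O ⊗[A] (integralClosure A K) →+*
        integralClosure O (O ⊗[A] K) :=
      (TensorProduct.toIntegralClosure A O K).toRingHom
    let ι' : integralClosure A K →+*
        integralClosure O (O ⊗[A] K) :=
      Φ.comp (Algebra.TensorProduct.includeRight :
        integralClosure A K →ₐ[A] O ⊗[A] (integralClosure A K)).toRingHom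
    have hι' : ∀ a : A, ι' (algebraMap A (integralClosure A K) a) =
        algebraMap O _ (algebraMap A O a) := by
      intro a
      change (TensorProduct.toIntegralClosure A O K)
        ((1 : O) ⊗ₜ[A] (algebraMap A (integralClosure A K) a)) = _
      have e : (1 : O) ⊗ₜ[A] (algebraMap A (integralClosure A K) a) =
          algebraMap O
            (O ⊗[A] (integralClosure A K))
            (algebraMap A O a) := by
        rw [Algebra.TensorProduct.algebraMap_apply, Algebra.algebraMap_eq_smul_one (A := integralClosure A K) a,
          TensorProduct.tmul_smul, Algebra.algebraMap_eq_smul_one (A := O) a,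
          TensorProduct.smul_tmul', Algebra.algebraMap_self, RingHom.id_apply]
      rw [e, AlgHom.commutes]
    have hmO : (IsLocalRing.maximalIdeal O).comap
        (algebraMap A O) = IsLocalRing.maximalIdeal A := by
      have hu : (IsLocalRing.maximalIdeal O).comap
          (algebraMap B O) = q :=
        IsLocalization.AtPrime.under_maximalIdeal O q
      rw [IsScalarTower.algebraMap_eq A B O, ← Ideal.comap_comap, hu, hq]
    have h1 : (σ.comp ι').comp (algebraMap A (integralClosure A K)) =
        (τ.comp ι').comp (algebraMap A (integralClosure A K)) := by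
      ext a
      simp only [RingHom.comp_apply]
      rw [hι']
      exact RingHom.congr_fun hστ _
    have h2 : RingHom.ker ((σ.comp ι').comp (algebraMap A (integralClosure A K))) =
        IsLocalRing.maximalIdeal A := by
      rw [← hmO, ← hker]
      ext a
      simp only [RingHom.mem_ker, RingHom.comp_apply, Ideal.mem_comap]
      rw [hι']
    have key := hom_eq_of_gu' (A := A) (O := A) (K := K) (IsLocalRing.maximalIdeal A) hGU
      (σ.comp ι') (τ.comp ι') h1 h2
    have hcomp : σ.comp Φ = τ.comp Φ := by
      apply RingHom.ext
      intro x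
      induction x using TensorProduct.induction_on with
      | zero => simp
      | tmul o a' =>
        have e : o ⊗ₜ[A] a' =
            algebraMap O
              (O ⊗[A] (integralClosure A K)) o *
            ((1 : O) ⊗ₜ[A] a') := by
          rw [Algebra.TensorProduct.algebraMap_apply, Algebra.TensorProduct.tmul_mul_tmul,
            mul_one, one_mul, Algebra.algebraMap_self, RingHom.id_apply]
        have e1 : Φ (algebraMap O
            (O ⊗[A] (integralClosure A K)) o) =
            algebraMap O _ o :=
          AlgHom.commutes (TensorProduct.toIntegralClosure A O K) o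
        have e2 : σ (Φ ((1 : O) ⊗ₜ[A] a')) =
            τ (Φ ((1 : O) ⊗ₜ[A] a')) := RingHom.congr_fun key a'
        simp only [RingHom.comp_apply]
        rw [e, map_mul, map_mul, map_mul, e1, e2]
        congr 1
        exact RingHom.congr_fun hστ o
      | add x y hx hy => rw [map_add, map_add, hx, hy]
    apply RingHom.ext
    intro z
    obtain ⟨w, rfl⟩ := hΦ.2 z
    exact RingHom.congr_fun hcomp w
  have hinjAB : Function.Injective (algebraMap A B) := by
    intro a b hab
    apply hinjAO
    rw [IsScalarTower.algebraMap_apply A B O, hab,
      ← IsScalarTower.algebraMap_apply A B O]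
  haveI hTic : IsIntegrallyClosed (O ⊗[A] K) :=
    isIntegrallyClosed_tensor_localization A K B hn hinjAB q O
  -- transfer to the fraction field
  have hunit : ∀ y : Algebra.algebraMapSubmonoid O (nonZeroDivisors A),
      IsUnit (algebraMap O (FractionRing O) y) := by
    intro y
    refine IsUnit.mk0 _ ?_
    rw [Ne, map_eq_zero_iff _ (IsFractionRing.injective _ _)]
    exact nonZeroDivisors.ne_zero (hle y.2)
  letI : Algebra (O ⊗[A] K) (FractionRing O) :=
    (IsLocalization.lift (M := Algebra.algebraMapSubmonoid O
      (nonZeroDivisors A)) (S := O ⊗[A] K) hunit).toAlgebra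
  haveI : IsScalarTower O (O ⊗[A] K)
      (FractionRing O) := IsScalarTower.of_algebraMap_eq fun x => by
    change _ = (IsLocalization.lift (M := Algebra.algebraMapSubmonoid O
      (nonZeroDivisors A)) (S := O ⊗[A] K) hunit) (algebraMap _ _ x)
    rw [IsLocalization.lift_eq]
  haveI : IsFractionRing (O ⊗[A] K)
      (FractionRing O) :=
    IsFractionRing.isFractionRing_of_isDomain_of_isLocalization
      (Algebra.algebraMapSubmonoid O (nonZeroDivisors A))
      (O ⊗[A] K) (FractionRing O)
  apply isGeomUnibranch_of_gu' O (FractionRing O)
  exact gu'_fractionRing_of_gu' O (O ⊗[A] K)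
    (FractionRing O) hGUT

end Main

end Groth.Agent.Lib.Helper6.UB
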