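import Mathlib
import Groth.Agent.Lib.Helper6.UBS2
import Groth.Agent.Lib.Helper6.UB8

/-!
# Smooth algebras over a geometrically unibranch local domain are geometrically unibranch
-/

set_option autoImplicit false
universe u

open TensorProduct

namespace Groth.Agent.Lib.Helper6.UB

open Groth.Agent.Lib.Helper6.GU

/-- The generic fibre of a polynomial algebra is integrally closed. -/
theorem isIntegrallyClosed_mvPolynomial_tensor (A K : Type*) [CommRing A] [Field K] [Algebra A K]
    (σ : Type*) : IsIntegrallyClosed (MvPolynomial σ A ⊗[A] K) := by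
  haveI : IsIntegrallyClosed (MvPolynomial σ K) := UniqueFactorizationMonoid.instIsIntegrallyClosed
  exact IsIntegrallyClosed.of_equiv
    (((MvPolynomial.algebraTensorAlgEquiv (σ := σ) A K).symm.toRingEquiv).trans
      (Algebra.TensorProduct.comm A K (MvPolynomial σ A)).toRingEquiv)

section Main

variable (A K : Type u) [CommRing A] [IsDomain A] [IsLocalRing A] [Field K] [Algebra A K]
  [IsFractionRing A K]

/-- Polynomial algebras over a geometrically unibranch local domain. -/
theorem isGeomUnibranch_localization_mvPolynomial_of_gu' (hGU : GU' A K) (n : ℕ)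
    (q : Ideal (MvPolynomial (Fin n) A)) [q.IsPrime]
    (hq : q.comap (algebraMap A (MvPolynomial (Fin n) A)) = IsLocalRing.maximalIdeal A) :
    CAlg2.IsGeomUnibranch (Localization.AtPrime q) := by
  haveI : Algebra.Smooth A (MvPolynomial (Fin n) A) := ⟨inferInstance, inferInstance⟩
  exact isGeomUnibranch_localization_of_smooth_of_gu' A K (MvPolynomial (Fin n) A)
    (isIntegrallyClosed_mvPolynomial_tensor A K (Fin n)) hGU q hq (Localization.AtPrime q)

/-- Polynomial algebras over a geometrically unibranch local domain, variables in `Type u`. -/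
theorem isGeomUnibranch_localization_mvPolynomial_of_gu'' (hGU : GU' A K) (σ : Type u) [Finite σ]
    (q : Ideal (MvPolynomial σ A)) [q.IsPrime]
    (hq : q.comap (algebraMap A (MvPolynomial σ A)) = IsLocalRing.maximalIdeal A) :
    CAlg2.IsGeomUnibranch (Localization.AtPrime q) := by
  haveI : Algebra.Smooth A (MvPolynomial σ A) := ⟨inferInstance, inferInstance⟩
  exact isGeomUnibranch_localization_of_smooth_of_gu' A K (MvPolynomial σ A)
    (isIntegrallyClosed_mvPolynomial_tensor A K σ) hGU q hq (Localization.AtPrime q)

variable (B : Type u) [CommRing B] [Algebra A B] [Algebra.Smooth A B]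

set_option maxHeartbeats 1600000 in
set_option synthInstance.maxHeartbeats 400000 in
/-- **Smooth algebras over a geometrically unibranch local domain are geometrically unibranch
domains** at primes over the closed point. -/
theorem isGeomUnibranch_localization_of_smooth (hGU : GU' A K) (q : Ideal B) [q.IsPrime]
    (hq : q.comap (algebraMap A B) = IsLocalRing.maximalIdeal A) :
    IsDomain (Localization.AtPrime q) ∧ CAlg2.IsGeomUnibranch (Localization.AtPrime q) := by
  obtain ⟨f, hfq, n, _, _, hse⟩ :=
    Algebra.IsSmoothAt.exists_isStandardEtale_mvPolynomial (R := A) (p := q)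
  have hdisj : Disjoint (Submonoid.powers f : Set B) q :=
    (Ideal.disjoint_powers_iff_notMem_of_isPrime _).mpr hfq
  haveI hqf : (q.map (algebraMap B (Localization.Away f))).IsPrime :=
    IsLocalization.isPrime_of_isPrime_disjoint (.powers f) _ _ ‹_› hdisj
  have hcomap : (q.map (algebraMap B (Localization.Away f))).comap
      (algebraMap B (Localization.Away f)) = q :=
    IsLocalization.under_map_of_isPrime_disjoint (.powers f) _ ‹_› hdisj
  set qf := q.map (algebraMap B (Localization.Away f)) with hqf_def
  set pP := qf.comap (algebraMap (MvPolynomial (Fin n) A) (Localization.Away f)) with hpP_def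
  haveI : pP.IsPrime := Ideal.IsPrime.comap _
  have hpP : pP.comap (algebraMap A (MvPolynomial (Fin n) A)) = IsLocalRing.maximalIdeal A := by
    rw [hpP_def, Ideal.comap_comap, ← IsScalarTower.algebraMap_eq,
      IsScalarTower.algebraMap_eq A B (Localization.Away f), ← Ideal.comap_comap, hcomap, hq]
  have hGUP := isGeomUnibranch_localization_mvPolynomial_of_gu' A K hGU n pP hpP
  haveI : Algebra.Etale (MvPolynomial (Fin n) A) (Localization.Away f) := inferInstance
  obtain ⟨h1, h2⟩ := isGeomUnibranch_localization_of_etale' (MvPolynomial (Fin n) A)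
    (Localization.Away f) qf pP rfl (Localization.AtPrime pP) hGUP
  have hat := IsLocalization.isLocalization_isLocalization_atPrime_isLocalization
    (Submonoid.powers f) (Localization.AtPrime qf) qf
  simp only [hcomap] at hat
  let e : Localization.AtPrime q ≃ₐ[B] Localization.AtPrime qf :=
    IsLocalization.algEquiv q.primeCompl _ _
  haveI hd : IsDomain (Localization.AtPrime q) := e.symm.toRingEquiv.toMulEquiv.isDomain_iff.mp h1
  exact ⟨hd, isGeomUnibranch_of_ringEquiv e.symm.toRingEquiv h2⟩

end Main

end Groth.Agent.Lib.Helper6.UB
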