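import Mathlib
import Groth.Agent.Lib.Helper6.UBS3

/-!
# Polynomial rings over a ring with a geometrically unibranch localization
-/

set_option autoImplicit false
universe u

open TensorProduct

namespace Groth.Agent.Lib.Helper6.UB

open Groth.Agent.Lib.Helper6.GU Groth.Agent.Lib.Helper6.Chev

/-- A local ring surjecting onto a geometrically unibranch local domain with kernel the nilradical
is geometrically unibranch. -/
theorem isGeomUnibranch_of_surjective_of_ker_eq_nilradical {R R' : Type u} [CommRing R]
    [IsLocalRing R] [CommRing R'] [IsDomain R'] [IsLocalRing R']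
    (φ : R →+* R') (hφ : Function.Surjective φ) (hker : RingHom.ker φ = nilradical R)
    (h : CAlg2.IsGeomUnibranch R') : CAlg2.IsGeomUnibranch R := by
  let e : CAlg2.red R ≃+* R' :=
    (Ideal.quotEquivOfEq hker.symm).trans (RingHom.quotientKerEquivOfSurjective hφ)
  haveI hdomR : IsDomain (CAlg2.red R) := e.toMulEquiv.isDomain_iff.mpr inferInstance
  haveI : IsDomain (CAlg2.red R') := isDomain_red R'
  let ē : CAlg2.red R' ≃+* CAlg2.red R := (redEquiv R').symm.trans e.symm
  refine isGeomUnibranch_of_gu'_red R hdomR ?_
  refine gu'_of_equiv ē (IsFractionRing.ringEquivOfRingEquiv ē) ?_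
    (gu'_red_of_isGeomUnibranch R' h)
  intro o
  exact IsFractionRing.ringEquivOfRingEquiv_algebraMap ē o

/-- Localizing a surjection with nil kernel onto a ring with a domain localization. -/
theorem localRingHom_surjective_ker_eq_nilradical {S S' : Type u} [CommRing S] [CommRing S']
    (π : S →+* S') (hπ : Function.Surjective π) (hker : RingHom.ker π ≤ nilradical S)
    (q' : Ideal S') [q'.IsPrime] [IsDomain (Localization.AtPrime q')]
    (q : Ideal S) [q.IsPrime] (hq : q = q'.comap π) :
    Function.Surjective (Localization.localRingHom q q' π hq) ∧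
      RingHom.ker (Localization.localRingHom q q' π hq) = nilradical (Localization.AtPrime q) := by
  refine ⟨(RingHom.surjectiveOnStalks_of_surjective hπ).localRingHom_surjective q q' hq, ?_⟩
  apply le_antisymm
  · intro x hx
    obtain ⟨a, s, rfl⟩ := IsLocalization.exists_mk'_eq q.primeCompl x
    rw [RingHom.mem_ker, Localization.localRingHom_mk'] at hx
    obtain ⟨m, hm⟩ := (IsLocalization.mk'_eq_zero_iff _ _).mp hx
    obtain ⟨m', hm'⟩ := hπ m
    have hm'q : m' ∉ q := by
      intro h
      rw [hq, Ideal.mem_comap, hm'] at h
      exact m.2 h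
    have h1 : m' * a ∈ RingHom.ker π := by
      rw [RingHom.mem_ker, map_mul, hm']
      exact hm
    have h2 : IsNilpotent (m' * a) := mem_nilradical.mp (hker h1)
    have h3 : IsNilpotent (algebraMap S (Localization.AtPrime q) (m' * a)) := h2.map _
    rw [map_mul] at h3
    have hu : IsUnit (algebraMap S (Localization.AtPrime q) m') :=
      IsLocalization.map_units _ (⟨m', hm'q⟩ : q.primeCompl)
    have h4 : IsNilpotent (algebraMap S (Localization.AtPrime q) a) := by
      obtain ⟨n, hn⟩ := h3
      refine ⟨n, ?_⟩
      rw [mul_pow] at hn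
      exact (hu.pow n).mul_right_eq_zero.mp hn
    rw [← IsLocalization.mk'_spec' _ a s] at h4
    rw [mem_nilradical]
    have hus : IsUnit (algebraMap S (Localization.AtPrime q) s) := IsLocalization.map_units _ s
    obtain ⟨n, hn⟩ := h4
    refine ⟨n, ?_⟩
    rw [mul_pow] at hn
    exact (hus.pow n).mul_right_eq_zero.mp hn
  · intro x hx
    rw [RingHom.mem_ker]
    have : IsNilpotent (Localization.localRingHom q q' π hq x) := (mem_nilradical.mp hx).map _
    exact this.eq_zero


attribute [local instance] MvPolynomial.algebraMvPolynomial in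
set_option maxHeartbeats 1600000 in
set_option synthInstance.maxHeartbeats 400000 in
/-- **Polynomial rings over a ring with a geometrically unibranch localization**: the local ring of
`R[T₁,…,Tₙ]` at a prime over `p` is geometrically unibranch if `R_p` is. -/
theorem isGeomUnibranch_localization_mvPolynomial (R : Type u) [CommRing R] (p : Ideal R) [p.IsPrime]
    (hGU : CAlg2.IsGeomUnibranch (Localization.AtPrime p)) (σ : Type u) [Finite σ]
    (q : Ideal (MvPolynomial σ R)) [q.IsPrime]
    (hq : q.comap (MvPolynomial.C : R →+* MvPolynomial σ R) = p) :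
    CAlg2.IsGeomUnibranch (Localization.AtPrime q) := by
  -- Step 1: localize the base
  have hdisj : Disjoint ((p.primeCompl.map (MvPolynomial.C (σ := σ) (R := R)) :
      Submonoid (MvPolynomial σ R)) : Set (MvPolynomial σ R)) q := by
    rw [Set.disjoint_left]
    rintro _ ⟨m, hm, rfl⟩ hmq
    apply hm
    rw [← hq]
    exact hmq
  haveI hq₁ : (q.map (algebraMap (MvPolynomial σ R)
      (MvPolynomial σ (Localization.AtPrime p)))).IsPrime :=
    IsLocalization.isPrime_of_isPrime_disjoint (p.primeCompl.map MvPolynomial.C) _ _ ‹_› hdisj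
  have hcomap : (q.map (algebraMap (MvPolynomial σ R)
      (MvPolynomial σ (Localization.AtPrime p)))).comap (algebraMap (MvPolynomial σ R)
      (MvPolynomial σ (Localization.AtPrime p))) = q :=
    IsLocalization.under_map_of_isPrime_disjoint (p.primeCompl.map MvPolynomial.C) _ ‹_› hdisj
  set q₁ := q.map (algebraMap (MvPolynomial σ R) (MvPolynomial σ (Localization.AtPrime p)))
    with hq₁_def
  -- Step 2: kill the nilradical
  haveI hdomA : IsDomain (CAlg2.red (Localization.AtPrime p)) := hGU.1.1
  haveI : IsLocalRing (CAlg2.red (Localization.AtPrime p)) :=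
    IsLocalRing.of_surjective' (Ideal.Quotient.mk _) Ideal.Quotient.mk_surjective
  let π : MvPolynomial σ (Localization.AtPrime p) →+*
      MvPolynomial σ (CAlg2.red (Localization.AtPrime p)) :=
    MvPolynomial.map (Ideal.Quotient.mk (nilradical (Localization.AtPrime p)))
  have hπ : Function.Surjective π := MvPolynomial.map_surjective _ Ideal.Quotient.mk_surjective
  have hkerπ : RingHom.ker π ≤ nilradical (MvPolynomial σ (Localization.AtPrime p)) := by
    rw [MvPolynomial.ker_map, Ideal.mk_ker, Ideal.map_le_iff_le_comap]
    intro r hr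
    rw [Ideal.mem_comap, mem_nilradical]
    exact (mem_nilradical.mp hr).map _
  have hkerq₁ : RingHom.ker π ≤ q₁ := hkerπ.trans (nilradical_le_prime q₁)
  haveI hqb : (q₁.map π).IsPrime := Ideal.map_isPrime_of_surjective hπ hkerq₁
  have hcomapπ : (q₁.map π).comap π = q₁ := by
    rw [Ideal.comap_map_of_surjective' π hπ, sup_eq_left]
    exact hkerq₁
  have hq₁C : q₁.comap (MvPolynomial.C : Localization.AtPrime p →+*
      MvPolynomial σ (Localization.AtPrime p)) = IsLocalRing.maximalIdeal (Localization.AtPrime p) := by
    have h1 : (q₁.comap (MvPolynomial.C : Localization.AtPrime p →+*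
        MvPolynomial σ (Localization.AtPrime p))).comap (algebraMap R (Localization.AtPrime p)) = p := by
      rw [Ideal.comap_comap]
      have e : (MvPolynomial.C : Localization.AtPrime p →+*
          MvPolynomial σ (Localization.AtPrime p)).comp (algebraMap R (Localization.AtPrime p)) =
          (algebraMap (MvPolynomial σ R) (MvPolynomial σ (Localization.AtPrime p))).comp
            MvPolynomial.C := by
        have hm : algebraMap (MvPolynomial σ R) (MvPolynomial σ (Localization.AtPrime p)) =
            MvPolynomial.map (algebraMap R (Localization.AtPrime p)) := rfl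
        rw [hm]
        refine RingHom.ext fun r => ?_
        simp only [RingHom.comp_apply, MvPolynomial.map_C]
      rw [e, ← Ideal.comap_comap, hcomap, hq]
    have h2 := IsLocalization.map_comap p.primeCompl (Localization.AtPrime p)
      (q₁.comap (MvPolynomial.C : Localization.AtPrime p →+*
        MvPolynomial σ (Localization.AtPrime p)))
    rw [Ideal.under_def, h1] at h2
    rw [← h2]
    exact IsLocalization.AtPrime.map_eq_maximalIdeal p (Localization.AtPrime p)
  have hqbA : (q₁.map π).comap (algebraMap (CAlg2.red (Localization.AtPrime p))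
      (MvPolynomial σ (CAlg2.red (Localization.AtPrime p)))) =
      IsLocalRing.maximalIdeal (CAlg2.red (Localization.AtPrime p)) := by
    refine ((IsLocalRing.maximalIdeal.isMaximal _).eq_of_le
      (Ideal.IsPrime.ne_top (Ideal.IsPrime.comap _)) ?_).symm
    intro a ha
    obtain ⟨r, rfl⟩ := Ideal.Quotient.mk_surjective a
    have hr : r ∈ IsLocalRing.maximalIdeal (Localization.AtPrime p) := by
      rw [IsLocalRing.mem_maximalIdeal, mem_nonunits_iff] at ha ⊢
      exact fun hu => ha (hu.map _)
    rw [← hq₁C] at hr
    have h2 := Ideal.mem_map_of_mem π (Ideal.mem_comap.mp hr)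
    rw [Ideal.mem_comap]
    have e : π (MvPolynomial.C r) = algebraMap (CAlg2.red (Localization.AtPrime p))
        (MvPolynomial σ (CAlg2.red (Localization.AtPrime p))) (Ideal.Quotient.mk _ r) := by
      simp [π, MvPolynomial.algebraMap_eq]
    rw [← e]
    exact h2
  -- Step 3: the domain case
  have hGUA : GU' (CAlg2.red (Localization.AtPrime p))
      (FractionRing (CAlg2.red (Localization.AtPrime p))) :=
    gu'_red_of_isGeomUnibranch (Localization.AtPrime p) hGU
  have h3 := isGeomUnibranch_localization_mvPolynomial_of_gu''
    (CAlg2.red (Localization.AtPrime p)) (FractionRing (CAlg2.red (Localization.AtPrime p)))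
    hGUA σ (q₁.map π) hqbA
  -- Step 4
  haveI : IsDomain (Localization.AtPrime (q₁.map π)) :=
    IsLocalization.isDomain_localization (le_nonZeroDivisors_of_noZeroDivisors
      (fun h0 => h0 (zero_mem _)))
  obtain ⟨hs, hk⟩ := localRingHom_surjective_ker_eq_nilradical π hπ hkerπ (q₁.map π) q₁
    hcomapπ.symm
  have h4 : CAlg2.IsGeomUnibranch (Localization.AtPrime q₁) :=
    isGeomUnibranch_of_surjective_of_ker_eq_nilradical _ hs hk h3
  -- Step 5
  have hat := IsLocalization.isLocalization_isLocalization_atPrime_isLocalization
    (p.primeCompl.map (MvPolynomial.C (σ := σ) (R := R))) (Localization.AtPrime q₁) q₁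
  simp only [hcomap] at hat
  let e : Localization.AtPrime q ≃ₐ[MvPolynomial σ R] Localization.AtPrime q₁ :=
    IsLocalization.algEquiv q.primeCompl _ _
  exact isGeomUnibranch_of_ringEquiv' e.symm.toRingEquiv h4

end Groth.Agent.Lib.Helper6.UB
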