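import Mathlib
import Groth.Agent.Lib.Helper6.UBO3
import Groth.Agent.Lib.Helper6.UBS4

/-!
# Openness at quasi-finite points over unibranch points
-/

set_option autoImplicit false
universe u

open TensorProduct CategoryTheory AlgebraicGeometry Limits

namespace Groth.Agent.Lib.Helper6.UBO

open Groth.Agent.Lib.Helper6.GU Groth.Agent.Lib.Helper6.UB Groth.Agent.Lib.Helper21.MinFin

section Topology

variable {α β γ : Type*} [TopologicalSpace α] [TopologicalSpace β] [TopologicalSpace γ]

theorem isOpenAt_comp_of_isOpenMap {g : α → β} {h : β → γ} (z : α)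
    (hg : EGA43.IsOpenAt g z) (hh : IsOpenMap h) : EGA43.IsOpenAt (h ∘ g) z := by
  intro U hU
  rw [Set.image_comp]
  exact hh.image_mem_nhds (hg U hU)

theorem isOpenAt_comp_of_isOpenEmbedding {g : α → β} {h : β → γ} (z : α)
    (hg : Topology.IsOpenEmbedding g) (hh : EGA43.IsOpenAt h (g z)) :
    EGA43.IsOpenAt (h ∘ g) z := by
  intro U hU
  rw [Set.image_comp]
  exact hh _ (hg.isOpenMap.image_mem_nhds hU)

theorem isOpenAt_of_comp_isOpenEmbedding {j : α → β} {f : β → γ} (w : α)
    (hj : Continuous j) (h : EGA43.IsOpenAt (f ∘ j) w) : EGA43.IsOpenAt f (j w) := by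
  intro U hU
  have h1 : j ⁻¹' U ∈ nhds w := hj.continuousAt hU
  have h2 := h _ h1
  refine Filter.mem_of_superset h2 ?_
  rintro _ ⟨a, ha, rfl⟩
  exact ⟨j a, ha, rfl⟩

end Topology

/-- The prime of the generic point of an irreducible scheme in an affine chart is the
nilradical. -/
theorem primeIdealOf_genericPoint_eq_nilradical {X : Scheme.{u}} [IrreducibleSpace X]
    (U : X.Opens) (hU : IsAffineOpen U) (hξ : genericPoint X ∈ U) :
    (hU.primeIdealOf ⟨genericPoint X, hξ⟩).asIdeal = nilradical Γ(X, U) := by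
  apply le_antisymm
  · rw [nilradical_eq_sInf, le_sInf_iff]
    intro P hP
    let z : PrimeSpectrum Γ(X, U) := ⟨P, hP⟩
    have hz : hU.fromSpec z ∈ U := fromSpec_mem hU z
    have h1 : genericPoint X ⤳ hU.fromSpec z := genericPoint_specializes _
    have h2 := (Groth.Agent.Lib.Helper21.ChartPt.specializes_iff_primeIdealOf_le hU
      ⟨genericPoint X, hξ⟩ ⟨hU.fromSpec z, hz⟩).mp h1
    rw [primeIdealOf_fromSpec hU z] at h2
    exact h2
  · exact nilradical_le_prime _

/-- A dense-range morphism of irreducible schemes maps the generic point to the generic point. -/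
theorem map_genericPoint_of_denseRange {X Y : Scheme.{u}} [IrreducibleSpace X]
    [IrreducibleSpace Y] (f : X ⟶ Y) (hdom : DenseRange f) :
    f (genericPoint X) = genericPoint Y := by
  have h1 : Set.range f ⊆ closure {f (genericPoint X)} := by
    rintro _ ⟨x, rfl⟩
    exact ((genericPoint_specializes x).map f.continuous).mem_closure
  have h2 : closure {f (genericPoint X)} = Set.univ := by
    have := hdom.mono h1
    rw [dense_closure] at this
    exact this.closure_eq
  have h3 : IsGenericPoint (f (genericPoint X)) Set.univ := h2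
  exact h3.eq (genericPoint_spec Y)

/-- Isolated in the fibre means quasi-finite at the point. -/
theorem quasiFiniteAt_of_nhdsWithin_eq_pure {X Y : Scheme.{u}} (f : X ⟶ Y)
    [LocallyOfFiniteType f] (x : X) (h : nhdsWithin x (f ⁻¹' {f x}) = pure x) :
    f.QuasiFiniteAt x := by
  rw [Scheme.Hom.quasiFiniteAt_iff_isOpen_singleton_asFiber,
    ← (f.fiberHomeo (f x)).isOpen_image]
  have h1 : (f.fiberHomeo (f x)) '' {f.asFiber x} = {(⟨x, rfl⟩ : f ⁻¹' {f x})} := by
    rw [Set.image_singleton]
    congr 1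
    exact (f.fiberHomeo (f x)).apply_symm_apply _
  rw [h1, isOpen_singleton_iff_nhds_eq_pure, nhds_subtype_eq_comap_nhdsWithin, h]
  ext s
  simp only [Filter.mem_comap, Filter.mem_pure]
  constructor
  · rintro ⟨t, ht, hts⟩
    exact hts ht
  · intro hs
    refine ⟨{x}, rfl, ?_⟩
    rintro ⟨y, hy⟩ hyx
    have : y = x := hyx
    subst this
    exact hs

set_option maxHeartbeats 4000000 in
/-- **EGA IV 14.4.1.2 / SGA3 VI_B**: a dominant morphism locally of finite type between irreducible
schemes is open at every point isolated in its fibre over a unibranch point. -/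
theorem isOpenAt_of_quasiFiniteAt_of_isUnibranch {X Y : Scheme.{u}} [IrreducibleSpace X]
    [IrreducibleSpace Y] (f : X ⟶ Y) [LocallyOfFiniteType f] (hdom : DenseRange f) (x : X)
    (hqf : f.QuasiFiniteAt x) (hU : CAlg2.IsUnibranch (Y.presheaf.stalk (f x))) :
    EGA43.IsOpenAt f x := by
  obtain ⟨V, hV, hfxV⟩ : ∃ V : Y.Opens, IsAffineOpen V ∧ f x ∈ V := by
    obtain ⟨_, ⟨V, hV, rfl⟩, hy, -⟩ := Y.isBasis_affineOpens.exists_subset_of_mem_open
      (Set.mem_univ (f x)) isOpen_univ
    exact ⟨V, hV, hy⟩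
  obtain ⟨U₀, hU₀, hxU₀, hle⟩ : ∃ U₀ : X.Opens, IsAffineOpen U₀ ∧ x ∈ U₀ ∧ U₀ ≤ f ⁻¹ᵁ V := by
    obtain ⟨_, ⟨U, hU, rfl⟩, hx, hsub⟩ := X.isBasis_affineOpens.exists_subset_of_mem_open
      (show x ∈ ((f ⁻¹ᵁ V : X.Opens) : Set X) from hfxV) (f ⁻¹ᵁ V).isOpen
    exact ⟨U, hU, hx, hsub⟩
  have hφft : (f.appLE V U₀ hle).hom.FiniteType :=
    HasRingHomProperty.appLE @LocallyOfFiniteType f inferInstance ⟨V, hV⟩ ⟨U₀, hU₀⟩ hle
  have hφqf := hqf.quasiFiniteAt hU₀ hV hle hxU₀
  algebraize [(f.appLE V U₀ hle).hom]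
  let px : PrimeSpectrum Γ(X, U₀) := hU₀.primeIdealOf ⟨x, hxU₀⟩
  haveI : Algebra.QuasiFiniteAt Γ(Y, V) px.asIdeal := hφqf
  obtain ⟨C, hCfg, r, hrp, hbij⟩ :=
    Algebra.QuasiFiniteAt.exists_fg_and_exists_notMem_and_awayMap_bijective
      (R := Γ(Y, V)) px.asIdeal
  haveI : Module.Finite Γ(Y, V) C := ⟨(Submodule.fg_top _).mpr hCfg⟩
  -- generic points and nilradicals
  have hξX : genericPoint X ∈ U₀ := (genericPoint_specializes x).mem_open U₀.isOpen hxU₀
  have hξY : genericPoint Y ∈ V := (genericPoint_specializes (f x)).mem_open V.isOpen hfxV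
  have hNB := primeIdealOf_genericPoint_eq_nilradical U₀ hU₀ hξX
  have hNA := primeIdealOf_genericPoint_eq_nilradical V hV hξY
  haveI hNBp : (nilradical Γ(X, U₀)).IsPrime := hNB ▸ (hU₀.primeIdealOf _).isPrime
  haveI hNAp : (nilradical Γ(Y, V)).IsPrime := hNA ▸ (hV.primeIdealOf _).isPrime
  have hcomapN : (nilradical Γ(X, U₀)).comap (algebraMap Γ(Y, V) Γ(X, U₀)) =
      nilradical Γ(Y, V) := by
    have h1 := IsAffineOpen.comap_primeIdealOf_appLE (f := f) V hV U₀ hU₀ hle hξX
    have h2 := congrArg PrimeSpectrum.asIdeal h1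
    have key : ∀ (z : Y) (hz : z ∈ V), z = genericPoint Y →
        (hV.primeIdealOf ⟨z, hz⟩).asIdeal = nilradical Γ(Y, V) := by
      rintro z hz rfl
      exact primeIdealOf_genericPoint_eq_nilradical V hV hz
    rw [key _ _ (map_genericPoint_of_denseRange f hdom)] at h2
    rw [← hNB]
    exact h2
  -- the reduced rings and the square
  let Ared := Γ(Y, V) ⧸ nilradical Γ(Y, V)
  let Bred := Γ(X, U₀) ⧸ nilradical Γ(X, U₀)
  haveI : IsDomain Ared := Ideal.Quotient.isDomain _
  haveI : IsDomain Bred := Ideal.Quotient.isDomain _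
  let φred : Ared →+* Bred := Ideal.quotientMap (nilradical Γ(X, U₀)) (algebraMap Γ(Y, V) Γ(X, U₀))
    (le_of_eq hcomapN.symm)
  have hφredinj : Function.Injective φred := Ideal.quotientMap_injective' (le_of_eq hcomapN)
  let K := FractionRing Ared
  let L := FractionRing Bred
  have hinjAL : Function.Injective ((algebraMap Bred L).comp φred) :=
    (IsFractionRing.injective Bred L).comp hφredinj
  letI : Algebra Ared L := ((algebraMap Bred L).comp φred).toAlgebra
  let lift : K →+* L := IsFractionRing.lift (A := Ared) (K := K) (g := algebraMap Ared L) hinjAL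
  let R' := integralClosure Ared K
  haveI : IsIntegrallyClosed R' := integralClosure.isIntegrallyClosedOfFiniteExtension K (L := K)
  let a : Γ(Y, V) →+* C := algebraMap Γ(Y, V) C
  let b : Γ(Y, V) →+* R' := (algebraMap Ared R').comp (Ideal.Quotient.mk (nilradical Γ(Y, V)))
  let c : R' →+* L := lift.comp R'.val.toRingHom
  let d : C →+* L := (algebraMap Bred L).comp
    ((Ideal.Quotient.mk (nilradical Γ(X, U₀))).comp C.val.toRingHom)
  have hcomm : c.comp b = d.comp a := by
    ext y
    change lift (algebraMap Ared K (Ideal.Quotient.mk _ y)) = _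
    rw [IsFractionRing.lift_algebraMap]
    rfl
  have ha : a.IsIntegral := algebraMap_isIntegral_iff.mpr inferInstance
  have hb : b.IsIntegral := RingHom.IsIntegral.trans _ _
    (RingHom.isIntegral_of_surjective _ Ideal.Quotient.mk_surjective)
    (algebraMap_isIntegral_iff.mpr inferInstance)
  have hbinj : Function.Injective (algebraMap Ared R') := by
    intro y₁ y₂ h12
    exact IsFractionRing.injective Ared K (congrArg Subtype.val h12)
  have hbker : RingHom.ker b ≤ nilradical Γ(Y, V) := by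
    intro y hy
    rw [RingHom.mem_ker] at hy
    have : Ideal.Quotient.mk (nilradical Γ(Y, V)) y = 0 := hbinj (by rw [map_zero]; exact hy)
    exact Ideal.Quotient.eq_zero_iff_mem.mp this
  have hc : Function.Injective c := by
    intro y₁ y₂ h12
    apply Subtype.ext
    exact lift.injective h12
  have hdker : RingHom.ker d ≤ nilradical C := by
    intro y hy
    rw [RingHom.mem_ker] at hy
    have h1 : Ideal.Quotient.mk (nilradical Γ(X, U₀)) (y : Γ(X, U₀)) = 0 :=
      IsFractionRing.injective Bred L (by rw [map_zero]; exact hy)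
    have h2 : (y : Γ(X, U₀)) ∈ nilradical Γ(X, U₀) := Ideal.Quotient.eq_zero_iff_mem.mp h1
    obtain ⟨n, hn⟩ := mem_nilradical.mp h2
    rw [mem_nilradical]
    exact ⟨n, Subtype.ext (by simpa using hn)⟩
  -- the point of `Spec C`
  let q : PrimeSpectrum C := PrimeSpectrum.comap C.val.toRingHom px
  set p₀ : PrimeSpectrum Γ(Y, V) := hV.primeIdealOf ⟨f x, hle hxU₀⟩ with hp₀
  have hqa : PrimeSpectrum.comap a q = p₀ := by
    have h1 := IsAffineOpen.comap_primeIdealOf_appLE (f := f) V hV U₀ hU₀ hle hxU₀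
    rw [hp₀]
    exact h1
  -- unibranch transfer
  have hkerp₀ : RingHom.ker (Ideal.Quotient.mk (nilradical Γ(Y, V))) ≤ p₀.asIdeal := by
    rw [Ideal.mk_ker]; exact nilradical_le_prime _
  set pbar : Ideal Ared := p₀.asIdeal.map (Ideal.Quotient.mk (nilradical Γ(Y, V))) with hpbar
  haveI hpbarp : pbar.IsPrime :=
    Ideal.map_isPrime_of_surjective Ideal.Quotient.mk_surjective hkerp₀
  have hpbarc : pbar.comap (Ideal.Quotient.mk (nilradical Γ(Y, V))) = p₀.asIdeal := by
    rw [hpbar, Ideal.comap_map_of_surjective' _ Ideal.Quotient.mk_surjective, sup_eq_left]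
    exact hkerp₀
  have hU₂ : CAlg2.IsUnibranch (Localization.AtPrime pbar) := by
    letI : Algebra Γ(Y, V) (Y.presheaf.stalk (f x)) :=
      TopCat.Presheaf.algebra_section_stalk Y.presheaf ⟨f x, hle hxU₀⟩
    haveI : IsLocalization.AtPrime (Y.presheaf.stalk (f x)) p₀.asIdeal :=
      hV.isLocalization_stalk ⟨f x, hle hxU₀⟩
    let e : Y.presheaf.stalk (f x) ≃+* Localization.AtPrime p₀.asIdeal :=
      (IsLocalization.algEquiv p₀.asIdeal.primeCompl (Y.presheaf.stalk (f x))
        (Localization.AtPrime p₀.asIdeal)).toRingEquiv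
    have hU₁ : CAlg2.IsUnibranch (Localization.AtPrime p₀.asIdeal) :=
      isUnibranch_of_ringEquiv' e hU
    obtain ⟨hs, hk⟩ := localRingHom_surjective_ker_eq_nilradical
      (Ideal.Quotient.mk (nilradical Γ(Y, V))) Ideal.Quotient.mk_surjective
      (by rw [Ideal.mk_ker]) pbar p₀.asIdeal hpbarc.symm
    exact isUnibranch_of_surjective_of_ker_eq_nilradical _ hs hk hU₁
  letI : Algebra (Localization.AtPrime pbar) K :=
    (IsLocalization.lift (M := pbar.primeCompl) (g := algebraMap Ared K) (fun y => by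
      have : (y : Ared) ≠ 0 := fun h0 => y.2 (by rw [h0]; exact zero_mem _)
      exact IsUnit.mk0 _ (by simpa using this))).toAlgebra
  haveI : IsScalarTower Ared (Localization.AtPrime pbar) K :=
    IsScalarTower.of_algebraMap_eq (fun y => by
      rw [RingHom.algebraMap_toAlgebra]
      exact (IsLocalization.lift_eq _ y).symm)
  have huniq : ∀ P₁ P₂ : PrimeSpectrum R', PrimeSpectrum.comap b P₁ = PrimeSpectrum.comap a q →
      PrimeSpectrum.comap b P₂ = PrimeSpectrum.comap a q → P₁ = P₂ := by
    intro P₁ P₂ h₁ h₂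
    rw [hqa] at h₁ h₂
    have hk : ∀ P : PrimeSpectrum R', PrimeSpectrum.comap b P = p₀ →
        P.asIdeal.comap (algebraMap Ared R') = pbar := by
      intro P hP
      apply Ideal.comap_injective_of_surjective _ Ideal.Quotient.mk_surjective
      rw [hpbarc, ← congrArg PrimeSpectrum.asIdeal hP]
      rfl
    apply PrimeSpectrum.ext
    haveI := P₁.isPrime
    haveI := P₂.isPrime
    exact unique_prime_integralClosure_of_isUnibranch pbar (Localization.AtPrime pbar) hU₂ K
      P₁.asIdeal P₂.asIdeal (hk P₁ h₁) (hk P₂ h₂)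
  have hopen : EGA43.IsOpenAt (PrimeSpectrum.comap a) q :=
    isOpenAt_comap_of_square a b c d hcomm ha hb hbker hc hdker q huniq
  -- the open immersion around `x`
  let ιC : C →+* Γ(X, U₀) := C.val.toRingHom
  let j : Spec (CommRingCat.of (Localization.Away (ιC r))) ⟶ X :=
    Spec.map (CommRingCat.ofHom (algebraMap Γ(X, U₀) (Localization.Away (ιC r)))) ≫ hU₀.fromSpec
  have hx1 : hU₀.fromSpec px = x := hU₀.fromSpec_primeIdealOf ⟨x, hxU₀⟩
  have hx2 : px ∈ Set.range (PrimeSpectrum.comap
      (algebraMap Γ(X, U₀) (Localization.Away (ιC r)))) := by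
    rw [PrimeSpectrum.localization_away_comap_range (Localization.Away (ιC r)) (ιC r)]
    exact hrp
  obtain ⟨z, hz⟩ := hx2
  let z' : ↥(Spec (CommRingCat.of (Localization.Away (ιC r)))) := z
  have hz' : (Spec.map (CommRingCat.ofHom
      (algebraMap Γ(X, U₀) (Localization.Away (ιC r))))) z' = px := hz
  have hjz : j z' = x := by
    change (Spec.map (CommRingCat.ofHom (algebraMap Γ(X, U₀) (Localization.Away (ιC r)))) ≫
      hU₀.fromSpec) z' = x
    rw [Scheme.Hom.comp_apply, hz', hx1]
  have hring : f.appLE V U₀ hle ≫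
      CommRingCat.ofHom (algebraMap Γ(X, U₀) (Localization.Away (ιC r))) =
      CommRingCat.ofHom (algebraMap Γ(Y, V) C) ≫
        CommRingCat.ofHom (algebraMap C (Localization.Away r)) ≫
        CommRingCat.ofHom (Localization.awayMap ιC r) := by
    ext y
    simp only [CommRingCat.hom_comp, CommRingCat.hom_ofHom, RingHom.comp_apply]
    rw [Localization.awayMap, IsLocalization.Away.map, IsLocalization.map_eq]
    rfl
  let g₁ : Spec (CommRingCat.of (Localization.Away (ιC r))) ⟶ Spec (CommRingCat.of C) :=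
    Spec.map (CommRingCat.ofHom (Localization.awayMap ιC r)) ≫
      Spec.map (CommRingCat.ofHom (algebraMap C (Localization.Away r)))
  have hj : j ≫ f = g₁ ≫ Spec.map (CommRingCat.ofHom (algebraMap Γ(Y, V) C)) ≫ hV.fromSpec := by
    simp only [j, g₁, Category.assoc]
    rw [← IsAffineOpen.SpecMap_appLE_fromSpec f hV hU₀ hle]
    rw [← Spec.map_comp_assoc, hring]
    simp only [Spec.map_comp, Category.assoc]
  haveI : IsIso (CommRingCat.ofHom (Localization.awayMap ιC r)) :=
    (ConcreteCategory.isIso_iff_bijective _).mpr hbij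
  haveI : IsOpenImmersion g₁ := inferInstance
  have hg₁z : g₁ z' = q := by
    have hsq : CommRingCat.ofHom (algebraMap C (Localization.Away r)) ≫
        CommRingCat.ofHom (Localization.awayMap ιC r) =
        CommRingCat.ofHom ιC ≫
          CommRingCat.ofHom (algebraMap Γ(X, U₀) (Localization.Away (ιC r))) := by
      ext y
      simp only [CommRingCat.hom_comp, CommRingCat.hom_ofHom, RingHom.comp_apply]
      rw [Localization.awayMap, IsLocalization.Away.map, IsLocalization.map_eq]
    have h1 : g₁ = Spec.map (CommRingCat.ofHom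
        (algebraMap Γ(X, U₀) (Localization.Away (ιC r)))) ≫ Spec.map (CommRingCat.ofHom ιC) := by
      simp only [g₁]
      rw [← Spec.map_comp, ← Spec.map_comp, hsq]
    rw [h1, Scheme.Hom.comp_apply, hz']
    rfl
  rw [← hjz]
  refine isOpenAt_of_comp_isOpenEmbedding z' j.continuous ?_
  have hfun : (⇑f ∘ ⇑j) = ⇑hV.fromSpec ∘
      (⇑(Spec.map (CommRingCat.ofHom (algebraMap Γ(Y, V) C))) ∘ ⇑g₁) := by
    funext w
    have := congrArg (fun k => k w) (congrArg (fun k : _ ⟶ Y => (k : _ → Y)) hj)
    simpa [Scheme.Hom.comp_apply] using this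
  rw [hfun]
  refine isOpenAt_comp_of_isOpenMap z' ?_ hV.fromSpec.isOpenEmbedding.isOpenMap
  refine isOpenAt_comp_of_isOpenEmbedding z' g₁.isOpenEmbedding ?_
  rw [hg₁z]
  exact hopen

end Groth.Agent.Lib.Helper6.UBO
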