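import Mathlib
import Groth.Agent.Lib.Helper6.PUO1
import Groth.Agent.Lib.Helper6.UO2
import Groth.Agent.Lib.Helper6.QFac9
import Groth.Agent.Lib.Helper6.UBO4

/-!
# Pointwise universal openness can be tested on affine spaces (scheme part)
-/

set_option autoImplicit false
set_option linter.style.haveILetI false
universe u

open TensorProduct CategoryTheory AlgebraicGeometry Limits

namespace Groth.Agent.Lib.Helper6.PUO

open Groth.Agent.Lib.Helper6.Chev Groth.Agent.Lib.Helper14.UOA EGA43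

section Topology

variable {α β γ : Type*} [TopologicalSpace α] [TopologicalSpace β] [TopologicalSpace γ]

/-- Cancel an injective continuous map on the left. -/
theorem isOpenAt_of_comp_injective {k : α → β} {j : β → γ} (z : α) (hj : Continuous j)
    (hinj : Function.Injective j) (h : IsOpenAt (j ∘ k) z) : IsOpenAt k z := by
  intro U hU
  have h1 := h U hU
  rw [Set.image_comp] at h1
  have h2 : j ⁻¹' (j '' (k '' U)) ∈ nhds (k z) := hj.continuousAt h1
  rwa [Set.preimage_image_eq _ hinj] at h2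

end Topology

/-- Composition of a morphism universally open at `x` with a universally open morphism. -/
theorem isUnivOpenAt_comp_of_universallyOpen {X Y Z : Scheme.{u}} (f : X ⟶ Y) (j : Y ⟶ Z)
    [UniversallyOpen j] (x : X) (h : IsUnivOpenAt f x) : IsUnivOpenAt (f ≫ j) x := by
  refine isUnivOpenAt_of_forall fun Z' g => ?_
  have sq1 : IsPullback (pullback.fst f (pullback.fst j g)) (pullback.snd f (pullback.fst j g)) f
      (pullback.fst j g) := IsPullback.of_hasPullback _ _
  have sq2 : IsPullback (pullback.fst j g) (pullback.snd j g) j g := IsPullback.of_hasPullback _ _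
  refine ⟨_, _, _, sq1.paste_vert sq2, fun x' hx' => ?_⟩
  rw [comp_base_eq]
  refine isOpenAt_comp _ _ _ (h _ _ x' hx') ?_
  exact isOpenAt_of_isOpenMap _ (pullback.snd j g).isOpenMap _

/-- Transfer of openness at a point between two pullback squares over the same cospan. -/
theorem isOpenAt_snd_of_isPullback {P P' X Y Y' : Scheme.{u}} {f : X ⟶ Y} {g : Y' ⟶ Y}
    {fst : P ⟶ X} {snd : P ⟶ Y'} {fst' : P' ⟶ X} {snd' : P' ⟶ Y'}
    (sq : IsPullback fst snd f g) (sq' : IsPullback fst' snd' f g) (x' : P')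
    (h : ∀ p : P, fst.base p = fst'.base x' → IsOpenAt snd.base p) : IsOpenAt snd'.base x' := by
  let e : P' ≅ P := sq'.isoIsPullback _ _ sq
  have e1 : e.hom ≫ fst = fst' := sq'.isoIsPullback_hom_fst _ _ sq
  have e2 : e.hom ≫ snd = snd' := sq'.isoIsPullback_hom_snd _ _ sq
  rw [← e2, comp_base_eq]
  refine isOpenAt_comp _ _ _ (isOpenAt_of_isIso _ _) (h _ ?_)
  rw [← e1]
  rfl

set_option maxHeartbeats 1000000 in
/-- Affine base change case. -/
theorem isOpenAt_SpecMap_tensor {A C R : CommRingCat.{u}} (φ : A ⟶ C) (ψ : A ⟶ R)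
    (q : Spec C)
    (H : ∀ n : ℕ, 0 < n → ∀ q₀ : PrimeSpectrum (MvPolynomial (ULift.{u} (Fin n)) C),
      PrimeSpectrum.comap (MvPolynomial.C : C →+* MvPolynomial (ULift.{u} (Fin n)) C) q₀ = q →
      IsOpenAt (PrimeSpectrum.comap
        (MvPolynomial.map φ.hom : MvPolynomial (ULift.{u} (Fin n)) A →+*
          MvPolynomial (ULift.{u} (Fin n)) C)) q₀)
    {P : Scheme.{u}} {fst : P ⟶ Spec C} {snd : P ⟶ Spec R}
    (sq : IsPullback fst snd (Spec.map φ) (Spec.map ψ)) (x' : P) (hx' : fst.base x' = q) :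
    IsOpenAt snd.base x' := by
  algebraize [φ.hom, ψ.hom]
  have hbig : IsPullback
      (Spec.map (CommRingCat.ofHom
        (Algebra.TensorProduct.includeRight : C →ₐ[A] R ⊗[A] C).toRingHom))
      (Spec.map (CommRingCat.ofHom (algebraMap R (R ⊗[A] C))))
      (Spec.map φ) (Spec.map ψ) :=
    (isPullback_SpecMap_of_isPushout _ _ _ _ (CommRingCat.isPushout_tensorProduct A R C)).flip
  refine isOpenAt_snd_of_isPullback hbig sq x' fun Q hQ => ?_
  rw [hx'] at hQ
  change IsOpenAt (PrimeSpectrum.comap (algebraMap R (R ⊗[A] C))) Q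
  refine isOpenAt_comap_tensor (A := A) (C := C) (R := R) Q fun σ _ _ q₀ hq₀ => ?_
  have e : σ ≃ ULift.{u} (Fin (Nat.card σ)) := (Finite.equivFin σ).trans Equiv.ulift.symm
  refine isOpenAt_comap_map_of_equiv (algebraMap A C) e q₀ (H _ Nat.card_pos _ ?_)
  rw [← PrimeSpectrum.comap_comp_apply]
  have h1 : ((MvPolynomial.renameEquiv C e.symm : MvPolynomial (ULift.{u} (Fin (Nat.card σ))) C ≃ₐ[C]
        MvPolynomial σ C) : MvPolynomial (ULift.{u} (Fin (Nat.card σ))) C →+*
          MvPolynomial σ C).comp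
      (MvPolynomial.C : C →+* MvPolynomial (ULift.{u} (Fin (Nat.card σ))) C) =
      (MvPolynomial.C : C →+* MvPolynomial σ C) := by
    ext c
    simp
  rw [h1, hq₀]
  exact hQ

set_option maxHeartbeats 1000000 in
/-- Pointwise universal openness of `Spec C ⟶ Spec A` can be tested on polynomial rings. -/
theorem isUnivOpenAt_SpecMap {A C : CommRingCat.{u}} (φ : A ⟶ C) (q : Spec C)
    (H : ∀ n : ℕ, 0 < n → ∀ q₀ : PrimeSpectrum (MvPolynomial (ULift.{u} (Fin n)) C),
      PrimeSpectrum.comap (MvPolynomial.C : C →+* MvPolynomial (ULift.{u} (Fin n)) C) q₀ = q →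
      IsOpenAt (PrimeSpectrum.comap
        (MvPolynomial.map φ.hom : MvPolynomial (ULift.{u} (Fin n)) A →+*
          MvPolynomial (ULift.{u} (Fin n)) C)) q₀) :
    IsUnivOpenAt (Spec.map φ) q := by
  intro T g x' hx'
  obtain ⟨_, ⟨W, hW : IsAffineOpen W, rfl⟩, hxW, -⟩ :=
    T.isBasis_affineOpens.exists_subset_of_mem_open
      (Set.mem_univ ((pullback.snd (Spec.map φ) g).base x')) isOpen_univ
  obtain ⟨w, hw⟩ : (pullback.snd (Spec.map φ) g).base x' ∈ Set.range hW.fromSpec.base := by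
    rw [hW.range_fromSpec]; exact hxW
  have sq1 : IsPullback (pullback.fst (pullback.snd (Spec.map φ) g) hW.fromSpec)
      (pullback.snd (pullback.snd (Spec.map φ) g) hW.fromSpec) (pullback.snd (Spec.map φ) g)
      hW.fromSpec := IsPullback.of_hasPullback _ _
  have sq2 : IsPullback (pullback.fst (Spec.map φ) g) (pullback.snd (Spec.map φ) g) (Spec.map φ) g :=
    IsPullback.of_hasPullback _ _
  have sq := sq1.paste_horiz sq2
  obtain ⟨ψ, hψ⟩ := Spec.map_surjective (hW.fromSpec ≫ g)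
  rw [← hψ] at sq
  obtain ⟨z, hz1, hz2⟩ := exists_preimage_of_isPullback sq1 x' w hw.symm
  have hz : IsOpenAt (pullback.snd (pullback.snd (Spec.map φ) g) hW.fromSpec).base z := by
    refine isOpenAt_SpecMap_tensor φ ψ q H sq z ?_
    rw [comp_base_eq, Function.comp_apply, hz1, hx']
  rw [← hz1]
  refine isOpenAt_of_comp _ _ z (Scheme.Hom.continuous _).continuousAt ?_
  rw [← comp_base_eq, sq1.w, comp_base_eq]
  exact isOpenAt_comp _ _ _ hz (isOpenAt_of_isOpenMap _ hW.fromSpec.isOpenEmbedding.isOpenMap _)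

open AffineSpace in
set_option maxHeartbeats 1000000 in
/-- Passing to affine charts: openness at a point of `Spec C[σ] → Spec A[σ]`. -/
theorem isOpenAt_comap_map_of_affineSpace {X Y : Scheme.{u}} (f : X ⟶ Y) (σ : Type u)
    {V : Y.Opens} (hV : IsAffineOpen V) {U : X.Opens} (hU : IsAffineOpen U) (e : U ≤ f ⁻¹ᵁ V)
    (q₀ : PrimeSpectrum (MvPolynomial σ Γ(X, U)))
    (h : IsOpenAt (AffineSpace.map σ f).base
      ((AffineSpace.map σ hU.fromSpec).base ((AffineSpace.SpecIso σ Γ(X, U)).inv.base q₀))) :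
    IsOpenAt (PrimeSpectrum.comap (MvPolynomial.map (f.appLE V U e).hom :
      MvPolynomial σ Γ(Y, V) →+* MvPolynomial σ Γ(X, U))) q₀ := by
  haveI : IsOpenImmersion (AffineSpace.map σ hV.fromSpec) :=
    MorphismProperty.of_isPullback (P := @IsOpenImmersion)
      (AffineSpace.isPullback_map (n := σ) hV.fromSpec).flip inferInstance
  haveI : IsOpenImmersion (AffineSpace.map σ hU.fromSpec) :=
    MorphismProperty.of_isPullback (P := @IsOpenImmersion)
      (AffineSpace.isPullback_map (n := σ) hU.fromSpec).flip inferInstance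
  set z := (AffineSpace.SpecIso σ Γ(X, U)).inv.base q₀ with hz
  have h1 : IsOpenAt (AffineSpace.map σ hU.fromSpec ≫ AffineSpace.map σ f).base z := by
    rw [comp_base_eq]
    exact Groth.Agent.Lib.Helper6.UBO.isOpenAt_comp_of_isOpenEmbedding z
      (AffineSpace.map σ hU.fromSpec).isOpenEmbedding h
  rw [← AffineSpace.map_comp, ← IsAffineOpen.SpecMap_appLE_fromSpec f hV hU e,
    AffineSpace.map_comp, comp_base_eq] at h1
  have h2 : IsOpenAt (AffineSpace.map σ (Spec.map (f.appLE V U e))).base z :=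
    isOpenAt_of_comp_injective z (AffineSpace.map σ hV.fromSpec).continuous
      (AffineSpace.map σ hV.fromSpec).isOpenEmbedding.injective h1
  rw [AffineSpace.map_SpecMap, comp_base_eq, comp_base_eq, Function.comp_assoc] at h2
  have h3 := isOpenAt_of_comp_injective z (AffineSpace.SpecIso σ Γ(Y, V)).inv.continuous
      (AffineSpace.SpecIso σ Γ(Y, V)).inv.isOpenEmbedding.injective h2
  have h4 := isOpenAt_of_comp _ _ z (Scheme.Hom.continuous _).continuousAt h3
  have h5 : (AffineSpace.SpecIso σ Γ(X, U)).hom.base z = q₀ := by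
    rw [hz, ← Scheme.Hom.comp_apply, Iso.inv_hom_id]
    rfl
  rw [h5] at h4
  exact h4

open AffineSpace in
set_option maxHeartbeats 1000000 in
/-- **Pointwise universal openness can be tested on the affine spaces `𝔸ⁿ`, `n > 0`.** -/
theorem isUnivOpenAt_of_isOpenAt_affineSpace {X Y : Scheme.{u}} (f : X ⟶ Y) (x : X)
    (h : ∀ n : ℕ, 0 < n → ∀ x' : 𝔸(ULift.{u} (Fin n); X),
      (𝔸(ULift.{u} (Fin n); X) ↘ X).base x' = x →
      IsOpenAt (AffineSpace.map (ULift.{u} (Fin n)) f).base x') :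
    IsUnivOpenAt f x := by
  obtain ⟨_, ⟨V, hV : IsAffineOpen V, rfl⟩, hfx, -⟩ :=
    Y.isBasis_affineOpens.exists_subset_of_mem_open (Set.mem_univ (f.base x)) isOpen_univ
  obtain ⟨_, ⟨U, hU : IsAffineOpen U, rfl⟩, hxU, hUV⟩ :=
    X.isBasis_affineOpens.exists_subset_of_mem_open (show x ∈ (f ⁻¹ᵁ V : Set X) from hfx)
      (f ⁻¹ᵁ V).isOpen
  have e : U ≤ f ⁻¹ᵁ V := hUV
  obtain ⟨u, hu⟩ : x ∈ Set.range hU.fromSpec.base := by rw [hU.range_fromSpec]; exact hxU
  rw [← hu]
  refine Groth.Agent.Lib.Helper6.QFac.isUnivOpenAt_of_comp hU.fromSpec f u ?_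
  rw [← IsAffineOpen.SpecMap_appLE_fromSpec f hV hU e]
  refine isUnivOpenAt_comp_of_universallyOpen _ hV.fromSpec u ?_
  refine isUnivOpenAt_SpecMap _ u fun n hn q₀ hq₀ => ?_
  refine isOpenAt_comap_map_of_affineSpace f _ hV hU e q₀ (h n hn _ ?_)
  rw [← Scheme.Hom.comp_apply, ← Scheme.Hom.comp_apply, AffineSpace.map_over,
    SpecIso_inv_over_assoc, Scheme.Hom.comp_apply, ← hu]
  congr 1

end Groth.Agent.Lib.Helper6.PUO
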