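import Mathlib
import Groth.Agent.Lib.Helper6.UBS4

/-!
# Affine space over a geometrically unibranch point
-/

set_option autoImplicit false
universe u

open CategoryTheory AlgebraicGeometry

namespace Groth.Agent.Lib.Helper6.UB

open Groth.Agent.Lib.Helper6.GU Groth.Agent.Lib.Helper6.Chev

/-- The stalk of `Spec A` at a point is the localization. -/
noncomputable def specStalkEquiv (A : Type u) [CommRing A] (z : PrimeSpectrum A) :
    (Spec (CommRingCat.of A)).presheaf.stalk z ≃+* Localization.AtPrime z.asIdeal :=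
  (IsLocalization.algEquiv z.asIdeal.primeCompl
    ((Spec.structureSheaf A).presheaf.stalk z) (Localization.AtPrime z.asIdeal)).toRingEquiv

/-- Stalks of a scheme on the image of an open immersion from an affine scheme. -/
theorem isGeomUnibranch_stalk_iff_of_isOpenImmersion_Spec {X : Scheme.{u}} {A : Type u} [CommRing A]
    (g : Spec (CommRingCat.of A) ⟶ X) [IsOpenImmersion g] (z : Spec (CommRingCat.of A)) :
    CAlg2.IsGeomUnibranch (X.presheaf.stalk (g z)) ↔
      CAlg2.IsGeomUnibranch (Localization.AtPrime (show PrimeSpectrum A from z).asIdeal) := by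
  let e₁ : X.presheaf.stalk (g z) ≃+* (Spec (CommRingCat.of A)).presheaf.stalk z :=
    (asIso (g.stalkMap z)).commRingCatIsoToRingEquiv
  let e₂ := specStalkEquiv A z
  constructor
  · intro h
    exact isGeomUnibranch_of_ringEquiv' (e₁.trans e₂) h
  · intro h
    exact isGeomUnibranch_of_ringEquiv' (e₁.trans e₂).symm h

open AffineSpace in
/-- **Affine space over a geometrically unibranch point is geometrically unibranch.** -/
theorem isGeomUnibranch_stalk_affineSpace {Y : Scheme.{u}} (σ : Type u) [Finite σ]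
    (y' : 𝔸(σ; Y))
    (hy : CAlg2.IsGeomUnibranch (Y.presheaf.stalk ((𝔸(σ; Y) ↘ Y) y'))) :
    CAlg2.IsGeomUnibranch ((𝔸(σ; Y)).presheaf.stalk y') := by
  obtain ⟨_, ⟨V, hV : IsAffineOpen V, rfl⟩, hyV, -⟩ :=
    Y.isBasis_affineOpens.exists_subset_of_mem_open (Set.mem_univ ((𝔸(σ; Y) ↘ Y) y')) isOpen_univ
  obtain ⟨p₀, hp₀⟩ : (𝔸(σ; Y) ↘ Y) y' ∈ Set.range hV.fromSpec := by
    rw [hV.range_fromSpec]; exact hyV
  have hpb := AffineSpace.isPullback_map (n := σ) hV.fromSpec
  haveI : IsOpenImmersion (AffineSpace.map σ hV.fromSpec) :=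
    MorphismProperty.of_isPullback (P := @IsOpenImmersion) hpb.flip inferInstance
  obtain ⟨z, hz1, hz2⟩ := Scheme.exists_preimage_of_isPullback hpb y' p₀ hp₀.symm
  let g : Spec (CommRingCat.of (MvPolynomial σ Γ(Y, V))) ⟶ 𝔸(σ; Y) :=
    (AffineSpace.SpecIso σ Γ(Y, V)).inv ≫ AffineSpace.map σ hV.fromSpec
  let z' : Spec (CommRingCat.of (MvPolynomial σ Γ(Y, V))) := (AffineSpace.SpecIso σ Γ(Y, V)).hom z
  have hgz : g z' = y' := by
    simp only [g, z']
    rw [← Scheme.Hom.comp_apply, ← Category.assoc, Iso.hom_inv_id, Category.id_comp]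
    exact hz1
  have hover : g ≫ (𝔸(σ; Y) ↘ Y) =
      Spec.map (CommRingCat.ofHom (MvPolynomial.C : Γ(Y, V) →+* MvPolynomial σ Γ(Y, V))) ≫
        hV.fromSpec := by
    simp only [g, Category.assoc, AffineSpace.map_over, AffineSpace.SpecIso_inv_over_assoc]
  have hp₀' : (Spec.map (CommRingCat.ofHom
      (MvPolynomial.C : Γ(Y, V) →+* MvPolynomial σ Γ(Y, V)))) z' = p₀ := by
    have h1 : (AffineSpace.SpecIso σ Γ(Y, V)).inv z' = z := by
      simp only [z']
      rw [← Scheme.Hom.comp_apply, Iso.hom_inv_id]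
      rfl
    rw [← AffineSpace.SpecIso_inv_over, Scheme.Hom.comp_apply, h1]
    exact hz2
  have hy2 : (𝔸(σ; Y) ↘ Y) y' = hV.fromSpec p₀ := hp₀.symm
  rw [hy2] at hy
  rw [← hgz]
  rw [isGeomUnibranch_stalk_iff_of_isOpenImmersion_Spec] at hy ⊢
  refine isGeomUnibranch_localization_mvPolynomial Γ(Y, V) (show PrimeSpectrum Γ(Y, V) from p₀).asIdeal
    hy σ _ ?_
  rw [← hp₀']
  rfl

end Groth.Agent.Lib.Helper6.UB
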