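import Mathlib
import Groth.Agent.Lib.Helper6.UO2
import Groth.Agent.Lib.Helper6.UBO4
import Groth.Agent.Lib.Helper6.UBS5

/-!
# Chevalley's criterion, quasi-finite irreducible case without Noetherian hypotheses
-/

set_option autoImplicit false
set_option linter.style.haveILetI false
universe u
open AlgebraicGeometry CategoryTheory Limits TopologicalSpace

namespace Groth.Agent.Lib.Helper6.QFac

theorem isOpenMap_of_forall_isOpenAt {α β : Type*} [TopologicalSpace α] [TopologicalSpace β]
    (φ : α → β) (h : ∀ a, EGA43.IsOpenAt φ a) : IsOpenMap φ := by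
  intro U hU
  rw [isOpen_iff_mem_nhds]
  rintro _ ⟨a, ha, rfl⟩
  exact h a U (hU.mem_nhds ha)

theorem universallyOpen_of_quasiFinite_of_irreducible {U A : Scheme.{u}} [IrreducibleSpace U]
    [IrreducibleSpace A] (g : U ⟶ A) [LocallyOfFiniteType g] [LocallyQuasiFinite g]
    (hdom : DenseRange g)
    (hA : ∀ a : A, CAlg2.IsGeomUnibranch (A.presheaf.stalk a)) : UniversallyOpen g := by
  refine Groth.Agent.Lib.Helper6.UO.universallyOpen_of_isOpenMap_affineSpace g fun n _ => ?_
  set σ := ULift.{u} (Fin n) with hσ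
  have hpb := (AffineSpace.isPullback_map (n := σ) g).flip
  have e : hpb.isoPullback.hom ≫ pullback.snd g (𝔸(σ; A) ↘ A) = AffineSpace.map σ g :=
    hpb.isoPullback_hom_snd
  have e' : pullback.snd g (𝔸(σ; A) ↘ A) = hpb.isoPullback.inv ≫ AffineSpace.map σ g :=
    (Iso.eq_inv_comp _).mpr e
  rw [e']
  suffices h : IsOpenMap (AffineSpace.map σ g) by
    have h1 : IsOpenMap hpb.isoPullback.inv := (Scheme.homeoOfIso hpb.isoPullback.symm).isOpenMap
    have h2 : ⇑(hpb.isoPullback.inv ≫ AffineSpace.map σ g) =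
        ⇑(AffineSpace.map σ g) ∘ ⇑hpb.isoPullback.inv := by
      funext w
      exact Scheme.Hom.comp_apply _ _ w
    rw [h2]
    exact h.comp h1
  haveI : LocallyOfFiniteType (AffineSpace.map σ g) :=
    MorphismProperty.of_isPullback (P := @LocallyOfFiniteType) hpb inferInstance
  haveI : LocallyQuasiFinite (AffineSpace.map σ g) :=
    MorphismProperty.of_isPullback (P := @LocallyQuasiFinite) hpb inferInstance
  -- dominance
  have hdom' : DenseRange (AffineSpace.map σ g) := by
    have h1 : g (genericPoint U) = genericPoint A :=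
      Groth.Agent.Lib.Helper6.UBO.map_genericPoint_of_denseRange g hdom
    have h2 : (𝔸(σ; A) ↘ A) (genericPoint 𝔸(σ; A)) = genericPoint A :=
      Groth.Agent.Lib.Helper6.UBO.map_genericPoint_of_denseRange (𝔸(σ; A) ↘ A)
        (𝔸(σ; A) ↘ A).surjective.denseRange
    obtain ⟨z, hz1, hz2⟩ := Scheme.Pullback.exists_preimage_pullback
      (f := g) (g := 𝔸(σ; A) ↘ A) (genericPoint U) (genericPoint 𝔸(σ; A)) (h1.trans h2.symm)
    have h3 : (AffineSpace.map σ g) (hpb.isoPullback.inv z) = genericPoint 𝔸(σ; A) := by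
      rw [← hz2, ← Scheme.Hom.comp_apply, hpb.isoPullback_inv_snd]
    intro w
    have : closure {genericPoint 𝔸(σ; A)} ⊆ closure (Set.range (AffineSpace.map σ g)) :=
      closure_mono (by rw [Set.singleton_subset_iff]; exact ⟨_, h3⟩)
    apply this
    rw [(genericPoint_spec 𝔸(σ; A)).def]
    trivial
  refine isOpenMap_of_forall_isOpenAt _ fun x' => ?_
  refine Groth.Agent.Lib.Helper6.UBO.isOpenAt_of_quasiFiniteAt_of_isUnibranch (AffineSpace.map σ g)
    hdom' x' (Scheme.Hom.quasiFiniteAt _ x') ?_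
  exact (Groth.Agent.Lib.Helper6.UB.isGeomUnibranch_stalk_affineSpace σ _ (hA _)).1

end Groth.Agent.Lib.Helper6.QFac
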