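import Mathlib
import Groth.Agent.Lib.Helper6.PUO2
import Groth.Agent.Lib.Helper6.QFac8

/-!
# Pointwise Chevalley: quasi-finite dominant irreducible case over a geometrically unibranch point
-/

set_option autoImplicit false
set_option linter.style.haveILetI false
universe u

open CategoryTheory AlgebraicGeometry Limits

namespace Groth.Agent.Lib.Helper6.PUO

open Groth.Agent.Lib.Helper14.UOA EGA43

/-- Dominance is preserved by passing to affine spaces (irreducible case). -/
theorem denseRange_affineSpace_map {U A : Scheme.{u}} [IrreducibleSpace U] [IrreducibleSpace A]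
    (g : U ⟶ A) (hdom : DenseRange g) (σ : Type u) [Finite σ] :
    DenseRange (AffineSpace.map σ g) := by
  have hpb := (AffineSpace.isPullback_map (n := σ) g).flip
  have h1 : g (genericPoint U) = genericPoint A :=
    Groth.Agent.Lib.Helper6.UBO.map_genericPoint_of_denseRange g hdom
  have h2 : (𝔸(σ; A) ↘ A) (genericPoint 𝔸(σ; A)) = genericPoint A :=
    Groth.Agent.Lib.Helper6.UBO.map_genericPoint_of_denseRange (𝔸(σ; A) ↘ A)
      (𝔸(σ; A) ↘ A).surjective.denseRange
  obtain ⟨z, hz1, hz2⟩ := Scheme.Pullback.exists_preimage_pullback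
    (f := g) (g := 𝔸(σ; A) ↘ A) (genericPoint U) (genericPoint 𝔸(σ; A)) (h1.trans h2.symm)
  have h3 : (AffineSpace.map σ g) (hpb.isoPullback.inv z) = genericPoint 𝔸(σ; A) := by
    rw [← hz2, ← Scheme.Hom.comp_apply, hpb.isoPullback_inv_snd]
  intro w
  have : closure {genericPoint 𝔸(σ; A)} ⊆ closure (Set.range (AffineSpace.map σ g)) :=
    closure_mono (by rw [Set.singleton_subset_iff]; exact ⟨_, h3⟩)
  apply this
  rw [(genericPoint_spec 𝔸(σ; A)).def]
  trivial

/-- Openness of `𝔸(σ; U) ⟶ 𝔸(σ; A)` at points over a point with geometrically unibranch image. -/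
theorem isOpenAt_affineSpace_map_of_quasiFinite {U A : Scheme.{u}} [IrreducibleSpace U]
    [IrreducibleSpace A] (g : U ⟶ A) [LocallyOfFiniteType g] [LocallyQuasiFinite g]
    (hdom : DenseRange g) (t : U)
    (hA : CAlg2.IsGeomUnibranch (A.presheaf.stalk (g t))) (σ : Type u) [Finite σ]
    (x' : 𝔸(σ; U)) (hx' : (𝔸(σ; U) ↘ U) x' = t) : IsOpenAt (AffineSpace.map σ g) x' := by
  have hpb := (AffineSpace.isPullback_map (n := σ) g).flip
  haveI : LocallyOfFiniteType (AffineSpace.map σ g) :=
    MorphismProperty.of_isPullback (P := @LocallyOfFiniteType) hpb inferInstance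
  haveI : LocallyQuasiFinite (AffineSpace.map σ g) :=
    MorphismProperty.of_isPullback (P := @LocallyQuasiFinite) hpb inferInstance
  refine Groth.Agent.Lib.Helper6.UBO.isOpenAt_of_quasiFiniteAt_of_isUnibranch (AffineSpace.map σ g)
    (denseRange_affineSpace_map g hdom σ) x' (Scheme.Hom.quasiFiniteAt _ x') ?_
  refine (Groth.Agent.Lib.Helper6.UB.isGeomUnibranch_stalk_affineSpace σ _ ?_).1
  have h1 : (𝔸(σ; A) ↘ A) ((AffineSpace.map σ g) x') = g t := by
    rw [← Scheme.Hom.comp_apply, AffineSpace.map_over, Scheme.Hom.comp_apply]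
    exact congrArg _ hx'
  rw [h1]
  exact hA

/-- **Pointwise Chevalley, quasi-finite case**: a dominant locally quasi-finite morphism locally of
finite type between irreducible schemes is universally open at every point whose image is
geometrically unibranch. -/
theorem isUnivOpenAt_of_quasiFinite_of_irreducible {U A : Scheme.{u}} [IrreducibleSpace U]
    [IrreducibleSpace A] (g : U ⟶ A) [LocallyOfFiniteType g] [LocallyQuasiFinite g]
    (hdom : DenseRange g) (t : U)
    (hA : CAlg2.IsGeomUnibranch (A.presheaf.stalk (g t))) : IsUnivOpenAt g t :=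
  isUnivOpenAt_of_isOpenAt_affineSpace g t fun _ _ x' hx' =>
    isOpenAt_affineSpace_map_of_quasiFinite g hdom t hA _ x' hx'

end Groth.Agent.Lib.Helper6.PUO
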