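import Mathlib
import Groth.Agent.Lib.Helper21.FibDimR2

/-!
# Local quasi-finite factorisation through a polynomial ring, ring level
-/

set_option autoImplicit false
universe u
open Algebra TensorProduct

namespace Groth.Agent.Lib.Helper6.QFac

open Groth.Agent.Lib.Helper21.FibDim

/-- padding a polynomial ring with extra variables sent to zero -/
noncomputable def padHom (A : Type u) [CommRing A] (s d : ℕ) :
    MvPolynomial (ULift.{u} (Fin d)) A →ₐ[A] MvPolynomial (Fin s) A :=
  MvPolynomial.aeval (fun i : ULift.{u} (Fin d) =>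
    if h : i.down.val < s then (MvPolynomial.X ⟨i.down.val, h⟩ : MvPolynomial (Fin s) A) else 0)

theorem padHom_surjective (A : Type u) [CommRing A] (s d : ℕ) (hsd : s ≤ d) :
    Function.Surjective (padHom A s d) := by
  intro P
  induction P using MvPolynomial.induction_on with
  | C a => exact ⟨MvPolynomial.C a, by simp [padHom]⟩
  | add p q hp hq =>
    obtain ⟨p', rfl⟩ := hp
    obtain ⟨q', rfl⟩ := hq
    exact ⟨p' + q', map_add _ _ _⟩
  | mul_X p j hp =>
    obtain ⟨p', rfl⟩ := hp
    refine ⟨p' * MvPolynomial.X ⟨⟨j.val, lt_of_lt_of_le j.2 hsd⟩⟩, ?_⟩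
    rw [map_mul]
    congr 1
    simp [padHom]

variable (A B : Type u) [CommRing A] [CommRing B] [Algebra A B]

theorem exists_quasiFinite_mvPolynomial [Algebra.FiniteType A B] (p : Ideal A) [p.IsPrime]
    (q : Ideal B) [q.IsPrime] [q.LiesOver p] (d : ℕ)
    (H : ∀ (q₁ : Ideal B) [q₁.IsPrime] [q₁.LiesOver p], Algebra.trdeg (A ⧸ p) (B ⧸ q₁) ≤ d) :
    ∃ (b : B) (π : MvPolynomial (ULift.{u} (Fin d)) A →ₐ[A] B), b ∉ q ∧
      ∀ (B' : Type u) [CommRing B'] [Algebra B B'] [IsLocalization.Away b B'],
        ((algebraMap B B').comp π.toRingHom).QuasiFinite := by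
  classical
  -- the fibre over `p` is nonempty
  haveI : Nontrivial (p.Fiber B) := by
    let pp : PrimeSpectrum A := ⟨p, inferInstance⟩
    have hq : (⟨q, inferInstance⟩ : PrimeSpectrum B) ∈
        PrimeSpectrum.comap (algebraMap A B) ⁻¹' {pp} := by
      apply PrimeSpectrum.ext
      exact (q.over_def p).symm
    have Q := PrimeSpectrum.preimageEquivFiber A B pp ⟨_, hq⟩
    exact (PrimeSpectrum.nonempty_iff_nontrivial).mp ⟨Q⟩
  obtain ⟨s, hsd, π₀, hfin₀⟩ := exists_le_algHom_finite_fiber A B p d H
  let π : MvPolynomial (ULift.{u} (Fin d)) A →ₐ[A] B := π₀.comp (padHom A s d)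
  have hfin : (Algebra.TensorProduct.map (AlgHom.id p.ResidueField p.ResidueField) π).toRingHom.Finite := by
    have h1 : Algebra.TensorProduct.map (AlgHom.id p.ResidueField p.ResidueField) π =
        (Algebra.TensorProduct.map (AlgHom.id p.ResidueField p.ResidueField) π₀).comp
          (Algebra.TensorProduct.map (AlgHom.id p.ResidueField p.ResidueField) (padHom A s d)) := by
      rw [← Algebra.TensorProduct.map_comp]
      rfl
    rw [h1]
    refine RingHom.Finite.comp hfin₀ (RingHom.Finite.of_surjective _ ?_)
    exact Algebra.TensorProduct.map_surjective _ _ Function.surjective_id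
      (padHom_surjective A s d hsd)
  let P := MvPolynomial (ULift.{u} (Fin d)) A
  letI algPB : Algebra P B := π.toRingHom.toAlgebra
  haveI tow : IsScalarTower A P B := IsScalarTower.of_algebraMap_eq' π.comp_algebraMap.symm
  haveI : Algebra.FiniteType P B := Algebra.FiniteType.of_restrictScalars_finiteType A P B
  have hπ : IsScalarTower.toAlgHom A P B = π := by
    ext x
    rfl
  have hfin' : (Algebra.TensorProduct.map (AlgHom.id p.ResidueField p.ResidueField)
      (IsScalarTower.toAlgHom A P B)).toRingHom.Finite := by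
    rw [hπ]; exact hfin
  let p' : PrimeSpectrum P := ⟨q.under P, inferInstance⟩
  have hp' : p'.asIdeal.comap (algebraMap A P) = p := by
    change (q.under P).under A = p
    rw [Ideal.under_under]
    exact (q.over_def p).symm
  have hfib := finite_comap_preimage_singleton_of_finite_fiber A P B p hfin' p' hp'
  haveI hqf : Algebra.QuasiFiniteAt P q := quasiFiniteAt_of_finite_comap_preimage_singleton P B q hfib
  obtain ⟨b, hbq, hb⟩ := exists_quasiFinite_away P B q
  refine ⟨b, π, hbq, ?_⟩
  intro B' _ _ _
  letI algPB' : Algebra P B' := ((algebraMap B B').comp π.toRingHom).toAlgebra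
  haveI tow' : IsScalarTower P B B' := IsScalarTower.of_algebraMap_eq' rfl
  let e : Localization.Away b ≃ₐ[B] B' := IsLocalization.algEquiv (Submonoid.powers b) _ _
  change Algebra.QuasiFinite P B'
  exact Algebra.QuasiFinite.of_surjective_algHom (e.toAlgHom.restrictScalars P) e.surjective

end Groth.Agent.Lib.Helper6.QFac
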