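import Mathlib
import Groth.Agent.Lib.Helper6.QFac2
import Groth.Agent.Lib.Helper21.FibDim2

/-!
# Local quasi-finite factorisation through a polynomial ring, chart level
-/

set_option autoImplicit false
set_option linter.style.haveILetI false
universe u
open AlgebraicGeometry CategoryTheory Limits TopologicalSpace

namespace Groth.Agent.Lib.Helper6.QFac

open Groth.Agent.Lib.Helper21.FibDim Groth.Agent.Lib.Helper21.ChartPt
  Groth.Agent.Lib.Helper21.NagDvr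

variable {X S : Scheme.{u}} (f : X ⟶ S)

theorem exists_affine_quasiFinite [LocallyOfFiniteType f] (x : X) (V : S.Opens)
    (hV : IsAffineOpen V) (hfxV : f x ∈ V) (O : X.Opens) (hxO : x ∈ O) (d : ℕ)
    (hd : FlatMor.fibreDimAt f x ≤ d) :
    ∃ (U : X.Opens) (_ : IsAffineOpen U) (e : U ≤ f ⁻¹ᵁ V), x ∈ U ∧ U ≤ O ∧
      ∃ φ : MvPolynomial (ULift.{u} (Fin d)) Γ(S, V) →+* Γ(X, U),
        φ.comp MvPolynomial.C = (f.appLE V U e).hom ∧ φ.QuasiFinite := by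
  obtain ⟨O₁, hxO₁, hO₁⟩ := exists_open_fibreDimAt_le f x d hd
  obtain ⟨U, hU, hxU, hUle⟩ := Opens.isBasis_iff_nbhd.mp X.isBasis_affineOpens
    (show x ∈ O₁ ⊓ O ⊓ f ⁻¹ᵁ V from ⟨⟨hxO₁, hxO⟩, hfxV⟩)
  have hU : IsAffineOpen U := hU
  have e : U ≤ f ⁻¹ᵁ V := hUle.trans inf_le_right
  have hUO₁ : U ≤ O₁ := hUle.trans (inf_le_left.trans inf_le_left)
  have hUO : U ≤ O := hUle.trans (inf_le_left.trans inf_le_right)
  letI alg : Algebra Γ(S, V) Γ(X, U) := (f.appLE V U e).hom.toAlgebra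
  have hft : Algebra.FiniteType Γ(S, V) Γ(X, U) := f.finiteType_appLE hV hU e
  let p : Ideal Γ(S, V) := (hV.primeIdealOf ⟨f x, hfxV⟩).asIdeal
  let q : Ideal Γ(X, U) := (hU.primeIdealOf ⟨x, hxU⟩).asIdeal
  have hp : p.IsPrime := (hV.primeIdealOf ⟨f x, hfxV⟩).2
  have hq : q.IsPrime := (hU.primeIdealOf ⟨x, hxU⟩).2
  have hcomap : ∀ (y : X) (hy : y ∈ U), (hU.primeIdealOf ⟨y, hy⟩).asIdeal.comap
      (algebraMap Γ(S, V) Γ(X, U)) = (hV.primeIdealOf ⟨f y, e hy⟩).asIdeal := fun y hy =>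
    congrArg PrimeSpectrum.asIdeal (IsAffineOpen.comap_primeIdealOf_appLE V hV U hU e hy)
  have hqp : q.LiesOver p := ⟨(hcomap x hxU).symm⟩
  have H : ∀ (q₁ : Ideal Γ(X, U)) [q₁.IsPrime] [q₁.LiesOver p],
      Algebra.trdeg (Γ(S, V) ⧸ p) (Γ(X, U) ⧸ q₁) ≤ d := by
    intro q₁ hq₁ hq₁p
    obtain ⟨⟨y, hyU⟩, hy⟩ := exists_primeIdealOf_eq hU ⟨q₁, hq₁⟩
    have hy' : (hU.primeIdealOf ⟨y, hyU⟩).asIdeal = q₁ := congrArg PrimeSpectrum.asIdeal hy
    have hpy : p = (hV.primeIdealOf ⟨f y, e hyU⟩).asIdeal := by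
      rw [← hcomap y hyU, hy']
      exact hq₁p.over
    have hfy : f y = f x := by
      have h1 : hV.primeIdealOf ⟨f y, e hyU⟩ = hV.primeIdealOf ⟨f x, hfxV⟩ :=
        PrimeSpectrum.ext hpy.symm
      have h2 := (Scheme.homeoOfIso hV.isoSpec).injective h1
      exact congrArg Subtype.val h2
    rw [← trdeg_residueField_eq_trdeg_quotient f hU hV e rfl y hyU p q₁ hy'.symm hpy]
    exact trdeg_le_of_fibreDimAt_le f y d (hO₁ y (hUO₁ hyU) hfy)
  obtain ⟨b, π, hbq, hb⟩ := exists_quasiFinite_mvPolynomial Γ(S, V) Γ(X, U) p q d H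
  have hD : IsAffineOpen (X.basicOpen b) := hU.basicOpen b
  have e' : X.basicOpen b ≤ f ⁻¹ᵁ V := (X.basicOpen_le b).trans e
  haveI hloc : IsLocalization.Away b Γ(X, X.basicOpen b) := hU.isLocalization_basicOpen b
  refine ⟨X.basicOpen b, hD, e', (mem_basicOpen_iff_notMem_primeIdealOf hU b ⟨x, hxU⟩).mpr hbq,
    (X.basicOpen_le b).trans hUO,
    (algebraMap Γ(X, U) Γ(X, X.basicOpen b)).comp π.toRingHom, ?_, hb Γ(X, X.basicOpen b)⟩
  ext a
  change (algebraMap Γ(X, U) Γ(X, X.basicOpen b)) (π (MvPolynomial.C a)) = _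
  have h1 : π (MvPolynomial.C a) = (f.appLE V U e).hom a := by
    have := π.commutes a
    rw [MvPolynomial.algebraMap_eq] at this
    exact this
  rw [h1]
  change (X.presheaf.map (homOfLE (X.basicOpen_le b)).op).hom ((f.appLE V U e).hom a) = _
  rw [← Scheme.Hom.appLE_map f e (homOfLE (X.basicOpen_le b)).op]
  rfl

end Groth.Agent.Lib.Helper6.QFac
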