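import Mathlib
import Groth.Agent.Lib.Helper6.QFac3

/-!
# Local quasi-finite factorisation through an affine space (EGA IV 13.3.1 b), scheme level
-/

set_option autoImplicit false
set_option linter.style.haveILetI false
universe u
open AlgebraicGeometry CategoryTheory Limits TopologicalSpace

namespace Groth.Agent.Lib.Helper6.QFac

variable {X S : Scheme.{u}} (f : X ⟶ S)

theorem exists_quasiFinite_affineSpace [LocallyOfFiniteType f] (x : X) (O : X.Opens)
    (hxO : x ∈ O) (d : ℕ) (hd : FlatMor.fibreDimAt f x ≤ d) :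
    ∃ (U : X.Opens) (g : (U : Scheme.{u}) ⟶ 𝔸(ULift.{u} (Fin d); S)), x ∈ U ∧ U ≤ O ∧
      IsAffineOpen U ∧ g ≫ (𝔸(ULift.{u} (Fin d); S) ↘ S) = U.ι ≫ f ∧ LocallyQuasiFinite g := by
  obtain ⟨V, hV, hfxV, -⟩ := Opens.isBasis_iff_nbhd.mp S.isBasis_affineOpens
    (show f x ∈ (⊤ : S.Opens) from trivial)
  have hV : IsAffineOpen V := hV
  obtain ⟨U, hU, e, hxU, hUO, φ, hφC, hφ⟩ := exists_affine_quasiFinite f x V hV hfxV O hxO d hd
  haveI : IsOpenImmersion (AffineSpace.map (ULift.{u} (Fin d)) hV.fromSpec) :=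
    MorphismProperty.of_isPullback (P := @IsOpenImmersion)
      (AffineSpace.isPullback_map (n := ULift.{u} (Fin d)) hV.fromSpec).flip inferInstance
  haveI : LocallyQuasiFinite (Spec.map (CommRingCat.ofHom φ)) := by
    rw [HasRingHomProperty.Spec_iff (P := @LocallyQuasiFinite)]
    exact hφ
  refine ⟨U, hU.isoSpec.hom ≫ Spec.map (CommRingCat.ofHom φ) ≫
    (AffineSpace.SpecIso (ULift.{u} (Fin d)) Γ(S, V)).inv ≫
      AffineSpace.map (ULift.{u} (Fin d)) hV.fromSpec, hxU, hUO, hU, ?_, inferInstance⟩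
  simp only [Category.assoc]
  rw [AffineSpace.map_over, AffineSpace.SpecIso_inv_over_assoc, ← Spec.map_comp_assoc]
  have h1 : CommRingCat.ofHom MvPolynomial.C ≫ CommRingCat.ofHom φ = f.appLE V U e := by
    ext a
    exact congrArg (fun ψ : Γ(S, V) →+* Γ(X, U) => ψ a) hφC
  rw [h1, IsAffineOpen.SpecMap_appLE_fromSpec f hV hU e]
  unfold IsAffineOpen.fromSpec
  simp

end Groth.Agent.Lib.Helper6.QFac
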