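import Mathlib
import Groth.Agent.Lib.Helper6.QFac1
import Groth.Agent.Lib.Helper14.LqfDim0
import Groth.Agent.Lib.Helper21.FibDim12
import Groth.Agent.Lib.Helper21.FourCond1
import Groth.Agent.Lib.Helper21.EquiSub5

/-!
# Residue transcendence degrees for affine spaces and quasi-finite morphisms
-/

set_option autoImplicit false
set_option linter.style.haveILetI false
universe u
open AlgebraicGeometry CategoryTheory Limits TopologicalSpace

namespace Groth.Agent.Lib.Helper6.QFac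

open Groth.Agent.Lib.Helper21.FibDim Groth.Agent.Lib.Helper21.FourCond
  Groth.Agent.Lib.Helper21.EquiSub

/-- residue transcendence degree -/
noncomputable abbrev rtd {X Y : Scheme.{u}} (f : X ⟶ Y) (x : X) : Cardinal.{u} :=
  @Algebra.trdeg (Y.residueField (f x)) (X.residueField x) _ _ (f.residueFieldMap x).hom.toAlgebra

section Affine

variable (n : Type u) [Finite n] (Y : Scheme.{u})

theorem fibreDimAt_affineSpace (ζ : 𝔸(n; Y)) :
    FlatMor.fibreDimAt (𝔸(n; Y) ↘ Y) ζ = (Nat.card n : ℕ) :=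
  fibreDimAt_eq_of_hasRelDim (𝔸(n; Y) ↘ Y) (Nat.card n) (hasRelDim_affineSpace Y n) ζ

theorem rtd_affineSpace_le (ζ : 𝔸(n; Y)) : rtd (𝔸(n; Y) ↘ Y) ζ ≤ (Nat.card n : ℕ) :=
  trdeg_le_of_fibreDimAt_le (𝔸(n; Y) ↘ Y) ζ (Nat.card n) (fibreDimAt_affineSpace n Y ζ).le

theorem rtd_affineSpace_of_maximal (ζ : 𝔸(n; Y)) (hmax : ∀ ζ' : 𝔸(n; Y), ζ' ⤳ ζ → ζ' = ζ) :
    rtd (𝔸(n; Y) ↘ Y) ζ = (Nat.card n : ℕ) := by
  obtain ⟨m, hm1, hm2⟩ := fibreDimAt_eq_trdeg_of_maximal' (𝔸(n; Y) ↘ Y) ζ hmax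
  rw [fibreDimAt_affineSpace] at hm1
  have : Nat.card n = m := by exact_mod_cast hm1
  rw [this]
  exact hm2

theorem maximal_of_rtd_affineSpace (ζ : 𝔸(n; Y))
    (hη : ∀ η' : Y, η' ⤳ (𝔸(n; Y) ↘ Y) ζ → η' = (𝔸(n; Y) ↘ Y) ζ)
    (h : rtd (𝔸(n; Y) ↘ Y) ζ = (Nat.card n : ℕ)) (ζ' : 𝔸(n; Y)) (hζ' : ζ' ⤳ ζ) : ζ' = ζ := by
  by_contra hne
  have h1 : (𝔸(n; Y) ↘ Y) ζ' = (𝔸(n; Y) ↘ Y) ζ := hη _ (hζ'.map (𝔸(n; Y) ↘ Y).continuous)
  have h2 := trdeg_lt_of_specializes_of_ne (𝔸(n; Y) ↘ Y) hζ' hne h1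
  have h3 := rtd_affineSpace_le n Y ζ'
  exact (lt_of_lt_of_le h2 h3).ne h

end Affine

section QF

variable {X Y U A : Scheme.{u}}

theorem rtd_eq_zero_of_locallyQuasiFinite (g : U ⟶ A) [LocallyQuasiFinite g]
    [LocallyOfFiniteType g] (u : U) : rtd g u = (0 : ℕ) := by
  have hfd : FlatMor.fibreDimAt g u = 0 :=
    (Groth.Agent.Lib.Helper14.AS.locallyQuasiFinite_iff_fibreDimAt_eq_zero g).mp inferInstance u
  obtain ⟨a, b, ha, hb, hab⟩ := exists_fibreDimAt_eq_add g u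
  rw [hfd] at hab
  have : a + b = 0 := by exact_mod_cast hab.symm
  have ha0 : a = 0 := by omega
  unfold rtd
  rw [ha, ha0]

theorem rtd_of_quasiFinite (f : X ⟶ Y) [LocallyOfFiniteType f] (ι : U ⟶ X)
    [SurjectiveOnStalks ι] (p : A ⟶ Y) (g : U ⟶ A) [LocallyQuasiFinite g] [LocallyOfFiniteType g]
    (h : g ≫ p = ι ≫ f) (u : U) (c : ℕ) (hc : rtd p (g u) = c) : rtd f (ι u) = c := by
  have h0 := rtd_eq_zero_of_locallyQuasiFinite g u
  have h1 := trdeg_comp g p u c 0 hc h0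
  have h2 := trdeg_congr_hom h u (c + 0) h1
  exact trdeg_of_comp_of_surjectiveOnStalks ι f u c (by simpa using h2)

theorem rtd_of_quasiFinite' (f : X ⟶ Y) [LocallyOfFiniteType f] (ι : U ⟶ X)
    [SurjectiveOnStalks ι] (p : A ⟶ Y) [LocallyOfFiniteType p] (g : U ⟶ A) [LocallyQuasiFinite g]
    [LocallyOfFiniteType g]
    (h : g ≫ p = ι ≫ f) (u : U) (c : ℕ) (hc : rtd f (ι u) = c) : rtd p (g u) = c := by
  obtain ⟨m, hm⟩ := exists_nat_trdeg_residueFieldMap p (g u)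
  have h1 := rtd_of_quasiFinite f ι p g h u m hm
  unfold rtd at *
  rw [hc] at h1
  have : c = m := by exact_mod_cast h1
  rw [hm, this]

end QF

end Groth.Agent.Lib.Helper6.QFac
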