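import Mathlib
import Groth.Agent.Lib.Helper6.QFac4
import Groth.Agent.Lib.Helper6.QFac5
import Groth.Agent.Lib.Helper21.EquidimAt1
import Groth.Agent.Lib.Helper21.OpenAt10
import Groth.Prelude.Def_EGA43

/-!
# EGA IV 13.3.1, a) ⟹ b): an equidimensional morphism is locally quasi-finite over an affine space
-/

set_option autoImplicit false
set_option linter.style.haveILetI false
universe u
open AlgebraicGeometry CategoryTheory Limits TopologicalSpace

namespace Groth.Agent.Lib.Helper6.QFac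

open Groth.Agent.Lib.Helper21.FibDim Groth.Agent.Lib.Helper21.EquidimAt
  Groth.Agent.Lib.Helper21.OpenAt

variable {X Y : Scheme.{u}} (f : X ⟶ Y)

theorem closure_image_closure_singleton' {α β : Type*} [TopologicalSpace α] [TopologicalSpace β]
    (φ : α → β) (hφ : Continuous φ) (a : α) : closure (φ '' closure {a}) = closure {φ a} := by
  apply subset_antisymm
  · apply closure_minimal _ isClosed_closure
    refine (image_closure_subset_closure_image hφ).trans ?_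
    rw [Set.image_singleton]
  · apply closure_mono
    rw [Set.singleton_subset_iff]
    exact ⟨a, subset_closure rfl, rfl⟩

/-- a point of an open subscheme without proper generisations has none in the ambient scheme -/
theorem maximal_of_maximal_opens (U : X.Opens) (ξ : ↥U)
    (h : ∀ ξ' : ↥U, ξ' ⤳ ξ → ξ' = ξ) (ξ' : X) (hξ' : ξ' ⤳ ξ.1) : ξ' = ξ.1 := by
  have hU' : ξ' ∈ U := hξ'.mem_open U.2 ξ.2
  have h1 : (⟨ξ', hU'⟩ : ↥U) ⤳ ξ :=
    (Topology.IsInducing.subtypeVal.specializes_iff).mp hξ'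
  exact congrArg Subtype.val (h _ h1)

theorem maximal_opens_of_maximal (U : X.Opens) (ξ : ↥U)
    (h : ∀ ξ' : X, ξ' ⤳ ξ.1 → ξ' = ξ.1) (ξ' : ↥U) (hξ' : ξ' ⤳ ξ) : ξ' = ξ :=
  Subtype.ext (h ξ'.1 (hξ'.map continuous_subtype_val))

theorem exists_quasiFinite_of_isEquidimAt [LocallyOfFiniteType f] (x : X)
    (h : EGA43.IsEquidimAt f x) :
    ∃ (e : ℕ) (U : X.Opens) (g : (U : Scheme.{u}) ⟶ 𝔸(ULift.{u} (Fin e); Y)),
      x ∈ U ∧ g ≫ (𝔸(ULift.{u} (Fin e); Y) ↘ Y) = U.ι ≫ f ∧ LocallyQuasiFinite g ∧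
      ∀ Z ∈ irreducibleComponents (↥U : Type u),
        closure (g.base '' Z) ∈ irreducibleComponents (↥𝔸(ULift.{u} (Fin e); Y) : Type u) := by
  obtain ⟨e, U₀, hxU₀, hcomp, hfib⟩ := h
  have hFx : FlatMor.fibreDimAt f x = e := fibreDimAt_eq_of_forall_components f U₀ e hfib x hxU₀
  obtain ⟨U, g, hxU, hUU₀, hUaff, hg, hgqf⟩ :=
    exists_quasiFinite_affineSpace f x U₀ hxU₀ e hFx.le
  refine ⟨e, U, g, hxU, hg, hgqf, ?_⟩
  intro Z hZ
  haveI : LocallyOfFiniteType g := by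
    haveI : LocallyOfFiniteType (g ≫ (𝔸(ULift.{u} (Fin e); Y) ↘ Y)) := by
      rw [hg]; infer_instance
    exact locallyOfFiniteType_of_comp g (𝔸(ULift.{u} (Fin e); Y) ↘ Y)
  haveI : QuasiSober ↥U := inferInstanceAs (QuasiSober U.toScheme)
  haveI : T0Space ↥U := inferInstanceAs (T0Space U.toScheme)
  obtain ⟨ξ, hξ⟩ := exists_isGenericPoint_of_mem_irreducibleComponents Z hZ
  have hξmaxU : ∀ ξ' : ↥U, ξ' ⤳ ξ → ξ' = ξ := fun ξ' h' =>
    eq_of_specializes_isGenericPoint Z hZ ξ ξ' hξ h'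
  have hξmax : ∀ ξ' : X, ξ' ⤳ ξ.1 → ξ' = ξ.1 := maximal_of_maximal_opens U ξ hξmaxU
  have hFξ : FlatMor.fibreDimAt f ξ.1 = e :=
    fibreDimAt_eq_of_forall_components f U₀ e hfib ξ.1 (hUU₀ ξ.2)
  obtain ⟨m, hm1, hm2⟩ := fibreDimAt_eq_trdeg_of_maximal' f ξ.1 hξmax
  have hme : m = e := by
    rw [hFξ] at hm1
    exact_mod_cast hm1.symm
  subst hme
  have hrtd : rtd (𝔸(ULift.{u} (Fin m); Y) ↘ Y) (g ξ) = m :=
    rtd_of_quasiFinite' f U.ι (𝔸(ULift.{u} (Fin m); Y) ↘ Y) g hg ξ m hm2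
  have hpg : (𝔸(ULift.{u} (Fin m); Y) ↘ Y) (g ξ) = f ξ.1 := by
    have := congrArg (fun k : (U : Scheme.{u}) ⟶ Y => k ξ) hg
    simpa using this
  have hη : ∀ η' : Y, η' ⤳ (𝔸(ULift.{u} (Fin m); Y) ↘ Y) (g ξ) →
      η' = (𝔸(ULift.{u} (Fin m); Y) ↘ Y) (g ξ) := by
    rw [hpg]
    let ξ₀ : ↥U₀ := ⟨ξ.1, hUU₀ ξ.2⟩
    haveI : QuasiSober ↥U₀ := inferInstanceAs (QuasiSober U₀.toScheme)
    haveI : T0Space ↥U₀ := inferInstanceAs (T0Space U₀.toScheme)
    have hξ₀max : ∀ ξ' : ↥U₀, ξ' ⤳ ξ₀ → ξ' = ξ₀ := maximal_opens_of_maximal U₀ ξ₀ hξmax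
    have hZ₀ : closure {ξ₀} ∈ irreducibleComponents ↥U₀ :=
      closure_mem_irreducibleComponents_of_maximal ξ₀ hξ₀max
    obtain ⟨W, hW, -, hWeq⟩ := hcomp _ hZ₀
    have h2 : closure ((U₀.ι ≫ f).base '' closure {ξ₀}) = closure {f ξ.1} :=
      closure_image_closure_singleton' _ (U₀.ι ≫ f).continuous ξ₀
    have hmem : closure {f ξ.1} ∈ irreducibleComponents Y := by
      have h5 : closure {f ξ.1} = W := h2.symm.trans hWeq
      rw [h5]; exact hW
    exact fun η' h' => eq_of_specializes_of_closure_mem (f ξ.1) hmem η' h'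
  have hcard : Nat.card (ULift.{u} (Fin m)) = m := by simp
  have hgξmax := maximal_of_rtd_affineSpace (ULift.{u} (Fin m)) Y (g ξ) hη (by rw [hcard]; exact hrtd)
  have hfin := closure_mem_irreducibleComponents_of_maximal (g ξ) hgξmax
  have h3 : closure (g.base '' Z) = closure {g.base ξ} := by
    have h4 := hξ.def
    subst h4
    exact closure_image_closure_singleton' _ g.continuous ξ
  rw [h3]
  exact hfin

end Groth.Agent.Lib.Helper6.QFac
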