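import Mathlib
import Groth.Agent.Lib.Helper6.PUO3
import Groth.Agent.Lib.Helper6.QFac6
import Groth.Agent.Lib.Helper6.QFac1
import Groth.Agent.Lib.Helper7.LocalNhd

/-!
# Pointwise Chevalley criterion (EGA IV 14.4.1, b ⇒ a) for an irreducible source
-/

set_option autoImplicit false
set_option linter.style.haveILetI false
universe u

open CategoryTheory AlgebraicGeometry Limits TopologicalSpace

namespace Groth.Agent.Lib.Helper6.PUO

open Groth.Agent.Lib.Helper14.UOA EGA43 Groth.Agent.Lib.Helper21.FibDim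

/-- geometric unibranchness passes to open subschemes -/
theorem isGeomUnibranch_stalk_of_isOpenImmersion {V A : Scheme.{u}} (j : V ⟶ A) [IsOpenImmersion j]
    (v : V) (h : CAlg2.IsGeomUnibranch (A.presheaf.stalk (j v))) :
    CAlg2.IsGeomUnibranch (V.presheaf.stalk v) :=
  Groth.Agent.Lib.Helper6.Chev.isGeomUnibranch_of_ringEquiv'
    (asIso (j.stalkMap v)).commRingCatIsoToRingEquiv h

theorem nilradical_isPrime_of_isGeomUnibranch (R : Type u) [CommRing R] [IsLocalRing R]
    (h : CAlg2.IsGeomUnibranch R) : (nilradical R).IsPrime :=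
  (Ideal.Quotient.isDomain_iff_prime _).mp h.1.1

theorem irreducibleSpace_opens {W : Scheme.{u}} [IrreducibleSpace W] (U : W.Opens) (w : W)
    (hw : w ∈ U) : IrreducibleSpace U.toScheme := by
  have h1 : IsIrreducible (U : Set W) :=
    ⟨⟨w, hw⟩, (IrreducibleSpace.isIrreducible_univ W).isPreirreducible.open_subset U.isOpen
      (Set.subset_univ _)⟩
  exact (isIrreducible_iff_irreducibleSpace (s := (U : Set W))).mp h1

set_option maxHeartbeats 1000000 in
/-- **Pointwise Chevalley, quasi-finite case over a locally Noetherian target**: the image need only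
be dense in an irreducible component. -/
theorem isUnivOpenAt_of_quasiFinite_of_closure_mem {T A : Scheme.{u}} [IrreducibleSpace T]
    [IsLocallyNoetherian A] (k : T ⟶ A) [LocallyOfFiniteType k] [LocallyQuasiFinite k]
    (hdom : closure (Set.range k) ∈ irreducibleComponents A) (t : T)
    (hA : CAlg2.IsGeomUnibranch (A.presheaf.stalk (k t))) : IsUnivOpenAt k t := by
  have hnil := nilradical_isPrime_of_isGeomUnibranch _ hA
  obtain ⟨V, haV, hVirr⟩ := Groth.Agent.Lib.Helper7.exists_irreducible_nhd A (k t) hnil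
  haveI : IrreducibleSpace V.toScheme :=
    (isIrreducible_iff_irreducibleSpace (s := (V : Set A))).mp hVirr
  have htT' : t ∈ k ⁻¹ᵁ V := haV
  haveI : IrreducibleSpace (k ⁻¹ᵁ V).toScheme := irreducibleSpace_opens (k ⁻¹ᵁ V) t htT'
  have hsq := (isPullback_morphismRestrict k V).flip
  haveI : LocallyOfFiniteType (k ∣_ V) :=
    MorphismProperty.of_isPullback (P := @LocallyOfFiniteType) hsq inferInstance
  haveI : LocallyQuasiFinite (k ∣_ V) :=
    MorphismProperty.of_isPullback (P := @LocallyQuasiFinite) hsq inferInstance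
  -- generic points
  set ξ := genericPoint T with hξ
  have hcl : closure (Set.range k) = closure {k ξ} := by
    rw [← Set.image_univ, ← (genericPoint_spec T).def]
    exact Groth.Agent.Lib.Helper6.QFac.closure_image_closure_singleton' k k.continuous ξ
  rw [hcl] at hdom
  have hkξV : k ξ ∈ V := ((genericPoint_specializes t).map k.continuous).mem_open V.isOpen haV
  have hξT' : ξ ∈ k ⁻¹ᵁ V := hkξV
  set v₀ := genericPoint V.toScheme with hv₀
  have h1 : V.ι v₀ ⤳ k ξ := by
    have : v₀ ⤳ (⟨k ξ, hkξV⟩ : V.toScheme) := genericPoint_specializes _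
    exact this.map V.ι.continuous
  have h2 : V.ι v₀ = k ξ := eq_of_specializes_of_closure_mem (k ξ) hdom _ h1
  have h3 : (k ∣_ V) ⟨ξ, hξT'⟩ = v₀ := by
    apply V.ι.isOpenEmbedding.injective
    rw [← Scheme.Hom.comp_apply, morphismRestrict_ι, Scheme.Hom.comp_apply, h2]
    rfl
  have hdom' : DenseRange (k ∣_ V) := by
    intro v
    have : closure {v₀} ⊆ closure (Set.range (k ∣_ V)) :=
      closure_mono (by rw [Set.singleton_subset_iff]; exact ⟨_, h3⟩)
    apply this
    rw [(genericPoint_spec V.toScheme).def]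
    trivial
  have hA' : CAlg2.IsGeomUnibranch
      ((V : Scheme.{u}).presheaf.stalk ((k ∣_ V) ⟨t, htT'⟩)) := by
    refine isGeomUnibranch_stalk_of_isOpenImmersion V.ι _ ?_
    have : V.ι ((k ∣_ V) ⟨t, htT'⟩) = k t := by
      rw [← Scheme.Hom.comp_apply, morphismRestrict_ι, Scheme.Hom.comp_apply]
      rfl
    rw [this]
    exact hA
  have h4 := isUnivOpenAt_of_quasiFinite_of_irreducible (k ∣_ V) hdom' ⟨t, htT'⟩ hA'
  have h5 := isUnivOpenAt_comp_of_universallyOpen (k ∣_ V) V.ι ⟨t, htT'⟩ h4
  rw [morphismRestrict_ι] at h5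
  exact Groth.Agent.Lib.Helper6.QFac.isUnivOpenAt_of_comp (k ⁻¹ᵁ V).ι k ⟨t, htT'⟩ h5

set_option maxHeartbeats 1000000 in
/-- **Pointwise Chevalley criterion, irreducible source**: a morphism locally of finite type from
an irreducible scheme to a locally Noetherian scheme, equidimensional at `w`, is universally open
at `w` as soon as the local ring at the image of `w` is geometrically unibranch. -/
theorem isUnivOpenAt_of_isEquidimAt_of_irreducible {W Y : Scheme.{u}} [IrreducibleSpace W]
    [IsLocallyNoetherian Y] (g : W ⟶ Y) [LocallyOfFiniteType g] (w : W) (h : IsEquidimAt g w)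
    (hy : CAlg2.IsGeomUnibranch (Y.presheaf.stalk (g w))) : IsUnivOpenAt g w := by
  obtain ⟨e, U, k, hwU, hk, hkqf, hZ⟩ :=
    Groth.Agent.Lib.Helper6.QFac.exists_quasiFinite_of_isEquidimAt g w h
  haveI : LocallyOfFiniteType k := by
    haveI : LocallyOfFiniteType (k ≫ (𝔸(ULift.{u} (Fin e); Y) ↘ Y)) := by
      rw [hk]; infer_instance
    exact locallyOfFiniteType_of_comp k (𝔸(ULift.{u} (Fin e); Y) ↘ Y)
  haveI : IsLocallyNoetherian 𝔸(ULift.{u} (Fin e); Y) :=
    LocallyOfFiniteType.isLocallyNoetherian (𝔸(ULift.{u} (Fin e); Y) ↘ Y)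
  haveI : IrreducibleSpace U.toScheme := irreducibleSpace_opens U w hwU
  have hdom : closure (Set.range k) ∈
      irreducibleComponents (↥𝔸(ULift.{u} (Fin e); Y) : Type u) := by
    haveI : IrreducibleSpace (↥U : Type u) := inferInstanceAs (IrreducibleSpace U.toScheme)
    have h1 : (Set.univ : Set ↥U) ∈ irreducibleComponents (↥U : Type u) := by
      rw [irreducibleComponents_eq_singleton]
      rfl
    have h2 := hZ _ h1
    have h3 : (k '' (Set.univ : Set ↥U)) = Set.range k := Set.image_univ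
    rw [h3] at h2
    exact h2
  have hover : (𝔸(ULift.{u} (Fin e); Y) ↘ Y) (k ⟨w, hwU⟩) = g w := by
    rw [← Scheme.Hom.comp_apply, hk, Scheme.Hom.comp_apply]
    rfl
  have hA : CAlg2.IsGeomUnibranch
      ((𝔸(ULift.{u} (Fin e); Y)).presheaf.stalk (k ⟨w, hwU⟩)) := by
    refine Groth.Agent.Lib.Helper6.UB.isGeomUnibranch_stalk_affineSpace _ _ ?_
    rw [hover]
    exact hy
  have h1 := isUnivOpenAt_of_quasiFinite_of_closure_mem k hdom ⟨w, hwU⟩ hA
  haveI := Groth.Agent.Lib.Helper6.QFac.universallyOpen_affineSpace_over (ULift.{u} (Fin e)) Y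
  have h2 := isUnivOpenAt_comp_of_universallyOpen k (𝔸(ULift.{u} (Fin e); Y) ↘ Y) ⟨w, hwU⟩ h1
  rw [hk] at h2
  exact Groth.Agent.Lib.Helper6.QFac.isUnivOpenAt_of_comp U.ι g ⟨w, hwU⟩ h2

end Groth.Agent.Lib.Helper6.PUO
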