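import Mathlib
import Groth.Agent.Lib.Helper6.Chev6

/-!
# Chevalley's criterion: main theorem
-/

set_option autoImplicit false
universe u

open TensorProduct CategoryTheory AlgebraicGeometry Limits

namespace Groth.Agent.Lib.Helper6.Chev

open Groth.Agent.Lib.Helper6.GU Groth.Agent.Lib.Helper6.UB

set_option maxHeartbeats 2000000 in
set_option synthInstance.maxHeartbeats 400000 in
theorem exists_nhd_universallyOpen {X Y : Scheme.{u}} (f : X ⟶ Y) [LocallyQuasiFinite f]
    [LocallyOfFiniteType f] [IsLocallyNoetherian Y]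
    (hY : ∀ y : Y, CAlg2.IsGeomUnibranch (Y.presheaf.stalk y))
    (hdom : ∀ Z ∈ irreducibleComponents ↑X, ∀ x : X, IsGenericPoint x Z →
      ∃ W ∈ irreducibleComponents ↑Y, IsGenericPoint (f x) W) (x : X) :
    ∃ (W : Scheme.{u}) (j : W ⟶ X), IsOpenImmersion j ∧ x ∈ Set.range j ∧
      UniversallyOpen (j ≫ f) := by
  obtain ⟨V, hV, hfxV⟩ : ∃ V : Y.Opens, IsAffineOpen V ∧ f x ∈ V := by
    obtain ⟨_, ⟨V, hV, rfl⟩, hy, -⟩ := Y.isBasis_affineOpens.exists_subset_of_mem_open
      (Set.mem_univ (f x)) isOpen_univ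
    exact ⟨V, hV, hy⟩
  obtain ⟨U₀, hU₀, hxU₀, hle⟩ : ∃ U₀ : X.Opens, IsAffineOpen U₀ ∧ x ∈ U₀ ∧ U₀ ≤ f ⁻¹ᵁ V := by
    obtain ⟨_, ⟨U, hU, rfl⟩, hx, hsub⟩ := X.isBasis_affineOpens.exists_subset_of_mem_open
      (show x ∈ ((f ⁻¹ᵁ V : X.Opens) : Set X) from hfxV) (f ⁻¹ᵁ V).isOpen
    exact ⟨U, hU, hx, hsub⟩
  have hφft : (f.appLE V U₀ hle).hom.FiniteType :=
    HasRingHomProperty.appLE @LocallyOfFiniteType f inferInstance ⟨V, hV⟩ ⟨U₀, hU₀⟩ hle
  have hφqf : (f.appLE V U₀ hle).hom.QuasiFinite :=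
    HasRingHomProperty.appLE @LocallyQuasiFinite f inferInstance ⟨V, hV⟩ ⟨U₀, hU₀⟩ hle
  algebraize [(f.appLE V U₀ hle).hom]
  let px : PrimeSpectrum Γ(X, U₀) := hU₀.primeIdealOf ⟨x, hxU₀⟩
  obtain ⟨C, hCfg, r, hrp, hbij⟩ :=
    Algebra.QuasiFiniteAt.exists_fg_and_exists_notMem_and_awayMap_bijective
      (R := Γ(Y, V)) px.asIdeal
  haveI : Module.Finite Γ(Y, V) C := ⟨(Submodule.fg_top _).mpr hCfg⟩
  haveI : IsNoetherianRing Γ(Y, V) := IsLocallyNoetherian.component_noetherian ⟨V, hV⟩
  -- the finite part is universally open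
  have hUO : UniversallyOpen (Spec.map (CommRingCat.ofHom (algebraMap Γ(Y, V) C))) := by
    refine universallyOpen_SpecMap_of_finite (A := CommRingCat.of Γ(Y, V)) (C := CommRingCat.of C)
      (CommRingCat.ofHom (algebraMap Γ(Y, V) C)) ?_ ?_ ?_
    · exact RingHom.finite_algebraMap.mpr inferInstance
    · intro p hp
      exact isGeomUnibranch_localization_of_stalks hY V hV p
    · intro q hq
      haveI : q.IsPrime := hq.1.1
      obtain ⟨Q', hQ'p, hQ'q⟩ := Ideal.exists_comap_eq_of_mem_minimalPrimes_of_injective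
        (f := C.val.toRingHom) Subtype.val_injective q hq
      obtain ⟨Q₀, hQ₀, hQ₀le⟩ := Ideal.exists_minimalPrimes_le (bot_le : ⊥ ≤ Q')
      haveI : Q₀.IsPrime := hQ₀.1.1
      have hq₀ : Q₀.comap C.val.toRingHom = q := by
        refine le_antisymm ?_ (hq.2 ⟨Ideal.IsPrime.comap _, bot_le⟩ ?_)
        · rw [← hQ'q]; exact Ideal.comap_mono hQ₀le
        · rw [← hQ'q]; exact Ideal.comap_mono hQ₀le
      have hcomp : q.comap (algebraMap Γ(Y, V) C) = Q₀.comap (algebraMap Γ(Y, V) Γ(X, U₀)) := by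
        rw [← hq₀, Ideal.comap_comap]
        rfl
      change q.comap (algebraMap Γ(Y, V) C) ∈ minimalPrimes Γ(Y, V)
      rw [hcomp]
      have hZ := closure_mem_irreducibleComponents_of_minimalPrime U₀ hU₀ Q₀ hQ₀
      obtain ⟨W, hW, hWgen⟩ := hdom _ hZ (hU₀.fromSpec ⟨Q₀, inferInstance⟩) rfl
      have hfξ : f (hU₀.fromSpec ⟨Q₀, inferInstance⟩) =
          hV.fromSpec ⟨Q₀.comap (algebraMap Γ(Y, V) Γ(X, U₀)), Ideal.IsPrime.comap _⟩ := by
        have := IsAffineOpen.SpecMap_appLE_fromSpec f hV hU₀ hle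
        have h2 := congrArg (fun g => g.base ⟨Q₀, inferInstance⟩) this
        simp only [Scheme.Hom.comp_base] at h2
        exact h2.symm
      haveI : (Q₀.comap (algebraMap Γ(Y, V) Γ(X, U₀))).IsPrime := Ideal.IsPrime.comap _
      refine minimalPrime_of_closure_mem_irreducibleComponents V hV _ ?_
      rw [← hfξ, hWgen.def]
      exact hW
  -- the open immersion
  let ιC : C →+* Γ(X, U₀) := C.val.toRingHom
  let j : Spec (CommRingCat.of (Localization.Away (ιC r))) ⟶ X :=
    Spec.map (CommRingCat.ofHom (algebraMap Γ(X, U₀) (Localization.Away (ιC r)))) ≫ hU₀.fromSpec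
  refine ⟨_, j, inferInstance, ?_, ?_⟩
  · have hx1 : hU₀.fromSpec px = x := hU₀.fromSpec_primeIdealOf ⟨x, hxU₀⟩
    have hx2 : px ∈ Set.range (PrimeSpectrum.comap
        (algebraMap Γ(X, U₀) (Localization.Away (ιC r)))) := by
      rw [PrimeSpectrum.localization_away_comap_range (Localization.Away (ιC r)) (ιC r)]
      exact hrp
    obtain ⟨z, hz⟩ := hx2
    let z' : ↥(Spec (CommRingCat.of (Localization.Away (ιC r)))) := z
    have hz' : (Spec.map (CommRingCat.ofHom
        (algebraMap Γ(X, U₀) (Localization.Away (ιC r))))) z' = px := hz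
    refine ⟨z', ?_⟩
    change (Spec.map (CommRingCat.ofHom (algebraMap Γ(X, U₀) (Localization.Away (ιC r)))) ≫
      hU₀.fromSpec) z' = x
    rw [Scheme.Hom.comp_apply, hz', hx1]
  · have hring : f.appLE V U₀ hle ≫
        CommRingCat.ofHom (algebraMap Γ(X, U₀) (Localization.Away (ιC r))) =
        CommRingCat.ofHom (algebraMap Γ(Y, V) C) ≫
          CommRingCat.ofHom (algebraMap C (Localization.Away r)) ≫
          CommRingCat.ofHom (Localization.awayMap ιC r) := by
      ext a
      simp only [CommRingCat.hom_comp, CommRingCat.hom_ofHom, RingHom.comp_apply]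
      rw [Localization.awayMap, IsLocalization.Away.map, IsLocalization.map_eq]
      rfl
    have hj : j ≫ f = Spec.map (CommRingCat.ofHom (Localization.awayMap ιC r)) ≫
        Spec.map (CommRingCat.ofHom (algebraMap C (Localization.Away r))) ≫
        Spec.map (CommRingCat.ofHom (algebraMap Γ(Y, V) C)) ≫ hV.fromSpec := by
      simp only [j, Category.assoc]
      rw [← IsAffineOpen.SpecMap_appLE_fromSpec f hV hU₀ hle]
      rw [← Spec.map_comp_assoc, hring]
      simp only [Spec.map_comp, Category.assoc]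
    rw [hj]
    haveI : IsIso (CommRingCat.ofHom (Localization.awayMap ιC r)) :=
      (ConcreteCategory.isIso_iff_bijective _).mpr hbij
    infer_instance

end Groth.Agent.Lib.Helper6.Chev

namespace Groth.Agent.Lib.Helper6.Chev

/-- **Chevalley's criterion** (EGA IV 14.4.4, quasi-finite case): a locally quasi-finite morphism
locally of finite type to a locally Noetherian scheme with geometrically unibranch local rings,
all of whose irreducible components dominate irreducible components of the target, is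
universally open. -/
theorem universallyOpen_of_locallyQuasiFinite {X Y : Scheme.{u}} (f : X ⟶ Y)
    [LocallyQuasiFinite f] [LocallyOfFiniteType f] [IsLocallyNoetherian Y]
    (hY : ∀ y : Y, CAlg2.IsGeomUnibranch (Y.presheaf.stalk y))
    (hdom : ∀ Z ∈ irreducibleComponents ↑X, ∀ x : X, IsGenericPoint x Z →
      ∃ W ∈ irreducibleComponents ↑Y, IsGenericPoint (f x) W) :
    UniversallyOpen f :=
  of_forall_exists_openImmersion @UniversallyOpen f
    (fun x => exists_nhd_universallyOpen f hY hdom x)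

end Groth.Agent.Lib.Helper6.Chev
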