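import Mathlib
import Groth.Agent.Lib.Helper6.QFac6
import Groth.Agent.Lib.Helper6.QFac9
import Groth.Agent.Lib.Helper6.Chev7
import Groth.Agent.Lib.Helper6.UBS5
import Groth.Agent.Lib.Helper21.OpenAt5
import Groth.Agent.Lib.Helper21.OpenAt9
import Groth.Agent.Lib.Helper21.OpenAt15
import Groth.Agent.Lib.Helper21.EquiBC1

/-!
# Chevalley's criterion over a locally Noetherian base with geometrically unibranch local rings
-/

set_option autoImplicit false
set_option linter.style.haveILetI false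
universe u
open AlgebraicGeometry CategoryTheory Limits TopologicalSpace

namespace Groth.Agent.Lib.Helper6.QFac

open Groth.Agent.Lib.Helper21.FibDim Groth.Agent.Lib.Helper21.EquidimAt
  Groth.Agent.Lib.Helper21.OpenAt Groth.Agent.Lib.Helper21.EquiSub EGA43

variable {X Y : Scheme.{u}}

/-- Chevalley's criterion, local form on the source -/
theorem exists_opens_universallyOpen_of_isEquidimAt [IsLocallyNoetherian Y]
    (hY : ∀ y : Y, CAlg2.IsGeomUnibranch (Y.presheaf.stalk y)) (f : X ⟶ Y) [LocallyOfFiniteType f]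
    (x : X) (h : EGA43.IsEquidimAt f x) : ∃ U : X.Opens, x ∈ U ∧ UniversallyOpen (U.ι ≫ f) := by
  obtain ⟨e, U, g, hxU, hg, hgqf, hZ⟩ := exists_quasiFinite_of_isEquidimAt f x h
  refine ⟨U, hxU, ?_⟩
  rw [← hg]
  haveI : LocallyOfFiniteType g := by
    haveI : LocallyOfFiniteType (g ≫ (𝔸(ULift.{u} (Fin e); Y) ↘ Y)) := by
      rw [hg]; infer_instance
    exact locallyOfFiniteType_of_comp g (𝔸(ULift.{u} (Fin e); Y) ↘ Y)
  haveI : IsLocallyNoetherian 𝔸(ULift.{u} (Fin e); Y) :=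
    LocallyOfFiniteType.isLocallyNoetherian (𝔸(ULift.{u} (Fin e); Y) ↘ Y)
  haveI : UniversallyOpen g := by
    refine Groth.Agent.Lib.Helper6.Chev.universallyOpen_of_locallyQuasiFinite g
      (fun y' => Groth.Agent.Lib.Helper6.UB.isGeomUnibranch_stalk_affineSpace _ y' (hY _)) ?_
    intro Z hZ' ξ hξ
    refine ⟨closure {g ξ}, ?_, rfl⟩
    have := hZ Z hZ'
    rwa [← hξ.def, closure_image_closure_singleton g ξ] at this
  haveI := universallyOpen_affineSpace_over (ULift.{u} (Fin e)) Y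
  infer_instance

theorem isUnivOpenAt_of_isEquidimAt [IsLocallyNoetherian Y]
    (hY : ∀ y : Y, CAlg2.IsGeomUnibranch (Y.presheaf.stalk y)) (f : X ⟶ Y) [LocallyOfFiniteType f]
    (x : X) (h : EGA43.IsEquidimAt f x) : IsUnivOpenAt f x := by
  obtain ⟨U, hxU, hU⟩ := exists_opens_universallyOpen_of_isEquidimAt hY f x h
  exact isUnivOpenAt_of_comp U.ι f ⟨x, hxU⟩ (isUnivOpenAt_of_universallyOpen (U.ι ≫ f) ⟨x, hxU⟩)

/-- if `f` is open at a point `ζ` maximal in its fibre, then `f` is universally open at `ζ` -/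
theorem isUnivOpenAt_of_isOpenAt_of_maximal [IsLocallyNoetherian Y]
    (hY : ∀ y : Y, CAlg2.IsGeomUnibranch (Y.presheaf.stalk y)) (f : X ⟶ Y) [LocallyOfFiniteType f]
    (ζ : X) (hζmax : ∀ τ : X, τ ⤳ ζ → f τ = f ζ → τ = ζ) (hop : EGA43.IsOpenAt f.base ζ) :
    IsUnivOpenAt f ζ := by
  obtain ⟨n, hn⟩ := exists_nat_trdeg_residueFieldMap f ζ
  obtain ⟨ξ, hξζ, hξmax, hfξmax, hE⟩ := exists_maximal_of_isOpenAt_maximal f ζ hζmax hop n hn
  let C : TopologicalSpace.Closeds X := ⟨closure {ξ}, isClosed_closure⟩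
  let I := Scheme.IdealSheafData.vanishingIdeal C
  let ι := I.subschemeι
  have hr : Set.range ι.base = closure ({ξ} : Set X) := by
    rw [Scheme.IdealSheafData.range_subschemeι, Scheme.IdealSheafData.coe_support_vanishingIdeal]
    rfl
  have hemb : Topology.IsEmbedding ι.base := ι.isEmbedding
  obtain ⟨w, hw⟩ : ζ ∈ Set.range ι.base := by rw [hr]; exact hξζ.mem_closure
  obtain ⟨ξ', hξ'⟩ : ξ ∈ Set.range ι.base := by rw [hr]; exact subset_closure rfl
  have hgen : ∀ u : I.subscheme, ξ' ⤳ u := by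
    intro u
    rw [← hemb.isInducing.specializes_iff, specializes_iff_mem_closure, hξ', ← hr]
    exact ⟨u, rfl⟩
  have hξ'max : ∀ t : I.subscheme, t ⤳ ξ' → t = ξ' := fun t ht => ((hgen t).antisymm ht).eq.symm
  -- fibre dimension at the generic point
  have hFξ' : FlatMor.fibreDimAt (ι ≫ f) ξ' = n := by
    obtain ⟨m, hm1, hm2⟩ := fibreDimAt_eq_trdeg_of_maximal' (ι ≫ f) ξ' hξ'max
    have h1 : rtd f (ι ξ') = n := by rw [hξ']; exact hE
    have h2 := Groth.Agent.Lib.Helper21.IrrFib.trdeg_comp_of_surjectiveOnStalks ι f ξ' n h1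
    rw [h2] at hm2
    have : n = m := by exact_mod_cast hm2
    rw [hm1, this]
  have hFw : FlatMor.fibreDimAt (ι ≫ f) w ≤ n := by
    have h1 := Groth.Agent.Lib.Helper21.OpenAt.fibreDimAt_comp_le ι f w
    rw [hw, fibreDimAt_eq_trdeg_of_maximal f ζ hζmax n hn] at h1
    exact h1
  let O : I.subscheme.Opens :=
    ⟨{u | FlatMor.fibreDimAt (ι ≫ f) u ≤ n}, isOpen_setOf_fibreDimAt_le (ι ≫ f) n⟩
  have hEq : EGA43.IsEquidimAt (ι ≫ f) w := by
    refine Groth.Agent.Lib.Helper21.EquiBC.isEquidimAt_of_maximal_of_forall_fibreDimAt (ι ≫ f) w O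
      hFw ?_ n ?_
    · intro ξ'' _ hξ''max
      have : ξ'' = ξ' := (hξ''max ξ' (hgen ξ'')).symm
      subst this
      refine ⟨hgen w, ?_⟩
      have h1 : (ι ≫ f) ξ'' = f ξ := by
        rw [Scheme.Hom.comp_apply, hξ']
      rw [h1]
      exact hfξmax
    · intro u hu
      refine le_antisymm hu ?_
      rw [← hFξ']
      exact fibreDimAt_le_of_specializes (ι ≫ f) (hgen u)
  have h1 := isUnivOpenAt_of_isEquidimAt hY (ι ≫ f) w hEq
  have h2 := isUnivOpenAt_of_comp ι f w h1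
  rwa [hw] at h2

theorem universallyOpen_of_isOpenMap [IsLocallyNoetherian Y]
    (hY : ∀ y : Y, CAlg2.IsGeomUnibranch (Y.presheaf.stalk y)) (f : X ⟶ Y) [LocallyOfFiniteType f]
    (hop : IsOpenMap f.base) : UniversallyOpen f := by
  refine universallyOpen_of_forall_isUnivOpenAt f fun x => ?_
  obtain ⟨ζ, N, hζx, hfζ, hζmax, -, -⟩ := exists_maximal_generization_fibreDimAt f x
  exact isUnivOpenAt_of_maximal f x ζ hζx hfζ
    (isUnivOpenAt_of_isOpenAt_of_maximal hY f ζ hζmax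
      (Groth.Agent.Lib.Helper14.UOA.isOpenAt_of_isOpenMap _ hop ζ))

end Groth.Agent.Lib.Helper6.QFac
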