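import Mathlib
import Groth.Agent.Lib.Helper6.PUO4
import Groth.Agent.Lib.Helper6.QFac10
import Groth.Agent.Lib.Helper21.EquiSub10
import Groth.Agent.Lib.Helper21.FourCond1
import Groth.Agent.Lib.Helper18.JacDim3

/-!
# Pointwise Chevalley criterion (EGA IV 14.4.1, b ⇒ a)
-/

set_option autoImplicit false
set_option linter.style.haveILetI false
universe u

open CategoryTheory AlgebraicGeometry Limits TopologicalSpace

namespace Groth.Agent.Lib.Helper6.PUO

open Groth.Agent.Lib.Helper14.UOA EGA43 Groth.Agent.Lib.Helper21.FibDim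
  Groth.Agent.Lib.Helper21.EquidimAt Groth.Agent.Lib.Helper21.OpenAt
  Groth.Agent.Lib.Helper21.EquiSub Groth.Agent.Lib.Helper6.QFac

/-- The reduced induced subscheme on an irreducible closed subset is irreducible. -/
theorem exists_irreducible_closed_subscheme {X : Scheme.{u}} (Z : Set X) (hZirr : IsIrreducible Z)
    (hZcl : IsClosed Z) :
    ∃ (W : Scheme.{u}) (ι : W ⟶ X), IsClosedImmersion ι ∧ Set.range ι = Z ∧
      IrreducibleSpace W := by
  let C : TopologicalSpace.Closeds X := ⟨Z, hZcl⟩
  let I := Scheme.IdealSheafData.vanishingIdeal C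
  have hr : Set.range I.subschemeι = Z := by
    rw [Scheme.IdealSheafData.range_subschemeι, Scheme.IdealSheafData.coe_support_vanishingIdeal]
    rfl
  refine ⟨I.subscheme, I.subschemeι, inferInstance, hr, ?_⟩
  have hemb : Topology.IsEmbedding I.subschemeι := I.subschemeι.isEmbedding
  obtain ⟨ξ, hξ⟩ := QuasiSober.sober hZirr hZcl
  obtain ⟨ξ', hξ'⟩ : ξ ∈ Set.range I.subschemeι := by rw [hr, ← hξ.def]; exact subset_closure rfl
  have hgen : ∀ u : I.subscheme, ξ' ⤳ u := by
    intro u
    rw [← hemb.isInducing.specializes_iff, specializes_iff_mem_closure, hξ', hξ.def, ← hr]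
    exact ⟨u, rfl⟩
  have huniv : closure ({ξ'} : Set I.subscheme) = Set.univ := by
    rw [Set.eq_univ_iff_forall]
    intro u
    exact (hgen u).mem_closure
  rw [irreducibleSpace_def, Set.top_eq_univ, ← huniv]
  exact isIrreducible_singleton.closure

/-- A point whose local ring has prime nilradical lies on exactly one irreducible component. -/
theorem eq_of_mem_irreducibleComponents {Y : Scheme.{u}} [IsLocallyNoetherian Y] (y : Y)
    (hnil : (nilradical (Y.presheaf.stalk y)).IsPrime) (Y₁ Y₂ : Set Y)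
    (h₁ : Y₁ ∈ irreducibleComponents (Y : Type u)) (h₂ : Y₂ ∈ irreducibleComponents (Y : Type u))
    (hy₁ : y ∈ Y₁) (hy₂ : y ∈ Y₂) : Y₁ = Y₂ := by
  obtain ⟨V, hyV, hVirr⟩ := Groth.Agent.Lib.Helper7.exists_irreducible_nhd Y y hnil
  have key : ∀ Y' ∈ irreducibleComponents (Y : Type u), y ∈ Y' → Y' = closure (V : Set Y) := by
    intro Y' h' hy'
    obtain ⟨η, hη⟩ := exists_isGenericPoint_of_mem_irreducibleComponents Y' h'
    have h1 : η ⤳ y := by rw [specializes_iff_mem_closure, hη.def]; exact hy'
    have h2 : η ∈ V := h1.mem_open V.isOpen hyV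
    have h3 : Y' ≤ closure (V : Set Y) := by
      rw [← hη.def]
      exact closure_mono (Set.singleton_subset_iff.mpr h2)
    exact le_antisymm h3 (h'.2 hVirr.closure h3)
  rw [key Y₁ h₁ hy₁, key Y₂ h₂ hy₂]

/-- An irreducible scheme is equidimensional over the base at every point where the fibre dimension
is the generic one, provided its generic point lies over a maximal point. -/
theorem isEquidimAt_of_fibreDimAt_eq_generic {W Y : Scheme.{u}} [IrreducibleSpace W]
    (g : W ⟶ Y) [LocallyOfFiniteType g] (w : W)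
    (hmax : closure {g (genericPoint W)} ∈ irreducibleComponents (Y : Type u))
    (hdim : FlatMor.fibreDimAt g w = FlatMor.fibreDimAt g (genericPoint W)) :
    IsEquidimAt g w := by
  have hξmax : ∀ t : W, t ⤳ genericPoint W → t = genericPoint W := fun t ht =>
    ((genericPoint_specializes t).antisymm ht).eq.symm
  obtain ⟨m, hm1, hm2⟩ := fibreDimAt_eq_trdeg_of_maximal' g (genericPoint W) hξmax
  let O : W.Opens := ⟨{u | FlatMor.fibreDimAt g u ≤ m}, isOpen_setOf_fibreDimAt_le g m⟩
  have hwO : w ∈ O := by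
    change FlatMor.fibreDimAt g w ≤ m
    rw [hdim, hm1]
  refine Groth.Agent.Lib.Helper21.EquiBC.isEquidimAt_of_maximal_of_forall_fibreDimAt g w O hwO ?_ m ?_
  · intro ξ'' _ hξ''max
    have : ξ'' = genericPoint W := (hξ''max _ (genericPoint_specializes ξ'')).symm
    subst this
    exact ⟨genericPoint_specializes w, fun t ht => eq_of_specializes_of_closure_mem _ hmax t ht⟩
  · intro u hu
    refine le_antisymm hu ?_
    rw [← hm1]
    exact fibreDimAt_le_of_specializes g (genericPoint_specializes u)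

/-- Core form of the pointwise Chevalley criterion. -/
theorem isUnivOpenAt_of_fibreDimAt_eq_generic {W Y : Scheme.{u}} [IrreducibleSpace W]
    [IsLocallyNoetherian Y] (g : W ⟶ Y) [LocallyOfFiniteType g] (w : W)
    (hmax : closure {g (genericPoint W)} ∈ irreducibleComponents (Y : Type u))
    (hdim : FlatMor.fibreDimAt g w = FlatMor.fibreDimAt g (genericPoint W))
    (hy : CAlg2.IsGeomUnibranch (Y.presheaf.stalk (g w))) : IsUnivOpenAt g w :=
  isUnivOpenAt_of_isEquidimAt_of_irreducible g w
    (isEquidimAt_of_fibreDimAt_eq_generic g w hmax hdim) hy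

/-- The dimension of the generic fibre of an irreducible subscheme. -/
theorem topologicalKrullDim_inter_preimage_generic {X Y W : Scheme.{u}} [IrreducibleSpace W]
    (ι : W ⟶ X) (hι : Topology.IsEmbedding ι.base) (f : X ⟶ Y) [LocallyOfFiniteType (ι ≫ f)]
    (Z : Set X) (hr : Set.range ι.base = Z) (η : Y) (hη : η = (ι ≫ f) (genericPoint W)) :
    topologicalKrullDim ↥(Z ∩ f.base ⁻¹' {η}) = FlatMor.fibreDimAt (ι ≫ f) (genericPoint W) := by
  subst hη
  rw [Groth.Agent.Lib.Helper21.FourCond.topologicalKrullDim_inter_preimage_eq ι hι f Z hr _]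
  have hξmax : ∀ t : W, t ⤳ genericPoint W → t = genericPoint W := fun t ht =>
    ((genericPoint_specializes t).antisymm ht).eq.symm
  obtain ⟨m, hm1, hm2⟩ := fibreDimAt_eq_trdeg_of_maximal' (ι ≫ f) (genericPoint W) hξmax
  rw [hm1, ← Groth.Agent.Lib.Helper18.JacDim.topologicalKrullDim_fiber_genericPoint (ι ≫ f) m hm2]
  exact (IsHomeomorph.topologicalKrullDim_eq _
    ((ι ≫ f).fiberHomeo ((ι ≫ f) (genericPoint W))).isHomeomorph).symm

set_option maxHeartbeats 1000000 in
/-- **Pointwise Chevalley criterion (EGA IV 14.4.1, b ⇒ a).** -/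
theorem isUnivOpenAt_of_component {X Y : Scheme.{u}} [IsLocallyNoetherian Y] (f : X ⟶ Y)
    [LocallyOfFiniteType f] (x : X)
    (hy : CAlg2.IsGeomUnibranch (Y.presheaf.stalk (f.base x)))
    (Z : Set X) (hZirr : IsIrreducible Z) (hZcl : IsClosed Z) (hx : x ∈ Z)
    (hdom : closure (f.base '' Z) ∈ irreducibleComponents (Y : Type u))
    (hdim : ∀ η : Y, closure ({η} : Set Y) = closure (f.base '' Z) →
      FlatMor.localDim ↥(Z ∩ f.base ⁻¹' {f.base x}) ⟨x, ⟨hx, rfl⟩⟩ =
        topologicalKrullDim ↥(Z ∩ f.base ⁻¹' {η})) :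
    IsUnivOpenAt f x := by
  obtain ⟨W, ι, hcl, hr, hirr⟩ := exists_irreducible_closed_subscheme Z hZirr hZcl
  haveI := hcl
  haveI := hirr
  have hemb : Topology.IsEmbedding ι.base := ι.isEmbedding
  obtain ⟨w, hw⟩ : x ∈ Set.range ι.base := by rw [hr]; exact hx
  have hcl' : closure (f.base '' Z) = closure {(ι ≫ f).base (genericPoint W)} := by
    have h1 : f.base '' Z = (ι ≫ f).base '' closure {genericPoint W} := by
      rw [(genericPoint_spec W).def, Set.image_univ, ← hr, comp_base_eq, Set.range_comp]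
    rw [h1]
    exact closure_image_closure_singleton' _ (ι ≫ f).continuous _
  have hmax : closure {(ι ≫ f).base (genericPoint W)} ∈ irreducibleComponents (Y : Type u) := by
    rw [← hcl']; exact hdom
  have hd := hdim _ hcl'.symm
  rw [localDim_inter_preimage_eq_fibreDimAt' ι hemb f Z hr w x hw hx,
    topologicalKrullDim_inter_preimage_generic ι hemb f Z hr _ rfl] at hd
  have hfw : (ι ≫ f).base w = f.base x := by
    rw [comp_base_eq, Function.comp_apply, hw]
  have h1 := isUnivOpenAt_of_fibreDimAt_eq_generic (ι ≫ f) w hmax hd (by rw [hfw]; exact hy)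
  have h2 := isUnivOpenAt_of_comp ι f w h1
  rwa [hw] at h2

end Groth.Agent.Lib.Helper6.PUO
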