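import Mathlib
import Groth.Agent.Lib.Helper6.PUO5

/-!
# Pointwise Chevalley criterion without Noetherian hypotheses (finitely many components)
-/

set_option autoImplicit false
set_option linter.style.haveILetI false
universe u

open CategoryTheory AlgebraicGeometry Limits TopologicalSpace

namespace Groth.Agent.Lib.Helper6.PUO

open Groth.Agent.Lib.Helper14.UOA EGA43 Groth.Agent.Lib.Helper21.FibDim

/-- The reduced induced subscheme on an irreducible closed subset is irreducible. -/
theorem irreducibleSpace_subscheme_vanishingIdeal {X : Scheme.{u}} (C : TopologicalSpace.Closeds X)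
    (hC : IsIrreducible (C : Set X)) :
    IrreducibleSpace (Scheme.IdealSheafData.vanishingIdeal C).subscheme := by
  set I := Scheme.IdealSheafData.vanishingIdeal C with hI
  have hr : Set.range I.subschemeι = (C : Set X) := by
    rw [Scheme.IdealSheafData.range_subschemeι, Scheme.IdealSheafData.coe_support_vanishingIdeal]
  have hemb : Topology.IsEmbedding I.subschemeι := I.subschemeι.isEmbedding
  obtain ⟨ξ, hξ⟩ := QuasiSober.sober hC C.isClosed
  obtain ⟨ξ', hξ'⟩ : ξ ∈ Set.range I.subschemeι := by rw [hr, ← hξ.def]; exact subset_closure rfl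
  have hgen : ∀ u : I.subscheme, ξ' ⤳ u := by
    intro u
    rw [← hemb.isInducing.specializes_iff, specializes_iff_mem_closure, hξ', hξ.def, ← hr]
    exact ⟨u, rfl⟩
  have huniv : closure ({ξ'} : Set I.subscheme) = Set.univ := by
    rw [Set.eq_univ_iff_forall]
    intro u
    exact (hgen u).mem_closure
  rw [irreducibleSpace_def, Set.top_eq_univ, ← huniv]
  exact isIrreducible_singleton.closure

/-- A point whose local ring has prime nilradical lies on exactly one irreducible component
(no Noetherian hypothesis). -/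
theorem eq_of_mem_irreducibleComponents' {Y : Scheme.{u}} (y : Y)
    (hnil : (nilradical (Y.presheaf.stalk y)).IsPrime) (Y₁ Y₂ : Set Y)
    (h₁ : Y₁ ∈ irreducibleComponents (Y : Type u)) (h₂ : Y₂ ∈ irreducibleComponents (Y : Type u))
    (hy₁ : y ∈ Y₁) (hy₂ : y ∈ Y₂) : Y₁ = Y₂ := by
  have key : ∀ Y' ∈ irreducibleComponents (Y : Type u), y ∈ Y' →
      ∃ P : Spec (Y.presheaf.stalk y), (show PrimeSpectrum (Y.presheaf.stalk y) from P).asIdeal =
        nilradical (Y.presheaf.stalk y) ∧ closure {Y.fromSpecStalk y P} = Y' := by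
    intro Y' h' hy'
    obtain ⟨η, hη⟩ := exists_isGenericPoint_of_mem_irreducibleComponents Y' h'
    have h1 : η ⤳ y := by rw [specializes_iff_mem_closure, hη.def]; exact hy'
    obtain ⟨P, hP⟩ : η ∈ Set.range (Y.fromSpecStalk y) := by
      rw [Scheme.range_fromSpecStalk]; exact h1
    refine ⟨P, ?_, by rw [hP]; exact hη.def⟩
    let N : PrimeSpectrum (Y.presheaf.stalk y) := ⟨nilradical (Y.presheaf.stalk y), hnil⟩
    have hNP : N ≤ (show PrimeSpectrum (Y.presheaf.stalk y) from P) := by
      change nilradical _ ≤ _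
      exact nilradical_le_prime _
    have h2 : (show Spec (Y.presheaf.stalk y) from N) ⤳ P :=
      (PrimeSpectrum.le_iff_specializes N _).mp hNP
    have h3 : Y.fromSpecStalk y N ⤳ η := by
      rw [← hP]
      exact h2.map (Y.fromSpecStalk y).continuous
    have h4 := eq_of_specializes_isGenericPoint Y' h' η _ hη h3
    have h5 : (show Spec (Y.presheaf.stalk y) from N) = P := by
      apply (Y.fromSpecStalk y).isEmbedding.injective
      rw [h4, hP]
    rw [← h5]
  obtain ⟨P₁, hP₁, hc₁⟩ := key Y₁ h₁ hy₁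
  obtain ⟨P₂, hP₂, hc₂⟩ := key Y₂ h₂ hy₂
  have : P₁ = P₂ := PrimeSpectrum.ext (hP₁.trans hP₂.symm)
  rw [← hc₁, ← hc₂, this]

/-- If there are finitely many irreducible components and every point lies on exactly one of them,
the components are open. -/
theorem isOpen_of_mem_irreducibleComponents {T : Type*} [TopologicalSpace T]
    (hfin : (irreducibleComponents T).Finite)
    (huniq : ∀ t : T, ∀ Y₁ ∈ irreducibleComponents T, ∀ Y₂ ∈ irreducibleComponents T,
      t ∈ Y₁ → t ∈ Y₂ → Y₁ = Y₂)
    (Y₀ : Set T) (hY₀ : Y₀ ∈ irreducibleComponents T) : IsOpen Y₀ := by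
  have hcompl : Y₀ᶜ = ⋃ Y' ∈ (irreducibleComponents T) \ {Y₀}, Y' := by
    ext t
    simp only [Set.mem_compl_iff, Set.mem_iUnion, Set.mem_sdiff, Set.mem_singleton_iff, exists_prop]
    constructor
    · intro ht
      refine ⟨irreducibleComponent t, ⟨irreducibleComponent_mem_irreducibleComponents t, ?_⟩,
        mem_irreducibleComponent⟩
      intro h
      exact ht (h ▸ mem_irreducibleComponent)
    · rintro ⟨Y', ⟨hY', hne⟩, htY'⟩ htY₀
      exact hne (huniq t Y' hY' Y₀ hY₀ htY' htY₀)
  rw [← isClosed_compl_iff, hcompl]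
  exact (hfin.subset Set.sdiff_subset).isClosed_biUnion
    fun Y' hY' => isClosed_of_mem_irreducibleComponents Y' hY'.1

/-- The preimage in affine space of an irreducible open subset is irreducible. -/
theorem isIrreducible_preimage_affineSpace {S : Scheme.{u}} (n : Type u) (V : S.Opens)
    (hV : IsIrreducible (V : Set S)) :
    IsIrreducible (((𝔸(n; S) ↘ S) ⁻¹ᵁ V : (𝔸(n; S)).Opens) : Set 𝔸(n; S)) := by
  haveI : IrreducibleSpace V.toScheme := (isIrreducible_iff_irreducibleSpace (s := (V : Set S))).mp hV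
  have hpb := AffineSpace.isPullback_map (n := n) V.ι
  have hrange : Set.range (AffineSpace.map n V.ι) =
      (((𝔸(n; S) ↘ S) ⁻¹ᵁ V : (𝔸(n; S)).Opens) : Set 𝔸(n; S)) := by
    ext a
    constructor
    · rintro ⟨b, rfl⟩
      change (𝔸(n; S) ↘ S) ((AffineSpace.map n V.ι) b) ∈ V
      rw [← Scheme.Hom.comp_apply, AffineSpace.map_over, Scheme.Hom.comp_apply]
      exact ((𝔸(n; V.toScheme) ↘ V.toScheme) b).2
    · intro ha
      have ha' : (𝔸(n; S) ↘ S) a ∈ V := ha
      obtain ⟨z, hz1, -⟩ := exists_preimage_of_isPullback hpb a ⟨_, ha'⟩ rfl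
      exact ⟨z, hz1⟩
  rw [← hrange, ← Set.image_univ]
  exact (IrreducibleSpace.isIrreducible_univ _).image _
    (AffineSpace.map n V.ι).continuous.continuousOn

set_option maxHeartbeats 1000000 in
/-- **Pointwise Chevalley, quasi-finite case over a locally Noetherian target**: the image need only
be dense in an irreducible component. -/
theorem isUnivOpenAt_of_quasiFinite_of_closure_mem' {T A : Scheme.{u}} [IrreducibleSpace T]
    (k : T ⟶ A) [LocallyOfFiniteType k] [LocallyQuasiFinite k]
    (hdom : closure (Set.range k) ∈ irreducibleComponents A) (t : T)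
    (hA : CAlg2.IsGeomUnibranch (A.presheaf.stalk (k t))) (V : A.Opens) (haV : k t ∈ V)
    (hVirr : IsIrreducible (V : Set A)) : IsUnivOpenAt k t := by
  haveI : IrreducibleSpace V.toScheme :=
    (isIrreducible_iff_irreducibleSpace (s := (V : Set A))).mp hVirr
  have htT' : t ∈ k ⁻¹ᵁ V := haV
  haveI : IrreducibleSpace (k ⁻¹ᵁ V).toScheme := irreducibleSpace_opens (k ⁻¹ᵁ V) t htT'
  have hsq := (isPullback_morphismRestrict k V).flip
  haveI : LocallyOfFiniteType (k ∣_ V) :=
    MorphismProperty.of_isPullback (P := @LocallyOfFiniteType) hsq inferInstance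
  haveI : LocallyQuasiFinite (k ∣_ V) :=
    MorphismProperty.of_isPullback (P := @LocallyQuasiFinite) hsq inferInstance
  -- generic points
  set ξ := genericPoint T with hξ
  have hcl : closure (Set.range k) = closure {k ξ} := by
    rw [← Set.image_univ, ← (genericPoint_spec T).def]
    exact Groth.Agent.Lib.Helper6.QFac.closure_image_closure_singleton' k k.continuous ξ
  rw [hcl] at hdom
  have hkξV : k ξ ∈ V := ((genericPoint_specializes t).map k.continuous).mem_open V.isOpen haV
  have hξT' : ξ ∈ k ⁻¹ᵁ V := hkξV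
  set v₀ := genericPoint V.toScheme with hv₀
  have h1 : V.ι v₀ ⤳ k ξ := by
    have : v₀ ⤳ (⟨k ξ, hkξV⟩ : V.toScheme) := genericPoint_specializes _
    exact this.map V.ι.continuous
  have h2 : V.ι v₀ = k ξ := eq_of_specializes_of_closure_mem (k ξ) hdom _ h1
  have h3 : (k ∣_ V) ⟨ξ, hξT'⟩ = v₀ := by
    apply V.ι.isOpenEmbedding.injective
    rw [← Scheme.Hom.comp_apply, morphismRestrict_ι, Scheme.Hom.comp_apply, h2]
    rfl
  have hdom' : DenseRange (k ∣_ V) := by
    intro v
    have : closure {v₀} ⊆ closure (Set.range (k ∣_ V)) :=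
      closure_mono (by rw [Set.singleton_subset_iff]; exact ⟨_, h3⟩)
    apply this
    rw [(genericPoint_spec V.toScheme).def]
    trivial
  have hA' : CAlg2.IsGeomUnibranch
      ((V : Scheme.{u}).presheaf.stalk ((k ∣_ V) ⟨t, htT'⟩)) := by
    refine isGeomUnibranch_stalk_of_isOpenImmersion V.ι _ ?_
    have : V.ι ((k ∣_ V) ⟨t, htT'⟩) = k t := by
      rw [← Scheme.Hom.comp_apply, morphismRestrict_ι, Scheme.Hom.comp_apply]
      rfl
    rw [this]
    exact hA
  have h4 := isUnivOpenAt_of_quasiFinite_of_irreducible (k ∣_ V) hdom' ⟨t, htT'⟩ hA'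
  have h5 := isUnivOpenAt_comp_of_universallyOpen (k ∣_ V) V.ι ⟨t, htT'⟩ h4
  rw [morphismRestrict_ι] at h5
  exact Groth.Agent.Lib.Helper6.QFac.isUnivOpenAt_of_comp (k ⁻¹ᵁ V).ι k ⟨t, htT'⟩ h5

set_option maxHeartbeats 1000000 in
/-- **Pointwise Chevalley criterion, irreducible source**: a morphism locally of finite type from
an irreducible scheme to a locally Noetherian scheme, equidimensional at `w`, is universally open
at `w` as soon as the local ring at the image of `w` is geometrically unibranch. -/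
theorem isUnivOpenAt_of_isEquidimAt_of_irreducible' {W Y : Scheme.{u}} [IrreducibleSpace W]
    (g : W ⟶ Y) [LocallyOfFiniteType g] (w : W) (h : IsEquidimAt g w)
    (hy : CAlg2.IsGeomUnibranch (Y.presheaf.stalk (g w))) (V : Y.Opens) (hyV : g w ∈ V)
    (hVirr : IsIrreducible (V : Set Y)) : IsUnivOpenAt g w := by
  obtain ⟨e, U, k, hwU, hk, hkqf, hZ⟩ :=
    Groth.Agent.Lib.Helper6.QFac.exists_quasiFinite_of_isEquidimAt g w h
  haveI : LocallyOfFiniteType k := by
    haveI : LocallyOfFiniteType (k ≫ (𝔸(ULift.{u} (Fin e); Y) ↘ Y)) := by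
      rw [hk]; infer_instance
    exact locallyOfFiniteType_of_comp k (𝔸(ULift.{u} (Fin e); Y) ↘ Y)
  haveI : IrreducibleSpace U.toScheme := irreducibleSpace_opens U w hwU
  have hdom : closure (Set.range k) ∈
      irreducibleComponents (↥𝔸(ULift.{u} (Fin e); Y) : Type u) := by
    haveI : IrreducibleSpace (↥U : Type u) := inferInstanceAs (IrreducibleSpace U.toScheme)
    have h1 : (Set.univ : Set ↥U) ∈ irreducibleComponents (↥U : Type u) := by
      rw [irreducibleComponents_eq_singleton]
      rfl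
    have h2 := hZ _ h1
    have h3 : (k '' (Set.univ : Set ↥U)) = Set.range k := Set.image_univ
    rw [h3] at h2
    exact h2
  have hover : (𝔸(ULift.{u} (Fin e); Y) ↘ Y) (k ⟨w, hwU⟩) = g w := by
    rw [← Scheme.Hom.comp_apply, hk, Scheme.Hom.comp_apply]
    rfl
  have hA : CAlg2.IsGeomUnibranch
      ((𝔸(ULift.{u} (Fin e); Y)).presheaf.stalk (k ⟨w, hwU⟩)) := by
    refine Groth.Agent.Lib.Helper6.UB.isGeomUnibranch_stalk_affineSpace _ _ ?_
    rw [hover]
    exact hy
  have h1 := isUnivOpenAt_of_quasiFinite_of_closure_mem' k hdom ⟨w, hwU⟩ hA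
    ((𝔸(ULift.{u} (Fin e); Y) ↘ Y) ⁻¹ᵁ V) (by change (𝔸(ULift.{u} (Fin e); Y) ↘ Y) (k ⟨w, hwU⟩) ∈ V; rw [hover]; exact hyV)
    (isIrreducible_preimage_affineSpace _ V hVirr)
  haveI := Groth.Agent.Lib.Helper6.QFac.universallyOpen_affineSpace_over (ULift.{u} (Fin e)) Y
  have h2 := isUnivOpenAt_comp_of_universallyOpen k (𝔸(ULift.{u} (Fin e); Y) ↘ Y) ⟨w, hwU⟩ h1
  rw [hk] at h2
  exact Groth.Agent.Lib.Helper6.QFac.isUnivOpenAt_of_comp U.ι g ⟨w, hwU⟩ h2

end Groth.Agent.Lib.Helper6.PUO
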