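import Mathlib
import Groth.Agent.Lib.Helper6.QFac5
import Groth.Agent.Lib.Helper21.BaseChg4
import Groth.Agent.Lib.Helper21.OpenAt15
import Groth.Agent.Lib.Helper21.EquidimAt1

/-!
# EGA IV 13.3.1.1-type statement: a morphism to affine space finite on a fibre
-/

set_option autoImplicit false
set_option linter.style.haveILetI false
universe u
open AlgebraicGeometry CategoryTheory Limits TopologicalSpace

namespace Groth.Agent.Lib.Helper6.QFac

open Groth.Agent.Lib.Helper21.FibDim Groth.Agent.Lib.Helper21.EquidimAt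
  Groth.Agent.Lib.Helper21.OpenAt Groth.Agent.Lib.Helper21.BaseChg

theorem irreducibleSpace_fiber_affineSpace (Y : Scheme.{u}) (n : Type u) (y : Y) :
    IrreducibleSpace ↥((𝔸(n; Y) ↘ Y).fiber y) := by
  have hpb := AffineSpace.isPullback_map (n := n) (Y.fromSpecResidueField y)
  let e : 𝔸(n; Spec (Y.residueField y)) ≅ (𝔸(n; Y) ↘ Y).fiber y := hpb.isoPullback
  let h := Scheme.homeoOfIso e
  have h0 : IsIrreducible (Set.univ : Set ↥(𝔸(n; Spec (Y.residueField y)))) :=
    IrreducibleSpace.isIrreducible_univ _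
  have h1 := h0.image h h.continuous.continuousOn
  rw [Set.image_univ, h.surjective.range_eq] at h1
  exact (irreducibleSpace_def _).mpr h1

/-- the generic point of a fibre of the affine space -/
theorem exists_generic_fiber_affineSpace (Y : Scheme.{u}) (n : Type u) (y : Y) :
    ∃ γ : 𝔸(n; Y), (𝔸(n; Y) ↘ Y) γ = y ∧ ∀ w : 𝔸(n; Y), (𝔸(n; Y) ↘ Y) w = y → γ ⤳ w := by
  haveI := irreducibleSpace_fiber_affineSpace Y n y
  refine ⟨(𝔸(n; Y) ↘ Y).fiberι y (genericPoint _), ((𝔸(n; Y) ↘ Y).fiberHomeo y _).2, ?_⟩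
  intro w hw
  obtain ⟨w', rfl⟩ : w ∈ Set.range ((𝔸(n; Y) ↘ Y).fiberι y) := by
    rw [Scheme.Hom.range_fiberι]; exact hw
  exact (genericPoint_specializes w').map ((𝔸(n; Y) ↘ Y).fiberι y).continuous

/-- a point of the affine space of full residue transcendence degree is the generic point of its
fibre -/
theorem specializes_of_rtd_eq (Y : Scheme.{u}) (n : Type u) [Finite n] (z : 𝔸(n; Y))
    (hz : rtd (𝔸(n; Y) ↘ Y) z = (Nat.card n : ℕ)) (w : 𝔸(n; Y))
    (hw : (𝔸(n; Y) ↘ Y) w = (𝔸(n; Y) ↘ Y) z) : z ⤳ w := by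
  obtain ⟨γ, hγ, hγgen⟩ := exists_generic_fiber_affineSpace Y n ((𝔸(n; Y) ↘ Y) z)
  have h1 : γ ⤳ z := hγgen z rfl
  by_cases hne : γ = z
  · subst hne
    exact hγgen w hw
  · exfalso
    have h2 := trdeg_lt_of_specializes_of_ne (𝔸(n; Y) ↘ Y) h1 hne hγ
    have h3 := rtd_affineSpace_le n Y γ
    exact (lt_of_lt_of_le h2 h3).ne hz

end Groth.Agent.Lib.Helper6.QFac
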