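import Mathlib
import Groth.Agent.Lib.Helper6.QFac4
import Groth.Agent.Lib.Helper6.QFac11
import Groth.Agent.Lib.Helper14.FPFib4
import Groth.Agent.Lib.Helper14.LfpOfComp
import Groth.Agent.Lib.Helper18.FlG

/-!
# Fibre dimension of flat morphisms locally of finite presentation near fibre-maximal points
-/

set_option autoImplicit false
set_option linter.style.haveILetI false
universe u
open AlgebraicGeometry CategoryTheory Limits TopologicalSpace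

namespace Groth.Agent.Lib.Helper6.FlatFD

open Groth.Agent.Lib.Helper6.QFac Groth.Agent.Lib.Helper21.FibDim Groth.Agent.Lib.Helper21.OpenAt
  Groth.Agent.Lib.Helper21.EquiSub Groth.Agent.Lib.Helper21.FourCond

/-- A flat quasi-finite chart: if `f` is flat and locally of finite presentation, `ζ` is maximal in
its fibre with residue transcendence degree `N`, then a quasi-finite `S`-morphism
`g : U ⟶ 𝔸^N_S` defined near `ζ` is flat at `ζ`. -/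
theorem flat_stalkMap_chart {X S : Scheme.{u}} (f : X ⟶ S) [Flat f]
    [LocallyOfFinitePresentation f] (N : ℕ) (U : X.Opens)
    (g : (U : Scheme.{u}) ⟶ 𝔸(ULift.{u} (Fin N); S)) [LocallyQuasiFinite g]
    (hg : g ≫ (𝔸(ULift.{u} (Fin N); S) ↘ S) = U.ι ≫ f) (u₀ : U)
    (hN : rtd f (U.ι u₀) = (N : ℕ)) : (g.stalkMap u₀).hom.Flat := by
  haveI hlfp : LocallyOfFinitePresentation (g ≫ (𝔸(ULift.{u} (Fin N); S) ↘ S)) := by
    rw [hg]; infer_instance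
  haveI : LocallyOfFinitePresentation g :=
    Groth.Agent.Lib.Helper14.AS.locallyOfFinitePresentation_of_comp g
      (𝔸(ULift.{u} (Fin N); S) ↘ S) hlfp inferInstance
  haveI : LocallyOfFiniteType g := inferInstance
  haveI hfl : Flat (g ≫ (𝔸(ULift.{u} (Fin N); S) ↘ S)) := by
    rw [hg]; infer_instance
  have hcard : Nat.card (ULift.{u} (Fin N)) = N := by simp
  -- residue transcendence degrees
  have h1 : rtd (g ≫ (𝔸(ULift.{u} (Fin N); S) ↘ S)) u₀ = (N : ℕ) := by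
    obtain ⟨c, hc⟩ := exists_nat_trdeg_residueFieldMap (U.ι ≫ f) u₀
    have h2 := trdeg_of_comp_of_surjectiveOnStalks U.ι f u₀ c hc
    have hcN : c = N := by
      unfold rtd at hN
      rw [hN] at h2
      exact_mod_cast h2.symm
    subst hcN
    exact trdeg_congr_hom hg.symm u₀ c hc
  have h3 : rtd (𝔸(ULift.{u} (Fin N); S) ↘ S) (g u₀) = (N : ℕ) := by
    obtain ⟨c', hc'⟩ := exists_nat_trdeg_residueFieldMap (𝔸(ULift.{u} (Fin N); S) ↘ S) (g u₀)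
    have h0 := rtd_eq_zero_of_locallyQuasiFinite g u₀
    have h4 := trdeg_comp g (𝔸(ULift.{u} (Fin N); S) ↘ S) u₀ c' 0 hc' h0
    unfold rtd at h1
    rw [h1] at h4
    have : N = c' + 0 := by exact_mod_cast h4
    unfold rtd
    rw [hc']
    congr 1
    omega
  -- the fibres
  have sqU : IsPullback ((g ≫ (𝔸(ULift.{u} (Fin N); S) ↘ S)).fiberι
        ((g ≫ (𝔸(ULift.{u} (Fin N); S) ↘ S)) u₀))
      ((g ≫ (𝔸(ULift.{u} (Fin N); S) ↘ S)).fiberToSpecResidueField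
        ((g ≫ (𝔸(ULift.{u} (Fin N); S) ↘ S)) u₀))
      (g ≫ (𝔸(ULift.{u} (Fin N); S) ↘ S))
      (S.fromSpecResidueField ((g ≫ (𝔸(ULift.{u} (Fin N); S) ↘ S)) u₀)) :=
    IsPullback.of_hasPullback _ _
  have sqV : IsPullback ((𝔸(ULift.{u} (Fin N); S) ↘ S).fiberι
        ((g ≫ (𝔸(ULift.{u} (Fin N); S) ↘ S)) u₀))
      ((𝔸(ULift.{u} (Fin N); S) ↘ S).fiberToSpecResidueField
        ((g ≫ (𝔸(ULift.{u} (Fin N); S) ↘ S)) u₀))
      (𝔸(ULift.{u} (Fin N); S) ↘ S)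
      (S.fromSpecResidueField ((g ≫ (𝔸(ULift.{u} (Fin N); S) ↘ S)) u₀)) :=
    IsPullback.of_hasPullback _ _
  obtain ⟨φ, hφ1, hφ2⟩ : ∃ φ : (g ≫ (𝔸(ULift.{u} (Fin N); S) ↘ S)).fiber
        ((g ≫ (𝔸(ULift.{u} (Fin N); S) ↘ S)) u₀) ⟶
      (𝔸(ULift.{u} (Fin N); S) ↘ S).fiber ((g ≫ (𝔸(ULift.{u} (Fin N); S) ↘ S)) u₀),
      φ ≫ (𝔸(ULift.{u} (Fin N); S) ↘ S).fiberι ((g ≫ (𝔸(ULift.{u} (Fin N); S) ↘ S)) u₀) =
        (g ≫ (𝔸(ULift.{u} (Fin N); S) ↘ S)).fiberι ((g ≫ (𝔸(ULift.{u} (Fin N); S) ↘ S)) u₀) ≫ g ∧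
      φ ≫ (𝔸(ULift.{u} (Fin N); S) ↘ S).fiberToSpecResidueField
          ((g ≫ (𝔸(ULift.{u} (Fin N); S) ↘ S)) u₀) =
        (g ≫ (𝔸(ULift.{u} (Fin N); S) ↘ S)).fiberToSpecResidueField
          ((g ≫ (𝔸(ULift.{u} (Fin N); S) ↘ S)) u₀) :=
    ⟨sqV.lift _ _ (by rw [Category.assoc]; exact sqU.w), sqV.lift_fst _ _ _, sqV.lift_snd _ _ _⟩
  have ht : (g ≫ (𝔸(ULift.{u} (Fin N); S) ↘ S)).fiberι ((g ≫ (𝔸(ULift.{u} (Fin N); S) ↘ S)) u₀)
      ((g ≫ (𝔸(ULift.{u} (Fin N); S) ↘ S)).asFiber u₀) = u₀ := Scheme.Hom.fiberι_asFiber _ _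
  have hφt : (𝔸(ULift.{u} (Fin N); S) ↘ S).fiberι ((g ≫ (𝔸(ULift.{u} (Fin N); S) ↘ S)) u₀)
      (φ ((g ≫ (𝔸(ULift.{u} (Fin N); S) ↘ S)).asFiber u₀)) = g u₀ := by
    rw [← Scheme.Hom.comp_apply, hφ1, Scheme.Hom.comp_apply, ht]
  -- `φ t` is the generic point of the fibre of the affine space
  have hgenpt : φ ((g ≫ (𝔸(ULift.{u} (Fin N); S) ↘ S)).asFiber u₀) = genericPoint _ := by
    have hsp := genericPoint_specializes (φ ((g ≫ (𝔸(ULift.{u} (Fin N); S) ↘ S)).asFiber u₀))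
    have h5 := hsp.map ((𝔸(ULift.{u} (Fin N); S) ↘ S).fiberι
      ((g ≫ (𝔸(ULift.{u} (Fin N); S) ↘ S)) u₀)).continuous
    rw [hφt] at h5
    have h6 : g u₀ ⤳ (𝔸(ULift.{u} (Fin N); S) ↘ S).fiberι
        ((g ≫ (𝔸(ULift.{u} (Fin N); S) ↘ S)) u₀) (genericPoint _) := by
      refine specializes_of_rtd_eq S (ULift.{u} (Fin N)) (g u₀) (by rw [h3, hcard]) _ ?_
      exact ((𝔸(ULift.{u} (Fin N); S) ↘ S).fiberHomeo _ (genericPoint _)).2
    have h7 := (h5.antisymm h6).eq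
    rw [← hφt] at h7
    exact (((𝔸(ULift.{u} (Fin N); S) ↘ S).fiberι
      ((g ≫ (𝔸(ULift.{u} (Fin N); S) ↘ S)) u₀)).isEmbedding.injective h7).symm
  have hfield : IsField (((𝔸(ULift.{u} (Fin N); S) ↘ S).fiber
      ((g ≫ (𝔸(ULift.{u} (Fin N); S) ↘ S)) u₀)).presheaf.stalk
      (φ ((g ≫ (𝔸(ULift.{u} (Fin N); S) ↘ S)).asFiber u₀))) := by
    rw [hgenpt]
    exact Field.toIsField (Scheme.functionField _)
  have hφflat : (φ.stalkMap ((g ≫ (𝔸(ULift.{u} (Fin N); S) ↘ S)).asFiber u₀)).hom.Flat := by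
    letI := hfield.toField
    letI := (φ.stalkMap ((g ≫ (𝔸(ULift.{u} (Fin N); S) ↘ S)).asFiber u₀)).hom.toAlgebra
    show Module.Flat _ _
    infer_instance
  have hflat0 : ((g ≫ (𝔸(ULift.{u} (Fin N); S) ↘ S)).stalkMap
      ((g ≫ (𝔸(ULift.{u} (Fin N); S) ↘ S)).fiberι ((g ≫ (𝔸(ULift.{u} (Fin N); S) ↘ S)) u₀)
        ((g ≫ (𝔸(ULift.{u} (Fin N); S) ↘ S)).asFiber u₀))).hom.Flat :=
    (Flat.iff_flat_stalkMap (g ≫ (𝔸(ULift.{u} (Fin N); S) ↘ S))).mp hfl _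
  have key := (Groth.Agent.Lib.Helper14.AS.flat_of_fibre_flat_fp g (𝔸(ULift.{u} (Fin N); S) ↘ S)
    ((g ≫ (𝔸(ULift.{u} (Fin N); S) ↘ S)) u₀) _ _ _ _ sqU sqV φ hφ1 hφ2
    ((g ≫ (𝔸(ULift.{u} (Fin N); S) ↘ S)).asFiber u₀) hflat0 hφflat).2
  rwa [ht] at key

/-- On the flat locus of a quasi-finite chart `g : U ⟶ 𝔸^N_S` the local fibre dimension is `N`. -/
theorem fibreDimAt_eq_of_flat_chart {X S : Scheme.{u}} (f : X ⟶ S)
    [LocallyOfFinitePresentation f] (N : ℕ) (U : X.Opens)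
    (g : (U : Scheme.{u}) ⟶ 𝔸(ULift.{u} (Fin N); S)) [LocallyQuasiFinite g]
    (hg : g ≫ (𝔸(ULift.{u} (Fin N); S) ↘ S) = U.ι ≫ f) (W₀ : (U : Scheme.{u}).Opens)
    (hW₀ : ∀ u ∈ W₀, (g.stalkMap u).hom.Flat) (u₁ : U) (hu₁ : u₁ ∈ W₀) :
    FlatMor.fibreDimAt f (U.ι u₁) = (N : ℕ) := by
  haveI hlfp : LocallyOfFinitePresentation (g ≫ (𝔸(ULift.{u} (Fin N); S) ↘ S)) := by
    rw [hg]; infer_instance
  haveI : LocallyOfFinitePresentation g :=
    Groth.Agent.Lib.Helper14.AS.locallyOfFinitePresentation_of_comp g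
      (𝔸(ULift.{u} (Fin N); S) ↘ S) hlfp inferInstance
  haveI : LocallyOfFiniteType g := inferInstance
  haveI : LocallyOfFiniteType f := inferInstance
  have hcard : Nat.card (ULift.{u} (Fin N)) = N := by simp
  apply le_antisymm
  · -- upper bound
    have h1 : FlatMor.fibreDimAt (U.ι ≫ f) u₁ = FlatMor.fibreDimAt f (U.ι u₁) :=
      Groth.Agent.Lib.Helper21.EquidimAt.fibreDimAt_ι_comp f U u₁
    rw [← h1, ← hg]
    refine (Groth.Agent.Lib.Helper21.FibDim.fibreDimAt_comp_le g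
      (𝔸(ULift.{u} (Fin N); S) ↘ S) u₁).trans ?_
    have h2 : FlatMor.fibreDimAt g u₁ = 0 :=
      (Groth.Agent.Lib.Helper14.AS.locallyQuasiFinite_iff_fibreDimAt_eq_zero g).mp inferInstance u₁
    rw [h2, fibreDimAt_affineSpace, hcard, zero_add]
  · -- lower bound: lift the generic point of the fibre of the affine space
    haveI : Flat (W₀.ι ≫ g) := by
      rw [Flat.iff_flat_stalkMap]
      intro w
      exact (Groth.Agent.Lib.Helper14.AS.flat_stalkMap_comp_openImm_left W₀.ι g _ rfl w).mpr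
        (hW₀ _ w.2)
    obtain ⟨γ, hγ, hγgen⟩ := exists_generic_fiber_affineSpace S (ULift.{u} (Fin N))
      ((𝔸(ULift.{u} (Fin N); S) ↘ S) (g u₁))
    have hγsp : γ ⤳ (W₀.ι ≫ g) ⟨u₁, hu₁⟩ := hγgen _ rfl
    obtain ⟨ξ, hξ, hgξ⟩ := Flat.generalizingMap (W₀.ι ≫ g) hγsp
    have hγmax : ∀ τ : 𝔸(ULift.{u} (Fin N); S), τ ⤳ γ →
        (𝔸(ULift.{u} (Fin N); S) ↘ S) τ = (𝔸(ULift.{u} (Fin N); S) ↘ S) γ → τ = γ := by
      intro τ hτ hqτ
      exact (hτ.antisymm (hγgen τ (hqτ.trans hγ))).eq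
    obtain ⟨m, hm⟩ := exists_nat_trdeg_residueFieldMap (𝔸(ULift.{u} (Fin N); S) ↘ S) γ
    have hFm := fibreDimAt_eq_trdeg_of_maximal (𝔸(ULift.{u} (Fin N); S) ↘ S) γ hγmax m hm
    rw [fibreDimAt_affineSpace, hcard] at hFm
    have hmN : m = N := by exact_mod_cast hFm.symm
    subst hmN
    have hrtd : rtd f ((W₀.ι ≫ U.ι) ξ) = (m : ℕ) :=
      rtd_of_quasiFinite f (W₀.ι ≫ U.ι) (𝔸(ULift.{u} (Fin m); S) ↘ S) (W₀.ι ≫ g)
        (by rw [Category.assoc, hg, Category.assoc]) ξ m (by unfold rtd; rw [hgξ]; exact hm)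
    have hsp : (W₀.ι ≫ U.ι) ξ ⤳ U.ι u₁ := by
      have := hξ.map (W₀.ι ≫ U.ι).continuous
      exact this
    exact le_fibreDimAt_of_specializes f hsp m hrtd

/-- **Fibre dimension is locally constant near fibre-maximal points of flat morphisms**: if `f` is
flat and locally of finite presentation and `ζ` is maximal in its fibre, with residue
transcendence degree `N`, then the fibres of `f` have local dimension `N` at all points of a
neighbourhood of `ζ`. -/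
theorem exists_open_fibreDimAt_eq_of_flat {X S : Scheme.{u}} (f : X ⟶ S) [Flat f]
    [LocallyOfFinitePresentation f] (ζ : X)
    (hmax : ∀ τ : X, τ ⤳ ζ → f τ = f ζ → τ = ζ) (N : ℕ) (hN : rtd f ζ = (N : ℕ)) :
    ∃ W : X.Opens, ζ ∈ W ∧ ∀ x ∈ W, FlatMor.fibreDimAt f x = (N : ℕ) := by
  haveI : LocallyOfFiniteType f := inferInstance
  have hF : FlatMor.fibreDimAt f ζ = (N : ℕ) := fibreDimAt_eq_trdeg_of_maximal f ζ hmax N hN
  obtain ⟨U, g, hζU, -, -, hg, hlqf⟩ := exists_quasiFinite_affineSpace f ζ ⊤ trivial N hF.le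
  haveI := hlqf
  haveI hlfp : LocallyOfFinitePresentation (g ≫ (𝔸(ULift.{u} (Fin N); S) ↘ S)) := by
    rw [hg]; infer_instance
  haveI : LocallyOfFinitePresentation g :=
    Groth.Agent.Lib.Helper14.AS.locallyOfFinitePresentation_of_comp g
      (𝔸(ULift.{u} (Fin N); S) ↘ S) hlfp inferInstance
  have hflat := flat_stalkMap_chart f N U g hg ⟨ζ, hζU⟩ hN
  let W₀ : (U : Scheme.{u}).Opens :=
    ⟨{u | (g.stalkMap u).hom.Flat}, Groth.Agent.Lib.Helper18.Fl.isOpen_flatLocus_scheme g⟩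
  refine ⟨U.ι ''ᵁ W₀, ⟨⟨ζ, hζU⟩, hflat, rfl⟩, ?_⟩
  rintro _ ⟨u₁, hu₁, rfl⟩
  exact fibreDimAt_eq_of_flat_chart f N U g hg W₀ (fun u hu => hu) u₁ hu₁

end Groth.Agent.Lib.Helper6.FlatFD
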