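import Mathlib
import Groth.Agent.Lib.Helper6.FlatFD1
import Groth.Agent.Lib.Helper21.MirTFAE2
import Groth.Agent.Lib.Helper21.WittGrpLib
import Groth.Agent.Lib.Helper23.CMMor2
import Groth.Agent.Lib.Helper23.MiracleQF
import Groth.Agent.Lib.Helper16.RegularDim
import Groth.Agent.S1535

/-!
# Cohen–Macaulay morphisms and flat quasi-finite charts to affine space (EGA IV 15.4.3 style)
-/

set_option autoImplicit false
set_option linter.style.haveILetI false
universe u
open AlgebraicGeometry CategoryTheory Limits TopologicalSpace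

namespace Groth.Agent.Lib.Helper6.CMChart

open Groth.Agent.Lib.Helper6.QFac Groth.Agent.Lib.Helper21.FibDim Groth.Agent.Lib.Helper21.OpenAt
  Groth.Agent.Lib.Helper21.EquiSub Groth.Agent.Lib.Helper21.FourCond

/-- a Noetherian local ring of dimension zero is Cohen–Macaulay -/
theorem isCohenMacaulayLocalRing_of_ringKrullDim_eq_zero (R : Type u) [CommRing R]
    [IsNoetherianRing R] [IsLocalRing R] (h : ringKrullDim R = 0) :
    LocCoh.IsCohenMacaulayLocalRing R := by
  haveI : Ring.KrullDimLE 0 R := by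
    rw [Ring.krullDimLE_iff]
    exact h.le
  haveI := Groth.Agent.Lib.Helper18.FTCM.isCohenMacaulayRing_of_krullDimLE_zero R
  exact Groth.Agent.Lib.Helper23.MiracleQF.isCohenMacaulayLocalRing_of_ring R

/-- a regular local ring is Cohen–Macaulay -/
theorem isCohenMacaulayLocalRing_of_isRegularLocalRing (R : Type u) [CommRing R]
    [IsRegularLocalRing R] : LocCoh.IsCohenMacaulayLocalRing R :=
  { supportDim_eq_depth :=
      Groth.Agent.Lib.Helper16.PDR.isCohenMacaulayModule_self_of_isRegularLocalRing R }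

/-- a locally quasi-finite morphism locally of finite type is Cohen–Macaulay at each point
where it is flat -/
theorem isCMAt_of_locallyQuasiFinite {U V : Scheme.{u}} (h : U ⟶ V) [LocallyOfFiniteType h]
    [LocallyQuasiFinite h] (u : U) (hfl : (h.stalkMap u).hom.Flat) : MoreMor.IsCMAt h u := by
  refine ⟨hfl, ?_⟩
  haveI : IsLocallyNoetherian (h.fiber (h u)) :=
    Groth.Agent.Lib.Helper23.CMMor.isLocallyNoetherian_fiber_of_lft h (h u)
  have hfd : FlatMor.fibreDimAt h u = 0 :=
    (Groth.Agent.Lib.Helper14.AS.locallyQuasiFinite_iff_fibreDimAt_eq_zero h).mp inferInstance u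
  obtain ⟨a, b, ha, hb, hab⟩ := exists_fibreDimAt_eq_add h u
  rw [hfd] at hab
  have : a + b = 0 := by exact_mod_cast hab.symm
  have hb0 : b = 0 := by omega
  apply isCohenMacaulayLocalRing_of_ringKrullDim_eq_zero
  rw [hb, hb0]
  rfl

/-- the local rings of the fibres of affine space are regular -/
theorem isRegularLocalRing_stalk_fiber_affineSpace (S : Scheme.{u}) (N : ℕ) (s : S)
    (z : (𝔸(ULift.{u} (Fin N); S) ↘ S).fiber s) :
    IsRegularLocalRing (((𝔸(ULift.{u} (Fin N); S) ↘ S).fiber s).presheaf.stalk z) := by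
  haveI : Smooth (𝔸(ULift.{u} (Fin N); S) ↘ S) :=
    Groth.Agent.Lib.Helper21.WG.smooth_affineSpace_over _ S
  letI := fiberOver (𝔸(ULift.{u} (Fin N); S) ↘ S) s
  haveI : Smooth (((𝔸(ULift.{u} (Fin N); S) ↘ S).fiber s) ↘
      Spec (CommRingCat.of (S.residueField s))) :=
    inferInstanceAs (Smooth (Limits.pullback.snd (𝔸(ULift.{u} (Fin N); S) ↘ S)
      (S.fromSpecResidueField s)))
  exact Groth.Agent.S1535.result (S.residueField s) _ z

/-- the structure morphism of affine space is Cohen–Macaulay at every point -/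
theorem isCMAt_affineSpace (S : Scheme.{u}) (N : ℕ) (v : 𝔸(ULift.{u} (Fin N); S)) :
    MoreMor.IsCMAt (𝔸(ULift.{u} (Fin N); S) ↘ S) v := by
  haveI : Flat (𝔸(ULift.{u} (Fin N); S) ↘ S) :=
    Groth.Agent.Lib.Helper21.WG.flat_affineSpace_over _ S
  refine ⟨(Flat.iff_flat_stalkMap _).mp inferInstance v, ?_⟩
  haveI := isRegularLocalRing_stalk_fiber_affineSpace S N _
    ((𝔸(ULift.{u} (Fin N); S) ↘ S).asFiber v)
  exact isCohenMacaulayLocalRing_of_isRegularLocalRing _

end Groth.Agent.Lib.Helper6.CMChart
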