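import Mathlib
import Groth.Agent.Lib.Helper6.CMChart1

/-!
# Cohen–Macaulay morphisms and flat quasi-finite charts to affine space, II
-/

set_option autoImplicit false
set_option linter.style.haveILetI false
universe u
open AlgebraicGeometry CategoryTheory Limits TopologicalSpace

namespace Groth.Agent.Lib.Helper6.CMChart

open Groth.Agent.Lib.Helper6.QFac Groth.Agent.Lib.Helper21.FibDim Groth.Agent.Lib.Helper21.OpenAt
  Groth.Agent.Lib.Helper21.EquiSub Groth.Agent.Lib.Helper21.FourCond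

/-- the stalk map of an open immersion is flat -/
theorem flat_stalkMap_of_isOpenImmersion {U X : Scheme.{u}} (j : U ⟶ X) [IsOpenImmersion j]
    (u : U) : (j.stalkMap u).hom.Flat :=
  RingHom.Flat.of_bijective (ConcreteCategory.bijective_of_isIso (j.stalkMap u))

set_option maxHeartbeats 1000000 in
/-- **Miracle flatness for charts**: if `f` is Cohen–Macaulay at `x` with local fibre dimension
`N`, then every quasi-finite chart `g : U ⟶ 𝔸^N_S` around `x` is flat at `x`. -/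
theorem flat_stalkMap_chart_of_isCMAt {X S : Scheme.{u}} (f : X ⟶ S)
    [LocallyOfFinitePresentation f] (N : ℕ) (U : X.Opens)
    (g : (U : Scheme.{u}) ⟶ 𝔸(ULift.{u} (Fin N); S)) [LocallyQuasiFinite g]
    (hg : g ≫ (𝔸(ULift.{u} (Fin N); S) ↘ S) = U.ι ≫ f) (u₀ : U)
    (hCM : MoreMor.IsCMAt f (U.ι u₀)) (hN : FlatMor.fibreDimAt f (U.ι u₀) = (N : ℕ)) :
    (g.stalkMap u₀).hom.Flat := by
  haveI hlfp : LocallyOfFinitePresentation (g ≫ (𝔸(ULift.{u} (Fin N); S) ↘ S)) := by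
    rw [hg]; infer_instance
  haveI : LocallyOfFinitePresentation g :=
    Groth.Agent.Lib.Helper14.AS.locallyOfFinitePresentation_of_comp g
      (𝔸(ULift.{u} (Fin N); S) ↘ S) hlfp inferInstance
  haveI : LocallyOfFiniteType g := inferInstance
  haveI : LocallyOfFiniteType f := inferInstance
  have hcard : Nat.card (ULift.{u} (Fin N)) = N := by simp
  -- the composite is Cohen–Macaulay at `u₀`
  have hCMU : MoreMor.IsCMAt (g ≫ (𝔸(ULift.{u} (Fin N); S) ↘ S)) u₀ := by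
    rw [hg]
    exact Groth.Agent.Lib.Helper23.CMMor.cmAt_comp U.ι f u₀
      (Groth.Agent.Lib.Helper23.CMMor.isLocallyNoetherian_fiber_of_lft _ _)
      (isCMAt_of_locallyQuasiFinite U.ι u₀ (flat_stalkMap_of_isOpenImmersion U.ι u₀)) hCM
  have hFD : FlatMor.fibreDimAt (g ≫ (𝔸(ULift.{u} (Fin N); S) ↘ S)) u₀ = (N : ℕ) := by
    rw [hg, Groth.Agent.Lib.Helper21.EquidimAt.fibreDimAt_ι_comp f U u₀]
    exact hN
  -- dimensions
  obtain ⟨a, b, ha, hb, hab⟩ :=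
    exists_fibreDimAt_eq_add (g ≫ (𝔸(ULift.{u} (Fin N); S) ↘ S)) u₀
  obtain ⟨a', b', ha', hb', hab'⟩ :=
    exists_fibreDimAt_eq_add (𝔸(ULift.{u} (Fin N); S) ↘ S) (g u₀)
  rw [fibreDimAt_affineSpace, hcard] at hab'
  have h0 := rtd_eq_zero_of_locallyQuasiFinite g u₀
  have h4 := trdeg_comp g (𝔸(ULift.{u} (Fin N); S) ↘ S) u₀ a' 0 ha' h0
  rw [ha] at h4
  have haa' : a = a' := by
    have : a = a' + 0 := by exact_mod_cast h4
    omega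
  rw [hFD] at hab
  have hab1 : N = a + b := by exact_mod_cast hab
  have hab2 : N = a' + b' := by exact_mod_cast hab'
  have hbb' : b = b' := by omega
  -- the fibres
  have sqU : IsPullback ((g ≫ (𝔸(ULift.{u} (Fin N); S) ↘ S)).fiberι
        ((g ≫ (𝔸(ULift.{u} (Fin N); S) ↘ S)) u₀))
      ((g ≫ (𝔸(ULift.{u} (Fin N); S) ↘ S)).fiberToSpecResidueField
        ((g ≫ (𝔸(ULift.{u} (Fin N); S) ↘ S)) u₀))
      (g ≫ (𝔸(ULift.{u} (Fin N); S) ↘ S))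
      (S.fromSpecResidueField ((g ≫ (𝔸(ULift.{u} (Fin N); S) ↘ S)) u₀)) :=
    IsPullback.of_hasPullback _ _
  have sqV : IsPullback ((𝔸(ULift.{u} (Fin N); S) ↘ S).fiberι
        ((g ≫ (𝔸(ULift.{u} (Fin N); S) ↘ S)) u₀))
      ((𝔸(ULift.{u} (Fin N); S) ↘ S).fiberToSpecResidueField
        ((g ≫ (𝔸(ULift.{u} (Fin N); S) ↘ S)) u₀))
      (𝔸(ULift.{u} (Fin N); S) ↘ S)
      (S.fromSpecResidueField ((g ≫ (𝔸(ULift.{u} (Fin N); S) ↘ S)) u₀)) :=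
    IsPullback.of_hasPullback _ _
  obtain ⟨φ, hφ1, hφ2⟩ : ∃ φ : (g ≫ (𝔸(ULift.{u} (Fin N); S) ↘ S)).fiber
        ((g ≫ (𝔸(ULift.{u} (Fin N); S) ↘ S)) u₀) ⟶
      (𝔸(ULift.{u} (Fin N); S) ↘ S).fiber ((g ≫ (𝔸(ULift.{u} (Fin N); S) ↘ S)) u₀),
      φ ≫ (𝔸(ULift.{u} (Fin N); S) ↘ S).fiberι ((g ≫ (𝔸(ULift.{u} (Fin N); S) ↘ S)) u₀) =
        (g ≫ (𝔸(ULift.{u} (Fin N); S) ↘ S)).fiberι ((g ≫ (𝔸(ULift.{u} (Fin N); S) ↘ S)) u₀) ≫ g ∧
      φ ≫ (𝔸(ULift.{u} (Fin N); S) ↘ S).fiberToSpecResidueField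
          ((g ≫ (𝔸(ULift.{u} (Fin N); S) ↘ S)) u₀) =
        (g ≫ (𝔸(ULift.{u} (Fin N); S) ↘ S)).fiberToSpecResidueField
          ((g ≫ (𝔸(ULift.{u} (Fin N); S) ↘ S)) u₀) :=
    ⟨sqV.lift _ _ (by rw [Category.assoc]; exact sqU.w), sqV.lift_fst _ _ _, sqV.lift_snd _ _ _⟩
  have ht : (g ≫ (𝔸(ULift.{u} (Fin N); S) ↘ S)).fiberι ((g ≫ (𝔸(ULift.{u} (Fin N); S) ↘ S)) u₀)
      ((g ≫ (𝔸(ULift.{u} (Fin N); S) ↘ S)).asFiber u₀) = u₀ := Scheme.Hom.fiberι_asFiber _ _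
  have hφt : (𝔸(ULift.{u} (Fin N); S) ↘ S).fiberι ((g ≫ (𝔸(ULift.{u} (Fin N); S) ↘ S)) u₀)
      (φ ((g ≫ (𝔸(ULift.{u} (Fin N); S) ↘ S)).asFiber u₀)) = g u₀ := by
    rw [← Scheme.Hom.comp_apply, hφ1, Scheme.Hom.comp_apply, ht]
  -- `φ` is the base change of `g`
  have sqφ : IsPullback φ
      ((g ≫ (𝔸(ULift.{u} (Fin N); S) ↘ S)).fiberι ((g ≫ (𝔸(ULift.{u} (Fin N); S) ↘ S)) u₀))
      ((𝔸(ULift.{u} (Fin N); S) ↘ S).fiberι ((g ≫ (𝔸(ULift.{u} (Fin N); S) ↘ S)) u₀)) g :=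
    IsPullback.of_right (by rw [hφ2]; exact sqU.flip) hφ1 sqV.flip
  haveI : LocallyQuasiFinite φ :=
    MorphismProperty.of_isPullback (P := @LocallyQuasiFinite) sqφ.flip inferInstance
  haveI : LocallyOfFiniteType φ :=
    MorphismProperty.of_isPullback (P := @LocallyOfFiniteType) sqφ.flip inferInstance
  -- identify `φ t`
  have hφeq : φ ((g ≫ (𝔸(ULift.{u} (Fin N); S) ↘ S)).asFiber u₀) =
      (𝔸(ULift.{u} (Fin N); S) ↘ S).asFiber (g u₀) := by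
    apply ((𝔸(ULift.{u} (Fin N); S) ↘ S).fiberι
      ((g ≫ (𝔸(ULift.{u} (Fin N); S) ↘ S)) u₀)).isEmbedding.injective
    rw [hφt]
    exact (Scheme.Hom.fiberι_asFiber _ _).symm
  have hb'2 : ringKrullDim (((𝔸(ULift.{u} (Fin N); S) ↘ S).fiber
      ((g ≫ (𝔸(ULift.{u} (Fin N); S) ↘ S)) u₀)).presheaf.stalk
      (φ ((g ≫ (𝔸(ULift.{u} (Fin N); S) ↘ S)).asFiber u₀))) = b' := by
    rw [hφeq]
    exact hb'
  -- the fibre of `φ` has dimension zero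
  obtain ⟨a'', b'', ha'', hb'', hab''⟩ :=
    exists_fibreDimAt_eq_add φ ((g ≫ (𝔸(ULift.{u} (Fin N); S) ↘ S)).asFiber u₀)
  have hφ0 : FlatMor.fibreDimAt φ ((g ≫ (𝔸(ULift.{u} (Fin N); S) ↘ S)).asFiber u₀) = 0 :=
    (Groth.Agent.Lib.Helper14.AS.locallyQuasiFinite_iff_fibreDimAt_eq_zero φ).mp inferInstance _
  rw [hφ0] at hab''
  have hb''0 : b'' = 0 := by
    have : a'' + b'' = 0 := by exact_mod_cast hab''.symm
    omega
  -- miracle flatness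
  haveI : IsLocallyNoetherian ((𝔸(ULift.{u} (Fin N); S) ↘ S).fiber
      ((g ≫ (𝔸(ULift.{u} (Fin N); S) ↘ S)) u₀)) :=
    Groth.Agent.Lib.Helper23.CMMor.isLocallyNoetherian_fiber_of_lft _ _
  have hφflat : (φ.stalkMap ((g ≫ (𝔸(ULift.{u} (Fin N); S) ↘ S)).asFiber u₀)).hom.Flat := by
    apply Groth.Agent.Lib.Helper21.MirTFAE.flat_stalkMap_of_dim_formula φ _
      (isRegularLocalRing_stalk_fiber_affineSpace S N _ _) hCMU.2
    rw [hb, hb'', hb''0]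
    erw [hb'2]
    rw [hbb']
    simp
  have hflat0 : ((g ≫ (𝔸(ULift.{u} (Fin N); S) ↘ S)).stalkMap
      ((g ≫ (𝔸(ULift.{u} (Fin N); S) ↘ S)).fiberι ((g ≫ (𝔸(ULift.{u} (Fin N); S) ↘ S)) u₀)
        ((g ≫ (𝔸(ULift.{u} (Fin N); S) ↘ S)).asFiber u₀))).hom.Flat := by
    rw [ht]
    exact hCMU.1
  have key := (Groth.Agent.Lib.Helper14.AS.flat_of_fibre_flat_fp g (𝔸(ULift.{u} (Fin N); S) ↘ S)
    ((g ≫ (𝔸(ULift.{u} (Fin N); S) ↘ S)) u₀) _ _ _ _ sqU sqV φ hφ1 hφ2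
    ((g ≫ (𝔸(ULift.{u} (Fin N); S) ↘ S)).asFiber u₀) hflat0 hφflat).2
  rwa [ht] at key

end Groth.Agent.Lib.Helper6.CMChart
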