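import Mathlib
import Groth.Agent.Lib.Helper6.CMChart2

/-!
# Cohen–Macaulay morphisms and flat quasi-finite charts to affine space, III
-/

set_option autoImplicit false
set_option linter.style.haveILetI false
universe u
open AlgebraicGeometry CategoryTheory Limits TopologicalSpace

namespace Groth.Agent.Lib.Helper6.CMChart

open Groth.Agent.Lib.Helper6.QFac Groth.Agent.Lib.Helper21.FibDim Groth.Agent.Lib.Helper21.OpenAt
  Groth.Agent.Lib.Helper21.EquiSub Groth.Agent.Lib.Helper21.FourCond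

/-- the local fibre dimension of a morphism locally of finite type is a natural number -/
theorem exists_nat_fibreDimAt {X S : Scheme.{u}} (f : X ⟶ S) [LocallyOfFiniteType f] (x : X) :
    ∃ N : ℕ, FlatMor.fibreDimAt f x = (N : ℕ) := by
  obtain ⟨a, b, -, -, hab⟩ := exists_fibreDimAt_eq_add f x
  exact ⟨a + b, hab⟩

/-- a chart which is flat at a point shows that the morphism is Cohen–Macaulay there -/
theorem isCMAt_of_flat_chart {X S : Scheme.{u}} (f : X ⟶ S)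
    [LocallyOfFiniteType f] (N : ℕ) (U : X.Opens)
    (g : (U : Scheme.{u}) ⟶ 𝔸(ULift.{u} (Fin N); S)) [LocallyQuasiFinite g]
    (hg : g ≫ (𝔸(ULift.{u} (Fin N); S) ↘ S) = U.ι ≫ f) (u₀ : U)
    (hfl : (g.stalkMap u₀).hom.Flat) : MoreMor.IsCMAt f (U.ι u₀) := by
  haveI hlft : LocallyOfFiniteType (g ≫ (𝔸(ULift.{u} (Fin N); S) ↘ S)) := by
    rw [hg]; infer_instance
  haveI : LocallyOfFiniteType g :=
    locallyOfFiniteType_of_comp g (𝔸(ULift.{u} (Fin N); S) ↘ S)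
  have h1 : MoreMor.IsCMAt (g ≫ (𝔸(ULift.{u} (Fin N); S) ↘ S)) u₀ :=
    Groth.Agent.Lib.Helper23.CMMor.cmAt_comp g (𝔸(ULift.{u} (Fin N); S) ↘ S) u₀
      (Groth.Agent.Lib.Helper23.CMMor.isLocallyNoetherian_fiber_of_lft _ _)
      (isCMAt_of_locallyQuasiFinite g u₀ hfl) (isCMAt_affineSpace S N (g u₀))
  rw [hg] at h1
  exact (Groth.Agent.Lib.Helper23.CMMor.cmAt_of_comp U.ι f u₀
    (Groth.Agent.Lib.Helper23.CMMor.isLocallyNoetherian_fiber_of_lft _ _)
    (Groth.Agent.Lib.Helper23.CMMor.isLocallyNoetherian_fiber_of_lft _ _) h1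
    (flat_stalkMap_of_isOpenImmersion U.ι u₀)).2

/-- existence of a chart flat at a point where the morphism is Cohen–Macaulay -/
theorem exists_flat_chart_of_isCMAt {X S : Scheme.{u}} (f : X ⟶ S)
    [LocallyOfFinitePresentation f] (x : X) (hCM : MoreMor.IsCMAt f x) (N : ℕ)
    (hN : FlatMor.fibreDimAt f x = (N : ℕ)) :
    ∃ (U : X.Opens) (hx : x ∈ U) (g : (U : Scheme.{u}) ⟶ 𝔸(ULift.{u} (Fin N); S)),
      g ≫ (𝔸(ULift.{u} (Fin N); S) ↘ S) = U.ι ≫ f ∧ LocallyQuasiFinite g ∧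
        (g.stalkMap ⟨x, hx⟩).hom.Flat := by
  haveI : LocallyOfFiniteType f := inferInstance
  obtain ⟨U, g, hxU, -, -, hg, hlqf⟩ := exists_quasiFinite_affineSpace f x ⊤ trivial N hN.le
  haveI := hlqf
  exact ⟨U, hxU, g, hg, hlqf, flat_stalkMap_chart_of_isCMAt f N U g hg ⟨x, hxU⟩ hCM hN⟩

/-- existence of a flat quasi-finite chart near a point where the morphism is Cohen–Macaulay -/
theorem exists_flat_chart_nhd_of_isCMAt {X S : Scheme.{u}} (f : X ⟶ S)
    [LocallyOfFinitePresentation f] (x : X) (hCM : MoreMor.IsCMAt f x) (N : ℕ)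
    (hN : FlatMor.fibreDimAt f x = (N : ℕ)) :
    ∃ (U : X.Opens) (g : (U : Scheme.{u}) ⟶ 𝔸(ULift.{u} (Fin N); S)), x ∈ U ∧
      g ≫ (𝔸(ULift.{u} (Fin N); S) ↘ S) = U.ι ≫ f ∧ Flat g ∧ LocallyQuasiFinite g := by
  obtain ⟨U, hxU, g, hg, hlqf, hfl⟩ := exists_flat_chart_of_isCMAt f x hCM N hN
  haveI := hlqf
  haveI hlfp : LocallyOfFinitePresentation (g ≫ (𝔸(ULift.{u} (Fin N); S) ↘ S)) := by
    rw [hg]; infer_instance
  haveI : LocallyOfFinitePresentation g :=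
    Groth.Agent.Lib.Helper14.AS.locallyOfFinitePresentation_of_comp g
      (𝔸(ULift.{u} (Fin N); S) ↘ S) hlfp inferInstance
  let W₀ : (U : Scheme.{u}).Opens :=
    ⟨{u | (g.stalkMap u).hom.Flat}, Groth.Agent.Lib.Helper18.Fl.isOpen_flatLocus_scheme g⟩
  haveI : Flat (W₀.ι ≫ g) := by
    rw [Flat.iff_flat_stalkMap]
    intro w
    exact (Groth.Agent.Lib.Helper14.AS.flat_stalkMap_comp_openImm_left W₀.ι g _ rfl w).mpr w.2
  refine ⟨U.ι ''ᵁ W₀, (U.ι.isoImage W₀).inv ≫ W₀.ι ≫ g, ⟨⟨x, hxU⟩, hfl, rfl⟩, ?_, ?_, ?_⟩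
  · rw [Category.assoc, Category.assoc, hg, ← Category.assoc W₀.ι, ← Scheme.Hom.isoImage_hom_ι,
      Category.assoc, Iso.inv_hom_id_assoc]
  · infer_instance
  · infer_instance

end Groth.Agent.Lib.Helper6.CMChart
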