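import Mathlib
import Groth.Agent.Lib.Helper13.QuasiFiniteBaseChange

/-!
# Points of finite fibres are quasi-finite points
-/

set_option autoImplicit false
universe u

open CategoryTheory Limits AlgebraicGeometry

namespace Groth.Agent.Lib.Helper6.EtLoc

set_option backward.isDefEq.respectTransparency.types false in
theorem locallyOfFiniteType_fiberToSpecResidueField {X Y : Scheme.{u}} (f : X ⟶ Y)
    [LocallyOfFiniteType f] (y : Y) : LocallyOfFiniteType (f.fiberToSpecResidueField y) :=
  MorphismProperty.pullback_snd _ _ inferInstance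

/-- Every point of a finite fibre of a morphism locally of finite type is a quasi-finite point. -/
theorem quasiFiniteAt_of_finite_fiber {X Y : Scheme.{u}} (f : X ⟶ Y) [LocallyOfFiniteType f]
    (y : Y) (hfin : (f ⁻¹' {y}).Finite) (x : X) (hx : f x = y) : f.QuasiFiniteAt x := by
  haveI : Finite ↥(f ⁻¹' {y}) := hfin.to_subtype
  haveI : Finite ↑(f.fiber y) := Finite.of_equiv _ (f.fiberHomeo y).symm.toEquiv
  haveI := locallyOfFiniteType_fiberToSpecResidueField f y
  have hlqf : LocallyQuasiFinite (f.fiberToSpecResidueField y) :=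
    LocallyQuasiFinite.of_finite_preimage_singleton _ fun _ => Set.toFinite _
  obtain ⟨w, hw⟩ : x ∈ Set.range (f.fiberι y) := by
    rw [f.range_fiberι]; exact hx
  have h1 : (f.fiberToSpecResidueField y).QuasiFiniteAt w := Scheme.Hom.quasiFiniteAt _ w
  have h2 := Groth.Agent.Lib.Helper13.quasiFiniteAt_of_isPullback
    (IsPullback.of_hasPullback f (Y.fromSpecResidueField y)) w h1
  rw [← hw]
  exact h2

end Groth.Agent.Lib.Helper6.EtLoc
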