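import Mathlib

set_option autoImplicit false
universe u

open CategoryTheory AlgebraicGeometry TopologicalSpace

namespace Groth.Agent.Lib.Helper6.GlueUnique

variable {Z T X : Scheme.{u}} (g : Z ⟶ X) (ν : T ⟶ X)

/-- The open cover of a scheme by the members of a basis of opens. -/
@[simps I₀ X f]
noncomputable def basisCover (B : Set Z.Opens) (hB : Opens.IsBasis B) : Z.OpenCover where
  I₀ := B
  X V := V.1
  f V := V.1.ι
  mem₀ := by
    rw [Scheme.presieve₀_mem_precoverage_iff]
    refine ⟨fun z ↦ ?_, inferInstance⟩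
    obtain ⟨V, hV, hz, -⟩ := Opens.isBasis_iff_nbhd.mp hB (U := ⊤) (x := z) trivial
    exact ⟨⟨V, hV⟩, by simpa using hz⟩

instance (B : Set Z.Opens) (hB : Opens.IsBasis B) : Preorder (basisCover B hB).I₀ :=
  inferInstanceAs (Preorder B)

set_option backward.isDefEq.respectTransparency.types false in
set_option backward.defeqAttrib.useBackward true in
noncomputable instance (B : Set Z.Opens) (hB : Opens.IsBasis B) :
    Scheme.Cover.LocallyDirected (basisCover B hB) :=
  .ofIsBasisOpensRange (by intros; simp; rfl) <| by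
    convert! hB
    ext V
    simp

/-- If lifts of `g` along `ν` exist uniquely on a locally directed open cover of `Z`, they exist
uniquely globally. -/
theorem existsUnique_lift_of_cover (𝒰 : Z.OpenCover) [Category 𝒰.I₀] [𝒰.LocallyDirected]
    (H : ∀ i : 𝒰.I₀, ∃! h : 𝒰.X i ⟶ T, h ≫ ν = 𝒰.f i ≫ g) :
    ∃! h : Z ⟶ T, h ≫ ν = g := by
  choose hV hV1 hV2 using H
  have hcompat : ∀ {i j : 𝒰.I₀} (hij : i ⟶ j), 𝒰.trans hij ≫ hV j = hV i := by
    intro i j hij
    apply hV2 i
    have h1 := hV1 j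
    have h2 : 𝒰.trans hij ≫ 𝒰.f j = 𝒰.f i := 𝒰.trans_map hij
    dsimp only at h1 ⊢
    rw [Category.assoc, h1, ← Category.assoc, h2]
  refine ⟨𝒰.glueMorphismsOfLocallyDirected hV hcompat, ?_, ?_⟩
  · apply 𝒰.hom_ext
    intro i
    rw [← Category.assoc, Scheme.OpenCover.map_glueMorphismsOfLocallyDirected]
    exact hV1 i
  · intro h' hh'
    apply 𝒰.hom_ext
    intro i
    rw [Scheme.OpenCover.map_glueMorphismsOfLocallyDirected]
    apply hV2 i
    rw [Category.assoc, hh']

/-- If lifts of `g` along `ν` exist uniquely on a basis of opens of `Z`, they exist uniquely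
globally. -/
theorem existsUnique_lift_of_basis (B : Set Z.Opens) (hB : Opens.IsBasis B)
    (H : ∀ V ∈ B, ∃! h : V.toScheme ⟶ T, h ≫ ν = V.ι ≫ g) :
    ∃! h : Z ⟶ T, h ≫ ν = g :=
  existsUnique_lift_of_cover g ν (basisCover B hB) (fun i => H i.1 i.2)

end Groth.Agent.Lib.Helper6.GlueUnique
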