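import Mathlib

set_option autoImplicit false
set_option linter.style.haveILetI false
set_option linter.unusedSectionVars false
universe u v

namespace Groth.Agent.Lib.Helper6.NormUniv

section Ring

variable {A K C : Type u} [CommRing A] [IsDomain A] [CommRing K] [Algebra A K] [IsFractionRing A K]
  [CommRing C] (ρ : A →+* C)
  {ι : Type v} (D : ι → Type u) [∀ i, CommRing (D i)] [∀ i, IsDomain (D i)]
  [∀ i, IsIntegrallyClosed (D i)] (lam : ∀ i, C →+* D i)

include D lam in
omit [∀ i, IsIntegrallyClosed (D i)] in
theorem eq_zero_of_mul_eq_zero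
    (hinj : ∀ i, Function.Injective ((lam i).comp ρ))
    (hdvd : ∀ c d : C, (∀ i, lam i d ∣ lam i c) → d ∣ c)
    {s : A} (hs : s ≠ 0) {c : C} (h : ρ s * c = 0) : c = 0 := by
  have h0 : (0 : C) ∣ c := by
    apply hdvd
    intro i
    have h1 : lam i (ρ s) * lam i c = 0 := by rw [← map_mul, h, map_zero]
    have h2 : lam i (ρ s) ≠ 0 := by
      intro h3
      apply hs
      apply hinj i
      rw [map_zero]
      exact h3
    rcases mul_eq_zero.mp h1 with h3 | h3
    · exact absurd h3 h2
    · rw [h3, map_zero]
  exact zero_dvd_iff.mp h0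

include D lam in
theorem dvd_of_isIntegral
    (hinj : ∀ i, Function.Injective ((lam i).comp ρ))
    (hdvd : ∀ c d : C, (∀ i, lam i d ∣ lam i c) → d ∣ c)
    {a s : A} {x : K} (hx : IsIntegral A x)
    (hxa : algebraMap A K s * x = algebraMap A K a) : ρ s ∣ ρ a := by
  apply hdvd
  intro i
  let F := FractionRing (D i)
  let θ : A →+* F := (algebraMap (D i) F).comp ((lam i).comp ρ)
  have hθ : Function.Injective θ := (IsFractionRing.injective (D i) F).comp (hinj i)
  have hunit : ∀ y : nonZeroDivisors A, IsUnit (θ y) := by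
    intro y
    apply IsUnit.mk0
    intro h0
    exact nonZeroDivisors.ne_zero y.2 (hθ (by rw [h0, map_zero]))
  let κ : K →+* F := IsLocalization.lift (M := nonZeroDivisors A) (S := K) hunit
  have hκ : ∀ a : A, κ (algebraMap A K a) = θ a := fun a => IsLocalization.lift_eq hunit a
  have hint : IsIntegral (D i) (κ x) := by
    refine IsIntegral.map_of_comp_eq ((lam i).comp ρ) κ ?_ hx
    ext a
    simp only [RingHom.comp_apply]
    rw [hκ]
    rfl
  obtain ⟨d, hd⟩ := IsIntegrallyClosed.isIntegral_iff.mp hint
  refine ⟨d, ?_⟩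
  apply IsFractionRing.injective (D i) F
  rw [map_mul, hd]
  have := congrArg κ hxa
  rw [map_mul, hκ, hκ] at this
  exact this.symm

include D lam in
/-- Universal property of the integral closure `A'` of a domain `A` in its fraction field with
respect to "normal" `A`-algebras `C` into which `A` injects locally. -/
theorem existsUnique_lift
    (hinj : ∀ i, Function.Injective ((lam i).comp ρ))
    (hdvd : ∀ c d : C, (∀ i, lam i d ∣ lam i c) → d ∣ c) :
    ∃! ρ' : integralClosure A K →+* C, ρ'.comp (algebraMap A (integralClosure A K)) = ρ := by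
  have hreg : ∀ {s : A}, s ≠ 0 → ∀ {c : C}, ρ s * c = 0 → c = 0 :=
    fun hs _ h => eq_zero_of_mul_eq_zero ρ D lam hinj hdvd hs h
  -- the localisation of `C` at the image of the nonzero elements of `A`
  let M : Submonoid C := Submonoid.map ρ (nonZeroDivisors A)
  have hM : M ≤ nonZeroDivisors C := by
    rintro _ ⟨s, hs, rfl⟩
    rw [mem_nonZeroDivisors_iff_right]
    intro c hc
    rw [mul_comm] at hc
    exact hreg (nonZeroDivisors.ne_zero hs) hc
  let CS := Localization M
  have hj : Function.Injective (algebraMap C CS) := IsLocalization.injective CS hM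
  have hunit : ∀ y : nonZeroDivisors A, IsUnit (((algebraMap C CS).comp ρ) y) := by
    intro y
    exact IsLocalization.map_units CS (⟨ρ y, ⟨y, y.2, rfl⟩⟩ : M)
  let κ : K →+* CS := IsLocalization.lift (M := nonZeroDivisors A) (S := K) hunit
  have hκ : ∀ a : A, κ (algebraMap A K a) = algebraMap C CS (ρ a) :=
    fun a => IsLocalization.lift_eq hunit a
  have hrange : ∀ x : integralClosure A K, κ (x : K) ∈ (algebraMap C CS).range := by
    intro x
    obtain ⟨⟨a, s⟩, hs⟩ := IsLocalization.surj (nonZeroDivisors A) (x : K)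
    have hxa : algebraMap A K (s : A) * (x : K) = algebraMap A K a := by
      rw [mul_comm]; exact hs
    obtain ⟨c, hc⟩ := dvd_of_isIntegral ρ D lam hinj hdvd x.2 hxa
    refine ⟨c, ?_⟩
    have h1 := congrArg κ hxa
    rw [map_mul, hκ, hκ, hc, map_mul] at h1
    have hu : IsUnit (algebraMap C CS (ρ (s : A))) := hunit s
    exact (hu.mul_left_cancel h1).symm
  let j' : C ≃+* (algebraMap C CS).range := RingEquiv.ofBijective (algebraMap C CS).rangeRestrict
    ⟨fun a b hab => hj (congrArg Subtype.val hab), (algebraMap C CS).rangeRestrict_surjective⟩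
  let κ' : integralClosure A K →+* (algebraMap C CS).range :=
    (κ.comp (integralClosure A K).val.toRingHom).codRestrict _ hrange
  have hκ' : ∀ x : integralClosure A K, algebraMap C CS (j'.symm (κ' x)) = κ (x : K) := by
    intro x
    have : (j' (j'.symm (κ' x)) : CS) = κ' x := by rw [RingEquiv.apply_symm_apply]
    exact this
  refine ⟨(j'.symm : _ →+* C).comp κ', ?_, ?_⟩
  · ext a
    apply hj
    simp only [RingHom.comp_apply]
    erw [hκ']
    exact hκ a
  · intro ρ'' hρ''
    ext x
    obtain ⟨⟨a, s⟩, hs⟩ := IsLocalization.surj (nonZeroDivisors A) (x : K)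
    have hsx : algebraMap A (integralClosure A K) (s : A) * x =
        algebraMap A (integralClosure A K) a := by
      apply Subtype.ext
      rw [mul_comm]
      exact hs
    have e1 : ρ (s : A) * ρ'' x = ρ a := by
      have := congrArg ρ'' hsx
      rw [map_mul] at this
      rw [← RingHom.congr_fun hρ'' (s : A), ← RingHom.congr_fun hρ'' a]
      exact this
    have e2 : ρ (s : A) * ((j'.symm : _ →+* C).comp κ') x = ρ a := by
      apply hj
      rw [map_mul]
      simp only [RingHom.comp_apply]
      erw [hκ']
      rw [← hκ, ← hκ, ← map_mul]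
      congr 1
      rw [mul_comm]; exact hs
    have e3 : ρ (s : A) * (ρ'' x - ((j'.symm : _ →+* C).comp κ') x) = 0 := by
      rw [mul_sub, e1, e2, sub_self]
    exact sub_eq_zero.mp (hreg (nonZeroDivisors.ne_zero s.2) e3)

end Ring

end Groth.Agent.Lib.Helper6.NormUniv
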