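import Mathlib

set_option autoImplicit false
set_option linter.style.haveILetI false
universe u

open CategoryTheory AlgebraicGeometry TopologicalSpace

namespace Groth.Agent.Lib.Helper6.NormUniv

variable {Y' X Z : Scheme.{u}} (f : Y' ⟶ X) [QuasiCompact f] [QuasiSeparated f] (g : Z ⟶ X)

set_option backward.isDefEq.respectTransparency false in
theorem existsUnique_lift_chart (U : X.affineOpens) (V : Z.Opens) (hV : IsAffineOpen V)
    (hVU : V ≤ g ⁻¹ᵁ U.1)
    (H : letI := (f.app U.1).hom.toAlgebra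
      ∃! φ : integralClosure Γ(X, U.1) Γ(Y', f ⁻¹ᵁ U.1) →+* Γ(Z, V),
        φ.comp (algebraMap Γ(X, U.1) (integralClosure Γ(X, U.1) Γ(Y', f ⁻¹ᵁ U.1))) =
          (g.appLE U.1 V hVU).hom) :
    ∃! h : V.toScheme ⟶ f.normalization, h ≫ f.fromNormalization = V.ι ≫ g := by
  letI := (f.app U.1).hom.toAlgebra
  obtain ⟨φ, hφ, hφu⟩ := H
  have halg : (f.normalizationDiagramMap.app (.op U.1)).hom =
      algebraMap Γ(X, U.1) (integralClosure Γ(X, U.1) Γ(Y', f ⁻¹ᵁ U.1)) := rfl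
  have key : ∀ ψ : integralClosure Γ(X, U.1) Γ(Y', f ⁻¹ᵁ U.1) →+* Γ(Z, V),
      (V.toSpecΓ ≫ Spec.map (CommRingCat.ofHom ψ) ≫ f.normalizationOpenCover.f U) ≫
        f.fromNormalization = V.ι ≫ g ↔
      ψ.comp (algebraMap Γ(X, U.1) (integralClosure Γ(X, U.1) Γ(Y', f ⁻¹ᵁ U.1))) =
          (g.appLE U.1 V hVU).hom := by
    intro ψ
    rw [Category.assoc, Category.assoc, Scheme.Hom.ι_fromNormalization, ← Spec.map_comp_assoc]
    have e1 : V.ι ≫ g = V.toSpecΓ ≫ Spec.map (g.appLE U.1 V hVU) ≫ U.2.fromSpec := by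
      rw [Scheme.Opens.toSpecΓ_SpecMap_appLE_assoc, IsAffineOpen.toSpecΓ_fromSpec,
        Scheme.Hom.resLE_comp_ι]
    rw [e1]
    haveI : IsIso V.toSpecΓ := by rw [← hV.isoSpec_hom]; infer_instance
    rw [cancel_epi, cancel_mono, Spec.map_inj]
    constructor
    · intro h
      have := congrArg CommRingCat.Hom.hom h
      exact this
    · intro h
      ext x
      exact RingHom.congr_fun h x
  refine ⟨V.toSpecΓ ≫ Spec.map (CommRingCat.ofHom φ) ≫ f.normalizationOpenCover.f U,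
    (key φ).mpr hφ, ?_⟩
  intro h₁ hh₁
  -- factor `h₁` through the chart
  have hrange : Set.range h₁ ⊆ Set.range (f.normalizationOpenCover.f U) := by
    rintro _ ⟨p, rfl⟩
    have h1 : f.fromNormalization (h₁ p) ∈ U.1 := by
      rw [← Scheme.Hom.comp_apply, hh₁, Scheme.Hom.comp_apply]
      exact hVU p.2
    have h2 : h₁ p ∈ f.fromNormalization ⁻¹ᵁ U.1 := h1
    rw [f.fromNormalization_preimage U] at h2
    exact h2
  let h₁' := IsOpenImmersion.lift (f.normalizationOpenCover.f U) h₁ hrange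
  have hh₁' : h₁' ≫ f.normalizationOpenCover.f U = h₁ := IsOpenImmersion.lift_fac _ _ _
  haveI : IsIso V.toSpecΓ := by rw [← hV.isoSpec_hom]; infer_instance
  let ψc := Spec.preimage (inv V.toSpecΓ ≫ h₁')
  have hψc : V.toSpecΓ ≫ Spec.map ψc = h₁' := by
    rw [Spec.map_preimage, IsIso.hom_inv_id_assoc]
  have h₁eq : h₁ = V.toSpecΓ ≫ Spec.map (CommRingCat.ofHom ψc.hom) ≫
      f.normalizationOpenCover.f U := by
    rw [← hh₁', ← hψc, Category.assoc]
    rfl
  have hψ := (key ψc.hom).mp (by rw [← h₁eq]; exact hh₁)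
  have := hφu ψc.hom hψ
  rw [h₁eq, this]

end Groth.Agent.Lib.Helper6.NormUniv
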