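import Groth.Agent.Lib.Helper12.UnivHomeo

set_option autoImplicit false
universe u

open CategoryTheory AlgebraicGeometry Limits

namespace Groth.Agent.Lib.Helper6.UnivHomeoRing

/-- Ring-level criterion for universal injectivity of `Spec.map φ`: field-valued points are
determined by their restriction along `φ`. -/
theorem universallyInjective_SpecMap_iff {A B : CommRingCat.{u}} (φ : A ⟶ B) :
    UniversallyInjective (Spec.map φ) ↔
      ∀ (K : Type u) [Field K] (σ τ : B →+* K), σ.comp φ.hom = τ.comp φ.hom → σ = τ := by
  have h := (tfae_universallyInjective (f := Spec.map φ)).out 0 1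
  rw [h]
  constructor
  · intro H K _ σ τ hστ
    have h1 : Spec.map (CommRingCat.ofHom σ) ≫ Spec.map φ =
        Spec.map (CommRingCat.ofHom τ) ≫ Spec.map φ := by
      rw [← Spec.map_comp, ← Spec.map_comp]
      congr 1
      ext x
      exact congrArg (fun k => k x) hστ
    have h2 := Spec.map_injective (H K h1)
    have h3 := congrArg (fun k => k.hom) h2
    exact h3
  · intro H K _ g₁ g₂ hg
    obtain ⟨ψ₁, rfl⟩ := Spec.map_surjective g₁
    obtain ⟨ψ₂, rfl⟩ := Spec.map_surjective g₂
    have hg' : Spec.map ψ₁ ≫ Spec.map φ = Spec.map ψ₂ ≫ Spec.map φ := hg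
    rw [← Spec.map_comp, ← Spec.map_comp] at hg'
    have h2 := Spec.map_injective hg'
    have h3 : ψ₁.hom.comp φ.hom = ψ₂.hom.comp φ.hom := by
      have := congrArg (fun k => k.hom) h2
      exact this
    have := H K ψ₁.hom ψ₂.hom h3
    congr 1
    exact CommRingCat.hom_ext this

end Groth.Agent.Lib.Helper6.UnivHomeoRing

namespace Groth.Agent.Lib.Helper6.UnivHomeoRing

theorem universallyInjective_of_comp_of_surjective {X Y Z : Scheme.{u}} (h : X ⟶ Y) (g : Y ⟶ Z)
    [UniversallyInjective (h ≫ g)] [Surjective h] : UniversallyInjective g := by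
  rw [universallyInjective_eq]
  intro Y' Z' i₁ i₂ g' H
  have hpb : IsPullback (pullback.snd h i₁ ≫ g') (pullback.fst h i₁) i₂ (h ≫ g) :=
    (IsPullback.of_hasPullback h i₁).flip.paste_horiz H
  have hinj : Function.Injective (pullback.snd h i₁ ≫ g') :=
    (UniversallyInjective.universally_injective (f := h ≫ g)) _ _ _ hpb
  intro y₁ y₂ hy
  obtain ⟨x₁, rfl⟩ := (pullback.snd h i₁).surjective y₁
  obtain ⟨x₂, rfl⟩ := (pullback.snd h i₁).surjective y₂
  have : (pullback.snd h i₁ ≫ g') x₁ = (pullback.snd h i₁ ≫ g') x₂ := hy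
  rw [hinj this]

end Groth.Agent.Lib.Helper6.UnivHomeoRing

namespace Groth.Agent.Lib.Helper6.UnivHomeoRing

theorem residueFieldMap_surjective_of_comp {X Y Z : Scheme.{u}} (h : X ⟶ Y) (g : Y ⟶ Z)
    [Surjective h] (H : ∀ x : X, Function.Surjective ((h ≫ g).residueFieldMap x)) (y : Y) :
    Function.Surjective (g.residueFieldMap y) := by
  obtain ⟨x, rfl⟩ := h.surjective y
  intro z
  obtain ⟨t, ht⟩ := H x (h.residueFieldMap x z)
  rw [Scheme.residueFieldMap_comp] at ht
  refine ⟨t, ?_⟩
  have hinj : Function.Injective (h.residueFieldMap x) := (h.residueFieldMap x).hom.injective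
  exact hinj ht

theorem universallyClosed_SpecMap_iff {A B : CommRingCat.{u}} (φ : A ⟶ B) :
    UniversallyClosed (Spec.map φ) ↔ φ.hom.IsIntegral := by
  rw [← IsIntegralHom.SpecMap_iff, IsIntegralHom.iff_universallyClosed_and_isAffineHom]
  exact ⟨fun h => ⟨h, inferInstance⟩, fun h => h.1⟩

section Subalgebra

variable {A B : Type u} [CommRing A] [CommRing B] [Algebra A B] (B' : Subalgebra A B)

theorem SpecMap_subalgebra_comp :
    Spec.map (CommRingCat.ofHom (algebraMap B' B)) ≫ Spec.map (CommRingCat.ofHom (algebraMap A B')) =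
      Spec.map (CommRingCat.ofHom (algebraMap A B)) := by
  rw [← Spec.map_comp]
  rfl

theorem isIntegral_subalgebra (h : (algebraMap A B).IsIntegral) :
    (algebraMap A B').IsIntegral := by
  intro b'
  have h1 : IsIntegral A (b' : B) := h b'
  exact (isIntegral_algHom_iff B'.val Subtype.val_injective).mp h1

theorem isIntegral_subalgebra_val (h : (algebraMap A B).IsIntegral) :
    (algebraMap B' B).IsIntegral := by
  intro b
  have h1 : IsIntegral A b := h b
  exact h1.tower_top

theorem surjective_SpecMap_subalgebra_val (h : (algebraMap A B).IsIntegral) :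
    Surjective (Spec.map (CommRingCat.ofHom (algebraMap B' B))) := by
  refine ⟨?_⟩
  exact (isIntegral_subalgebra_val B' h).comap_surjective Subtype.val_injective

end Subalgebra

end Groth.Agent.Lib.Helper6.UnivHomeoRing

namespace Groth.Agent.Lib.Helper6.UnivHomeoRing

section Subalgebra

variable {A B : Type u} [CommRing A] [CommRing B] [Algebra A B] (B' : Subalgebra A B)

theorem universallyClosed_subalgebra
    (h : UniversallyClosed (Spec.map (CommRingCat.ofHom (algebraMap A B)))) :
    UniversallyClosed (Spec.map (CommRingCat.ofHom (algebraMap A B'))) := by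
  rw [universallyClosed_SpecMap_iff] at h ⊢
  exact isIntegral_subalgebra B' h

theorem universallyInjective_subalgebra
    (h : UniversallyClosed (Spec.map (CommRingCat.ofHom (algebraMap A B))))
    (h' : UniversallyInjective (Spec.map (CommRingCat.ofHom (algebraMap A B)))) :
    UniversallyInjective (Spec.map (CommRingCat.ofHom (algebraMap A B'))) := by
  rw [universallyClosed_SpecMap_iff] at h
  have hs := surjective_SpecMap_subalgebra_val B' h
  have : UniversallyInjective (Spec.map (CommRingCat.ofHom (algebraMap B' B)) ≫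
      Spec.map (CommRingCat.ofHom (algebraMap A B'))) := by
    rw [SpecMap_subalgebra_comp]; exact h'
  exact universallyInjective_of_comp_of_surjective
    (Spec.map (CommRingCat.ofHom (algebraMap B' B))) _

theorem isUnivHomeo_subalgebra
    (h : FlatMor.IsUnivHomeo (Spec.map (CommRingCat.ofHom (algebraMap A B)))) :
    FlatMor.IsUnivHomeo (Spec.map (CommRingCat.ofHom (algebraMap A B'))) := by
  rw [Groth.Agent.Lib.Helper12.isUnivHomeo_iff] at h ⊢
  obtain ⟨h1, h2, h3⟩ := h
  have huc : UniversallyClosed (Spec.map (CommRingCat.ofHom (algebraMap A B))) := inferInstance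
  refine ⟨?_, universallyInjective_subalgebra B' huc h2, ?_⟩
  · rw [IsIntegralHom.iff_universallyClosed_and_isAffineHom]
    exact ⟨universallyClosed_subalgebra B' huc, inferInstance⟩
  · refine ⟨fun a => ?_⟩
    obtain ⟨b, hb⟩ := h3.surj a
    rw [← SpecMap_subalgebra_comp B'] at hb
    exact ⟨_, hb⟩

theorem residueFieldMap_surjective_subalgebra
    (h : UniversallyClosed (Spec.map (CommRingCat.ofHom (algebraMap A B))))
    (H : ∀ x : Spec (CommRingCat.of B), Function.Surjective
      ((Spec.map (CommRingCat.ofHom (algebraMap A B))).residueFieldMap x))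
    (x : Spec (CommRingCat.of B')) : Function.Surjective
      ((Spec.map (CommRingCat.ofHom (algebraMap A B'))).residueFieldMap x) := by
  rw [universallyClosed_SpecMap_iff] at h
  have hs := surjective_SpecMap_subalgebra_val B' h
  rw [← SpecMap_subalgebra_comp B'] at H
  exact residueFieldMap_surjective_of_comp _ _ H x

end Subalgebra

end Groth.Agent.Lib.Helper6.UnivHomeoRing
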