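import Mathlib
import Groth.Agent.Lib.Helper6.GeomUnibranch4
import Groth.Agent.Lib.Helper6.UnivHomeoRing
import Groth.Agent.Lib.Helper12.UnivHomeo

/-!
# Normalization of an integral scheme with geometrically unibranch local rings

Scheme-level consequences of the ring-level theory in `GeomUnibranch1`–`4`:
* `universallyInjective_fromNormalization`: a relative normalization `f.fromNormalization` is
  universally injective as soon as on every affine open the integral closure is radicial.
* `radicial_of_stalks`: on an integral scheme with geometrically unibranch stalks the integral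
  closure of an affine coordinate ring in the function field is radicial over it.
* `radicial_of_pow_mem`: transfer along a purely inseparable extension.
* `isUnivHomeo_fromNormalization_genHom`: the normalization of such a scheme in a purely
  inseparable extension of its function field is a universal homeomorphism.
-/

set_option autoImplicit false
set_option linter.style.haveILetI false
universe u

open CategoryTheory AlgebraicGeometry

namespace Groth.Agent.Lib.Helper6.GU

section General

variable {X Y : Scheme.{u}} (f : X ⟶ Y) [QuasiCompact f] [QuasiSeparated f]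

set_option backward.isDefEq.respectTransparency false in
theorem universallyInjective_fromNormalization
    (H : ∀ U : Y.affineOpens, letI := (f.app U.1).hom.toAlgebra;
      Radicial (algebraMap Γ(Y, U.1) (integralClosure Γ(Y, U.1) Γ(X, f ⁻¹ᵁ U.1)))) :
    UniversallyInjective f.fromNormalization := by
  rw [IsZariskiLocalAtTarget.iff_of_iSup_eq_top (P := @UniversallyInjective) _
    (iSup_affineOpens_eq_top _)]
  intro U
  let e := IsOpenImmersion.isoOfRangeEq (f.fromNormalization ⁻¹ᵁ U).ι (f.normalizationOpenCover.f U)
      (by simpa using congr($(f.fromNormalization_preimage U).1))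
  rw [← MorphismProperty.cancel_left_of_respectsIso @UniversallyInjective e.inv,
    ← MorphismProperty.cancel_right_of_respectsIso @UniversallyInjective _ U.2.isoSpec.hom]
  have : UniversallyInjective (Spec.map (f.normalizationDiagramMap.app (.op U))) := by
    rw [Groth.Agent.Lib.Helper6.UnivHomeoRing.universallyInjective_SpecMap_iff]
    intro Ω _ σ τ hστ
    let := (f.app U).hom.toAlgebra
    exact H U Ω σ τ hστ
  convert! this
  rw [← cancel_mono U.2.fromSpec]
  simp [IsAffineOpen.isoSpec_hom, e, Scheme.Hom.ι_fromNormalization]

/-- The relative normalization of a dominant morphism is a universal homeomorphism onto the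
target as soon as the integral closures on affine opens are radicial. -/
theorem isUnivHomeo_fromNormalization [IsDominant f]
    (H : ∀ U : Y.affineOpens, letI := (f.app U.1).hom.toAlgebra;
      Radicial (algebraMap Γ(Y, U.1) (integralClosure Γ(Y, U.1) Γ(X, f ⁻¹ᵁ U.1)))) :
    FlatMor.IsUnivHomeo f.fromNormalization := by
  rw [Groth.Agent.Lib.Helper12.isUnivHomeo_iff]
  refine ⟨inferInstance, universallyInjective_fromNormalization f H, ?_⟩
  haveI : IsDominant (f.toNormalization ≫ f.fromNormalization) := by
    rw [Scheme.Hom.toNormalization_fromNormalization]; infer_instance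
  haveI : IsDominant f.fromNormalization := IsDominant.of_comp f.toNormalization f.fromNormalization
  infer_instance

end General

/-- On an integral scheme with geometrically unibranch local rings, for every nonempty affine open
the integral closure of the coordinate ring in the function field is radicial over it. -/
theorem radicial_of_stalks (Y : Scheme.{u}) [IsIntegral Y]
    (hY : ∀ y : Y, CAlg2.IsGeomUnibranch (Y.presheaf.stalk y))
    (U : Y.Opens) (hU : IsAffineOpen U) [Nonempty U] :
    Radicial (algebraMap Γ(Y, U) (integralClosure Γ(Y, U) Y.functionField)) := by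
  haveI := functionField_isFractionRing_of_isAffineOpen Y U hU
  haveI : IsDomain Γ(Y, U) := inferInstance
  intro Ω _ σ τ hστ
  set 𝔭 : Ideal Γ(Y, U) :=
    RingHom.ker (σ.comp (algebraMap Γ(Y, U) (integralClosure Γ(Y, U) Y.functionField))) with h𝔭
  haveI h𝔭p : 𝔭.IsPrime := RingHom.ker_isPrime _
  let y : PrimeSpectrum Γ(Y, U) := ⟨𝔭, h𝔭p⟩
  have hy : hU.fromSpec y ∈ U := (hU.isoSpec.inv _).2
  letI : Algebra Γ(Y, U) (Y.presheaf.stalk (hU.fromSpec y)) :=
    TopCat.Presheaf.algebra_section_stalk Y.presheaf ⟨hU.fromSpec y, hy⟩
  haveI : IsLocalization.AtPrime (Y.presheaf.stalk (hU.fromSpec y)) 𝔭 :=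
    hU.isLocalization_stalk' y hy
  haveI : IsScalarTower Γ(Y, U) (Y.presheaf.stalk (hU.fromSpec y)) Y.functionField :=
    functionField_isScalarTower Y U ⟨hU.fromSpec y, hy⟩
  exact hom_eq_of_gu' (O := Y.presheaf.stalk (hU.fromSpec y)) 𝔭
    (gu'_of_isGeomUnibranch _ _ (hY _)) σ τ hστ rfl

theorem radicial_of_subsingleton {A B : Type u} [CommRing A] [CommRing B] [Algebra A B]
    [Subsingleton B] : Radicial (algebraMap A (integralClosure A B)) := by
  intro Ω _ σ τ _
  exfalso
  have h01 : (1 : integralClosure A B) = 0 := Subtype.ext (Subsingleton.elim _ _)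
  have := congrArg σ h01
  rw [map_one, map_zero] at this
  exact one_ne_zero this

/-- Transfer of radiciality of the integral closure along a "purely inseparable" ring extension
`K → B`: if every element of `B` has a `q^n`-th power coming from `K`, then the integral closure
of `A` in `B` is radicial over `A` as soon as the integral closure of `A` in `K` is. -/
theorem radicial_of_pow_mem {A K B : Type u} [CommRing A] [Field K] [CommRing B]
    [Algebra A K] [Algebra A B] (ψ : K →+* B) (hψ : ψ.comp (algebraMap A K) = algebraMap A B)
    (q : ℕ) (hq : q = 1 ∨ (q.Prime ∧ (q : A) = 0))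
    (hpow : ∀ b : B, ∃ n : ℕ, b ^ q ^ n ∈ ψ.range)
    (h : Radicial (algebraMap A (integralClosure A K))) :
    Radicial (algebraMap A (integralClosure A B)) := by
  rcases subsingleton_or_nontrivial B with hB | hB
  · exact radicial_of_subsingleton
  intro Ω _ σ τ hστ
  have hinj : Function.Injective ψ := ψ.injective
  let ψ' : K →ₐ[A] B := { ψ with commutes' := fun a => RingHom.congr_fun hψ a }
  have hψ' : ∀ k, ψ' k = ψ k := fun _ => rfl
  let ι : integralClosure A K →+* integralClosure A B :=
    (ψ.comp (integralClosure A K).val.toRingHom).codRestrict (integralClosure A B)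
      (fun x => by
        change IsIntegral A (ψ' (x : K))
        exact (x.2 : IsIntegral A (x : K)).map ψ')
  have hι : ∀ x : integralClosure A K, ((ι x : integralClosure A B) : B) = ψ (x : K) :=
    fun _ => rfl
  have hιalg : ∀ a : A, ι (algebraMap A (integralClosure A K) a) =
      algebraMap A (integralClosure A B) a := by
    intro a
    apply Subtype.ext
    rw [hι]
    exact RingHom.congr_fun hψ a
  have hcomp : σ.comp ι = τ.comp ι := by
    apply h Ω
    ext a
    simp only [RingHom.comp_apply, hιalg]
    exact RingHom.congr_fun hστ a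
  ext b
  obtain ⟨n, k, hk⟩ := hpow (b : B)
  have hkint : IsIntegral A k := by
    rw [← isIntegral_algHom_iff ψ' hinj, hψ', hk]
    exact (b.2 : IsIntegral A (b : B)).pow _
  have hιk : ι ⟨k, hkint⟩ = b ^ q ^ n := by
    apply Subtype.ext
    rw [hι]
    exact hk
  have hpw : σ b ^ q ^ n = τ b ^ q ^ n := by
    rw [← map_pow, ← map_pow, ← hιk]
    exact RingHom.congr_fun hcomp _
  rcases hq with rfl | ⟨hqp, hq0⟩
  · simpa using hpw
  · have hqΩ : (q : Ω) = 0 := by
      have h1 : σ (algebraMap A (integralClosure A B) (q : A)) = 0 := by
        rw [hq0, map_zero, map_zero]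
      rwa [map_natCast, map_natCast] at h1
    haveI : Fact q.Prime := ⟨hqp⟩
    haveI : CharP Ω q := (CharP.charP_iff_prime_eq_zero hqp).mpr hqΩ
    apply iterateFrobenius_inj Ω q n
    rw [iterateFrobenius_def, iterateFrobenius_def]
    exact hpw

section Generic

variable (Y : Scheme.{u}) [IsIntegral Y] (L : Type u) [Field L]
  (φ : Y.functionField ⟶ CommRingCat.of L)

/-- The morphism to `Y` from the spectrum of a field extension of the function field. -/
noncomputable abbrev genHom : Spec (CommRingCat.of L) ⟶ Y :=
  Spec.map φ ≫ Y.fromSpecStalk (genericPoint Y)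

theorem genHom_apply (z : Spec (CommRingCat.of L)) : genHom Y L φ z = genericPoint Y := by
  have h1 : genHom Y L φ z ⤳ genericPoint Y := by
    have : genHom Y L φ z ∈ Set.range (Y.fromSpecStalk (genericPoint Y)) := by
      rw [genHom, Scheme.Hom.comp_apply]
      exact Set.mem_range_self _
    rw [Scheme.range_fromSpecStalk] at this
    exact this
  have h2 : genericPoint Y ⤳ genHom Y L φ z := (genericPoint_spec Y).specializes trivial
  exact (h1.antisymm h2).eq

theorem genHom_preimage_eq_top (U : Y.Opens) (hU : genericPoint Y ∈ U) :
    genHom Y L φ ⁻¹ᵁ U = ⊤ := by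
  ext z
  change genHom Y L φ z ∈ U ↔ _
  rw [genHom_apply]
  simp [hU]

theorem genHom_preimage_eq_bot (U : Y.Opens) (hU : genericPoint Y ∉ U) :
    genHom Y L φ ⁻¹ᵁ U = ⊥ := by
  ext z
  change genHom Y L φ z ∈ U ↔ _
  rw [genHom_apply]
  simp [hU]

instance : IsDominant (genHom Y L φ) := by
  constructor
  have hne : Nonempty (Spec (CommRingCat.of L)) := inferInstance
  obtain ⟨z⟩ := hne
  have : (genericPoint Y) ∈ Set.range (genHom Y L φ) := ⟨z, genHom_apply Y L φ z⟩
  have h2 : closure {genericPoint Y} ⊆ closure (Set.range (genHom Y L φ)) :=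
    closure_mono (Set.singleton_subset_iff.mpr this)
  rw [(genericPoint_spec Y).def] at h2
  rw [DenseRange, dense_iff_closure_eq]
  exact Set.univ_subset_iff.mp h2

/-- Restriction from the field to sections over an open of its spectrum. -/
noncomputable def resL (V : (Spec (CommRingCat.of L)).Opens) :
    CommRingCat.of L ⟶ Γ(Spec (CommRingCat.of L), V) :=
  (Scheme.ΓSpecIso (CommRingCat.of L)).inv ≫
    (Spec (CommRingCat.of L)).presheaf.map (homOfLE le_top).op

theorem genHom_app (U : Y.Opens) (hU : genericPoint Y ∈ U) :
    (genHom Y L φ).app U =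
      Y.presheaf.germ U (genericPoint Y) hU ≫ φ ≫ resL L (genHom Y L φ ⁻¹ᵁ U) := by
  rw [genHom, Scheme.Hom.comp_app, Scheme.fromSpecStalk_app hU]
  simp only [Category.assoc, resL]
  congr 1
  rw [Scheme.Hom.naturality]
  have h1 := Scheme.ΓSpecIso_inv_naturality φ
  rw [← Category.assoc, ← Category.assoc]
  erw [← h1]
  rfl

theorem resL_surjective (V : (Spec (CommRingCat.of L)).Opens) (hV : V = ⊤) :
    Function.Surjective (resL L V).hom := by
  subst hV
  have : IsIso (resL L ⊤) := by
    unfold resL
    have : IsIso ((Spec (CommRingCat.of L)).presheaf.map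
        (homOfLE (le_top : (⊤ : (Spec (CommRingCat.of L)).Opens) ≤ ⊤)).op) := by
      have : homOfLE (le_top : (⊤ : (Spec (CommRingCat.of L)).Opens) ≤ ⊤) = 𝟙 _ := rfl
      rw [this]
      infer_instance
    infer_instance
  exact ((ConcreteCategory.isIso_iff_bijective _).mp this).2

end Generic

end Groth.Agent.Lib.Helper6.GU
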