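import Mathlib
import Groth.Agent.Lib.Helper6.GeomUnibranch5

/-!
# Normalization in a purely inseparable extension of the function field

`isUnivHomeo_fromNormalization_genHom`: for an integral scheme `Y` with geometrically unibranch
local rings and a field extension `L` of the function field all of whose elements have a
`q^n`-th power in `K(Y)` (with `q` the characteristic exponent), the normalization of `Y` in `L`
is a universal homeomorphism onto `Y`.
-/

set_option autoImplicit false
set_option linter.style.haveILetI false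
universe u

open CategoryTheory AlgebraicGeometry

namespace Groth.Agent.Lib.Helper6.GU

variable (Y : Scheme.{u}) [IsIntegral Y] (L : Type u) [Field L]
  (φ : Y.functionField ⟶ CommRingCat.of L)

theorem radicial_genHom (hY : ∀ y : Y, CAlg2.IsGeomUnibranch (Y.presheaf.stalk y))
    (q : ℕ) (hq : q = 1 ∨ (q.Prime ∧ (q : Y.functionField) = 0))
    (hpow : ∀ l : L, ∃ n : ℕ, l ^ q ^ n ∈ φ.hom.range)
    (U : Y.affineOpens) :
    letI := ((genHom Y L φ).app U.1).hom.toAlgebra
    Radicial (algebraMap Γ(Y, U.1)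
      (integralClosure Γ(Y, U.1) Γ(Spec (CommRingCat.of L), genHom Y L φ ⁻¹ᵁ U.1))) := by
  letI := ((genHom Y L φ).app U.1).hom.toAlgebra
  by_cases hη : genericPoint Y ∈ U.1
  · haveI : Nonempty U.1 := ⟨⟨_, hη⟩⟩
    haveI := functionField_isFractionRing_of_isAffineOpen Y U.1 U.2
    let ψ : Y.functionField →+* Γ(Spec (CommRingCat.of L), genHom Y L φ ⁻¹ᵁ U.1) :=
      (resL L (genHom Y L φ ⁻¹ᵁ U.1)).hom.comp φ.hom
    have hψ : ψ.comp (algebraMap Γ(Y, U.1) Y.functionField) =
        algebraMap Γ(Y, U.1) Γ(Spec (CommRingCat.of L), genHom Y L φ ⁻¹ᵁ U.1) := by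
      have e1 : algebraMap Γ(Y, U.1) Γ(Spec (CommRingCat.of L), genHom Y L φ ⁻¹ᵁ U.1) =
          ((genHom Y L φ).app U.1).hom := rfl
      rw [e1, genHom_app Y L φ U.1 hη]
      rfl
    have hq' : q = 1 ∨ (q.Prime ∧ (q : Γ(Y, U.1)) = 0) := by
      rcases hq with h | ⟨hp, h0⟩
      · exact Or.inl h
      · refine Or.inr ⟨hp, ?_⟩
        apply IsFractionRing.injective Γ(Y, U.1) Y.functionField
        rw [map_natCast, map_zero]
        exact h0
    have hpow' : ∀ b : Γ(Spec (CommRingCat.of L), genHom Y L φ ⁻¹ᵁ U.1),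
        ∃ n : ℕ, b ^ q ^ n ∈ ψ.range := by
      intro b
      obtain ⟨l, rfl⟩ := resL_surjective L _ (genHom_preimage_eq_top Y L φ U.1 hη) b
      obtain ⟨n, k, hk⟩ := hpow l
      refine ⟨n, k, ?_⟩
      change (resL L (genHom Y L φ ⁻¹ᵁ U.1)).hom (φ.hom k) = _
      rw [hk, map_pow]
    exact radicial_of_pow_mem ψ hψ q hq' hpow' (radicial_of_stalks Y hY U.1 U.2)
  · have hbot := genHom_preimage_eq_bot Y L φ U.1 hη
    haveI : Subsingleton Γ(Spec (CommRingCat.of L), genHom Y L φ ⁻¹ᵁ U.1) := by
      rw [hbot]; infer_instance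
    exact radicial_of_subsingleton

/-- The normalization of an integral scheme with geometrically unibranch local rings in a
"purely inseparable" extension of its function field is a universal homeomorphism. -/
theorem isUnivHomeo_fromNormalization_genHom
    (hY : ∀ y : Y, CAlg2.IsGeomUnibranch (Y.presheaf.stalk y))
    (q : ℕ) (hq : q = 1 ∨ (q.Prime ∧ (q : Y.functionField) = 0))
    (hpow : ∀ l : L, ∃ n : ℕ, l ^ q ^ n ∈ φ.hom.range)
    (h : Spec (CommRingCat.of L) ⟶ Y) (hh : h = genHom Y L φ)
    [QuasiCompact h] [QuasiSeparated h] :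
    FlatMor.IsUnivHomeo h.fromNormalization := by
  subst hh
  exact isUnivHomeo_fromNormalization _ (radicial_genHom Y L φ hY q hq hpow)

end Groth.Agent.Lib.Helper6.GU
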