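import Mathlib
import Groth.Agent.Lib.Helper6.GeomUnibranch6
import Groth.Prelude.Def_Found

set_option autoImplicit false
set_option linter.style.haveILetI false
universe u

open CategoryTheory AlgebraicGeometry

namespace Groth.Agent.Lib.Helper6.GU

section General

variable {X Y : Scheme.{u}} (f : X ⟶ Y) [QuasiCompact f] [QuasiSeparated f]

set_option backward.isDefEq.respectTransparency false in
theorem isFinite_fromNormalization
    (H : ∀ U : Y.affineOpens, letI := (f.app U.1).hom.toAlgebra;
      (algebraMap Γ(Y, U.1) (integralClosure Γ(Y, U.1) Γ(X, f ⁻¹ᵁ U.1))).Finite) :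
    IsFinite f.fromNormalization := by
  rw [IsZariskiLocalAtTarget.iff_of_iSup_eq_top (P := @IsFinite) _
    (iSup_affineOpens_eq_top _)]
  intro U
  let e := IsOpenImmersion.isoOfRangeEq (f.fromNormalization ⁻¹ᵁ U).ι (f.normalizationOpenCover.f U)
      (by simpa using congr($(f.fromNormalization_preimage U).1))
  rw [← MorphismProperty.cancel_left_of_respectsIso @IsFinite e.inv,
    ← MorphismProperty.cancel_right_of_respectsIso @IsFinite _ U.2.isoSpec.hom]
  have : IsFinite (Spec.map (f.normalizationDiagramMap.app (.op U))) := by
    rw [IsFinite.SpecMap_iff]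
    let := (f.app U).hom.toAlgebra
    exact H U
  convert! this
  rw [← cancel_mono U.2.fromSpec]
  simp [IsAffineOpen.isoSpec_hom, e, Scheme.Hom.ι_fromNormalization]

end General

theorem finite_integralClosure_of_bijective {A K B : Type u} [CommRing A] [CommRing K] [CommRing B]
    [Algebra A K] [Algebra A B] (ψ : K →+* B) (hψ : ψ.comp (algebraMap A K) = algebraMap A B)
    (hbij : Function.Bijective ψ) [Module.Finite A (integralClosure A K)] :
    Module.Finite A (integralClosure A B) := by
  let ψ' : K ≃ₐ[A] B :=
    { RingEquiv.ofBijective ψ hbij with commutes' := fun a => RingHom.congr_fun hψ a }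
  exact Module.Finite.equiv ψ'.mapIntegralClosure.toLinearEquiv

theorem finite_integralClosure_of_isN2 {A K : Type u} [CommRing A] [IsDomain A] [Field K]
    [Algebra A K] [IsFractionRing A K] (h : CAlg.IsN2 A) :
    Module.Finite A (integralClosure A K) := by
  haveI : FaithfulSMul A K := (faithfulSMul_iff_algebraMap_injective A K).mpr
    (IsFractionRing.injective A K)
  letI := FractionRing.liftAlgebra A K
  haveI := FractionRing.isScalarTower_liftAlgebra A K
  apply h K
  have heq : algebraMap (FractionRing A) K = ((FractionRing.algEquiv A K : FractionRing A →ₐ[A] K) : FractionRing A →+* K) := by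
    apply IsLocalization.ringHom_ext (nonZeroDivisors A)
    ext a
    simp only [RingHom.comp_apply]
    rw [← IsScalarTower.algebraMap_apply A (FractionRing A) K]
    simp
  have hsurj : Function.Surjective (Algebra.linearMap (FractionRing A) K) := by
    intro x
    refine ⟨(FractionRing.algEquiv A K).symm x, ?_⟩
    change algebraMap (FractionRing A) K _ = x
    rw [heq]
    simp
  exact Module.Finite.of_surjective _ hsurj

section Generic

variable (L : Type u) [Field L]

theorem resL_bijective (V : (Spec (CommRingCat.of L)).Opens) (hV : V = ⊤) :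
    Function.Bijective (resL L V).hom := by
  subst hV
  have : IsIso (resL L ⊤) := by
    unfold resL
    have : IsIso ((Spec (CommRingCat.of L)).presheaf.map
        (homOfLE (le_top : (⊤ : (Spec (CommRingCat.of L)).Opens) ≤ ⊤)).op) := by
      have : homOfLE (le_top : (⊤ : (Spec (CommRingCat.of L)).Opens) ≤ ⊤) = 𝟙 _ := rfl
      rw [this]
      infer_instance
    infer_instance
  exact (ConcreteCategory.isIso_iff_bijective _).mp this

variable (X : Scheme.{u}) [IsIntegral X]

theorem finite_genHom_id
    (hJ : ∀ (U : X.Opens), IsAffineOpen U → ∀ (hne : Nonempty ↥U),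
      @CAlg.IsN2 ↑Γ(X, U) _ (@IsIntegral.component_integral X _ U hne))
    (U : X.affineOpens) :
    letI := ((genHom X X.functionField (𝟙 _)).app U.1).hom.toAlgebra
    (algebraMap Γ(X, U.1) (integralClosure Γ(X, U.1)
      Γ(Spec (CommRingCat.of X.functionField), genHom X X.functionField (𝟙 _) ⁻¹ᵁ U.1))).Finite := by
  letI := ((genHom X X.functionField (𝟙 _)).app U.1).hom.toAlgebra
  rw [RingHom.finite_algebraMap]
  by_cases hη : genericPoint X ∈ U.1
  · haveI hne : Nonempty U.1 := ⟨⟨_, hη⟩⟩
    haveI := functionField_isFractionRing_of_isAffineOpen X U.1 U.2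
    haveI : IsDomain Γ(X, U.1) := IsIntegral.component_integral (X := X) U.1
    haveI := finite_integralClosure_of_isN2 (A := Γ(X, U.1)) (K := X.functionField) (hJ U.1 U.2 hne)
    let ψ : X.functionField →+*
        Γ(Spec (CommRingCat.of X.functionField), genHom X X.functionField (𝟙 _) ⁻¹ᵁ U.1) :=
      (resL X.functionField (genHom X X.functionField (𝟙 _) ⁻¹ᵁ U.1)).hom
    have hψ : ψ.comp (algebraMap Γ(X, U.1) X.functionField) =
        algebraMap Γ(X, U.1)
          Γ(Spec (CommRingCat.of X.functionField), genHom X X.functionField (𝟙 _) ⁻¹ᵁ U.1) := by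
      have e1 : algebraMap Γ(X, U.1)
          Γ(Spec (CommRingCat.of X.functionField), genHom X X.functionField (𝟙 _) ⁻¹ᵁ U.1) =
          ((genHom X X.functionField (𝟙 _)).app U.1).hom := rfl
      rw [e1, genHom_app X X.functionField (𝟙 _) U.1 hη]
      rfl
    exact finite_integralClosure_of_bijective ψ hψ
      (resL_bijective _ _ (genHom_preimage_eq_top X _ _ U.1 hη))
  · have hbot := genHom_preimage_eq_bot X X.functionField (𝟙 _) U.1 hη
    haveI : Subsingleton
        Γ(Spec (CommRingCat.of X.functionField), genHom X X.functionField (𝟙 _) ⁻¹ᵁ U.1) := by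
      rw [hbot]; infer_instance
    haveI : Subsingleton (integralClosure Γ(X, U.1)
        Γ(Spec (CommRingCat.of X.functionField), genHom X X.functionField (𝟙 _) ⁻¹ᵁ U.1)) :=
      ⟨fun a b => Subtype.ext (Subsingleton.elim _ _)⟩
    infer_instance

/-- The normalization of an integral scheme all of whose nonempty affine opens have N-2
coordinate rings is finite. -/
theorem isFinite_fromNormalization_of_isN2
    (hJ : ∀ (U : X.Opens), IsAffineOpen U → ∀ (hne : Nonempty ↥U),
      @CAlg.IsN2 ↑Γ(X, U) _ (@IsIntegral.component_integral X _ U hne))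
    (h : Spec (CommRingCat.of X.functionField) ⟶ X) (hh : h = genHom X X.functionField (𝟙 _))
    [QuasiCompact h] [QuasiSeparated h] :
    IsFinite h.fromNormalization := by
  subst hh
  exact isFinite_fromNormalization _ (finite_genHom_id X hJ)

end Generic

end Groth.Agent.Lib.Helper6.GU
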