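import Mathlib
import Groth.Agent.Lib.Helper6.NormUniv
import Groth.Agent.Lib.Helper6.NormUnivChart
import Groth.Agent.Lib.Helper6.GlueUnique
import Groth.Agent.Lib.Helper6.NormalizationFinite
import Groth.Prelude.Def_Pi1

set_option autoImplicit false
set_option linter.style.haveILetI false
universe u

open CategoryTheory AlgebraicGeometry TopologicalSpace

namespace Groth.Agent.Lib.Helper6.NormUniv

theorem exists_generic_specializes (Z : Scheme.{u}) (z : Z) :
    ∃ ξ : Z, ξ ⤳ z ∧ closure {ξ} ∈ irreducibleComponents Z := by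
  have hirr : IsIrreducible (irreducibleComponent z) := isIrreducible_irreducibleComponent
  have hcl : IsClosed (irreducibleComponent z) := isClosed_irreducibleComponent
  refine ⟨hirr.genericPoint, ?_, ?_⟩
  · rw [specializes_iff_mem_closure, hirr.closure_genericPoint hcl]
    exact mem_irreducibleComponent
  · rw [hirr.closure_genericPoint hcl]
    exact irreducibleComponent_mem_irreducibleComponents z

theorem stalkSpecializes_injective (X : Scheme.{u}) [IsIntegral X] {x x' : X} (h : x' ⤳ x) :
    Function.Injective (X.presheaf.stalkSpecializes h) := by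
  have h1 : Function.Injective (X.presheaf.stalkSpecializes
      ((genericPoint_spec X).specializes (Set.mem_univ x))) :=
    IsFractionRing.injective (X.presheaf.stalk x) X.functionField
  have h2 : X.presheaf.stalkSpecializes h ≫ X.presheaf.stalkSpecializes
      ((genericPoint_spec X).specializes (Set.mem_univ x')) =
      X.presheaf.stalkSpecializes ((genericPoint_spec X).specializes (Set.mem_univ x)) :=
    TopCat.Presheaf.stalkSpecializes_comp _ _ _
  rw [← h2] at h1
  exact Function.Injective.of_comp (f := (X.presheaf.stalkSpecializes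
      ((genericPoint_spec X).specializes (Set.mem_univ x'))).hom) h1

theorem stalkMap_injective_of_dominant {X Z : Scheme.{u}} [IsIntegral X] (g : Z ⟶ X)
    (hdom : ∀ z : Z, closure {z} ∈ irreducibleComponents Z → g.base z = genericPoint X) (z : Z) :
    Function.Injective (g.stalkMap z) := by
  obtain ⟨ξ, hξz, hξ⟩ := exists_generic_specializes Z z
  have hgξ := hdom ξ hξ
  have hcomm := Scheme.Hom.stalkSpecializes_stalkMap g ξ z hξz
  have hfield : IsField (X.presheaf.stalk (g.base ξ)) := by
    rw [hgξ]
    exact Field.toIsField X.functionField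
  have h1 : Function.Injective (g.stalkMap ξ) := by
    letI := hfield.toField
    exact (g.stalkMap ξ).hom.injective
  have h2 : Function.Injective (X.presheaf.stalkSpecializes (g.base.hom.map_specializes hξz)) :=
    stalkSpecializes_injective X _
  have h3 : Function.Injective
      (X.presheaf.stalkSpecializes (g.base.hom.map_specializes hξz) ≫ g.stalkMap ξ) := by
    intro a b hab
    exact h2 (h1 hab)
  rw [hcomm] at h3
  intro a b hab
  exact h3 (congrArg (Z.presheaf.stalkSpecializes hξz) hab)

/-- germs of `g.appLE` are injective under the dominance hypothesis. -/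
theorem germ_appLE_injective {X Z : Scheme.{u}} [IsIntegral X] (g : Z ⟶ X)
    (hdom : ∀ z : Z, closure {z} ∈ irreducibleComponents Z → g.base z = genericPoint X)
    (U : X.Opens) (V : Z.Opens) (hVU : V ≤ g ⁻¹ᵁ U) (z : Z) (hz : z ∈ V) :
    Function.Injective ((Z.presheaf.germ V z hz).hom.comp (g.appLE U V hVU).hom) := by
  have hgz : g z ∈ U := hVU hz
  have e : g.appLE U V hVU ≫ Z.presheaf.germ V z hz =
      X.presheaf.germ U (g z) hgz ≫ g.stalkMap z := by
    rw [Scheme.Hom.germ_stalkMap, Scheme.Hom.appLE, Category.assoc, Z.presheaf.germ_res]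
  have h1 : Function.Injective (X.presheaf.germ U (g z) hgz) :=
    germ_injective_of_isIntegral X (g z) hgz
  have h2 := stalkMap_injective_of_dominant g hdom z
  intro a b hab
  have hab' : (g.appLE U V hVU ≫ Z.presheaf.germ V z hz) a =
      (g.appLE U V hVU ≫ Z.presheaf.germ V z hz) b := hab
  rw [e] at hab'
  exact h1 (h2 hab')

/-- divisibility in the coordinate ring of an affine open can be tested on stalks. -/
theorem dvd_of_germ_dvd {Z : Scheme.{u}} {V : Z.Opens} (hV : IsAffineOpen V) (c d : Γ(Z, V))
    (h : ∀ z : V, (Z.presheaf.germ V z.1 z.2).hom d ∣ (Z.presheaf.germ V z.1 z.2).hom c) :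
    d ∣ c := by
  rw [← Ideal.mem_span_singleton, hV.mem_ideal_iff]
  intro z hz
  rw [Ideal.map_span, Set.image_singleton, Ideal.mem_span_singleton]
  exact h ⟨z, hz⟩

open Groth.Agent.Lib.Helper6.GU in
theorem isFractionRing_genHom (X : Scheme.{u}) [IsIntegral X] (U : X.Opens) (hU : IsAffineOpen U)
    (hη : genericPoint X ∈ U) :
    letI := ((genHom X X.functionField (𝟙 _)).app U).hom.toAlgebra
    IsFractionRing Γ(X, U)
      Γ(Spec (CommRingCat.of X.functionField), genHom X X.functionField (𝟙 _) ⁻¹ᵁ U) := by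
  letI := ((genHom X X.functionField (𝟙 _)).app U).hom.toAlgebra
  haveI hne : Nonempty U := ⟨⟨_, hη⟩⟩
  haveI := functionField_isFractionRing_of_isAffineOpen X U hU
  let ψ : X.functionField →+*
      Γ(Spec (CommRingCat.of X.functionField), genHom X X.functionField (𝟙 _) ⁻¹ᵁ U) :=
    (resL X.functionField (genHom X X.functionField (𝟙 _) ⁻¹ᵁ U)).hom
  have hψ : ψ.comp (algebraMap Γ(X, U) X.functionField) =
      algebraMap Γ(X, U)
        Γ(Spec (CommRingCat.of X.functionField), genHom X X.functionField (𝟙 _) ⁻¹ᵁ U) := by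
    have e1 : algebraMap Γ(X, U)
        Γ(Spec (CommRingCat.of X.functionField), genHom X X.functionField (𝟙 _) ⁻¹ᵁ U) =
        ((genHom X X.functionField (𝟙 _)).app U).hom := rfl
    rw [e1, genHom_app X X.functionField (𝟙 _) U hη]
    rfl
  have hbij := resL_bijective X.functionField _ (genHom_preimage_eq_top X _ (𝟙 _) U hη)
  let ψ' : X.functionField ≃ₐ[Γ(X, U)]
      Γ(Spec (CommRingCat.of X.functionField), genHom X X.functionField (𝟙 _) ⁻¹ᵁ U) :=
    { RingEquiv.ofBijective ψ hbij with commutes' := fun a => RingHom.congr_fun hψ a }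
  exact IsLocalization.isLocalization_of_algEquiv (nonZeroDivisors Γ(X, U)) ψ'

open Groth.Agent.Lib.Helper6.GU in
/-- Universal property of the normalization of an integral scheme with respect to normal schemes
all of whose irreducible components dominate. -/
theorem existsUnique_lift_normalization (X : Scheme.{u}) [IsIntegral X] {Z : Scheme.{u}}
    (g : Z ⟶ X) (hZ : Pi1.IsNormalScheme Z)
    (hdom : ∀ z : Z, closure {z} ∈ irreducibleComponents Z → g.base z = genericPoint X)
    (h : Spec (CommRingCat.of X.functionField) ⟶ X) (hh : h = genHom X X.functionField (𝟙 _))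
    [QuasiCompact h] [QuasiSeparated h] :
    ∃! k : Z ⟶ h.normalization, k ≫ h.fromNormalization = g := by
  subst hh
  let B : Set Z.Opens := {V | IsAffineOpen V ∧
    ∃ U : X.affineOpens, genericPoint X ∈ U.1 ∧ V ≤ g ⁻¹ᵁ U.1}
  have hB : Opens.IsBasis B := by
    rw [Opens.isBasis_iff_nbhd]
    intro W z hz
    obtain ⟨U₀, hU₀, hgz, -⟩ := Opens.isBasis_iff_nbhd.mp X.isBasis_affineOpens
      (U := ⊤) (x := g z) trivial
    have hη : genericPoint X ∈ U₀ :=
      ((genericPoint_spec X).mem_open_set_iff U₀.isOpen).mpr ⟨g z, trivial, hgz⟩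
    have hz' : z ∈ W ⊓ g ⁻¹ᵁ U₀ := ⟨hz, hgz⟩
    obtain ⟨V, hV, hzV, hVW⟩ := Opens.isBasis_iff_nbhd.mp Z.isBasis_affineOpens hz'
    exact ⟨V, ⟨hV, ⟨U₀, hU₀⟩, hη, hVW.trans inf_le_right⟩, hzV, hVW.trans inf_le_left⟩
  apply Groth.Agent.Lib.Helper6.GlueUnique.existsUnique_lift_of_basis g _ B hB
  rintro V ⟨hV, U, hη, hVU⟩
  apply existsUnique_lift_chart (genHom X X.functionField (𝟙 _)) g U V hV hVU
  letI := ((genHom X X.functionField (𝟙 _)).app U.1).hom.toAlgebra
  haveI hne : Nonempty U.1 := ⟨⟨_, hη⟩⟩
  haveI : IsDomain Γ(X, U.1) := IsIntegral.component_integral (X := X) U.1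
  haveI := isFractionRing_genHom X U.1 U.2 hη
  haveI : ∀ z : V, IsDomain (Z.presheaf.stalk z.1) := fun z => (hZ z.1).1
  haveI : ∀ z : V, IsIntegrallyClosed (Z.presheaf.stalk z.1) := fun z => (hZ z.1).2
  exact existsUnique_lift (g.appLE U.1 V hVU).hom (fun z : V => Z.presheaf.stalk z.1)
    (fun z => (Z.presheaf.germ V z.1 z.2).hom)
    (fun z => germ_appLE_injective g hdom U.1 V hVU z.1 z.2)
    (fun c d hcd => dvd_of_germ_dvd hV c d hcd)

end Groth.Agent.Lib.Helper6.NormUniv
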