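import Mathlib
import Groth.Prelude.Def_Pi1
import Groth.Agent.Lib.Helper6.NormUnivScheme

set_option autoImplicit false
set_option linter.style.haveILetI false
universe u
open CategoryTheory AlgebraicGeometry

namespace Groth.Agent.Lib.Helper6.NormIso

open Groth.Agent.Lib.Helper6.GU

theorem integralClosure_normal {A K : Type*} [CommRing A] [IsDomain A] [CommRing K] [Algebra A K]
    [IsFractionRing A K] :
    IsDomain (integralClosure A K) ∧ IsIntegrallyClosed (integralClosure A K) := by
  letI : Field K := IsFractionRing.toField A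
  refine ⟨inferInstance, ?_⟩
  exact integralClosure.isIntegrallyClosedOfFiniteExtension (R := A) K (L := K)

theorem isIntegrallyClosed_stalk_of_affine {Z : Scheme.{u}} [IsIntegral Z] {V : Z.Opens}
    (hV : IsAffineOpen V) (hic : IsIntegrallyClosed Γ(Z, V)) (z : Z) (hz : z ∈ V) :
    IsIntegrallyClosed (Z.presheaf.stalk z) := by
  haveI : Nonempty V := ⟨⟨z, hz⟩⟩
  letI := Z.presheaf.algebra_section_stalk ⟨z, hz⟩
  haveI := hV.isLocalization_stalk ⟨z, hz⟩
  exact isIntegrallyClosed_of_isLocalization (Z.presheaf.stalk z)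
    (hV.primeIdealOf ⟨z, hz⟩).asIdeal.primeCompl (Ideal.primeCompl_le_nonZeroDivisors _)

theorem isNormalScheme_normalization (X : Scheme.{u}) [IsIntegral X]
    (h : Spec (CommRingCat.of X.functionField) ⟶ X) (hh : h = genHom X X.functionField (𝟙 _))
    [QuasiCompact h] [QuasiSeparated h] : Pi1.IsNormalScheme h.normalization := by
  subst hh
  intro y
  refine ⟨inferInstance, ?_⟩
  set h := genHom X X.functionField (𝟙 _) with hdef
  obtain ⟨_, ⟨U, hU : IsAffineOpen U, rfl⟩, hyU, -⟩ :=
    X.isBasis_affineOpens.exists_subset_of_mem_open (Set.mem_univ (h.fromNormalization y))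
      isOpen_univ
  have hη : genericPoint X ∈ U :=
    ((genericPoint_spec X).mem_open_set_iff U.isOpen).mpr ⟨_, trivial, hyU⟩
  letI := (h.app U).hom.toAlgebra
  haveI := Groth.Agent.Lib.Helper6.NormUniv.isFractionRing_genHom X U hU hη
  haveI : Nonempty U := ⟨⟨_, hη⟩⟩
  obtain ⟨hd, hic⟩ := integralClosure_normal (A := Γ(X, U))
    (K := Γ(Spec (CommRingCat.of X.functionField), h ⁻¹ᵁ U))
  have hV : IsAffineOpen (h.fromNormalization ⁻¹ᵁ U) := hU.preimage _
  have hicV : IsIntegrallyClosed Γ(h.normalization, h.fromNormalization ⁻¹ᵁ U) :=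
    IsIntegrallyClosed.of_equiv (h.normalizationObjIso hU).commRingCatIsoToRingEquiv.symm
  exact isIntegrallyClosed_stalk_of_affine hV hicV y hyU

/-- The only point of an integral scheme lying over the generic point under an integral morphism
of integral schemes is the generic point. -/
theorem eq_genericPoint_of_isIntegralHom {Z X : Scheme.{u}} [IsIntegral Z] [IsIntegral X]
    (g : Z ⟶ X) [IsIntegralHom g] (z : Z) (hz : g z = genericPoint X) : z = genericPoint Z := by
  obtain ⟨_, ⟨U, hU : IsAffineOpen U, rfl⟩, hηU, -⟩ :=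
    X.isBasis_affineOpens.exists_subset_of_mem_open (Set.mem_univ (genericPoint X)) isOpen_univ
  have hV : IsAffineOpen (g ⁻¹ᵁ U) := hU.preimage g
  have hzV : z ∈ g ⁻¹ᵁ U := by
    change g z ∈ U; rw [hz]; exact hηU
  haveI : Nonempty U := ⟨⟨_, hηU⟩⟩
  haveI : Nonempty (g ⁻¹ᵁ U : Z.Opens) := ⟨⟨z, hzV⟩⟩
  have hηV : genericPoint Z ∈ g ⁻¹ᵁ U :=
    ((genericPoint_spec Z).mem_open_set_iff (g ⁻¹ᵁ U).isOpen).mpr ⟨z, trivial, hzV⟩
  have h1 := IsAffineOpen.comap_primeIdealOf_appLE (f := g) U hU (g ⁻¹ᵁ U) hV le_rfl hzV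
  have h2 : hU.primeIdealOf ⟨g z, hzV⟩ = ⊥ := by
    have : (⟨g z, hzV⟩ : U) = ⟨genericPoint X, hηU⟩ := Subtype.ext hz
    rw [this, hU.primeIdealOf_genericPoint, genericPoint_eq_bot_of_affine]
  letI := (g.appLE U (g ⁻¹ᵁ U) le_rfl).hom.toAlgebra
  haveI : Algebra.IsIntegral Γ(X, U) Γ(Z, g ⁻¹ᵁ U) := by
    have := g.isIntegral_app U hU
    rw [Scheme.Hom.app_eq_appLE] at this
    exact ⟨this⟩
  have h3 : (hV.primeIdealOf ⟨z, hzV⟩).asIdeal = ⊥ := by
    refine Ideal.eq_bot_of_comap_eq_bot (R := Γ(X, U)) ?_
    exact congrArg PrimeSpectrum.asIdeal (h1.trans h2)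
  have h4 : hV.primeIdealOf ⟨z, hzV⟩ = hV.primeIdealOf ⟨genericPoint Z, hηV⟩ := by
    rw [hV.primeIdealOf_genericPoint, genericPoint_eq_bot_of_affine]
    exact PrimeSpectrum.ext h3
  have h5 := congrArg hV.fromSpec h4
  rw [hV.fromSpec_primeIdealOf, hV.fromSpec_primeIdealOf] at h5
  exact h5

theorem isField_stalk_genericPoint (Z : Scheme.{u}) [IsIntegral Z] (z : Z)
    (hz : z = genericPoint Z) : IsField (Z.presheaf.stalk z) := by
  subst hz
  exact Field.toIsField Z.functionField

theorem injective_of_isField {R S : Type*} [CommRing R] [CommRing S] [Nontrivial S]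
    (hR : IsField R) (f : R →+* S) : Function.Injective f := by
  letI := hR.toField
  exact f.injective

theorem bijective_stalkMap_of_comp {W Z X : Scheme.{u}} (a : W ⟶ Z) (b : Z ⟶ X) (w : W)
    (hbij : Function.Bijective ((a ≫ b).stalkMap w))
    (hinj : Function.Injective (a.stalkMap w)) : Function.Bijective (b.stalkMap (a w)) := by
  have key : (a ≫ b).stalkMap w = b.stalkMap (a w) ≫ a.stalkMap w :=
    Scheme.Hom.stalkMap_comp a b w
  have hfun : (⇑((a ≫ b).stalkMap w).hom : _ → _) =
      ⇑(a.stalkMap w).hom ∘ ⇑(b.stalkMap (a w)).hom := by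
    rw [key]; rfl
  have h1 : Function.Injective (⇑(a.stalkMap w).hom ∘ ⇑(b.stalkMap (a w)).hom) := by
    rw [← hfun]; exact hbij.1
  have h2 : Function.Surjective (⇑(a.stalkMap w).hom ∘ ⇑(b.stalkMap (a w)).hom) := by
    rw [← hfun]; exact hbij.2
  exact ⟨h1.of_comp, h2.of_comp_left hinj⟩

theorem toNormalization_eq_genericPoint (X : Scheme.{u}) [IsIntegral X]
    (h : Spec (CommRingCat.of X.functionField) ⟶ X)
    [QuasiCompact h] [QuasiSeparated h] (pt : Spec (CommRingCat.of X.functionField)) :
    h.toNormalization pt = genericPoint h.normalization := by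
  have hd : DenseRange h.toNormalization := h.toNormalization.denseRange
  haveI : Subsingleton (Spec (CommRingCat.of X.functionField)) :=
    inferInstanceAs (Subsingleton (PrimeSpectrum X.functionField))
  have hr : Set.range h.toNormalization = {h.toNormalization pt} := by
    ext z
    constructor
    · rintro ⟨q, rfl⟩
      rw [Subsingleton.elim q pt]; rfl
    · rintro rfl
      exact ⟨pt, rfl⟩
  have hg : IsGenericPoint (h.toNormalization pt) (⊤ : Set h.normalization) := by
    rw [isGenericPoint_def, ← hr]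
    exact hd.closure_range
  exact hg.eq (genericPoint_spec _)

theorem isIso_stalkMap_fromNormalization (X : Scheme.{u}) [IsIntegral X]
    (h : Spec (CommRingCat.of X.functionField) ⟶ X) (hh : h = genHom X X.functionField (𝟙 _))
    [QuasiCompact h] [QuasiSeparated h] :
    IsIso (h.fromNormalization.stalkMap (genericPoint h.normalization)) := by
  obtain ⟨pt⟩ : Nonempty (Spec (CommRingCat.of X.functionField)) :=
    inferInstanceAs (Nonempty (PrimeSpectrum X.functionField))
  have hpt := toNormalization_eq_genericPoint X h pt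
  have hhpt : h pt = genericPoint X := by rw [hh]; exact genHom_apply X _ _ pt
  haveI : IsPreimmersion h := by
    rw [hh]; unfold genHom; infer_instance
  have hbij : Function.Bijective ((h.toNormalization ≫ h.fromNormalization).stalkMap pt) := by
    rw [h.toNormalization_fromNormalization]
    exact ⟨injective_of_isField (isField_stalk_genericPoint X _ hhpt) _,
      h.stalkMap_surjective pt⟩
  have hinj : Function.Injective (h.toNormalization.stalkMap pt) :=
    injective_of_isField (isField_stalk_genericPoint _ _ hpt) _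
  have := bijective_stalkMap_of_comp h.toNormalization h.fromNormalization pt hbij hinj
  rw [hpt] at this
  exact (ConcreteCategory.isIso_iff_bijective _).mpr this

end Groth.Agent.Lib.Helper6.NormIso
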