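import Mathlib
import Groth.Prelude.Def_Pi1
import Groth.Agent.Lib.Helper6.NormUnivScheme
import Groth.Agent.Lib.Helper6.NormIsoA

set_option autoImplicit false
set_option linter.style.haveILetI false
universe u
open CategoryTheory AlgebraicGeometry

namespace Groth.Agent.Lib.Helper6.NormIso

open Groth.Agent.Lib.Helper6.GU

theorem isIntegral_of_normal_irreducible (Y : Scheme.{u}) (hN : Pi1.IsNormalScheme Y)
    [IrreducibleSpace Y] : IsIntegral Y := by
  haveI : ∀ x : Y, _root_.IsReduced (Y.presheaf.stalk x) := fun x => by
    haveI := (hN x).1; infer_instance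
  haveI : IsReduced Y := isReduced_of_isReduced_stalk Y
  exact isIntegral_of_irreducibleSpace_of_isReduced Y

/-- `fromNormalization` sends the generic point to the generic point. -/
theorem fromNormalization_genericPoint (X : Scheme.{u}) [IsIntegral X]
    (h : Spec (CommRingCat.of X.functionField) ⟶ X) (hh : h = genHom X X.functionField (𝟙 _))
    [QuasiCompact h] [QuasiSeparated h] :
    h.fromNormalization (genericPoint h.normalization) = genericPoint X := by
  obtain ⟨pt⟩ : Nonempty (Spec (CommRingCat.of X.functionField)) :=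
    inferInstanceAs (Nonempty (PrimeSpectrum X.functionField))
  rw [← toNormalization_eq_genericPoint X h pt, ← Scheme.Hom.comp_apply,
    h.toNormalization_fromNormalization, hh]
  exact genHom_apply X _ _ pt

theorem exists_iso_of_good (X : Scheme.{u}) [IsIntegral X]
    (h : Spec (CommRingCat.of X.functionField) ⟶ X) (hh : h = genHom X X.functionField (𝟙 _))
    [QuasiCompact h] [QuasiSeparated h]
    {Y : Scheme.{u}} (f : Y ⟶ X) (hN : Pi1.IsNormalScheme Y) [IsIntegralHom f]
    [IrreducibleSpace Y]
    (hfib : f.base ⁻¹' {genericPoint X} = {genericPoint Y})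
    (hiso : IsIso (f.stalkMap (genericPoint Y))) :
    ∃ e : Y ≅ h.normalization, e.hom ≫ h.fromNormalization = f := by
  haveI : IsIntegral Y := isIntegral_of_normal_irreducible Y hN
  have hfη : f (genericPoint Y) = genericPoint X := by
    have : genericPoint Y ∈ f.base ⁻¹' {genericPoint X} := by rw [hfib]; rfl
    exact this
  -- the lift `k`
  have hdom : ∀ z : Y, closure {z} ∈ irreducibleComponents Y → f.base z = genericPoint X := by
    intro z hz
    rw [irreducibleComponents_eq_singleton, Set.mem_singleton_iff] at hz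
    have hz' : IsGenericPoint z (⊤ : Set Y) := hz
    rw [hz'.eq (genericPoint_spec Y)]
    exact hfη
  obtain ⟨k, hk, -⟩ := NormUniv.existsUnique_lift_normalization X f hN hdom h hh
  -- the map `h₁ : Spec K ⟶ Y`
  have hsp : genericPoint X ⤳ f (genericPoint Y) := by rw [hfη]
  let ψ : Y.presheaf.stalk (genericPoint Y) ⟶ X.presheaf.stalk (genericPoint X) :=
    inv (f.stalkMap (genericPoint Y)) ≫ X.presheaf.stalkSpecializes hsp
  let h₁ : Spec (CommRingCat.of X.functionField) ⟶ Y :=
    Spec.map ψ ≫ Y.fromSpecStalk (genericPoint Y)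
  have H : h = h₁ ≫ f := by
    rw [hh]
    simp only [h₁, ψ, genHom, Category.assoc]
    rw [← Scheme.SpecMap_stalkMap_fromSpecStalk, ← Spec.map_comp_assoc, ← Category.assoc,
      IsIso.hom_inv_id, Category.id_comp, Scheme.SpecMap_stalkSpecializes_fromSpecStalk]
    erw [Spec.map_id]
    exact Category.id_comp _
  let l := h.normalizationDesc h₁ f H
  have hl1 : h.toNormalization ≫ l = h₁ := h.toNormalization_normalizationDesc h₁ f H
  have hl2 : l ≫ f = h.fromNormalization := h.normalizationDesc_comp h₁ f H
  -- `l ≫ k = 𝟙`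
  have hlk : l ≫ k = 𝟙 _ := by
    have hdom' : ∀ z : h.normalization, closure {z} ∈ irreducibleComponents h.normalization →
        h.fromNormalization.base z = genericPoint X := by
      intro z hz
      rw [irreducibleComponents_eq_singleton, Set.mem_singleton_iff] at hz
      have hz' : IsGenericPoint z (⊤ : Set h.normalization) := hz
      rw [hz'.eq (genericPoint_spec _)]
      exact fromNormalization_genericPoint X h hh
    obtain ⟨k', -, huniq⟩ := NormUniv.existsUnique_lift_normalization X h.fromNormalization
      (isNormalScheme_normalization X h hh) hdom' h hh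
    rw [huniq (l ≫ k) (by
      change (l ≫ k) ≫ h.fromNormalization = h.fromNormalization
      rw [Category.assoc, hk, hl2]), huniq (𝟙 _) (Category.id_comp _)]
  -- `k ≫ l = 𝟙`
  have hkl : k ≫ l = 𝟙 _ := by
    haveI : IsDominant h₁ := inferInstanceAs (IsDominant (genHom Y X.functionField ψ))
    haveI : IsDominant l := by
      have : IsDominant (h.toNormalization ≫ l) := by rw [hl1]; infer_instance
      exact IsDominant.of_comp h.toNormalization l
    refine ext_of_isDominant_of_isSeparated f ?_ l ?_
    · rw [Category.assoc, hl2, hk, Category.id_comp]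
    · rw [← Category.assoc, hlk, Category.id_comp, Category.comp_id]
  exact ⟨⟨k, l, hkl, hlk⟩, hk⟩

theorem good_fromNormalization (X : Scheme.{u}) [IsIntegral X]
    (h : Spec (CommRingCat.of X.functionField) ⟶ X) (hh : h = genHom X X.functionField (𝟙 _))
    [QuasiCompact h] [QuasiSeparated h] :
    Pi1.IsNormalScheme h.normalization ∧ IsIntegralHom h.fromNormalization ∧
      ∃ _ : IrreducibleSpace ↥h.normalization,
        h.fromNormalization.base ⁻¹' {genericPoint X} = {genericPoint h.normalization} ∧
          IsIso (h.fromNormalization.stalkMap (genericPoint h.normalization)) := by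
  refine ⟨isNormalScheme_normalization X h hh, inferInstance, inferInstance, ?_,
    isIso_stalkMap_fromNormalization X h hh⟩
  ext z
  constructor
  · intro hz
    exact eq_genericPoint_of_isIntegralHom h.fromNormalization z hz
  · rintro rfl
    exact fromNormalization_genericPoint X h hh

theorem good_of_iso {X : Scheme.{u}} [IsIntegral X] {Y Z : Scheme.{u}} (e : Y ≅ Z) (g : Z ⟶ X)
    (hg : Pi1.IsNormalScheme Z ∧ IsIntegralHom g ∧ ∃ _ : IrreducibleSpace ↥Z,
      g.base ⁻¹' {genericPoint X} = {genericPoint Z} ∧ IsIso (g.stalkMap (genericPoint Z))) :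
    Pi1.IsNormalScheme Y ∧ IsIntegralHom (e.hom ≫ g) ∧ ∃ _ : IrreducibleSpace ↥Y,
      (e.hom ≫ g).base ⁻¹' {genericPoint X} = {genericPoint Y} ∧
        IsIso ((e.hom ≫ g).stalkMap (genericPoint Y)) := by
  obtain ⟨hN, hint, hirr, hfib, hiso⟩ := hg
  haveI : IrreducibleSpace Y :=
    (e.inv.homeomorph).surjective.irreducibleSpace (e.inv.homeomorph).continuous
  have hNY : Pi1.IsNormalScheme Y := by
    intro y
    obtain ⟨hd, hic⟩ := hN (e.hom y)
    let ρ : Z.presheaf.stalk (e.hom y) ≃+* Y.presheaf.stalk y :=
      (asIso (e.hom.stalkMap y)).commRingCatIsoToRingEquiv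
    exact ⟨ρ.symm.toMulEquiv.isDomain, IsIntegrallyClosed.of_equiv ρ⟩
  have hgen : e.hom (genericPoint Y) = genericPoint Z := genericPoint_eq_of_isOpenImmersion e.hom
  refine ⟨hNY, inferInstance, inferInstance, ?_, ?_⟩
  · ext y
    change g (e.hom y) ∈ ({genericPoint X} : Set X) ↔ y = genericPoint Y
    constructor
    · intro hy
      have h1 : e.hom y ∈ g.base ⁻¹' {genericPoint X} := hy
      rw [hfib, Set.mem_singleton_iff, ← hgen] at h1
      exact (e.hom.homeomorph).injective h1
    · rintro rfl
      rw [hgen]
      have : genericPoint Z ∈ g.base ⁻¹' {genericPoint X} := by rw [hfib]; rfl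
      exact this
  · rw [Scheme.Hom.stalkMap_comp]
    have h1 : IsIso (g.stalkMap (e.hom (genericPoint Y))) := by rw [hgen]; exact hiso
    have h2 : IsIso (e.hom.stalkMap (genericPoint Y)) := inferInstance
    exact IsIso.comp_isIso' h1 h2

end Groth.Agent.Lib.Helper6.NormIso
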