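import Mathlib
import Groth.Prelude.Def_Pi1
import Groth.Agent.Lib.Helper6.NormIsoB

set_option autoImplicit false
set_option linter.style.haveILetI false
universe u
open CategoryTheory AlgebraicGeometry

namespace Groth.Agent.Lib.Helper6.NormIso

open Groth.Agent.Lib.Helper6.GU

theorem quasiCompact_of_field_source {X : Scheme.{u}} {K : Type u} [Field K]
    (g : Spec (CommRingCat.of K) ⟶ X) : QuasiCompact g := by
  haveI : Finite (Spec (CommRingCat.of K)) :=
    inferInstanceAs (Finite (PrimeSpectrum K))
  exact ⟨fun U _ _ => (Set.toFinite _).isCompact⟩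

/-- An integral birational morphism from a normal scheme to a normal integral scheme is an
isomorphism. -/
theorem isIso_of_good_of_normal (X : Scheme.{u}) [IsIntegral X] (hX : Pi1.IsNormalScheme X)
    {Y : Scheme.{u}} (f : Y ⟶ X) (hN : Pi1.IsNormalScheme Y) [IsIntegralHom f]
    [IrreducibleSpace Y]
    (hfib : f.base ⁻¹' {genericPoint X} = {genericPoint Y})
    (hiso : IsIso (f.stalkMap (genericPoint Y))) : IsIso f := by
  haveI : QuasiCompact (genHom X X.functionField (𝟙 _)) := quasiCompact_of_field_source _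
  obtain ⟨e, he⟩ := exists_iso_of_good X (genHom X X.functionField (𝟙 _)) rfl f hN hfib hiso
  obtain ⟨e0, he0⟩ := exists_iso_of_good X (genHom X X.functionField (𝟙 _)) rfl (𝟙 X) hX
    (by simp) inferInstance
  have hι : (genHom X X.functionField (𝟙 _)).fromNormalization = e0.inv := by
    rw [← cancel_epi e0.hom, he0, Iso.hom_inv_id]
  rw [← he, hι]
  infer_instance

theorem isNormalScheme_opens {Y : Scheme.{u}} (hN : Pi1.IsNormalScheme Y) (W : Y.Opens) :
    Pi1.IsNormalScheme W := by
  intro y
  obtain ⟨hd, hic⟩ := hN y.1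
  let ρ : (W : Scheme).presheaf.stalk y ≃+* Y.presheaf.stalk y.1 :=
    (W.stalkIso y).commRingCatIsoToRingEquiv
  exact ⟨ρ.toMulEquiv.isDomain, IsIntegrallyClosed.of_equiv ρ.symm⟩

end Groth.Agent.Lib.Helper6.NormIso
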