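import Groth.Agent.Lib.Helper12.UnivHomeo
import Mathlib.AlgebraicGeometry.Morphisms.Separated
import Mathlib.AlgebraicGeometry.Morphisms.Proper

set_option autoImplicit false
universe u

open CategoryTheory AlgebraicGeometry Limits

namespace Groth.Agent.Lib.Helper6.UHDesc

open Groth.Agent.Lib.Helper12

variable {X Y Z : Scheme.{u}}

theorem isSeparated_of_isUnivHomeo {f : X ⟶ Y} (h : FlatMor.IsUnivHomeo f) : IsSeparated f := by
  have := IsUnivHomeo.universallyInjective h
  exact ⟨isClosedImmersion_diagonal_of_universallyInjective f⟩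

/-- If `f ≫ g` is quasi-compact and `f` is surjective, then `g` is quasi-compact. -/
theorem quasiCompact_of_comp_of_surjective (f : X ⟶ Y) (g : Y ⟶ Z) [QuasiCompact (f ≫ g)]
    [Surjective f] : QuasiCompact g := by
  constructor
  intro U hU hUc
  have h1 := QuasiCompact.isCompact_preimage (f := f ≫ g) U hU hUc
  have hsurj : Function.Surjective f := f.surjective
  have : g ⁻¹' U = f '' ((f ≫ g) ⁻¹' U) := by
    rw [Scheme.Hom.comp_base, TopCat.coe_comp, Set.preimage_comp, Set.image_preimage_eq _ hsurj]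
  rw [this]
  exact h1.image f.continuous

/-- If `f ≫ g` is separated and `f` is surjective and universally closed, then `g` is separated. -/
theorem isSeparated_of_comp_of_surjective (f : X ⟶ Y) (g : Y ⟶ Z) [IsSeparated (f ≫ g)]
    [Surjective f] [UniversallyClosed f] : IsSeparated g := by
  have hmap : UniversallyClosed (pullback.map (f ≫ g) (f ≫ g) g g f f (𝟙 Z) (by simp) (by simp)) :=
    MorphismProperty.pullbackMap (P := @UniversallyClosed) (f := f ≫ g) (g := f ≫ g)
      (f' := g) (g' := g) (i₁ := f) (i₂ := f) inferInstance inferInstance rfl rfl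
  have hcl : IsClosed (Set.range (pullback.diagonal g)) := by
    have hsurj : Function.Surjective f := f.surjective
    have e : Set.range (pullback.diagonal g) =
        (pullback.map (f ≫ g) (f ≫ g) g g f f (𝟙 Z) (by simp) (by simp)) ''
          Set.range (pullback.diagonal (f ≫ g)) := by
      rw [← Set.range_comp, ← TopCat.coe_comp, ← Scheme.Hom.comp_base, ← pullback.comp_diagonal,
        Scheme.Hom.comp_base, TopCat.coe_comp, Set.range_comp, hsurj.range_eq, Set.image_univ]
    rw [e]
    exact (Scheme.Hom.isClosedMap _) _ (pullback.diagonal (f ≫ g)).isClosedEmbedding.isClosed_range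
  exact ⟨IsClosedImmersion.of_isPreimmersion _ hcl⟩

theorem IsUnivHomeo.restrict {f : X ⟶ Y} (h : FlatMor.IsUnivHomeo f) (V : Y.Opens) :
    FlatMor.IsUnivHomeo (f ∣_ V) :=
  MorphismProperty.of_isPullback (isPullback_morphismRestrict f V).flip h

set_option backward.isDefEq.respectTransparency.types false in
/-- If `f ≫ g` is quasi-separated and `f` is a universal homeomorphism, then `g` is
quasi-separated. -/
theorem quasiSeparated_of_comp_of_isUnivHomeo (f : X ⟶ Y) (g : Y ⟶ Z) [QuasiSeparated (f ≫ g)]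
    (hf : FlatMor.IsUnivHomeo f) : QuasiSeparated g := by
  rw [HasAffineProperty.eq_targetAffineLocally (P := @QuasiSeparated)]
  intro U
  have h1 : QuasiSeparated (f ≫ g) := inferInstance
  rw [HasAffineProperty.eq_targetAffineLocally (P := @QuasiSeparated)] at h1
  have h2 : QuasiSeparatedSpace ↥((f ≫ g) ⁻¹ᵁ U.1).toScheme := h1 U
  have h3 : IsHomeomorph (f ∣_ (g ⁻¹ᵁ U.1)).base :=
    IsUnivHomeo.isHomeomorph (IsUnivHomeo.restrict hf (g ⁻¹ᵁ U.1))
  change QuasiSeparatedSpace ↥(g ⁻¹ᵁ U.1).toScheme
  obtain ⟨e, he⟩ := isHomeomorph_iff_exists_homeomorph.mp h3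
  have h4 : QuasiSeparatedSpace ↥(f ⁻¹ᵁ g ⁻¹ᵁ U.1).toScheme := h2
  exact e.symm.isOpenEmbedding.quasiSeparatedSpace

end Groth.Agent.Lib.Helper6.UHDesc
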