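import Mathlib

set_option autoImplicit false
set_option linter.style.haveILetI false

namespace Groth.Agent.Lib.Helper6.NormalTotalFrac

open Polynomial

section Basic

variable {A : Type*} [CommRing A]

/-- In a reduced ring an element lying in every minimal prime is zero. -/
theorem eq_zero_of_forall_mem_minimalPrimes [IsReduced A] {a : A}
    (h : ∀ q ∈ minimalPrimes A, a ∈ q) : a = 0 := by
  have h1 : a ∈ sInf (minimalPrimes A) := by
    rw [Ideal.mem_sInf]; exact fun {q} hq => h q hq
  rw [minimalPrimes, Ideal.sInf_minimalPrimes] at h1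
  have h2 : (⊥ : Ideal A).radical = ⊥ := by
    have := nilradical_eq_zero A
    rwa [nilradical] at this
  rw [h2] at h1
  exact h1

/-- In a reduced ring an element lying in no minimal prime is a non-zero-divisor. -/
theorem mem_nonZeroDivisors_of_forall_notMem [IsReduced A] {a : A}
    (h : ∀ q ∈ minimalPrimes A, a ∉ q) : a ∈ nonZeroDivisors A := by
  rw [mem_nonZeroDivisors_iff_right]
  intro x hx
  refine eq_zero_of_forall_mem_minimalPrimes fun q hq => ?_
  have hq' : q.IsPrime := hq.1.1
  have : x * a ∈ q := by rw [hx]; exact q.zero_mem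
  exact (hq'.mem_or_mem this).resolve_right (h q hq)

/-- Prime avoidance among finitely many minimal primes: for any predicate there is an element
lying in exactly those minimal primes satisfying it. -/
theorem exists_mem_iff (hfin : (minimalPrimes A).Finite) (P : Ideal A → Prop) :
    ∃ a : A, ∀ q ∈ minimalPrimes A, (P q → a ∈ q) ∧ (¬ P q → a ∉ q) := by
  classical
  set S₁ := hfin.toFinset.filter P with hS₁
  set S₂ := hfin.toFinset.filter (fun q => ¬ P q) with hS₂
  have hex : ∃ a ∈ S₁.inf id, ∀ q ∈ S₂, a ∉ q := by
    by_contra hcon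
    push Not at hcon
    have hsub : ((S₁.inf id : Ideal A) : Set A) ⊆ ⋃ q ∈ (↑S₂ : Set (Ideal A)), (id q : Ideal A) := by
      intro a ha
      obtain ⟨q, hq, haq⟩ := hcon a ha
      exact Set.mem_biUnion (Finset.mem_coe.mpr hq) haq
    have hprime : ∀ q ∈ S₂, q ≠ ⊥ → q ≠ ⊥ → (id q : Ideal A).IsPrime := by
      intro q hq _ _
      rw [hS₂, Finset.mem_filter, Set.Finite.mem_toFinset] at hq
      exact hq.1.1.1
    obtain ⟨q, hq, hle⟩ := (Ideal.subset_union_prime (f := id) ⊥ ⊥ hprime).mp hsub
    rw [hS₂, Finset.mem_filter, Set.Finite.mem_toFinset] at hq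
    have hqp : q.IsPrime := hq.1.1.1
    obtain ⟨q', hq', hle'⟩ := (Ideal.IsPrime.inf_le' hqp).mp hle
    rw [hS₁, Finset.mem_filter, Set.Finite.mem_toFinset] at hq'
    have heq : q = q' := le_antisymm (hq.1.2 ⟨hq'.1.1.1, bot_le⟩ hle') hle'
    exact hq.2 (heq ▸ hq'.2)
  obtain ⟨a, ha, ha'⟩ := hex
  refine ⟨a, fun q hq => ⟨fun hP => ?_, fun hP => ?_⟩⟩
  · have : q ∈ S₁ := by
      rw [hS₁, Finset.mem_filter, Set.Finite.mem_toFinset]; exact ⟨hq, hP⟩
    exact (Finset.inf_le (f := id) this) ha
  · have : q ∈ S₂ := by
      rw [hS₂, Finset.mem_filter, Set.Finite.mem_toFinset]; exact ⟨hq, hP⟩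
    exact ha' q this

end Basic

section Phi

variable {A : Type*} [CommRing A] (M : Submonoid A) (hM : M ≤ nonZeroDivisors A)
  (Q : Type*) [CommRing Q] [Algebra A Q] [IsLocalization M Q]
  (p : Ideal A) [p.IsPrime]

theorem algebraMap_ne_zero_of_mem_nonZeroDivisors {d : A} (hd : d ∈ nonZeroDivisors A) :
    algebraMap A (Localization.AtPrime p) d ≠ 0 := by
  intro h0
  obtain ⟨v, hv⟩ := (IsLocalization.map_eq_zero_iff p.primeCompl _ d).mp h0
  have : (v : A) = 0 := (mem_nonZeroDivisors_iff_right.mp hd) v hv
  exact v.2 (this ▸ p.zero_mem)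

variable [IsDomain (Localization.AtPrime p)]

include hM in
theorem isUnit_algebraMap_fractionRing (y : M) :
    IsUnit (Algebra.ofId A (FractionRing (Localization.AtPrime p)) (y : A)) := by
  have h1 := algebraMap_ne_zero_of_mem_nonZeroDivisors p (hM y.2)
  have h2 : algebraMap A (FractionRing (Localization.AtPrime p)) (y : A) ≠ 0 := by
    rw [IsScalarTower.algebraMap_apply A (Localization.AtPrime p)]
    intro h0
    exact h1 ((IsFractionRing.injective (Localization.AtPrime p) _) (by rw [h0, map_zero]))
  exact IsUnit.mk0 _ h2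

/-- The canonical map from (a partial) total ring of fractions to the fraction field of the
local ring at `p`, when the latter is a domain. -/
noncomputable def phi : Q →ₐ[A] FractionRing (Localization.AtPrime p) :=
  IsLocalization.liftAlgHom (M := M) (isUnit_algebraMap_fractionRing M hM p)

include hM in
theorem exists_smul_eq_zero_of_phi_eq_zero (z : Q) (hz : phi M hM Q p z = 0) :
    ∃ v : A, v ∉ p ∧ v • z = 0 := by
  obtain ⟨n, d, rfl⟩ := IsLocalization.exists_mk'_eq M z
  have h1 : phi M hM Q p (algebraMap A Q n) = 0 := by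
    have : algebraMap A Q n = IsLocalization.mk' Q n d * algebraMap A Q d := by
      rw [IsLocalization.mk'_spec]
    rw [this, map_mul, hz, zero_mul]
  rw [AlgHom.commutes, IsScalarTower.algebraMap_apply A (Localization.AtPrime p)] at h1
  have h2 : algebraMap A (Localization.AtPrime p) n = 0 :=
    (IsFractionRing.injective (Localization.AtPrime p) _) (by rw [h1, map_zero])
  obtain ⟨v, hv⟩ := (IsLocalization.map_eq_zero_iff p.primeCompl _ n).mp h2
  refine ⟨v, v.2, ?_⟩
  rw [IsLocalization.smul_mk', hv, IsLocalization.mk'_zero]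

include hM in
/-- If `A_p` is an integrally closed domain, every element of `Q` integral over `A` is carried
into `A` by some element outside `p`. -/
theorem exists_smul_eq_of_isIntegral [IsIntegrallyClosed (Localization.AtPrime p)] (x : Q)
    (hx : IsIntegral A x) : ∃ t : A, t ∉ p ∧ ∃ c : A, t • x = algebraMap A Q c := by
  have h1 : IsIntegral A (phi M hM Q p x) := hx.map (phi M hM Q p)
  have h2 : IsIntegral (Localization.AtPrime p) (phi M hM Q p x) := h1.tower_top
  obtain ⟨ℓ, hℓ⟩ := (isIntegrallyClosed_iff (FractionRing (Localization.AtPrime p))).mp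
    inferInstance h2
  obtain ⟨c, s, rfl⟩ := IsLocalization.exists_mk'_eq p.primeCompl ℓ
  have h3 : phi M hM Q p ((s : A) • x - algebraMap A Q c) = 0 := by
    rw [map_sub, map_smul, AlgHom.commutes, ← hℓ, Algebra.smul_def,
      IsScalarTower.algebraMap_apply A (Localization.AtPrime p), ← map_mul,
      IsLocalization.mk'_spec', ← IsScalarTower.algebraMap_apply A (Localization.AtPrime p),
      sub_self]
  obtain ⟨v, hv, hv0⟩ := exists_smul_eq_zero_of_phi_eq_zero M hM Q p _ h3
  refine ⟨v * s, ?_, v * c, ?_⟩
  · exact fun h => (Ideal.IsPrime.mem_or_mem inferInstance h).elim hv s.2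
  · rw [smul_sub, sub_eq_zero] at hv0
    rw [mul_smul, hv0, Algebra.smul_def, map_mul]

end Phi


section Main

variable {A : Type*} [CommRing A] [IsReduced A] (hfin : (minimalPrimes A).Finite)
  (Q : Type*) [CommRing Q] [Algebra A Q] [IsFractionRing A Q]
  (p : Ideal A) [p.IsPrime]
  (H : ∀ x : Q, IsIntegral A x → ∃ t : A, t ∉ p ∧ ∃ c : A, t • x = algebraMap A Q c)

include hfin H in
theorem exists_mul_eq_zero_of_mul_eq_zero (x y u : A) (hu : u ∉ p) (h : u * x * y = 0) :
    (∃ v : A, v ∉ p ∧ v * x = 0) ∨ (∃ v : A, v ∉ p ∧ v * y = 0) := by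
  obtain ⟨a, ha⟩ := exists_mem_iff hfin (fun q => x ∈ q)
  obtain ⟨b, hb⟩ := exists_mem_iff hfin (fun q => x ∉ q)
  have hab : a * b = 0 := eq_zero_of_forall_mem_minimalPrimes fun q hq => by
    by_cases hx : x ∈ q
    · exact q.mul_mem_right _ ((ha q hq).1 hx)
    · exact q.mul_mem_left _ ((hb q hq).1 hx)
  have hnzd : a + b ∈ nonZeroDivisors A :=
    mem_nonZeroDivisors_of_forall_notMem fun q hq hmem => by
      by_cases hx : x ∈ q
      · have h1 := (ha q hq).1 hx
        have h2 := (hb q hq).2 (not_not.mpr hx)
        exact h2 (by simpa using q.sub_mem hmem h1)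
      · have h1 := (hb q hq).1 hx
        have h2 := (ha q hq).2 hx
        exact h2 (by simpa using q.sub_mem hmem h1)
  set e : Q := IsLocalization.mk' Q b ⟨a + b, hnzd⟩ with he
  have hee : e * e = e := by
    rw [he, ← IsLocalization.mk'_mul, IsLocalization.mk'_eq_iff_eq]
    congr 1
    simp only [Submonoid.coe_mul]
    linear_combination (-(a + b)) * hab
  have hint : IsIntegral A e := by
    refine ⟨X ^ 2 - X, monic_X_pow_sub (lt_of_le_of_lt degree_X_le (by norm_num)), ?_⟩
    rw [eval₂_sub, eval₂_X_pow, eval₂_X, sq, hee, sub_self]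
  obtain ⟨t, ht, c, hc⟩ := H e hint
  have h1 : t * b = c * (a + b) := by
    apply IsFractionRing.injective A Q
    have h2 : e * algebraMap A Q (a + b) = algebraMap A Q b := IsLocalization.mk'_spec _ _ _
    rw [map_mul, map_mul, ← hc, ← h2, Algebra.smul_def]
    ring
  have hca : c * a = (t - c) * b := by linear_combination (-1 : A) * h1
  have hca0 : c * a = 0 := by
    have : (c * a) ^ 2 = 0 := by linear_combination (c * a) * hca + c * (t - c) * hab
    exact IsNilpotent.eq_zero ⟨2, this⟩
  have htcb : (t - c) * b = 0 := by rw [← hca, hca0]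
  have hor : c ∉ p ∨ t - c ∉ p := by
    by_contra hcon
    push Not at hcon
    exact ht (by simpa using p.add_mem hcon.1 hcon.2)
  rcases hor with hc' | hc'
  · left
    refine ⟨c, hc', eq_zero_of_forall_mem_minimalPrimes fun q hq => ?_⟩
    have hq' : q.IsPrime := hq.1.1
    by_cases hx : x ∈ q
    · exact q.mul_mem_left c hx
    · have haq := (ha q hq).2 hx
      have : c * a ∈ q := by rw [hca0]; exact q.zero_mem
      exact q.mul_mem_right _ ((hq'.mem_or_mem this).resolve_right haq)
  · right
    refine ⟨(t - c) * u, fun hmem => (Ideal.IsPrime.mem_or_mem inferInstance hmem).elim hc' hu,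
      eq_zero_of_forall_mem_minimalPrimes fun q hq => ?_⟩
    have hq' : q.IsPrime := hq.1.1
    by_cases hx : x ∈ q
    · have hbq := (hb q hq).2 (not_not.mpr hx)
      have : (t - c) * b ∈ q := by rw [htcb]; exact q.zero_mem
      have h3 := (hq'.mem_or_mem this).resolve_right hbq
      exact q.mul_mem_right _ (q.mul_mem_right _ h3)
    · have : u * x * y ∈ q := by rw [h]; exact q.zero_mem
      rcases hq'.mem_or_mem this with h3 | h3
      · have h4 := (hq'.mem_or_mem h3).resolve_right hx
        exact q.mul_mem_right _ (q.mul_mem_left _ h4)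
      · exact q.mul_mem_left _ h3

include hfin H in
theorem isDomain_localization : IsDomain (Localization.AtPrime p) := by
  haveI : NoZeroDivisors (Localization.AtPrime p) := ⟨fun {α β} hαβ => by
    obtain ⟨x, s, rfl⟩ := IsLocalization.exists_mk'_eq p.primeCompl α
    obtain ⟨y, s', rfl⟩ := IsLocalization.exists_mk'_eq p.primeCompl β
    rw [← IsLocalization.mk'_mul, IsLocalization.mk'_eq_zero_iff] at hαβ
    obtain ⟨u, hu⟩ := hαβ
    rcases exists_mul_eq_zero_of_mul_eq_zero hfin Q p H x y u u.2
      (by rw [mul_assoc]; exact hu) with ⟨v, hv, h0⟩ | ⟨v, hv, h0⟩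
    · left; rw [IsLocalization.mk'_eq_zero_iff]; exact ⟨⟨v, hv⟩, h0⟩
    · right; rw [IsLocalization.mk'_eq_zero_iff]; exact ⟨⟨v, hv⟩, h0⟩⟩
  exact NoZeroDivisors.to_isDomain _

include hfin H in
theorem isIntegrallyClosed_localization [IsDomain (Localization.AtPrime p)] :
    IsIntegrallyClosed (Localization.AtPrime p) := by
  have hM : nonZeroDivisors A ≤ nonZeroDivisors A := le_rfl
  refine (isIntegrallyClosed_iff (FractionRing (Localization.AtPrime p))).mpr fun {x} hx => ?_
  -- write `x = N / D` with `N, D ∈ A`
  obtain ⟨N, D, hD, hxD⟩ : ∃ N D : A, algebraMap A (Localization.AtPrime p) D ≠ 0 ∧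
      x * algebraMap A (FractionRing (Localization.AtPrime p)) D =
        algebraMap A (FractionRing (Localization.AtPrime p)) N := by
    obtain ⟨⟨α, β⟩, hαβ⟩ := IsLocalization.surj (nonZeroDivisors (Localization.AtPrime p)) x
    obtain ⟨⟨N0, s⟩, hN⟩ := IsLocalization.surj p.primeCompl α
    obtain ⟨⟨D0, s'⟩, hD⟩ := IsLocalization.surj p.primeCompl (β : Localization.AtPrime p)
    dsimp only at hαβ hN hD
    refine ⟨N0 * s', D0 * s, ?_, ?_⟩
    · rw [map_mul, ← hD]
      exact mul_ne_zero (mul_ne_zero (nonZeroDivisors.ne_zero β.2)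
        (IsLocalization.map_units (Localization.AtPrime p) s').ne_zero)
        (IsLocalization.map_units (Localization.AtPrime p) s).ne_zero
    · have e1 : algebraMap A (FractionRing (Localization.AtPrime p)) (D0 * s) = algebraMap (Localization.AtPrime p) (FractionRing (Localization.AtPrime p)) β *
          algebraMap (Localization.AtPrime p) (FractionRing (Localization.AtPrime p)) (algebraMap A (Localization.AtPrime p) s') *
          algebraMap (Localization.AtPrime p) (FractionRing (Localization.AtPrime p)) (algebraMap A (Localization.AtPrime p) s) := by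
        rw [IsScalarTower.algebraMap_apply A (Localization.AtPrime p) (FractionRing (Localization.AtPrime p)), map_mul, ← hD, map_mul, map_mul]
      have e2 : algebraMap A (FractionRing (Localization.AtPrime p)) (N0 * s') = algebraMap (Localization.AtPrime p) (FractionRing (Localization.AtPrime p)) α *
          algebraMap (Localization.AtPrime p) (FractionRing (Localization.AtPrime p)) (algebraMap A (Localization.AtPrime p) s) *
          algebraMap (Localization.AtPrime p) (FractionRing (Localization.AtPrime p)) (algebraMap A (Localization.AtPrime p) s') := by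
        rw [IsScalarTower.algebraMap_apply A (Localization.AtPrime p) (FractionRing (Localization.AtPrime p)), map_mul, ← hN, map_mul, map_mul]
      rw [e1, e2, ← hαβ]
      ring
  -- make the denominator a non-zero-divisor
  obtain ⟨D', hD'nzd, hD'eq⟩ : ∃ D' ∈ nonZeroDivisors A,
      algebraMap A (Localization.AtPrime p) D' = algebraMap A (Localization.AtPrime p) D := by
    obtain ⟨a', ha'⟩ := exists_mem_iff hfin (fun q => D ∉ q)
    refine ⟨D + a', mem_nonZeroDivisors_of_forall_notMem fun q hq hmem => ?_, ?_⟩
    · by_cases hDq : D ∈ q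
      · exact (ha' q hq).2 (not_not.mpr hDq) (by simpa using q.sub_mem hmem hDq)
      · exact hDq (by simpa using q.sub_mem hmem ((ha' q hq).1 hDq))
    · have hDa : D * a' = 0 := eq_zero_of_forall_mem_minimalPrimes fun q hq => by
        by_cases hDq : D ∈ q
        · exact q.mul_mem_right _ hDq
        · exact q.mul_mem_left _ ((ha' q hq).1 hDq)
      have h0 : algebraMap A (Localization.AtPrime p) D *
          algebraMap A (Localization.AtPrime p) a' = 0 := by rw [← map_mul, hDa, map_zero]
      have ha0 : algebraMap A (Localization.AtPrime p) a' = 0 :=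
        (mul_eq_zero.mp h0).resolve_left hD
      rw [map_add, ha0, add_zero]
  obtain ⟨m, P, hPmonic, hPy⟩ :=
    IsIntegral.exists_multiple_integral_of_isLocalization p.primeCompl x hx
  set φ := phi (nonZeroDivisors A) hM Q p with hφ
  set ξ : Q := IsLocalization.mk' Q ((m : A) * N) ⟨D', hD'nzd⟩ with hξ
  have hD'K : algebraMap A (FractionRing (Localization.AtPrime p)) D' ≠ 0 := by
    rw [IsScalarTower.algebraMap_apply A (Localization.AtPrime p), hD'eq]
    intro h0
    exact hD ((IsFractionRing.injective (Localization.AtPrime p) _) (by rw [h0, map_zero]))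
  have hφξ : φ ξ = m • x := by
    have h1 : φ ξ * algebraMap A (FractionRing (Localization.AtPrime p)) D' =
        algebraMap A (FractionRing (Localization.AtPrime p)) (m * N) := by
      rw [← AlgHom.commutes φ D', ← map_mul]
      have : ξ * algebraMap A Q D' = algebraMap A Q (m * N) := IsLocalization.mk'_spec _ _ _
      rw [this, AlgHom.commutes]
    have h2 : (m • x) * algebraMap A (FractionRing (Localization.AtPrime p)) D' =
        algebraMap A (FractionRing (Localization.AtPrime p)) (m * N) := by
      rw [IsScalarTower.algebraMap_apply A (Localization.AtPrime p) _ D', hD'eq,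
        ← IsScalarTower.algebraMap_apply A (Localization.AtPrime p) _ D, smul_mul_assoc, hxD,
        Submonoid.smul_def, Algebra.smul_def, ← map_mul]
    exact mul_right_cancel₀ hD'K (h1.trans h2.symm)
  have hφζ : φ (aeval ξ P) = 0 := by
    rw [← aeval_algHom_apply, hφξ]; exact hPy
  obtain ⟨v, hv, hvζ⟩ := exists_smul_eq_zero_of_phi_eq_zero _ hM Q p _ hφζ
  have hint : IsIntegral A (v • ξ) := by
    refine ⟨P.scaleRoots v, (monic_scaleRoots_iff v).mpr hPmonic, ?_⟩
    rw [Algebra.smul_def, scaleRoots_eval₂_mul]
    have hn : P.natDegree ≠ 0 := by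
      intro h0
      have hP1 : P = 1 := hPmonic.natDegree_eq_zero.mp h0
      rw [hP1, eval₂_one] at hPy
      exact one_ne_zero hPy
    obtain ⟨k, hk⟩ := Nat.exists_eq_succ_of_ne_zero hn
    rw [hk, pow_succ, mul_assoc, ← Algebra.smul_def v, ← aeval_def, hvζ, mul_zero]
  obtain ⟨t, ht, c, hc⟩ := H _ hint
  have hs : t * v * m ∈ p.primeCompl := by
    intro hmem
    rcases Ideal.IsPrime.mem_or_mem inferInstance hmem with h3 | h3
    · exact (Ideal.IsPrime.mem_or_mem inferInstance h3).elim ht hv
    · exact m.2 h3
  have h5 : (t * v * (m : A)) • x = algebraMap A (FractionRing (Localization.AtPrime p)) c := by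
    have := congrArg φ hc
    rw [map_smul, map_smul, hφξ, AlgHom.commutes] at this
    rw [mul_smul, mul_smul]; exact this
  refine ⟨IsLocalization.mk' (Localization.AtPrime p) c ⟨t * v * m, hs⟩, ?_⟩
  have hne : algebraMap A (FractionRing (Localization.AtPrime p)) (t * v * m) ≠ 0 := by
    rw [IsScalarTower.algebraMap_apply A (Localization.AtPrime p)]
    intro h0
    exact (IsLocalization.map_units (Localization.AtPrime p) (⟨_, hs⟩ : p.primeCompl)).ne_zero
      ((IsFractionRing.injective (Localization.AtPrime p) _) (by rw [h0, map_zero]))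
  apply mul_right_cancel₀ hne
  rw [IsScalarTower.algebraMap_apply A (Localization.AtPrime p), ← map_mul]
  have : IsLocalization.mk' (Localization.AtPrime p) c ⟨t * v * m, hs⟩ *
      algebraMap A (Localization.AtPrime p) (t * v * m) = algebraMap A _ c :=
    IsLocalization.mk'_spec _ _ _
  rw [this, ← IsScalarTower.algebraMap_apply A (Localization.AtPrime p), ← h5, Algebra.smul_def,
    mul_comm, IsScalarTower.algebraMap_apply A (Localization.AtPrime p)]

include hfin H in
/-- Main criterion: if every element of the total ring of fractions integral over `A` is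
carried into `A` by an element outside `p`, then `A_p` is an integrally closed domain. -/
theorem normal_at_of_forall_integral :
    IsDomain (Localization.AtPrime p) ∧ IsIntegrallyClosed (Localization.AtPrime p) := by
  haveI := isDomain_localization hfin Q p H
  exact ⟨inferInstance, isIntegrallyClosed_localization hfin Q p H⟩

end Main

section Consequences

variable {A : Type*} [CommRing A] (Q : Type*) [CommRing Q] [Algebra A Q] [IsFractionRing A Q]

/-- Characterisation of the normal locus of a reduced ring with finitely many minimal primes. -/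
theorem normal_at_iff [IsReduced A] (hfin : (minimalPrimes A).Finite) (p : Ideal A) [p.IsPrime] :
    (IsDomain (Localization.AtPrime p) ∧ IsIntegrallyClosed (Localization.AtPrime p)) ↔
      ∀ x : Q, IsIntegral A x → ∃ t : A, t ∉ p ∧ ∃ c : A, t • x = algebraMap A Q c := by
  constructor
  · rintro ⟨h1, h2⟩ x hx
    exact exists_smul_eq_of_isIntegral (nonZeroDivisors A) le_rfl Q p x hx
  · intro H
    exact normal_at_of_forall_integral hfin Q p H

/-- A reduced ring with finitely many minimal primes which is integrally closed in its total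
ring of fractions is normal. -/
theorem normal_of_integrallyClosed_in_totalFrac [IsReduced A] (hfin : (minimalPrimes A).Finite)
    (H : ∀ x : Q, IsIntegral A x → ∃ c : A, x = algebraMap A Q c) (p : Ideal A) [p.IsPrime] :
    IsDomain (Localization.AtPrime p) ∧ IsIntegrallyClosed (Localization.AtPrime p) := by
  refine normal_at_of_forall_integral hfin Q p fun x hx => ?_
  obtain ⟨c, hc⟩ := H x hx
  exact ⟨1, fun h => Ideal.IsPrime.ne_top inferInstance ((Ideal.eq_top_iff_one p).mpr h), c,
    by rw [one_smul, hc]⟩

/-- A normal subalgebra of the total ring of fractions contains every element integral over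
the base. -/
theorem mem_of_isIntegral_of_normal (B : Subalgebra A Q)
    (hB : ∀ (P : Ideal B) [P.IsPrime],
      IsDomain (Localization.AtPrime P) ∧ IsIntegrallyClosed (Localization.AtPrime P))
    (x : Q) (hx : IsIntegral A x) : x ∈ B := by
  set M : Submonoid B := (nonZeroDivisors A).map (algebraMap A B) with hMdef
  have hunit : ∀ d ∈ nonZeroDivisors A, IsUnit (algebraMap A Q d) := fun d hd =>
    IsLocalization.map_units Q (⟨d, hd⟩ : nonZeroDivisors A)
  have hM : M ≤ nonZeroDivisors B := by
    rintro _ ⟨d, hd, rfl⟩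
    rw [mem_nonZeroDivisors_iff_right]
    intro b hb
    have h1 : (b : Q) * algebraMap A Q d = 0 := by
      have := congrArg (Subtype.val) hb
      simpa using this
    have h2 : (b : Q) = 0 := (hunit d hd).mul_left_eq_zero.mp h1
    exact Subtype.ext h2
  haveI : IsLocalization M Q := by
    rw [isLocalization_iff]
    refine ⟨?_, ?_, ?_⟩
    · rintro ⟨_, d, hd, rfl⟩
      exact hunit d hd
    · intro z
      obtain ⟨⟨a, d⟩, h⟩ := IsLocalization.surj (nonZeroDivisors A) z
      exact ⟨(algebraMap A B a, ⟨algebraMap A B d, d, d.2, rfl⟩), h⟩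
    · intro b b' h
      exact ⟨1, by rw [Subtype.ext h]⟩
  set I : Ideal B :=
    { carrier := {b | (b : Q) * x ∈ B}
      add_mem' := fun {b b'} hb hb' => by
        simp only [Set.mem_ofPred_eq, Subalgebra.coe_add, add_mul] at hb hb' ⊢
        exact B.add_mem hb hb'
      zero_mem' := by simp
      smul_mem' := fun c b hb => by
        simp only [Set.mem_ofPred_eq, smul_eq_mul, Subalgebra.coe_mul, mul_assoc] at hb ⊢
        exact B.mul_mem c.2 hb } with hI
  have hItop : I = ⊤ := by
    by_contra hne
    obtain ⟨P, hP, hle⟩ := Ideal.exists_le_maximal I hne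
    haveI := hP.isPrime
    obtain ⟨hd, hic⟩ := hB P
    have hx' : IsIntegral B x := hx.tower_top
    obtain ⟨t, ht, c, hc⟩ := exists_smul_eq_of_isIntegral M hM Q P x hx'
    refine ht (hle ?_)
    change (t : Q) * x ∈ B
    have : (t : Q) * x = (c : Q) := hc
    rw [this]; exact c.2
  have h1 : (1 : B) ∈ I := by rw [hItop]; exact Submodule.mem_top
  have : ((1 : B) : Q) * x ∈ B := h1
  simpa using this

/-- The normal locus of a reduced Noetherian ring with finite normalization is open. -/
theorem isOpen_normal_locus [IsNoetherianRing A] [IsReduced A]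
    (h : Module.Finite A (integralClosure A Q)) :
    IsOpen {p : PrimeSpectrum A | IsDomain (Localization.AtPrime p.asIdeal) ∧
      IsIntegrallyClosed (Localization.AtPrime p.asIdeal)} := by
  classical
  have hfin : (minimalPrimes A).Finite := minimalPrimes.finite_of_isNoetherianRing A
  obtain ⟨G, hG⟩ := (Module.Finite.fg_top : (⊤ : Submodule A (integralClosure A Q)).FG)
  let J : integralClosure A Q → Ideal A := fun g =>
    (LinearMap.range (Algebra.linearMap A Q)).colon {(g : Q)}
  have hJ : ∀ g t, t ∈ J g ↔ ∃ c : A, t • (g : Q) = algebraMap A Q c := by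
    intro g t
    rw [Submodule.mem_colon_singleton, LinearMap.mem_range]
    simp only [Algebra.linearMap_apply]
    exact ⟨fun ⟨c, hc⟩ => ⟨c, hc.symm⟩, fun ⟨c, hc⟩ => ⟨c, hc.symm⟩⟩
  have hset : {p : PrimeSpectrum A | IsDomain (Localization.AtPrime p.asIdeal) ∧
      IsIntegrallyClosed (Localization.AtPrime p.asIdeal)} =
      ⋂ g ∈ G, (PrimeSpectrum.zeroLocus (J g : Set A))ᶜ := by
    ext p
    rw [Set.mem_ofPred_eq, normal_at_iff Q hfin p.asIdeal]
    simp only [Set.mem_iInter, Set.mem_compl_iff, PrimeSpectrum.mem_zeroLocus,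
      SetLike.coe_subset_coe]
    constructor
    · intro H g _ hle
      obtain ⟨t, ht, c, hc⟩ := H (g : Q) g.2
      exact ht (hle ((hJ g t).mpr ⟨c, hc⟩))
    · intro H x hx
      have hmem : (⟨x, hx⟩ : integralClosure A Q) ∈ Submodule.span A (G : Set _) := by
        rw [hG]; exact Submodule.mem_top
      have key : ∀ y : integralClosure A Q, y ∈ Submodule.span A (G : Set _) →
          ∃ t : A, t ∉ p.asIdeal ∧ ∃ c : A, t • (y : Q) = algebraMap A Q c := by
        intro y hy
        induction hy using Submodule.span_induction with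
        | mem g hg =>
          have := H g hg
          rw [SetLike.not_le_iff_exists] at this
          obtain ⟨t, htJ, htp⟩ := this
          obtain ⟨c, hc⟩ := (hJ g t).mp htJ
          exact ⟨t, htp, c, hc⟩
        | zero =>
          exact ⟨1, fun h => p.isPrime.ne_top ((Ideal.eq_top_iff_one _).mpr h), 0, by simp⟩
        | add y z _ _ hy hz =>
          obtain ⟨t1, ht1, c1, hc1⟩ := hy
          obtain ⟨t2, ht2, c2, hc2⟩ := hz
          refine ⟨t1 * t2, fun h => (p.isPrime.mem_or_mem h).elim ht1 ht2,
            t2 * c1 + t1 * c2, ?_⟩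
          rw [Subalgebra.coe_add, smul_add, mul_smul, smul_comm t1 t2 (y : Q), hc1,
            mul_smul, hc2, map_add, map_mul, map_mul, Algebra.smul_def, Algebra.smul_def]
        | smul a y _ hy =>
          obtain ⟨t, ht, c, hc⟩ := hy
          refine ⟨t, ht, a * c, ?_⟩
          rw [Subalgebra.coe_smul, smul_comm, hc, Algebra.smul_def, map_mul]
      exact key _ hmem
  rw [hset]
  exact isOpen_biInter_finset fun g _ => (PrimeSpectrum.isClosed_zeroLocus _).isOpen_compl

end Consequences

end Groth.Agent.Lib.Helper6.NormalTotalFrac
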