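import Mathlib

set_option autoImplicit false
universe u

open CategoryTheory AlgebraicGeometry Limits

namespace Groth.Agent.Lib.Helper6.RankOne

/-- Every point of a quasi-sober T0 space has a generization which is a maximal point. -/
theorem exists_maximal_generization {X : Type*} [TopologicalSpace X] [QuasiSober X] [T0Space X]
    (x : X) : ∃ η : X, η ⤳ x ∧ ∀ y : X, y ⤳ η → y = η := by
  have hZ : IsIrreducible (irreducibleComponent x) := isIrreducible_irreducibleComponent
  have hcl : IsClosed (irreducibleComponent x) := isClosed_irreducibleComponent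
  have hη : IsGenericPoint hZ.genericPoint (irreducibleComponent x) :=
    hZ.isGenericPoint_genericPoint hcl
  refine ⟨hZ.genericPoint, ?_, fun y hy => ?_⟩
  · rw [specializes_iff_mem_closure, hη.def]
    exact mem_irreducibleComponent
  · have h1 : irreducibleComponent x ⊆ closure {y} := by
      rw [← hη.def]
      exact specializes_iff_closure_subset.mp hy
    have h2 := (irreducibleComponent_property x).2.2 (closure {y})
      isPreirreducible_singleton.closure h1
    exact IsGenericPoint.eq (isGenericPoint_def.mpr h2) hη

/-- Generalizing maps send maximal points to maximal points. -/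
theorem maximal_of_generalizingMap {X Y : Type*} [TopologicalSpace X] [TopologicalSpace Y]
    {f : X → Y} (hf : GeneralizingMap f) (η : X) (hη : ∀ y : X, y ⤳ η → y = η) :
    ∀ z : Y, z ⤳ f η → z = f η := by
  intro z hz
  obtain ⟨y', hy', rfl⟩ := hf hz
  rw [hη y' hy']

/-- A point where a finite flat finitely presented morphism has positive rank is in the image. -/
theorem mem_range_of_one_le_finrank {X Y : Scheme.{u}} (f : X ⟶ Y) [Flat f] [IsFinite f]
    [LocallyOfFinitePresentation f] (y : Y) (h : 1 ≤ f.finrank y) : y ∈ Set.range f := by
  haveI : Flat (f.fiberToSpecResidueField y) :=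
    MorphismProperty.of_isPullback (P := @Flat)
      (IsPullback.of_hasPullback f (Y.fromSpecResidueField y)) inferInstance
  haveI : IsFinite (f.fiberToSpecResidueField y) :=
    MorphismProperty.of_isPullback (P := @IsFinite)
      (IsPullback.of_hasPullback f (Y.fromSpecResidueField y)) inferInstance
  haveI : LocallyOfFinitePresentation (f.fiberToSpecResidueField y) :=
    MorphismProperty.of_isPullback (P := @LocallyOfFinitePresentation)
      (IsPullback.of_hasPullback f (Y.fromSpecResidueField y)) inferInstance
  have h1 : 1 ≤ (f.fiberToSpecResidueField y).finrank := by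
    intro p
    change 1 ≤ (pullback.snd f (Y.fromSpecResidueField y)).finrank p
    rw [Scheme.Hom.finrank_pullback_snd, Scheme.fromSpecResidueField_apply]
    exact h
  have h2 := (Scheme.Hom.one_le_finrank_iff_surjective _).mp h1
  obtain ⟨z, -⟩ := h2.surj (IsLocalRing.closedPoint _)
  have h3 : f.fiberι y z ∈ f ⁻¹' {y} := by
    rw [← Scheme.Hom.range_fiberι]
    exact ⟨z, rfl⟩
  exact ⟨f.fiberι y z, h3⟩

end Groth.Agent.Lib.Helper6.RankOne
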