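import Mathlib
import Groth.Agent.Lib.Helper6.RankOne1
import Groth.Agent.Lib.Helper6.EtLocScheme4
import Groth.Agent.Lib.Helper25.ClosedImmNear

set_option autoImplicit false
universe u

open CategoryTheory AlgebraicGeometry Limits

namespace Groth.Agent.Lib.Helper6.RankOne

open Groth.Agent.Lib.Helper6.EtLoc

/-- A morphism whose fibre over `y` is empty or isomorphic to the residue field has a monomorphic
fibre projection and at most one point over `y`. -/
theorem mono_fiberToSpecResidueField {X Y : Scheme.{u}} (f : X ⟶ Y) (y : Y)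
    (h : IsEmpty ↑(f.fiber y) ∨ IsIso (f.fiberToSpecResidueField y)) :
    Mono (f.fiberToSpecResidueField y) := by
  rcases h with h | h
  · refine ⟨fun {Z} a b _ => ?_⟩
    haveI : IsEmpty ↑Z := Function.isEmpty a
    exact (isInitialOfIsEmpty (X := Z)).hom_ext a b
  · infer_instance

theorem eq_of_fiber_subsingleton {X Y : Scheme.{u}} (f : X ⟶ Y) (y : Y)
    (h : IsEmpty ↑(f.fiber y) ∨ IsIso (f.fiberToSpecResidueField y)) (w w' : X)
    (hw : f w = y) (hw' : f w' = y) : w = w' := by
  have hsub : Subsingleton ↑(f.fiber y) := by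
    rcases h with h | h
    · exact ⟨fun a => (h.false a).elim⟩
    · refine ⟨fun a b => ?_⟩
      have h1 : f.fiberToSpecResidueField y a = f.fiberToSpecResidueField y b := by
        rw [Scheme.Hom.fiberToSpecResidueField_apply, Scheme.Hom.fiberToSpecResidueField_apply]
      exact (ConcreteCategory.bijective_of_isIso
        (Scheme.forgetToTop.map (f.fiberToSpecResidueField y))).1 h1
  have h2 : (f.fiberHomeo y).symm ⟨w, hw⟩ = (f.fiberHomeo y).symm ⟨w', hw'⟩ := Subsingleton.elim _ _
  exact congrArg Subtype.val ((f.fiberHomeo y).symm.injective h2)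

set_option backward.isDefEq.respectTransparency.types false in
set_option maxHeartbeats 800000 in
/-- Local form of SGA7-style criterion: a flat, finitely presented, separated, quasi-finite morphism
whose fibres over maximal points have rank at most one is an isomorphism over a neighbourhood of
every point of its image. -/
theorem exists_opens_isIso_restrict {T S : Scheme.{u}} (g : T ⟶ S) [LocallyQuasiFinite g]
    [LocallyOfFinitePresentation g] [QuasiCompact g] [IsSeparated g] [Flat g]
    (hmax : ∀ s : S, (∀ t : S, t ⤳ s → t = s) →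
      IsEmpty ↑(g.fiber s) ∨ IsIso (g.fiberToSpecResidueField s))
    (t₀ : T) : ∃ O : S.Opens, g t₀ ∈ O ∧ IsIso (g ∣_ O) := by
  classical
  have hfin : (g ⁻¹' {g t₀}).Finite := g.finite_preimage_singleton (g t₀)
  obtain ⟨n, x, hrange⟩ := hfin.fin_embedding
  have hs : ∀ i, g (x i) = g t₀ := fun i => by
    have : x i ∈ g ⁻¹' {g t₀} := hrange ▸ Set.mem_range_self i
    exact this
  obtain ⟨U, e, u, -, he, hu, -, V, v, -, hV, hclopen, hfinite⟩ :=
    exists_etale_nbhd_family_separated g (g t₀) x x.injective hs (fun i => g.quasiFiniteAt (x i))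
  -- notation
  have hpb : IsPullback (pullback.fst g e) (pullback.snd g e) g e := IsPullback.of_hasPullback g e
  haveI : Flat (pullback.snd g e) := MorphismProperty.of_isPullback (P := @Flat) hpb inferInstance
  haveI : LocallyOfFinitePresentation (pullback.snd g e) :=
    MorphismProperty.of_isPullback (P := @LocallyOfFinitePresentation) hpb inferInstance
  let Vs : (pullback g e).Opens := ⨆ i, V i
  let h : Vs.toScheme ⟶ U := Vs.ι ≫ pullback.snd g e
  haveI : IsFinite h := hfinite
  haveI : Flat h := MorphismProperty.comp_mem @Flat _ _ inferInstance inferInstance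
  haveI : LocallyOfFinitePresentation h :=
    MorphismProperty.comp_mem @LocallyOfFinitePresentation _ _ inferInstance inferInstance
  -- all points over `u` lie in `Vs`
  have hcond : ∀ w : ↑(pullback g e), g (pullback.fst g e w) = e (pullback.snd g e w) := fun w =>
    congr($(pullback.condition (f := g) (g := e)) w)
  have hptu : ∀ w : ↑(pullback g e), pullback.snd g e w = u → w ∈ Vs := by
    intro w hw
    have h1 : pullback.fst g e w ∈ Set.range x := by
      rw [hrange]
      change g (pullback.fst g e w) = g t₀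
      rw [hcond, hw, hu]
    obtain ⟨i, hi⟩ := h1
    have h2 := (hV i).2.2.2.2.2.2.2 w hw hi.symm
    rw [h2]
    exact (le_iSup V i) (hV i).2.1
  -- `u` is in the range of `h`
  have hurange : u ∈ Set.range h := by
    have h1 : t₀ ∈ Set.range x := by rw [hrange]; rfl
    obtain ⟨i₀, hi₀⟩ := h1
    exact ⟨⟨v i₀, (le_iSup V i₀) (hV i₀).2.1⟩, (hV i₀).2.2.2.1⟩
  have hr1 : 1 ≤ h.finrank u := by
    obtain ⟨p, hp⟩ := hurange
    rw [← hp]
    exact Scheme.Hom.one_le_finrank_map h p
  let N : U.Opens := ⟨{u' | h.finrank u' = h.finrank u},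
    (Scheme.Hom.isLocallyConstant_finrank h).isOpen_fiber _⟩
  have huN : u ∈ N := rfl
  -- fibres over maximal points
  have hfibmax : ∀ u'' : U, (∀ y : U, y ⤳ u'' → y = u'') →
      IsEmpty ↑((pullback.snd g e).fiber u'') ∨
        IsIso ((pullback.snd g e).fiberToSpecResidueField u'') := by
    intro u'' hu''
    rcases hmax (e u'') (maximal_of_generalizingMap (Flat.generalizingMap e) u'' hu'') with h1 | h1
    · exact Or.inl (Groth.Agent.Lib.Helper25.ClosedImmNear.isEmpty_fiber_of_isPullback hpb u'' h1)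
    · exact Or.inr
        (Groth.Agent.Lib.Helper25.ClosedImmNear.isIso_fiberToSpecResidueField_of_isPullback hpb u''
          h1)
  -- (i) the rank is one
  have hrank : h.finrank u = 1 := by
    obtain ⟨u'', hu''spec, hu''max⟩ := exists_maximal_generization u
    have hu''N : u'' ∈ N := hu''spec.mem_open N.2 huN
    have hmono := mono_fiberToSpecResidueField (pullback.snd g e) u'' (hfibmax u'' hu''max)
    have hpb'' := IsPullback.of_hasPullback h (U.fromSpecResidueField u'')
    haveI : Flat (h.fiberToSpecResidueField u'') :=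
      MorphismProperty.of_isPullback (P := @Flat) hpb'' inferInstance
    haveI : IsFinite (h.fiberToSpecResidueField u'') :=
      MorphismProperty.of_isPullback (P := @IsFinite) hpb'' inferInstance
    haveI : LocallyOfFinitePresentation (h.fiberToSpecResidueField u'') :=
      MorphismProperty.of_isPullback (P := @LocallyOfFinitePresentation) hpb'' inferInstance
    have hfr : ∀ p, (h.fiberToSpecResidueField u'').finrank p = h.finrank u := by
      intro p
      change (pullback.snd h (U.fromSpecResidueField u'')).finrank p = _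
      rw [Scheme.Hom.finrank_pullback_snd, Scheme.fromSpecResidueField_apply]
      exact hu''N
    haveI : Surjective (h.fiberToSpecResidueField u'') :=
      (Scheme.Hom.one_le_finrank_iff_surjective _).mp (fun p => by rw [hfr]; exact hr1)
    haveI : Mono (h.fiberToSpecResidueField u'') := by
      refine ⟨fun {Z} a b hab => ?_⟩
      change Z ⟶ pullback h (U.fromSpecResidueField u'') at a b
      change a ≫ pullback.snd h _ = b ≫ pullback.snd h _ at hab
      -- lifts to the fibre of `pullback.snd g e`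
      have hc : pullback.fst h (U.fromSpecResidueField u'') ≫ Vs.ι ≫ pullback.snd g e =
          pullback.snd h _ ≫ U.fromSpecResidueField u'' := pullback.condition
      let ca : Z ⟶ (pullback.snd g e).fiber u'' :=
        pullback.lift (a ≫ pullback.fst h _ ≫ Vs.ι) (a ≫ pullback.snd h _)
          (by simp only [Category.assoc]; rw [hc])
      let cb : Z ⟶ (pullback.snd g e).fiber u'' :=
        pullback.lift (b ≫ pullback.fst h _ ≫ Vs.ι) (b ≫ pullback.snd h _)
          (by simp only [Category.assoc]; rw [hc])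
      have hcab : ca = cb := by
        rw [← cancel_mono ((pullback.snd g e).fiberToSpecResidueField u'')]
        have e3 : ca ≫ pullback.snd _ _ = a ≫ pullback.snd h _ := pullback.lift_snd _ _ _
        have e4 : cb ≫ pullback.snd _ _ = b ≫ pullback.snd h _ := pullback.lift_snd _ _ _
        change ca ≫ pullback.snd _ _ = cb ≫ pullback.snd _ _
        rw [e3, e4]
        exact hab
      have h1 : a ≫ pullback.fst h _ ≫ Vs.ι = b ≫ pullback.fst h _ ≫ Vs.ι := by
        have e1 : ca ≫ pullback.fst _ _ = a ≫ pullback.fst h _ ≫ Vs.ι := pullback.lift_fst _ _ _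
        have e2 : cb ≫ pullback.fst _ _ = b ≫ pullback.fst h _ ≫ Vs.ι := pullback.lift_fst _ _ _
        rw [← e1, ← e2, hcab]
      refine pullback.hom_ext ?_ hab
      rw [← cancel_mono Vs.ι, Category.assoc, Category.assoc]
      exact h1
    haveI : IsIso (h.fiberToSpecResidueField u'') := Flat.isIso_of_surjective_of_mono _
    have h2 := Scheme.Hom.finrank_eq_one_of_isIso (h.fiberToSpecResidueField u'')
    have h3 := congrFun h2 (IsLocalRing.closedPoint _)
    exact (hfr (IsLocalRing.closedPoint _)).symm.trans h3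
  -- (ii) `h` is an isomorphism over `N`
  haveI hisoN : IsIso (h ∣_ N) := by
    haveI : IsFinite (h ∣_ N) := IsZariskiLocalAtTarget.restrict (P := @IsFinite) inferInstance N
    haveI : Flat (h ∣_ N) := IsZariskiLocalAtTarget.restrict (P := @Flat) inferInstance N
    haveI : LocallyOfFinitePresentation (h ∣_ N) :=
      IsZariskiLocalAtTarget.restrict (P := @LocallyOfFinitePresentation) inferInstance N
    rw [Scheme.Hom.isIso_iff_finrank_eq]
    ext y
    rw [Scheme.Hom.finrank_of_isPullback _ _ _ _ (isPullback_morphismRestrict h N).flip y]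
    exact y.2.trans hrank
  -- (iii) every point over `N` lies in `Vs`
  have hptN : ∀ w : ↑(pullback g e), pullback.snd g e w ∈ N → w ∈ Vs := by
    intro w hw
    by_contra hwV
    let W' : (pullback g e).Opens :=
      ⟨(Vs : Set ↑(pullback g e))ᶜ, hclopen.1.isOpen_compl⟩ ⊓ (pullback.snd g e) ⁻¹ᵁ N
    have hopen : IsOpen ((pullback.snd g e) '' (W' : Set ↑(pullback g e))) :=
      (pullback.snd g e).isOpenMap _ W'.2
    have hmem : pullback.snd g e w ∈ (pullback.snd g e) '' (W' : Set ↑(pullback g e)) :=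
      ⟨w, ⟨hwV, hw⟩, rfl⟩
    obtain ⟨u'', hu''spec, hu''max⟩ := exists_maximal_generization (pullback.snd g e w)
    obtain ⟨w'', ⟨hw''V, hw''N⟩, hw''⟩ := hu''spec.mem_open hopen hmem
    have hu''N : u'' ∈ N := by rw [← hw'']; exact hw''N
    have h1 : 1 ≤ h.finrank u'' := by
      have : h.finrank u'' = h.finrank u := hu''N
      rw [this]; exact hr1
    obtain ⟨p, hp⟩ := mem_range_of_one_le_finrank h u'' h1
    have h2 := eq_of_fiber_subsingleton (pullback.snd g e) u'' (hfibmax u'' hu''max) w'' p.1 hw'' hp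
    exact hw''V (h2 ▸ p.2)
  -- (iv) `pullback.snd g e` is an isomorphism over `N`
  have hrangek : Set.range ((h ⁻¹ᵁ N).ι ≫ Vs.ι) ⊆ Set.range ((pullback.snd g e) ⁻¹ᵁ N).ι := by
    rintro _ ⟨p, rfl⟩
    rw [Scheme.Opens.range_ι]
    exact p.2
  let k : (h ⁻¹ᵁ N).toScheme ⟶ ((pullback.snd g e) ⁻¹ᵁ N).toScheme :=
    IsOpenImmersion.lift ((pullback.snd g e) ⁻¹ᵁ N).ι ((h ⁻¹ᵁ N).ι ≫ Vs.ι) hrangek
  have hk : k ≫ ((pullback.snd g e) ⁻¹ᵁ N).ι = (h ⁻¹ᵁ N).ι ≫ Vs.ι := IsOpenImmersion.lift_fac _ _ _
  haveI : IsOpenImmersion k := by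
    haveI : IsOpenImmersion (k ≫ ((pullback.snd g e) ⁻¹ᵁ N).ι) := by rw [hk]; infer_instance
    exact IsOpenImmersion.of_comp k ((pullback.snd g e) ⁻¹ᵁ N).ι
  haveI : Surjective k := by
    refine ⟨fun w => ?_⟩
    have hwV : w.1 ∈ Vs := hptN w.1 w.2
    let p : Vs.toScheme := ⟨w.1, hwV⟩
    have hpN : p ∈ h ⁻¹ᵁ N := w.2
    refine ⟨⟨p, hpN⟩, ?_⟩
    apply ((pullback.snd g e) ⁻¹ᵁ N).ι.isOpenEmbedding.injective
    have := congr($hk ⟨p, hpN⟩)
    exact this
  haveI : IsIso k := (isIso_iff_isOpenImmersion_and_surjective k).mpr ⟨inferInstance, inferInstance⟩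
  have hk2 : k ≫ (pullback.snd g e ∣_ N) = h ∣_ N := by
    rw [← cancel_mono N.ι, Category.assoc, morphismRestrict_ι, reassoc_of% hk, morphismRestrict_ι]
  haveI hiso2 : IsIso (pullback.snd g e ∣_ N) := by
    have : pullback.snd g e ∣_ N = inv k ≫ (h ∣_ N) := by rw [← hk2, IsIso.inv_hom_id_assoc]
    rw [this]; infer_instance
  -- (v) descent
  let O : S.Opens := ⟨e '' (N : Set U), e.isOpenMap _ N.2⟩
  have hrangeN : Set.range (N.ι ≫ e) ⊆ Set.range O.ι := by
    rintro _ ⟨p, rfl⟩
    rw [Scheme.Opens.range_ι]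
    exact ⟨p.1, p.2, rfl⟩
  let eN : N.toScheme ⟶ O.toScheme := IsOpenImmersion.lift O.ι (N.ι ≫ e) hrangeN
  have heN : eN ≫ O.ι = N.ι ≫ e := IsOpenImmersion.lift_fac _ _ _
  haveI : Surjective eN := by
    refine ⟨fun y => ?_⟩
    obtain ⟨p, hp, hpy⟩ := y.2
    refine ⟨⟨p, hp⟩, ?_⟩
    apply O.ι.isOpenEmbedding.injective
    have := congr($heN ⟨p, hp⟩)
    exact this.trans hpy
  have hEt : Etale (eN ≫ O.ι) := by rw [heN]; infer_instance
  haveI : Etale eN := MorphismProperty.of_postcomp (W := @Etale) (W' := @IsOpenImmersion) eN O.ι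
    inferInstance hEt
  have hcomm : ((pullback.snd g e ⁻¹ᵁ N).ι ≫ pullback.fst g e) ≫ g =
      ((pullback.snd g e ∣_ N) ≫ eN) ≫ O.ι := by
    rw [Category.assoc, Category.assoc, heN, pullback.condition, morphismRestrict_ι_assoc]
  let k₂ : ((pullback.snd g e) ⁻¹ᵁ N).toScheme ⟶ (g ⁻¹ᵁ O).toScheme :=
    (isPullback_morphismRestrict g O).flip.lift ((pullback.snd g e ⁻¹ᵁ N).ι ≫ pullback.fst g e)
      ((pullback.snd g e ∣_ N) ≫ eN) hcomm
  have hk₂1 : k₂ ≫ (g ⁻¹ᵁ O).ι = (pullback.snd g e ⁻¹ᵁ N).ι ≫ pullback.fst g e :=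
    (isPullback_morphismRestrict g O).flip.lift_fst _ _ _
  have hk₂2 : k₂ ≫ (g ∣_ O) = (pullback.snd g e ∣_ N) ≫ eN :=
    (isPullback_morphismRestrict g O).flip.lift_snd _ _ _
  have hsq : IsPullback k₂ (pullback.snd g e ∣_ N) (g ∣_ O) eN := by
    refine IsPullback.of_right ?_ hk₂2 (isPullback_morphismRestrict g O).flip
    rw [hk₂1, heN]
    exact (isPullback_morphismRestrict (pullback.snd g e) N).flip.paste_horiz hpb
  have hdesc := MorphismProperty.of_isPullback_of_descendsAlong
    (P := MorphismProperty.isomorphisms Scheme.{u})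
    (Q := @Surjective ⊓ @Flat ⊓ @LocallyOfFinitePresentation) hsq.flip
    ⟨⟨inferInstance, inferInstance⟩, inferInstance⟩ hiso2
  exact ⟨O, ⟨u, huN, hu⟩, hdesc⟩

end Groth.Agent.Lib.Helper6.RankOne
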