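import Mathlib
import Groth.Agent.Lib.Helper6.UB8
import Groth.Agent.Lib.Helper6.RankOne2

set_option autoImplicit false
universe u

open CategoryTheory AlgebraicGeometry Limits

namespace Groth.Agent.Lib.Helper6.RatSec

open Groth.Agent.Lib.Helper6.UB

/-- The image of the generic point under a section specializes to every point of the closure of
the image of the section lying over the irreducible open. -/
theorem specializes_of_mem_closure_range {X Y : Scheme.{u}} (f : X ⟶ Y) (U : Y.Opens)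
    (u : U.toScheme ⟶ X) (hu : u ≫ f = U.ι)
    (Y₀ : Y.Opens) (η : Y) (hη : ∀ t ∈ Y₀, η ⤳ t) (hηU : η ∈ U)
    (x : X) (hx : x ∈ closure (Set.range u)) (hfx : f x ∈ Y₀) :
    u (⟨η, hηU⟩ : U.toScheme) ⤳ x := by
  have h1 : x ∈ closure ((f ⁻¹ᵁ Y₀ : Set X) ∩ Set.range u) :=
    (f ⁻¹ᵁ Y₀).isOpen.inter_closure ⟨hfx, hx⟩
  have h2 : (f ⁻¹ᵁ Y₀ : Set X) ∩ Set.range u ⊆ closure {u (⟨η, hηU⟩ : U.toScheme)} := by
    rintro _ ⟨ht, t, rfl⟩
    have hft : f (u t) = t.1 := congr($hu t)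
    have h3 : η ⤳ t.1 := hη _ (hft ▸ ht)
    have h4 : (⟨η, hηU⟩ : U.toScheme) ⤳ t := (subtype_specializes_iff _ _).mpr h3
    exact specializes_iff_mem_closure.mp (h4.map u.continuous)
  exact specializes_iff_mem_closure.mpr (closure_minimal h2 isClosed_closure h1)

/-- An étale morphism whose fibre over `s` is a single point through which a `κ(s)`-point passes
has trivial fibre over `s`. -/
theorem isIso_fiberToSpecResidueField_of_section {T S : Scheme.{u}} (g : T ⟶ S) [Etale g] (s : S)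
    (c : Spec (S.residueField s) ⟶ T) (hc : c ≫ g = S.fromSpecResidueField s)
    (hsub : ∀ t t' : T, g t = s → g t' = s → t = t') :
    IsIso (g.fiberToSpecResidueField s) := by
  let σ : Spec (S.residueField s) ⟶ g.fiber s :=
    pullback.lift c (𝟙 _) (by rw [hc, Category.id_comp])
  have hσ : σ ≫ g.fiberToSpecResidueField s = 𝟙 _ := pullback.lift_snd _ _ _
  haveI : Etale (g.fiberToSpecResidueField s) :=
    MorphismProperty.of_isPullback (P := @Etale)
      (IsPullback.of_hasPullback g (S.fromSpecResidueField s)) inferInstance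
  haveI : Etale (σ ≫ g.fiberToSpecResidueField s) := by rw [hσ]; infer_instance
  haveI : Etale σ := Etale.of_comp σ (g.fiberToSpecResidueField s)
  haveI : Mono σ := mono_of_mono_fac hσ
  haveI : IsOpenImmersion σ := IsOpenImmersion.of_flat_of_mono σ
  haveI : Surjective σ := by
    refine ⟨fun a => ⟨IsLocalRing.closedPoint _, ?_⟩⟩
    apply (g.fiberHomeo s).injective
    apply Subtype.ext
    exact hsub _ _ (g.fiberHomeo s _).2 (g.fiberHomeo s _).2
  haveI : IsIso σ := (isIso_iff_isOpenImmersion_and_surjective σ).mpr ⟨inferInstance, inferInstance⟩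
  haveI : IsIso (σ ≫ g.fiberToSpecResidueField s) := by rw [hσ]; infer_instance
  exact IsIso.of_isIso_comp_left σ (g.fiberToSpecResidueField s)

set_option backward.isDefEq.respectTransparency.types false in
set_option maxHeartbeats 800000 in
/-- Shrinking an étale neighbourhood so that its fibre over a maximal point `η` is reduced to the
given generization `x'`. -/
theorem exists_affine_nhd_unique_over {X Y : Scheme.{u}} (f : X ⟶ Y) (W : X.Opens)
    (hW : Etale (W.ι ≫ f)) (Y₀ : Y.Opens) (hY₀ : IsAffineOpen Y₀) (hWY₀ : W ≤ f ⁻¹ᵁ Y₀)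
    (x : X) (hxW : x ∈ W) [IsDomain (X.presheaf.stalk x)]
    (η : Y) (hηmax : ∀ t : Y, t ⤳ η → t = η) (x' : X) (hx'x : x' ⤳ x) (hfx' : f x' = η) :
    ∃ W₃ : X.Opens, IsAffineOpen W₃ ∧ x ∈ W₃ ∧ W₃ ≤ W ∧ ∀ e ∈ W₃, f e = η → e = x' := by
  classical
  haveI := hW
  haveI : LocallyQuasiFinite (W.ι ≫ f) := locallyQuasiFinite_of_unramified _
  have hdisc : _root_.IsDiscrete ((W.ι ≫ f) ⁻¹' {η}) := (W.ι ≫ f).isDiscrete_preimage_singleton η
  have hmaxW : ∀ e ∈ W, f e = η → ∀ t : X, t ⤳ e → t = e := by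
    intro e heW hfe t hte
    have htW : t ∈ W := hte.mem_open W.isOpen heW
    have h1 : f t ⤳ f e := hte.map f.continuous
    rw [hfe] at h1
    have h2 : f t = η := hηmax _ h1
    have h3 : (⟨t, htW⟩ : W.toScheme) ⤳ (⟨e, heW⟩ : W.toScheme) :=
      (subtype_specializes_iff _ _).mpr hte
    have h4 := hdisc.eq_of_specializes h3 (show (W.ι ≫ f) (⟨t, htW⟩ : W.toScheme) = η from h2)
      (show (W.ι ≫ f) (⟨e, heW⟩ : W.toScheme) = η from hfe)
    exact congrArg Subtype.val h4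
  have hx'W : x' ∈ W := hx'x.mem_open W.isOpen hxW
  -- an affine neighbourhood
  have hW₁ : ∃ W₁ : X.Opens, IsAffineOpen W₁ ∧ x ∈ W₁ ∧ W₁ ≤ W := by
    obtain ⟨_, ⟨W₁, hW₁, rfl⟩, hxW₁, hle⟩ :=
      X.isBasis_affineOpens.exists_subset_of_mem_open hxW W.isOpen
    exact ⟨W₁, hW₁, hxW₁, hle⟩
  obtain ⟨W₁, hW₁, hxW₁, hW₁W⟩ := hW₁
  have e₁ : W₁ ≤ f ⁻¹ᵁ Y₀ := hW₁W.trans hWY₀
  have hfin : {e : X | e ∈ W₁ ∧ f e = η}.Finite := by
    by_cases hηY₀ : η ∈ Y₀
    · haveI : IsAffine W₁.toScheme := hW₁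
      haveI : IsAffine Y₀.toScheme := hY₀
      haveI : Etale (W₁.ι ≫ f) := by
        rw [← X.homOfLE_ι hW₁W, Category.assoc]; infer_instance
      haveI : Etale (f.resLE Y₀ W₁ e₁ ≫ Y₀.ι) := by
        rw [Scheme.Hom.resLE_comp_ι]; infer_instance
      haveI : Etale (f.resLE Y₀ W₁ e₁) := Etale.of_comp (f.resLE Y₀ W₁ e₁) Y₀.ι
      haveI : LocallyQuasiFinite (f.resLE Y₀ W₁ e₁) := locallyQuasiFinite_of_unramified _
      have hfin := (f.resLE Y₀ W₁ e₁).finite_preimage_singleton (⟨η, hηY₀⟩ : Y₀.toScheme)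
      refine (hfin.image (fun p : W₁.toScheme => (p.1 : X))).subset ?_
      rintro z ⟨hzW₁, hzη⟩
      refine ⟨(⟨z, hzW₁⟩ : W₁.toScheme), ?_, rfl⟩
      apply Subtype.ext
      have h1 := congr($(Scheme.Hom.resLE_comp_ι f e₁) (⟨z, hzW₁⟩ : W₁.toScheme))
      simp only [Scheme.Hom.comp_apply] at h1
      exact h1.trans hzη
    · convert Set.finite_empty
      rw [Set.eq_empty_iff_forall_notMem]
      rintro z ⟨hzW₁, hzη⟩
      apply hηY₀
      rw [← hzη]
      exact e₁ hzW₁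
  let C : Set X := ⋃ e ∈ {e : X | e ∈ W₁ ∧ f e = η} \ {x'}, closure {e}
  have hCclosed : IsClosed C :=
    (hfin.subset Set.sdiff_subset).isClosed_biUnion (fun _ _ => isClosed_closure)
  have hxC : x ∉ C := by
    intro hx
    simp only [C, Set.mem_iUnion] at hx
    obtain ⟨e, ⟨⟨heW₁, hfe⟩, hne⟩, hxe⟩ := hx
    have hex : e ⤳ x := specializes_iff_mem_closure.mpr hxe
    exact hne (eq_of_specializes_of_isDomain x e x' hex hx'x (hmaxW e (hW₁W heW₁) hfe)
      (hmaxW x' hx'W hfx'))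
  let W₂ : X.Opens := W₁ ⊓ ⟨Cᶜ, hCclosed.isOpen_compl⟩
  have hxW₂ : x ∈ W₂ := ⟨hxW₁, hxC⟩
  obtain ⟨_, ⟨W₃, hW₃, rfl⟩, hxW₃, hle⟩ :=
    X.isBasis_affineOpens.exists_subset_of_mem_open hxW₂ W₂.isOpen
  refine ⟨W₃, hW₃, hxW₃, fun z hz => hW₁W (hle hz).1, ?_⟩
  intro e heW₃ hfe
  by_contra hne
  have h1 : e ∈ C := by
    simp only [C, Set.mem_iUnion]
    exact ⟨e, ⟨⟨(hle heW₃).1, hfe⟩, hne⟩, subset_closure rfl⟩
  exact (hle heW₃).2 h1

end Groth.Agent.Lib.Helper6.RatSec
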