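import Mathlib
import Groth.Agent.Lib.Helper6.RatSec1

set_option autoImplicit false
universe u

open CategoryTheory AlgebraicGeometry Limits

namespace Groth.Agent.Lib.Helper6.RatSec

open Groth.Agent.Lib.Helper6.UB Groth.Agent.Lib.Helper6.RankOne

set_option backward.isDefEq.respectTransparency.types false in
set_option maxHeartbeats 800000 in
/-- Étaleness near `x` of an unramified morphism, when `f x` has an integral open neighbourhood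
and geometrically unibranch local ring, and a generization of `x` maps to the generic point of
that neighbourhood. -/
theorem exists_opens_etale_over_integral_opens {X Y : Scheme.{u}} (f : X ⟶ Y)
    [LocallyOfFiniteType f] [FormallyUnramified f]
    (Y₀ : Y.Opens) [IsIntegral Y₀.toScheme] (x : X) (hfx : f x ∈ Y₀)
    (hGU : CAlg2.IsGeomUnibranch (Y.presheaf.stalk (f x)))
    (x' : X) (hx'x : x' ⤳ x) (hfx' : f x' ∈ Y₀)
    (hη : (⟨f x', hfx'⟩ : Y₀.toScheme) = genericPoint Y₀.toScheme) :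
    IsDomain (Y.presheaf.stalk (f x)) ∧
      ∃ W : X.Opens, x ∈ W ∧ W ≤ f ⁻¹ᵁ Y₀ ∧ Etale (W.ι ≫ f) := by
  haveI : LocallyOfFiniteType (f ∣_ Y₀) :=
    IsZariskiLocalAtTarget.restrict (P := @LocallyOfFiniteType) inferInstance Y₀
  haveI : FormallyUnramified (f ∣_ Y₀) :=
    IsZariskiLocalAtTarget.restrict (P := @FormallyUnramified) inferInstance Y₀
  let x₀ : (f ⁻¹ᵁ Y₀).toScheme := ⟨x, hfx⟩
  let x'₀ : (f ⁻¹ᵁ Y₀).toScheme := ⟨x', hfx'⟩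
  have h1 : (f ∣_ Y₀) x₀ = (⟨f x, hfx⟩ : Y₀.toScheme) :=
    Subtype.ext (morphismRestrict_base_coe f Y₀ x₀)
  have h1' : (f ∣_ Y₀) x'₀ = (⟨f x', hfx'⟩ : Y₀.toScheme) :=
    Subtype.ext (morphismRestrict_base_coe f Y₀ x'₀)
  let eY : Y₀.toScheme.presheaf.stalk (⟨f x, hfx⟩ : Y₀.toScheme) ≃+* Y.presheaf.stalk (f x) :=
    (Y₀.stalkIso ⟨f x, hfx⟩).commRingCatIsoToRingEquiv
  haveI hdomY : IsDomain (Y.presheaf.stalk (f x)) := eY.symm.toMulEquiv.isDomain _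
  refine ⟨hdomY, ?_⟩
  have hGU₀ : CAlg2.IsGeomUnibranch (Y₀.toScheme.presheaf.stalk ((f ∣_ Y₀) x₀)) := by
    rw [h1]
    exact isGeomUnibranch_of_ringEquiv eY.symm hGU
  have hsp : x'₀ ⤳ x₀ := (subtype_specializes_iff _ _).mpr hx'x
  obtain ⟨W₀, hxW₀, hW₀⟩ := exists_opens_etale_of_specializes (f ∣_ Y₀) x₀ hGU₀ x'₀ hsp
    (h1'.trans hη) ⊤ trivial
    (IsZariskiLocalAtSource.comp (P := @LocallyOfFiniteType) inferInstance _)
    (IsZariskiLocalAtSource.comp (P := @FormallyUnramified) inferInstance _)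
  refine ⟨(f ⁻¹ᵁ Y₀).ι ''ᵁ W₀, ⟨x₀, hxW₀, rfl⟩, (f ⁻¹ᵁ Y₀).ι_image_le W₀, ?_⟩
  have e : ((f ⁻¹ᵁ Y₀).ι ''ᵁ W₀).ι ≫ f =
      ((f ⁻¹ᵁ Y₀).ι.isoImage W₀).inv ≫ (W₀.ι ≫ (f ∣_ Y₀)) ≫ Y₀.ι := by
    rw [← Scheme.Hom.isoImage_inv_ι, Category.assoc, Category.assoc, Category.assoc,
      morphismRestrict_ι]
  rw [e]
  haveI := hW₀
  infer_instance

set_option backward.isDefEq.respectTransparency.types false in
set_option maxHeartbeats 1600000 in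
/-- **EGA IV 18.10.x**: extension of a rational section of a separated unramified morphism at a
geometrically unibranch point in the closure of the image. -/
theorem exists_section_nhd {X Y : Scheme.{u}} [IsReduced Y] (f : X ⟶ Y) [IsSeparated f]
    [LocallyOfFiniteType f] [FormallyUnramified f]
    (U : Y.Opens) (u : U.toScheme ⟶ X) (hu : u ≫ f = U.ι)
    (Y₀ : Y.Opens) (hY₀ : IsAffineOpen Y₀) [IsIntegral Y₀.toScheme] (hne : ∃ t, t ∈ U ∧ t ∈ Y₀)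
    (x : X) (hfx : f x ∈ Y₀) (hGU : CAlg2.IsGeomUnibranch (Y.presheaf.stalk (f x)))
    (hx : x ∈ closure (Set.range u)) :
    ∃ (V : Y.Opens) (v : V.toScheme ⟶ X) (hyV : f x ∈ V), v ≫ f = V.ι ∧
      Y.homOfLE (inf_le_left : U ⊓ V ≤ U) ≫ u = Y.homOfLE (inf_le_right : U ⊓ V ≤ V) ≫ v ∧
      v (⟨f x, hyV⟩ : V.toScheme) = x := by
  classical
  -- the generic point
  let η₀ : Y₀.toScheme := genericPoint Y₀.toScheme
  let η : Y := η₀.1
  have hηY₀ : η ∈ Y₀ := η₀.2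
  have hη : ∀ t ∈ Y₀, η ⤳ t := fun t ht => by
    have : η₀ ⤳ (⟨t, ht⟩ : Y₀.toScheme) := genericPoint_specializes _
    exact (subtype_specializes_iff _ _).mp this
  have hηU : η ∈ U := by
    obtain ⟨t, htU, htY₀⟩ := hne
    exact (hη t htY₀).mem_open U.isOpen htU
  have hηmax : ∀ t : Y, t ⤳ η → t = η := fun t ht => by
    have htY₀ : t ∈ Y₀ := ht.mem_open Y₀.isOpen hηY₀
    exact (ht.antisymm (hη t htY₀)).eq
  let x' : X := u (⟨η, hηU⟩ : U.toScheme)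
  have hfx' : f x' = η := congr($hu (⟨η, hηU⟩ : U.toScheme))
  have hx'x : x' ⤳ x := specializes_of_mem_closure_range f U u hu Y₀ η hη hηU x hx hfx
  -- étale neighbourhood
  obtain ⟨hdomY, W, hxW, hWY₀, hW⟩ := exists_opens_etale_over_integral_opens f Y₀ x hfx hGU x'
    hx'x (hfx' ▸ hηY₀) (Subtype.ext hfx')
  haveI := hdomY
  haveI hdomX : IsDomain (X.presheaf.stalk x) :=
    (isGeomUnibranch_stalk_of_etale_nhd f x hdomY hGU W hxW hW).1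
  obtain ⟨W₃, hW₃, hxW₃, hW₃W, huniq⟩ := exists_affine_nhd_unique_over f W hW Y₀ hY₀ hWY₀ x hxW η
    hηmax x' hx'x hfx'
  have hx'W₃ : x' ∈ W₃ := hx'x.mem_open W₃.isOpen hxW₃
  have e₃ : W₃ ≤ f ⁻¹ᵁ Y₀ := hW₃W.trans hWY₀
  haveI : IsAffine W₃.toScheme := hW₃
  haveI : IsAffine Y₀.toScheme := hY₀
  let g₃ : W₃.toScheme ⟶ Y₀.toScheme := f.resLE Y₀ W₃ e₃
  have hg₃ : g₃ ≫ Y₀.ι = W₃.ι ≫ f := Scheme.Hom.resLE_comp_ι f e₃
  haveI := hW
  haveI : Etale (W₃.ι ≫ f) := by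
    rw [← X.homOfLE_ι hW₃W, Category.assoc]; infer_instance
  haveI : Etale (g₃ ≫ Y₀.ι) := by rw [hg₃]; infer_instance
  haveI : Etale g₃ := Etale.of_comp g₃ Y₀.ι
  haveI : LocallyQuasiFinite g₃ := locallyQuasiFinite_of_unramified _
  have hg₃pt : ∀ t : W₃.toScheme, (g₃ t).1 = f t.1 := fun t => congr($hg₃ t)
  -- the rational point of the generic fibre
  have hrange1 : Set.range (Y₀.toScheme.fromSpecResidueField η₀ ≫ Y₀.ι) ⊆ Set.range U.ι := by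
    rintro _ ⟨z, rfl⟩
    rw [Scheme.Opens.range_ι]
    change (Y₀.ι (Y₀.toScheme.fromSpecResidueField η₀ z)) ∈ U
    rw [Scheme.fromSpecResidueField_apply]
    exact hηU
  let j : Spec (Y₀.toScheme.residueField η₀) ⟶ U.toScheme :=
    IsOpenImmersion.lift U.ι (Y₀.toScheme.fromSpecResidueField η₀ ≫ Y₀.ι) hrange1
  have hj : j ≫ U.ι = Y₀.toScheme.fromSpecResidueField η₀ ≫ Y₀.ι := IsOpenImmersion.lift_fac _ _ _
  have hjpt : ∀ z, j z = (⟨η, hηU⟩ : U.toScheme) := by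
    intro z
    apply Subtype.ext
    have := congr($hj z)
    simp only [Scheme.Hom.comp_apply, Scheme.fromSpecResidueField_apply] at this
    exact this
  have hrange2 : Set.range (j ≫ u) ⊆ Set.range W₃.ι := by
    rintro _ ⟨z, rfl⟩
    rw [Scheme.Opens.range_ι]
    change u (j z) ∈ W₃
    rw [hjpt]
    exact hx'W₃
  let c₃ : Spec (Y₀.toScheme.residueField η₀) ⟶ W₃.toScheme :=
    IsOpenImmersion.lift W₃.ι (j ≫ u) hrange2
  have hc₃' : c₃ ≫ W₃.ι = j ≫ u := IsOpenImmersion.lift_fac _ _ _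
  have hc₃ : c₃ ≫ g₃ = Y₀.toScheme.fromSpecResidueField η₀ := by
    rw [← cancel_mono Y₀.ι, Category.assoc, hg₃, reassoc_of% hc₃', hu, hj]
  -- fibres over maximal points
  have hmax : ∀ s : Y₀.toScheme, (∀ t : Y₀.toScheme, t ⤳ s → t = s) →
      IsEmpty ↑(g₃.fiber s) ∨ IsIso (g₃.fiberToSpecResidueField s) := by
    intro s hs
    obtain rfl : η₀ = s := hs η₀ (genericPoint_specializes s)
    refine Or.inr (isIso_fiberToSpecResidueField_of_section g₃ η₀ c₃ hc₃ ?_)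
    intro t t' ht ht'
    apply Subtype.ext
    have h1 : f t.1 = η := by rw [← hg₃pt, ht]
    have h2 : f t'.1 = η := by rw [← hg₃pt, ht']
    exact (huniq t.1 t.2 h1).trans (huniq t'.1 t'.2 h2).symm
  obtain ⟨O, hyO, hiso⟩ := exists_opens_isIso_restrict g₃ hmax (⟨x, hxW₃⟩ : W₃.toScheme)
  haveI := hiso
  -- the section
  let V : Y.Opens := Y₀.ι ''ᵁ O
  let v : V.toScheme ⟶ X := (Y₀.ι.isoImage O).inv ≫ inv (g₃ ∣_ O) ≫ (g₃ ⁻¹ᵁ O).ι ≫ W₃.ι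
  have hv : v ≫ f = V.ι := by
    simp only [v, Category.assoc]
    rw [← hg₃, ← morphismRestrict_ι_assoc, IsIso.inv_hom_id_assoc, Scheme.Hom.isoImage_inv_ι]
  have hyV : f x ∈ V := ⟨g₃ (⟨x, hxW₃⟩ : W₃.toScheme), hyO, hg₃pt _⟩
  have hVY₀ : V ≤ Y₀ := Y₀.ι_image_le O
  have hvx : v (⟨f x, hyV⟩ : V.toScheme) = x := by
    let p : (g₃ ⁻¹ᵁ O).toScheme := ⟨(⟨x, hxW₃⟩ : W₃.toScheme), hyO⟩
    let z' : V.toScheme := (Y₀.ι.isoImage O).hom ((g₃ ∣_ O) p)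
    have h1 : v z' = x := by
      change W₃.ι ((g₃ ⁻¹ᵁ O).ι (inv (g₃ ∣_ O) ((Y₀.ι.isoImage O).inv
        ((Y₀.ι.isoImage O).hom ((g₃ ∣_ O) p))))) = x
      have e1 : (Y₀.ι.isoImage O).inv ((Y₀.ι.isoImage O).hom ((g₃ ∣_ O) p)) = (g₃ ∣_ O) p :=
        congr($((Y₀.ι.isoImage O).hom_inv_id) ((g₃ ∣_ O) p))
      have e2 : inv (g₃ ∣_ O) ((g₃ ∣_ O) p) = p := congr($(IsIso.hom_inv_id (g₃ ∣_ O)) p)
      rw [e1, e2]
      rfl
    have h2 : z' = (⟨f x, hyV⟩ : V.toScheme) := by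
      apply Subtype.ext
      have := congr($hv z')
      simp only [Scheme.Hom.comp_apply] at this
      rw [h1] at this
      exact this.symm
    rw [← h2, h1]
  refine ⟨V, v, hyV, hv, ?_, hvx⟩
  -- compatibility
  have ha : (Y.homOfLE (inf_le_left : U ⊓ V ≤ U) ≫ u) ≫ f = (U ⊓ V).ι := by
    rw [Category.assoc, hu, Y.homOfLE_ι]
  have hb : (Y.homOfLE (inf_le_right : U ⊓ V ≤ V) ≫ v) ≫ f = (U ⊓ V).ι := by
    rw [Category.assoc, hv, Y.homOfLE_ι]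
  let W₄ : X.Opens := W₃.ι ''ᵁ (g₃ ⁻¹ᵁ O)
  have hW₄ : W₄.ι ≫ f = (W₃.ι.isoImage (g₃ ⁻¹ᵁ O)).inv ≫ (g₃ ∣_ O) ≫ O.ι ≫ Y₀.ι := by
    rw [← Scheme.Hom.isoImage_inv_ι, Category.assoc, Category.assoc, ← hg₃,
      ← morphismRestrict_ι_assoc]
  haveI : Mono (W₄.ι ≫ f) := by rw [hW₄]; infer_instance
  have hvW₄ : ∀ z, v z ∈ W₄ := fun z =>
    ⟨_, (inv (g₃ ∣_ O) ((Y₀.ι.isoImage O).inv z)).2, rfl⟩
  have hηV : η ∈ V := (hη (f x) hfx).mem_open V.isOpen hyV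
  let T' : (U ⊓ V).toScheme.Opens := (Y.homOfLE (inf_le_left : U ⊓ V ≤ U) ≫ u) ⁻¹ᵁ W₄
  let ηT : (U ⊓ V).toScheme := ⟨η, hηU, hηV⟩
  have hηT' : ηT ∈ T' := by
    change u (Y.homOfLE (inf_le_left : U ⊓ V ≤ U) ηT) ∈ W₄
    have h1 : Y.homOfLE (inf_le_left : U ⊓ V ≤ U) ηT = (⟨η, hηU⟩ : U.toScheme) := by
      apply Subtype.ext
      exact congr($(Y.homOfLE_ι (inf_le_left : U ⊓ V ≤ U)) ηT)
    rw [h1]
    refine ⟨(⟨x', hx'W₃⟩ : W₃.toScheme), ?_, rfl⟩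
    have h2 : g₃ (⟨x', hx'W₃⟩ : W₃.toScheme) = η₀ := Subtype.ext ((hg₃pt _).trans hfx')
    change g₃ (⟨x', hx'W₃⟩ : W₃.toScheme) ∈ O
    rw [h2]
    exact (genericPoint_specializes (g₃ (⟨x, hxW₃⟩ : W₃.toScheme))).mem_open O.isOpen hyO
  haveI : IsDominant T'.ι := by
    refine ⟨fun t => ?_⟩
    have h1 : ηT ⤳ t := (subtype_specializes_iff _ _).mpr (hη t.1 (hVY₀ t.2.2))
    have h2 : t ∈ closure {ηT} := specializes_iff_mem_closure.mp h1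
    refine closure_mono ?_ h2
    rintro _ rfl
    exact ⟨⟨ηT, hηT'⟩, rfl⟩
  have hra : Set.range (T'.ι ≫ Y.homOfLE (inf_le_left : U ⊓ V ≤ U) ≫ u) ⊆ Set.range W₄.ι := by
    rintro _ ⟨p, rfl⟩
    rw [Scheme.Opens.range_ι]
    exact p.2
  have hrb : Set.range (T'.ι ≫ Y.homOfLE (inf_le_right : U ⊓ V ≤ V) ≫ v) ⊆ Set.range W₄.ι := by
    rintro _ ⟨p, rfl⟩
    rw [Scheme.Opens.range_ι]
    exact hvW₄ _
  have hab' : IsOpenImmersion.lift W₄.ι _ hra = IsOpenImmersion.lift W₄.ι _ hrb := by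
    rw [← cancel_mono (W₄.ι ≫ f), IsOpenImmersion.lift_fac_assoc, IsOpenImmersion.lift_fac_assoc]
    simp only [Category.assoc]
    rw [hu, hv, Y.homOfLE_ι, Y.homOfLE_ι]
  have hab : T'.ι ≫ Y.homOfLE (inf_le_left : U ⊓ V ≤ U) ≫ u =
      T'.ι ≫ Y.homOfLE (inf_le_right : U ⊓ V ≤ V) ≫ v := by
    rw [← IsOpenImmersion.lift_fac W₄.ι _ hra, ← IsOpenImmersion.lift_fac W₄.ι _ hrb, hab']
  exact ext_of_isDominant_of_isSeparated f (ha.trans hb.symm) T'.ι hab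

end Groth.Agent.Lib.Helper6.RatSec
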