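import Mathlib
import Groth.Agent.Lib.Helper6.RatSec2

set_option autoImplicit false
universe u

open CategoryTheory AlgebraicGeometry Limits

namespace Groth.Agent.Lib.Helper6.RatSec

open Groth.Agent.Lib.Helper6.UB

/-- A reduced geometrically unibranch local ring is a domain. -/
theorem isDomain_of_isGeomUnibranch_of_isReduced (A : Type u) [CommRing A] [IsLocalRing A]
    [_root_.IsReduced A] (h : CAlg2.IsGeomUnibranch A) : IsDomain A := by
  have h1 : IsDomain (A ⧸ nilradical A) := h.1.1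
  have h2 : (nilradical A).IsPrime := (Ideal.Quotient.isDomain_iff_prime _).mp h1
  rw [nilradical_eq_zero] at h2
  haveI : (⊥ : Ideal A).IsPrime := h2
  exact IsDomain.of_bot_isPrime A

set_option backward.isDefEq.respectTransparency.types false in
/-- In a reduced scheme with locally finite irreducible components, a point with integral local
ring has an integral affine open neighbourhood. -/
theorem exists_integral_affine_nhd {Y : Scheme.{u}} [IsReduced Y]
    (hcomp : LocallyFinite (fun Z : ↥(irreducibleComponents ↥Y) => (Z : Set ↥Y)))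
    (y : Y) [IsDomain (Y.presheaf.stalk y)] :
    ∃ Y₀ : Y.Opens, IsAffineOpen Y₀ ∧ y ∈ Y₀ ∧ IsIntegral Y₀.toScheme := by
  classical
  set Z₀ : Set Y := irreducibleComponent y with hZ₀def
  have hZ₀ : Z₀ ∈ irreducibleComponents Y := irreducibleComponent_mem_irreducibleComponents y
  let C : Set Y := ⋃ Z : {Z : ↥(irreducibleComponents ↥Y) // (Z : Set Y) ≠ Z₀}, ((Z.1 : Set Y))
  have hCclosed : IsClosed C := by
    refine LocallyFinite.isClosed_iUnion (hcomp.comp_injective Subtype.val_injective) ?_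
    intro Z
    exact isClosed_of_mem_irreducibleComponents _ Z.1.2
  -- generic points of components are maximal points
  have hgen : ∀ Z ∈ irreducibleComponents Y, ∃ ζ : Y, closure {ζ} = Z ∧
      ∀ t : Y, t ⤳ ζ → t = ζ := by
    intro Z hZ
    obtain ⟨ζ, hζ⟩ := QuasiSober.sober hZ.1 (isClosed_of_mem_irreducibleComponents Z hZ)
    have hζ' : closure {ζ} = Z := hζ
    refine ⟨ζ, hζ', fun t ht => ?_⟩
    have h1 : closure {ζ} ⊆ closure {t} := specializes_iff_closure_subset.mp ht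
    have h2 : closure {t} ≤ Z := hZ.2 isIrreducible_singleton.closure (hζ' ▸ h1)
    have h3 : ζ ⤳ t := by
      rw [specializes_iff_mem_closure, hζ']
      exact h2 (subset_closure rfl)
    exact (ht.antisymm h3).eq
  have hyC : y ∉ C := by
    intro hy
    simp only [C, Set.mem_iUnion] at hy
    obtain ⟨⟨Z, hne⟩, hyZ⟩ := hy
    apply hne
    obtain ⟨ζ, hζ, hζmax⟩ := hgen Z.1 Z.2
    obtain ⟨ζ₀, hζ₀, hζ₀max⟩ := hgen Z₀ hZ₀
    have h1 : ζ ⤳ y := by rw [specializes_iff_mem_closure, hζ]; exact hyZ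
    have h2 : ζ₀ ⤳ y := by
      rw [specializes_iff_mem_closure, hζ₀]; exact mem_irreducibleComponent
    have := eq_of_specializes_of_isDomain y ζ ζ₀ h1 h2 hζmax hζ₀max
    rw [← hζ, ← hζ₀, this]
  have hsub : Cᶜ ⊆ Z₀ := by
    intro t ht
    by_contra htZ₀
    apply ht
    simp only [C, Set.mem_iUnion]
    refine ⟨⟨⟨irreducibleComponent t, irreducibleComponent_mem_irreducibleComponents t⟩, ?_⟩,
      mem_irreducibleComponent⟩
    intro h
    apply htZ₀
    rw [← h]
    exact mem_irreducibleComponent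
  have hex : ∃ Y₀ : Y.Opens, IsAffineOpen Y₀ ∧ y ∈ Y₀ ∧ (Y₀ : Set Y) ⊆ Cᶜ := by
    obtain ⟨_, ⟨Y₀, hY₀, rfl⟩, hyY₀, hle⟩ :=
      Y.isBasis_affineOpens.exists_subset_of_mem_open (show y ∈ Cᶜ from hyC)
        hCclosed.isOpen_compl
    exact ⟨Y₀, hY₀, hyY₀, hle⟩
  obtain ⟨Y₀, hY₀, hyY₀, hle⟩ := hex
  refine ⟨Y₀, hY₀, hyY₀, ?_⟩
  have hirr : IsIrreducible (Y₀ : Set Y) :=
    ⟨⟨y, hyY₀⟩, (isIrreducible_irreducibleComponent (x := y)).isPreirreducible.open_subset
      Y₀.isOpen (hle.trans hsub)⟩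
  haveI : IrreducibleSpace Y₀.toScheme := Subtype.irreducibleSpace hirr
  exact isIntegral_of_irreducibleSpace_of_isReduced Y₀.toScheme

/-- **EGA IV 18.10.x** in the form needed for the statements. -/
theorem exists_section_nhd' {X Y : Scheme.{u}} [IsReduced Y]
    (hcomp : LocallyFinite (fun Z : ↥(irreducibleComponents ↥Y) => (Z : Set ↥Y)))
    (f : X ⟶ Y) [IsSeparated f] [LocallyOfFiniteType f] [FormallyUnramified f]
    (U : Y.Opens) (hU : Dense (U : Set ↥Y)) (u : (U : Scheme.{u}) ⟶ X) (hu : u ≫ f = U.ι)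
    (x : X) (hGU : CAlg2.IsGeomUnibranch (Y.presheaf.stalk (f x)))
    (hx : x ∈ closure (Set.range u)) :
    ∃ (V : Y.Opens) (v : V.toScheme ⟶ X) (hyV : f x ∈ V), v ≫ f = V.ι ∧
      Y.homOfLE (inf_le_left : U ⊓ V ≤ U) ≫ u = Y.homOfLE (inf_le_right : U ⊓ V ≤ V) ≫ v ∧
      v (⟨f x, hyV⟩ : V.toScheme) = x := by
  haveI : IsDomain (Y.presheaf.stalk (f x)) := isDomain_of_isGeomUnibranch_of_isReduced _ hGU
  obtain ⟨Y₀, hY₀, hyY₀, hint⟩ := exists_integral_affine_nhd hcomp (f x)
  haveI := hint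
  have hne : ∃ t, t ∈ U ∧ t ∈ Y₀ := by
    obtain ⟨t, ht⟩ := hU.inter_open_nonempty Y₀ Y₀.isOpen ⟨f x, hyY₀⟩
    exact ⟨t, ht.2, ht.1⟩
  exact exists_section_nhd f U u hu Y₀ hY₀ hne x hyY₀ hGU hx

set_option backward.isDefEq.respectTransparency.types false in
/-- If images of closed irreducible sets are closed, the closure of the image of a rational
section meets every fibre over a point with integral local ring. -/
theorem exists_mem_closure_range_over {X Y : Scheme.{u}} [IsReduced Y]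
    (hcomp : LocallyFinite (fun Z : ↥(irreducibleComponents ↥Y) => (Z : Set ↥Y)))
    (f : X ⟶ Y) (U : Y.Opens) (hU : Dense (U : Set ↥Y)) (u : (U : Scheme.{u}) ⟶ X)
    (hu : u ≫ f = U.ι)
    (hcl : ∀ T : Set ↥X, IsClosed T → IsIrreducible T → IsClosed (f '' T))
    (y : Y) [IsDomain (Y.presheaf.stalk y)] :
    ∃ x : X, x ∈ closure (Set.range u) ∧ f x = y := by
  obtain ⟨Y₀, hY₀, hyY₀, hint⟩ := exists_integral_affine_nhd hcomp y
  haveI := hint
  let η₀ : Y₀.toScheme := genericPoint Y₀.toScheme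
  let η : Y := η₀.1
  have hη : ∀ t ∈ Y₀, η ⤳ t := fun t ht => by
    have : η₀ ⤳ (⟨t, ht⟩ : Y₀.toScheme) := genericPoint_specializes _
    exact (subtype_specializes_iff _ _).mp this
  have hηU : η ∈ U := by
    obtain ⟨t, ht⟩ := hU.inter_open_nonempty Y₀ Y₀.isOpen ⟨y, hyY₀⟩
    exact (hη t ht.1).mem_open U.isOpen ht.2
  let x' : X := u (⟨η, hηU⟩ : U.toScheme)
  have hfx' : f x' = η := congr($hu (⟨η, hηU⟩ : U.toScheme))
  have hcl' := hcl (closure {x'}) isClosed_closure isIrreducible_singleton.closure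
  have hsub : closure {η} ⊆ f '' closure {x'} :=
    closure_minimal (by rintro _ rfl; exact ⟨x', subset_closure rfl, hfx'⟩) hcl'
  obtain ⟨x, hxcl, hfx⟩ := hsub (specializes_iff_mem_closure.mp (hη y hyY₀))
  refine ⟨x, closure_mono ?_ hxcl, hfx⟩
  rintro _ rfl
  exact ⟨_, rfl⟩

end Groth.Agent.Lib.Helper6.RatSec
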