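import Mathlib
import Groth.Agent.Lib.Helper6.RatSec3
import Groth.Agent.Lib.Helper16.LocNoeth
import Groth.Prelude.Def_Pi1

set_option autoImplicit false
universe u

open CategoryTheory AlgebraicGeometry Limits

namespace Groth.Agent.Lib.Helper6.RatSec

open Groth.Agent.Lib.Helper6.UB Groth.Agent.Lib.Helper6.GU

/-- Restriction of an open of a scheme to a dense open is dominant. -/
theorem isDominant_homOfLE_inf {S : Scheme.{u}} (U : S.Opens) (hU : Dense (U : Set S))
    (T : S.Opens) : IsDominant (S.homOfLE (inf_le_right : U ⊓ T ≤ T)) := by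
  refine ⟨?_⟩
  have h1 : Dense ((Subtype.val : T → S) ⁻¹' (U : Set S)) :=
    hU.preimage T.isOpen.isOpenMap_subtype_val
  refine h1.mono ?_
  rintro p hp
  have hpU : p.1 ∈ U := hp
  refine ⟨(⟨p.1, hpU, p.2⟩ : (U ⊓ T).toScheme), ?_⟩
  apply Subtype.ext
  exact congr($(S.homOfLE_ι (inf_le_right : U ⊓ T ≤ T)) (⟨p.1, hpU, p.2⟩ : (U ⊓ T).toScheme))

set_option backward.isDefEq.respectTransparency.types false in
/-- Gluing local sections of a separated morphism over a reduced base which are all compatible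
with a given rational section. -/
theorem glue_sections {Z S : Scheme.{u}} [IsReduced S] (f : Z ⟶ S) [IsSeparated f]
    (U : S.Opens) (hU : Dense (U : Set S)) (v : U.toScheme ⟶ Z)
    {ι : Type u} (W : ι → S.Opens) (h : ∀ i, (W i).toScheme ⟶ Z)
    (hh : ∀ i, h i ≫ f = (W i).ι)
    (hc : ∀ i, S.homOfLE (inf_le_left : U ⊓ W i ≤ U) ≫ v =
      S.homOfLE (inf_le_right : U ⊓ W i ≤ W i) ≫ h i)
    (hcov : TopologicalSpace.IsOpenCover W) :
    ∃ w : S ⟶ Z, w ≫ f = 𝟙 S ∧ ∀ i, (W i).ι ≫ w = h i := by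
  have key : ∀ i j, S.homOfLE (inf_le_left : W i ⊓ W j ≤ W i) ≫ h i =
      S.homOfLE (inf_le_right : W i ⊓ W j ≤ W j) ≫ h j := by
    intro i j
    haveI := isDominant_homOfLE_inf U hU (W i ⊓ W j)
    refine ext_of_isDominant_of_isSeparated f ?_
      (S.homOfLE (inf_le_right : U ⊓ (W i ⊓ W j) ≤ W i ⊓ W j)) ?_
    · rw [Category.assoc, Category.assoc, hh, hh, S.homOfLE_ι, S.homOfLE_ι]
    · have hTi : U ⊓ (W i ⊓ W j) ≤ U ⊓ W i := inf_le_inf_left U inf_le_left
      have hTj : U ⊓ (W i ⊓ W j) ≤ U ⊓ W j := inf_le_inf_left U inf_le_right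
      have e1 : S.homOfLE (inf_le_right : U ⊓ (W i ⊓ W j) ≤ W i ⊓ W j) ≫
          S.homOfLE (inf_le_left : W i ⊓ W j ≤ W i) ≫ h i =
          S.homOfLE (inf_le_left : U ⊓ (W i ⊓ W j) ≤ U) ≫ v := by
        rw [← Category.assoc, S.homOfLE_homOfLE,
          ← S.homOfLE_homOfLE hTi (inf_le_right : U ⊓ W i ≤ W i), Category.assoc, ← hc i,
          ← Category.assoc, S.homOfLE_homOfLE]
      have e2 : S.homOfLE (inf_le_right : U ⊓ (W i ⊓ W j) ≤ W i ⊓ W j) ≫
          S.homOfLE (inf_le_right : W i ⊓ W j ≤ W j) ≫ h j =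
          S.homOfLE (inf_le_left : U ⊓ (W i ⊓ W j) ≤ U) ≫ v := by
        rw [← Category.assoc, S.homOfLE_homOfLE,
          ← S.homOfLE_homOfLE hTj (inf_le_right : U ⊓ W j ≤ W j), Category.assoc, ← hc j,
          ← Category.assoc, S.homOfLE_homOfLE]
      rw [e1, e2]
  let 𝒰 := S.openCoverOfIsOpenCover W hcov
  have hglue : ∀ i j : ι, pullback.fst (W i).ι (W j).ι ≫ h i = pullback.snd _ _ ≫ h j := by
    intro i j
    have hpb : IsPullback (S.homOfLE (inf_le_left : W i ⊓ W j ≤ W i))
        (S.homOfLE (inf_le_right : W i ⊓ W j ≤ W j)) (W i).ι (W j).ι :=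
      isPullback_opens_inf (W i) (W j)
    rw [← cancel_epi hpb.isoPullback.hom, IsPullback.isoPullback_hom_fst_assoc,
      IsPullback.isoPullback_hom_snd_assoc]
    exact key i j
  refine ⟨𝒰.glueMorphisms h hglue, ?_, fun i => 𝒰.ι_glueMorphisms h hglue i⟩
  apply 𝒰.hom_ext
  intro i
  rw [Scheme.Cover.ι_glueMorphisms_assoc, Category.comp_id]
  exact hh i

/-- Irreducible components of a locally Noetherian scheme are locally finite. -/
theorem locallyFinite_irreducibleComponents (S : Scheme.{u}) [IsLocallyNoetherian S] :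
    LocallyFinite (fun Z : ↥(irreducibleComponents ↥S) => (Z : Set ↥S)) := by
  intro x
  have hW : ∃ W : S.Opens, IsAffineOpen W ∧ x ∈ W := by
    obtain ⟨_, ⟨W, hW, rfl⟩, hx, -⟩ :=
      S.isBasis_affineOpens.exists_subset_of_mem_open (Set.mem_univ x) isOpen_univ
    exact ⟨W, hW, hx⟩
  obtain ⟨W, hW, hxW⟩ := hW
  haveI : IsNoetherianRing Γ(S, W) := IsLocallyNoetherian.component_noetherian ⟨W, hW⟩
  haveI : TopologicalSpace.NoetherianSpace ((W : Set S)) := noetherianSpace_of_isAffineOpen W hW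
  refine ⟨W, W.isOpen.mem_nhds hxW, ?_⟩
  have hfin := Groth.Agent.Lib.Helper16.finite_irreducibleComponents_meeting (X := S)
    (U := (W : Set S)) W.isOpen
  exact (hfin.preimage Subtype.val_injective.injOn).subset (fun Z hZ => ⟨Z.2, hZ⟩)

/-- A normal local domain is geometrically unibranch. -/
theorem isGeomUnibranch_of_isIntegrallyClosed (A : Type u) [CommRing A] [IsDomain A]
    [IsLocalRing A] [IsIntegrallyClosed A] : CAlg2.IsGeomUnibranch A := by
  apply isGeomUnibranch_of_gu' A (FractionRing A)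
  have hbot : integralClosure A (FractionRing A) = ⊥ := IsIntegrallyClosed.integralClosure_eq_bot A _
  let e : integralClosure A (FractionRing A) ≃+* A :=
    ((Subalgebra.equivOfEq _ _ hbot).trans
      (Algebra.botEquivOfInjective (IsFractionRing.injective A (FractionRing A)))).toRingEquiv
  haveI : IsLocalRing (integralClosure A (FractionRing A)) := e.symm.isLocalRing
  refine ⟨inferInstance, 1, Or.inl rfl, fun x => ?_⟩
  have hx : (x : FractionRing A) ∈ (⊥ : Subalgebra A (FractionRing A)) := hbot ▸ x.2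
  obtain ⟨o, ho⟩ := Algebra.mem_bot.mp hx
  refine ⟨0, o, ?_⟩
  have : x ^ 1 ^ 0 - algebraMap A (integralClosure A (FractionRing A)) o = 0 := by
    rw [pow_zero, pow_one, sub_eq_zero]
    apply Subtype.ext
    exact ho.symm
  rw [this]
  exact not_isUnit_zero

set_option backward.isDefEq.respectTransparency.types false in
/-- If `f` is specializing, the closure of the image of a rational section meets every fibre over
a point with integral local ring. -/
theorem exists_mem_closure_range_over' {X Y : Scheme.{u}} [IsReduced Y]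
    (hcomp : LocallyFinite (fun Z : ↥(irreducibleComponents ↥Y) => (Z : Set ↥Y)))
    (f : X ⟶ Y) (U : Y.Opens) (hU : Dense (U : Set ↥Y)) (u : (U : Scheme.{u}) ⟶ X)
    (hu : u ≫ f = U.ι) (hsp : SpecializingMap f)
    (y : Y) [IsDomain (Y.presheaf.stalk y)] :
    ∃ x : X, x ∈ closure (Set.range u) ∧ f x = y := by
  obtain ⟨Y₀, hY₀, hyY₀, hint⟩ := exists_integral_affine_nhd hcomp y
  haveI := hint
  let η₀ : Y₀.toScheme := genericPoint Y₀.toScheme
  let η : Y := η₀.1
  have hη : ∀ t ∈ Y₀, η ⤳ t := fun t ht => by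
    have : η₀ ⤳ (⟨t, ht⟩ : Y₀.toScheme) := genericPoint_specializes _
    exact (subtype_specializes_iff _ _).mp this
  have hηU : η ∈ U := by
    obtain ⟨t, ht⟩ := hU.inter_open_nonempty Y₀ Y₀.isOpen ⟨y, hyY₀⟩
    exact (hη t ht.1).mem_open U.isOpen ht.2
  let x' : X := u (⟨η, hηU⟩ : U.toScheme)
  have hfx' : f x' = η := congr($hu (⟨η, hηU⟩ : U.toScheme))
  obtain ⟨x, hx'x, hfx⟩ := hsp (a := x') (b := y) (by rw [hfx']; exact hη y hyY₀)
  refine ⟨x, ?_, hfx⟩
  have h1 : x ∈ closure {x'} := specializes_iff_mem_closure.mp hx'x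
  refine closure_mono ?_ h1
  rintro _ rfl
  exact ⟨_, rfl⟩

set_option backward.isDefEq.respectTransparency.types false in
set_option maxHeartbeats 800000 in
/-- Over a normal locally Noetherian base, rational sections of separated unramified formally
proper morphisms are everywhere defined. -/
theorem exists_global_section {Z S : Scheme.{u}} (f : Z ⟶ S)
    [IsLocallyNoetherian S] (hS : Pi1.IsNormalScheme S) [IsSeparated f] [FormallyUnramified f]
    [LocallyOfFiniteType f]
    (hfp : ValuativeCriterion.Existence f) (U : S.Opens) (hU : Dense (U : Set S)) (v : ↑U ⟶ Z)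
    (hv : v ≫ f = U.ι) :
    ∃ w : S ⟶ Z, w ≫ f = 𝟙 S ∧ U.ι ≫ w = v := by
  haveI : ∀ s : S, _root_.IsReduced (S.presheaf.stalk s) := fun s => by
    haveI := (hS s).1
    infer_instance
  haveI : IsReduced S := isReduced_of_isReduced_stalk S
  have hcomp := locallyFinite_irreducibleComponents S
  have hGU : ∀ s : S, CAlg2.IsGeomUnibranch (S.presheaf.stalk s) := fun s => by
    obtain ⟨h1, h2⟩ := hS s
    exact isGeomUnibranch_of_isIntegrallyClosed _
  have hsp : SpecializingMap f := ValuativeCriterion.Existence.specializingMap f hfp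
  have hloc : ∀ s : S, ∃ (V : S.Opens) (h : V.toScheme ⟶ Z), s ∈ V ∧ h ≫ f = V.ι ∧
      S.homOfLE (inf_le_left : U ⊓ V ≤ U) ≫ v = S.homOfLE (inf_le_right : U ⊓ V ≤ V) ≫ h := by
    intro s
    haveI := (hS s).1
    obtain ⟨x, hx, rfl⟩ := exists_mem_closure_range_over' hcomp f U hU v hv hsp s
    obtain ⟨V, h, hyV, hh, hc, -⟩ := exists_section_nhd' hcomp f U hU v hv x (hGU _) hx
    exact ⟨V, h, hyV, hh, hc⟩
  choose V h hsV hh hc using hloc
  let W : Option S → S.Opens := fun i => i.elim U V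
  let H : ∀ i, (W i).toScheme ⟶ Z := fun i =>
    Option.rec (motive := fun i => (W i).toScheme ⟶ Z) v (fun s => h s) i
  have hH : ∀ i, H i ≫ f = (W i).ι := by
    rintro (_ | s)
    · exact hv
    · exact hh s
  have hC : ∀ i, S.homOfLE (inf_le_left : U ⊓ W i ≤ U) ≫ v =
      S.homOfLE (inf_le_right : U ⊓ W i ≤ W i) ≫ H i := by
    rintro (_ | s)
    · rfl
    · exact hc s
  have hcov : TopologicalSpace.IsOpenCover W := by
    refine TopologicalSpace.IsOpenCover.mk ?_
    rw [eq_top_iff]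
    intro s _
    exact TopologicalSpace.Opens.mem_iSup.mpr ⟨some s, hsV s⟩
  obtain ⟨w, hw, hwW⟩ := glue_sections f U hU v W H hH hC hcov
  exact ⟨w, hw, hwW none⟩

end Groth.Agent.Lib.Helper6.RatSec
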