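import Mathlib

/-!
# Integral algebras over a field with only trivial idempotents

* `isField_of_isIntegral_of_idempotent_trivial`: a nontrivial reduced commutative algebra `C`,
  integral over a field `k`, whose only idempotents are `0` and `1`, is a field.
* `idempotent_trivial_of_connected`: global sections of a connected reduced scheme have only the
  trivial idempotents.
-/

set_option autoImplicit false
universe u

namespace Groth.Agent.Lib.Helper6.IntegralField

open Polynomial

theorem isUnit_of_isIntegral_of_idempotent_trivial {k C : Type*} [Field k] [CommRing C] [Algebra k C]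
    [IsReduced C] (hid : ∀ e : C, IsIdempotentElem e → e = 0 ∨ e = 1)
    (g : C) (hg : IsIntegral k g) (hg0 : g ≠ 0) : IsUnit g := by
  obtain ⟨P, hPm, hP⟩ := hg
  rw [← Polynomial.aeval_def] at hP
  have hP0 : P ≠ 0 := hPm.ne_zero
  obtain ⟨Q, hQ, hQ'⟩ := Polynomial.exists_eq_pow_rootMultiplicity_mul_and_not_dvd P hP0 0
  set m := P.rootMultiplicity 0 with hm
  simp only [map_zero, sub_zero] at hQ hQ'
  -- constant coefficient of Q is nonzero
  have hc : Q.coeff 0 ≠ 0 := by
    intro h
    apply hQ'
    rw [Polynomial.X_dvd_iff]
    exact h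
  set c := Q.coeff 0 with hcdef
  set r : C := aeval g Q.divX with hr
  set u : C := aeval g Q with hu
  have hu' : u = r * g + algebraMap k C c := by
    rw [hu, hr, hcdef]
    conv_lhs => rw [← Polynomial.divX_mul_X_add Q]
    simp
  have hgu : g ^ m * u = 0 := by
    rw [hu, ← hP, hQ]
    simp
  have hcu : IsUnit (algebraMap k C c) := (IsUnit.mk0 c hc).map _
  -- g and u are coprime
  have hcop : IsCoprime g u := by
    obtain ⟨d, hd⟩ := hcu.exists_left_inv
    refine ⟨-(d * r), d, ?_⟩
    rw [hu']
    linear_combination hd
  have hcop' : IsCoprime (g ^ m) u := hcop.pow_left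
  obtain ⟨a, b, hab⟩ := hcop'
  have hidem : IsIdempotentElem (a * g ^ m) := by
    unfold IsIdempotentElem
    have h1 : a * g ^ m * (b * u) = 0 := by
      calc a * g ^ m * (b * u) = a * b * (g ^ m * u) := by ring
        _ = 0 := by rw [hgu, mul_zero]
    have h2 : b * u = 1 - a * g ^ m := by linear_combination hab
    rw [h2] at h1
    linear_combination -h1
  rcases hid _ hidem with h0 | h1
  · -- then b * u = 1 so u is a unit, g^m = 0, g = 0
    exfalso
    have hbu : b * u = 1 := by rw [h0, zero_add] at hab; exact hab
    have : g ^ m = 0 := by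
      calc g ^ m = g ^ m * (b * u) := by rw [hbu, mul_one]
        _ = b * (g ^ m * u) := by ring
        _ = 0 := by rw [hgu, mul_zero]
    exact hg0 (IsReduced.eq_zero _ ⟨m, this⟩)
  · by_cases hm0 : m = 0
    · -- then u = 0
      have hu0 : u = 0 := by
        have := hgu
        rw [hm0, pow_zero, one_mul] at this
        exact this
      obtain ⟨d, hd⟩ := hcu.exists_left_inv
      refine IsUnit.of_mul_eq_one (-(d * r)) ?_
      rw [hu'] at hu0
      linear_combination (-d) * hu0 + hd
    · obtain ⟨n, hn⟩ := Nat.exists_eq_succ_of_ne_zero hm0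
      refine IsUnit.of_mul_eq_one (a * g ^ n) ?_
      rw [hn, pow_succ] at h1
      linear_combination h1

theorem isField_of_isIntegral_of_idempotent_trivial {k C : Type*} [Field k] [CommRing C]
    [Algebra k C] [Nontrivial C] [IsReduced C] [Algebra.IsIntegral k C]
    (hid : ∀ e : C, IsIdempotentElem e → e = 0 ∨ e = 1) : IsField C := by
  refine ⟨⟨0, 1, zero_ne_one⟩, mul_comm, fun {g} hg0 => ?_⟩
  have := isUnit_of_isIntegral_of_idempotent_trivial hid g (Algebra.IsIntegral.isIntegral (R := k) g) hg0
  exact this.exists_right_inv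

open AlgebraicGeometry in
theorem idempotent_trivial_of_connected (X : Scheme.{u}) [ConnectedSpace X] [IsReduced X]
    (e : Γ(X, ⊤)) (he : IsIdempotentElem e) : e = 0 ∨ e = 1 := by
  have hinf : X.basicOpen e ⊓ X.basicOpen (1 - e) = ⊥ := by
    rw [← Scheme.basicOpen_mul]
    have : e * (1 - e) = 0 := by
      have := he.eq
      linear_combination -this
    rw [this, Scheme.basicOpen_zero]
  have hsup : ∀ x : X, x ∈ X.basicOpen e ∨ x ∈ X.basicOpen (1 - e) := by
    intro x
    rw [Scheme.mem_basicOpen_top, Scheme.mem_basicOpen_top]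
    have h1 : X.presheaf.germ ⊤ x trivial e + X.presheaf.germ ⊤ x trivial (1 - e) = 1 := by
      rw [← map_add]; simp
    exact IsLocalRing.isUnit_or_isUnit_of_add_one h1
  have hclopen : IsClopen (X.basicOpen e : Set X) := by
    refine ⟨?_, (X.basicOpen e).2⟩
    have : ((X.basicOpen e : Set X))ᶜ = (X.basicOpen (1 - e) : Set X) := by
      ext x
      constructor
      · intro hx
        rcases hsup x with h | h
        · exact absurd h hx
        · exact h
      · intro hx hx'
        have : x ∈ X.basicOpen e ⊓ X.basicOpen (1 - e) := ⟨hx', hx⟩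
        rw [hinf] at this
        exact this
    rw [← isOpen_compl_iff, this]
    exact (X.basicOpen (1 - e)).2
  rcases isClopen_iff.mp hclopen with h | h
  · left
    have : X.basicOpen e = ⊥ := TopologicalSpace.Opens.ext h
    exact (AlgebraicGeometry.basicOpen_eq_bot_iff e).mp this
  · right
    have h2 : X.basicOpen (1 - e) = ⊥ := by
      have : X.basicOpen e = ⊤ := TopologicalSpace.Opens.ext h
      rw [this, top_inf_eq] at hinf
      exact hinf
    have := (AlgebraicGeometry.basicOpen_eq_bot_iff (1 - e)).mp h2
    linear_combination -this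

end Groth.Agent.Lib.Helper6.IntegralField
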