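import Mathlib
import Groth.Agent.Lib.Helper6.PUO5
import Groth.Agent.Lib.Helper21.OpenAt13
import Groth.Agent.Lib.Helper21.OpenAt16
import Groth.Agent.Lib.Helper21.EquiSub6

/-!
# Components realising the fibre dimension (EGA IV 14.4.1, c ⇒ b and b' ⇒ b)
-/

set_option autoImplicit false
set_option linter.style.haveILetI false
universe u

open CategoryTheory AlgebraicGeometry Limits TopologicalSpace

namespace Groth.Agent.Lib.Helper6.PUO

open Groth.Agent.Lib.Helper14.UOA EGA43 Groth.Agent.Lib.Helper21.FibDim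
  Groth.Agent.Lib.Helper21.EquidimAt Groth.Agent.Lib.Helper21.OpenAt
  Groth.Agent.Lib.Helper21.EquiSub Groth.Agent.Lib.Helper6.QFac

set_option maxHeartbeats 1000000 in
/-- The component generated by a maximal point `ξ ⤳ x` over a maximal point of `Y` whose residual
transcendence degree is the fibre dimension at `x` has the properties of EGA IV 14.4.1 b). -/
theorem component_of_maximal {X Y : Scheme.{u}} (f : X ⟶ Y) [LocallyOfFiniteType f] (x ξ : X)
    (hξx : ξ ⤳ x) (hξmax : ∀ t : X, t ⤳ ξ → t = ξ) (hfξmax : ∀ t : Y, t ⤳ f.base ξ → t = f.base ξ)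
    (N : ℕ) (hN : rtd f ξ = N) (hx : FlatMor.fibreDimAt f x = N) :
    closure {ξ} ∈ irreducibleComponents (X : Type u) ∧
    ∃ hxZ : x ∈ closure ({ξ} : Set X),
      closure (f.base '' closure {ξ}) = closure {f.base ξ} ∧
      closure {f.base ξ} ∈ irreducibleComponents (Y : Type u) ∧
      FlatMor.localDim ↥(closure ({ξ} : Set X) ∩ f.base ⁻¹' {f.base x}) ⟨x, ⟨hxZ, rfl⟩⟩ = N ∧
      topologicalKrullDim ↥(closure ({ξ} : Set X) ∩ f.base ⁻¹' {f.base ξ}) = N := by
  have hZ := closure_mem_irreducibleComponents_of_maximal ξ hξmax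
  have hY₀ := closure_mem_irreducibleComponents_of_maximal (f.base ξ) hfξmax
  refine ⟨hZ, hξx.mem_closure, closure_image_closure_singleton' _ f.continuous ξ, hY₀, ?_⟩
  obtain ⟨W, ι, hcl, hr, hirr⟩ := exists_irreducible_closed_subscheme (closure {ξ})
    isIrreducible_singleton.closure isClosed_closure
  haveI := hcl
  haveI := hirr
  have hemb : Topology.IsEmbedding ι.base := ι.isEmbedding
  obtain ⟨w, hw⟩ : x ∈ Set.range ι.base := by rw [hr]; exact hξx.mem_closure
  have hιξ : ι.base (genericPoint W) = ξ := by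
    have h1 : closure {ι.base (genericPoint W)} = closure ({ξ} : Set X) := by
      rw [← closure_image_closure_singleton' _ ι.continuous, (genericPoint_spec W).def,
        Set.image_univ, hr, closure_closure]
    have h2 : IsGenericPoint (ι.base (genericPoint W)) (closure ({ξ} : Set X)) := h1
    exact h2.eq rfl
  have hξ'max : ∀ t : W, t ⤳ genericPoint W → t = genericPoint W := fun t ht =>
    ((genericPoint_specializes t).antisymm ht).eq.symm
  have hrtd : rtd (ι ≫ f) (genericPoint W) = N :=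
    Groth.Agent.Lib.Helper21.IrrFib.trdeg_comp_of_surjectiveOnStalks ι f (genericPoint W) N
      (trdeg_eq_of_eq f hιξ.symm N hN)
  have hFξ' : FlatMor.fibreDimAt (ι ≫ f) (genericPoint W) = N := by
    obtain ⟨m, hm1, hm2⟩ := fibreDimAt_eq_trdeg_of_maximal' (ι ≫ f) (genericPoint W) hξ'max
    have : (N : Cardinal.{u}) = m := hrtd.symm.trans hm2
    have : N = m := by exact_mod_cast this
    rw [hm1, this]
  constructor
  · rw [localDim_inter_preimage_eq_fibreDimAt' ι hemb f _ hr w x hw hξx.mem_closure]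
    apply le_antisymm
    · have h1 := Groth.Agent.Lib.Helper21.OpenAt.fibreDimAt_comp_le ι f w
      rw [hw, hx] at h1
      exact h1
    · rw [← hFξ']
      exact fibreDimAt_le_of_specializes (ι ≫ f) (genericPoint_specializes w)
  · have hη : f.base ξ = (ι ≫ f).base (genericPoint W) := by
      rw [comp_base_eq, Function.comp_apply, hιξ]
    rw [topologicalKrullDim_inter_preimage_generic ι hemb f _ hr _ hη, hFξ']

theorem withBot_enat_le_of_lt_succ (a : WithBot ℕ∞) (k : ℕ)
    (h : a < ((k + 1 : ℕ) : WithBot ℕ∞)) : a ≤ (k : WithBot ℕ∞) := by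
  induction a using WithBot.recBotCoe with
  | bot => exact bot_le
  | coe e =>
    have h1 : (e : ℕ∞) < ((k + 1 : ℕ) : ℕ∞) := by exact_mod_cast h
    have h2 : e ≤ (k : ℕ∞) := by
      push_cast at h1
      exact (ENat.lt_add_one_iff (ENat.natCast_ne_top k)).mp h1
    exact_mod_cast h2

open Groth.Agent.Lib.Helper18.TopDim in
/-- A space of dimension `≥ N` has a point of local dimension `≥ N`. -/
theorem exists_le_localDim {T : Type*} [TopologicalSpace T] (N : ℕ)
    (h : (N : WithBot ℕ∞) ≤ topologicalKrullDim T) :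
    ∃ t : T, (N : WithBot ℕ∞) ≤ FlatMor.localDim T t := by
  rw [topologicalKrullDim_eq_iSup_localDim] at h
  by_contra hcon
  push Not at hcon
  cases N with
  | zero =>
    have : IsEmpty T := ⟨fun t => absurd (zero_le_localDim t) (not_le.mpr (by simpa using hcon t))⟩
    rw [iSup_of_empty] at h
    simp at h
  | succ k =>
    have h1 : ∀ t : T, FlatMor.localDim T t ≤ (k : WithBot ℕ∞) := fun t =>
      withBot_enat_le_of_lt_succ _ k (hcon t)
    have h2 := h.trans (iSup_le h1)
    have : ((k + 1 : ℕ) : WithBot ℕ∞) ≤ (k : WithBot ℕ∞) := h2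
    have : (k + 1 : ℕ) ≤ k := by exact_mod_cast this
    omega

/-- **EGA IV 14.4.1, c ⇒ b (existence of the generic point)**: openness at the maximal points of the
fibre generalising `x`. -/
theorem exists_maximal_of_isOpenAt {X Y : Scheme.{u}} [IsLocallyNoetherian Y] (f : X ⟶ Y)
    [LocallyOfFiniteType f] (x : X)
    (hop : ∀ ζ : X, ζ ⤳ x → f.base ζ = f.base x → IsOpenAt f.base ζ) :
    ∃ ξ : X, ξ ⤳ x ∧ (∀ t : X, t ⤳ ξ → t = ξ) ∧ (∀ t : Y, t ⤳ f.base ξ → t = f.base ξ) ∧
      ∃ N : ℕ, rtd f ξ = N ∧ FlatMor.fibreDimAt f x = N := by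
  obtain ⟨ζ, N, hζx, hfζ, hζmax, hζN, hFN⟩ := exists_maximal_generization_fibreDimAt f x
  obtain ⟨ξ, hξζ, hξmax, hfξmax, hE⟩ :=
    exists_maximal_of_isOpenAt_maximal f ζ hζmax (hop ζ hζx hfζ) N hζN
  exact ⟨ξ, hξζ.trans hζx, hξmax, hfξmax, N, hE, hFN⟩

set_option maxHeartbeats 1000000 in
/-- **EGA IV 14.4.1, b' ⇒ b (existence of the generic point)**: if every neighbourhood of `x`
meets the fibre over a maximal point `η` of `Y` in dimension at least `dim_x`, some maximal point
of `X` over `η` generalises `x` and has the right residual transcendence degree. -/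
theorem exists_maximal_of_dim_le {X Y : Scheme.{u}} [IsLocallyNoetherian Y] (f : X ⟶ Y)
    [LocallyOfFiniteType f] (x : X) (η : Y) (hηmax : ∀ t : Y, t ⤳ η → t = η)
    (h : ∀ U : X.Opens, x ∈ U →
      FlatMor.fibreDimAt f x ≤ topologicalKrullDim ↥((U : Set X) ∩ f.base ⁻¹' {η})) :
    ∃ ξ : X, ξ ⤳ x ∧ (∀ t : X, t ⤳ ξ → t = ξ) ∧ f.base ξ = η ∧
      ∃ N : ℕ, rtd f ξ = N ∧ FlatMor.fibreDimAt f x = N := by
  obtain ⟨N, hN, -, -⟩ := exists_fibreDimAt_eq_trdeg f x
  haveI : IsLocallyNoetherian X := LocallyOfFiniteType.isLocallyNoetherian f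
  obtain ⟨O₁, hxO₁, hO₁⟩ := exists_open_forall_maximal_specializes X x
  let O₂ : X.Opens := ⟨{u | FlatMor.fibreDimAt f u ≤ N}, isOpen_setOf_fibreDimAt_le f N⟩
  have hxO₂ : x ∈ O₂ := hN.le
  have hU := h (O₁ ⊓ O₂) ⟨hxO₁, hxO₂⟩
  rw [hN, ← topologicalKrullDim_fiber_ι_comp f (O₁ ⊓ O₂) η] at hU
  set g := (O₁ ⊓ O₂).ι ≫ f with hg
  obtain ⟨t, ht⟩ := exists_le_localDim N hU
  set u' := g.fiberι η t with hu'
  have hgu' : g.base u' = η := (g.fiberHomeo η t).2
  rw [Groth.Agent.Lib.Helper6.EtaleSq.localDim_fiber_eq_fibreDimAt g u' η hgu' t rfl,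
    fibreDimAt_ι_comp f (O₁ ⊓ O₂) u'] at ht
  have hfu : f.base u'.1 = η := by
    rw [← hgu', hg, comp_base_eq]
    rfl
  have hFu : FlatMor.fibreDimAt f u'.1 = N := le_antisymm u'.2.2 ht
  obtain ⟨ζ, N', hζu, hfζ, hζmax, hζN', hFN'⟩ := exists_maximal_generization_fibreDimAt f u'.1
  have hNN' : N = N' := by
    rw [hFu] at hFN'
    exact_mod_cast hFN'
  subst hNN'
  have hfζη : f.base ζ = η := hfζ.trans hfu
  have hζmax' : ∀ τ : X, τ ⤳ ζ → τ = ζ := by
    intro τ hτ
    refine hζmax τ hτ ?_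
    have h1 : f.base τ ⤳ f.base ζ := hτ.map f.continuous
    rw [hfζη] at h1 ⊢
    exact hηmax _ h1
  exact ⟨ζ, hO₁ u'.1 u'.2.1 ζ hζmax' hζu, hζmax', hfζη, N, hζN', hN⟩

end Groth.Agent.Lib.Helper6.PUO
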