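import Mathlib
import Groth.Agent.Lib.Helper6.PUO6

/-!
# Packaging lemmas for EGA IV 14.4.1 / 14.4.9 / 14.5.10
-/

set_option autoImplicit false
set_option linter.style.haveILetI false
universe u

open CategoryTheory AlgebraicGeometry Limits TopologicalSpace

namespace Groth.Agent.Lib.Helper6.PUO

open Groth.Agent.Lib.Helper14.UOA EGA43 Groth.Agent.Lib.Helper21.FibDim
  Groth.Agent.Lib.Helper21.EquidimAt Groth.Agent.Lib.Helper21.OpenAt
  Groth.Agent.Lib.Helper21.EquiSub Groth.Agent.Lib.Helper6.QFac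

theorem isOpenAt_of_isUnivOpenAt {X Y : Scheme.{u}} (f : X ⟶ Y) (x : X) (h : IsUnivOpenAt f x) :
    IsOpenAt f.base x :=
  isOpenAt_snd_of_isUnivOpenAt h (fst := 𝟙 X) (snd := f) (g := 𝟙 Y) (IsPullback.id_horiz f) x rfl

/-- The local fibre dimension is at most the dimension of the trace of the fibre on any open
neighbourhood. -/
theorem fibreDimAt_le_topologicalKrullDim_inter {X Y : Scheme.{u}} (f : X ⟶ Y)
    [LocallyOfFiniteType f] (U : X.Opens)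
    (ξ : X) (hξU : ξ ∈ U) :
    FlatMor.fibreDimAt f ξ ≤ topologicalKrullDim ↥((U : Set X) ∩ f.base ⁻¹' {f.base ξ}) := by
  have h1 := Groth.Agent.Lib.Helper21.FibDim.fibreDimAt_le_topologicalKrullDim_fiber (U.ι ≫ f) ⟨ξ, hξU⟩
  rw [fibreDimAt_ι_comp f U ⟨ξ, hξU⟩, topologicalKrullDim_fiber_ι_comp f U] at h1
  exact h1

theorem rtd_le_fibreDimAt {X Y : Scheme.{u}} (f : X ⟶ Y) [LocallyOfFiniteType f] (ξ : X) (n : ℕ)
    (hn : rtd f ξ = n) : (n : WithBot ℕ∞) ≤ FlatMor.fibreDimAt f ξ := by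
  obtain ⟨M, hM, -, hall⟩ := exists_fibreDimAt_eq_trdeg f ξ
  have h1 := hall ξ specializes_rfl rfl
  unfold rtd at hn
  rw [hn] at h1
  have : n ≤ M := by exact_mod_cast h1
  rw [hM]
  exact_mod_cast this

/-- Statement b) of EGA IV 14.4.1 from a suitable maximal point. -/
theorem exists_component_of_maximal {X Y : Scheme.{u}} (f : X ⟶ Y) [LocallyOfFiniteType f]
    (x ξ : X) (hξx : ξ ⤳ x) (hξmax : ∀ t : X, t ⤳ ξ → t = ξ)
    (hfξmax : ∀ t : Y, t ⤳ f.base ξ → t = f.base ξ)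
    (N : ℕ) (hN : rtd f ξ = N) (hx : FlatMor.fibreDimAt f x = N) (Y₀ : Set Y)
    (hY₀eq : closure {f.base ξ} = Y₀) :
    ∃ Z ∈ irreducibleComponents (X : Type u), ∃ hx : x ∈ Z, closure (f.base '' Z) = Y₀ ∧
      ∀ η : Y, closure ({η} : Set Y) = Y₀ →
        FlatMor.localDim ↥(Z ∩ f.base ⁻¹' {f.base x}) ⟨x, ⟨hx, rfl⟩⟩ =
          topologicalKrullDim ↥(Z ∩ f.base ⁻¹' {η}) := by
  obtain ⟨hZ, hxZ, hcl, -, hd1, hd2⟩ := component_of_maximal f x ξ hξx hξmax hfξmax N hN hx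
  refine ⟨closure {ξ}, hZ, hxZ, hcl.trans hY₀eq, fun η hη => ?_⟩
  have h1 : IsGenericPoint η Y₀ := hη
  have h2 : IsGenericPoint (f.base ξ) Y₀ := hY₀eq
  have h3 : η = f.base ξ := h1.eq h2
  rw [h3, hd1, hd2]

end Groth.Agent.Lib.Helper6.PUO
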