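import Mathlib
import Groth.Prelude.Def_EGA43
import Groth.Agent.Lib.Helper14.UnivOpenAt
import Groth.Agent.Lib.Helper17.ProCons
import Groth.Agent.Lib.Helper10.ValSpec

/-!
# A valuative criterion for universal openness at a point (morphisms locally of finite presentation)
-/

set_option autoImplicit false
set_option linter.style.haveILetI false
universe u
open AlgebraicGeometry CategoryTheory Limits TopologicalSpace

namespace Groth.Agent.Lib.Helper6.PUO

open Groth.Agent.Lib.Helper14.UOA EGA43

/-- **Valuative criterion**: a morphism locally of finite presentation is universally open at `x`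
as soon as all its base changes to spectra of valuation rings are open at the points over `x`. -/
theorem isUnivOpenAt_of_valuationRing {X T : Scheme.{u}} (k : X ⟶ T)
    [LocallyOfFinitePresentation k] (x : X)
    (H : ∀ (A : CommRingCat.{u}) [IsDomain A] [ValuationRing A] (a : Spec A ⟶ T)
      (P : Scheme.{u}) (p₁ : P ⟶ X) (p₂ : P ⟶ Spec A), IsPullback p₁ p₂ k a →
      ∀ p₀ : P, p₁ p₀ = x → IsOpenAt p₂ p₀) : IsUnivOpenAt k x := by
  intro T' g x' hx'
  haveI : LocallyOfFinitePresentation (pullback.snd k g) :=
    MorphismProperty.pullback_snd (P := @LocallyOfFinitePresentation) _ _ inferInstance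
  refine Groth.Agent.Lib.Helper17.ProConsLib.isOpenAt_of_generization_lift (pullback.snd k g) x'
    (fun η' hη' => ?_)
  obtain ⟨A, hAd, hAv, a, hagen, hacl⟩ :=
    Groth.Agent.Lib.Helper10.ValSpec.exists_valuationRing_of_specializes hη'
  haveI : IsDomain A := hAd
  haveI : ValuationRing A := hAv
  obtain ⟨p₀, hp₀1, hp₀2⟩ := Scheme.Pullback.exists_preimage_pullback (f := pullback.snd k g)
    (g := a) x' (IsLocalRing.closedPoint A) hacl.symm
  have sq1 : IsPullback (pullback.fst (pullback.snd k g) a) (pullback.snd (pullback.snd k g) a)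
      (pullback.snd k g) a := IsPullback.of_hasPullback _ _
  have sq2 : IsPullback (pullback.fst k g) (pullback.snd k g) k g := IsPullback.of_hasPullback _ _
  have sq := sq1.paste_horiz sq2
  have hop := H A (a ≫ g) _ _ _ sq p₀ (by
    rw [Scheme.Hom.comp_apply, hp₀1]
    exact hx')
  obtain ⟨z', hz', hz'2⟩ := Groth.Agent.Lib.Helper17.ProConsLib.exists_generization_lift
    (pullback.snd (pullback.snd k g) a) p₀ hop (Groth.Agent.Lib.Helper10.ValSpec.genericPt A)
    (Groth.Agent.Lib.Helper10.ValSpec.genericPt_specializes A _)
  refine ⟨pullback.fst (pullback.snd k g) a z', ?_, ?_⟩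
  · rw [← hp₀1]
    exact hz'.map (pullback.fst (pullback.snd k g) a).continuous
  · have h1 : (pullback.snd k g) (pullback.fst (pullback.snd k g) a z') =
        a (pullback.snd (pullback.snd k g) a z') := by
      have := congrArg (fun φ : pullback (pullback.snd k g) a ⟶ T' => φ z') pullback.condition
      simpa only [Scheme.Hom.comp_apply] using this
    rw [h1, hz'2, hagen]

end Groth.Agent.Lib.Helper6.PUO
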