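import Mathlib
import Groth.Agent.Lib.Helper6.PUO14
import Groth.Agent.Lib.Helper6.PUO11
import Groth.Agent.Lib.Helper6.QFac11
import Groth.Agent.Lib.Helper6.RatSec4
import Groth.Agent.Lib.Helper21.CondT4
import Groth.Agent.Lib.Helper6.PUO3
import Groth.Agent.Lib.Helper6.QFac9
import Groth.Agent.Lib.Helper6.UBS5

/-!
# Quasi-finite morphisms to affine spaces are universally open where the structure morphism is
(SGA 3 VI_B, no Noetherian hypotheses)
-/

set_option autoImplicit false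
set_option linter.style.haveILetI false
universe u
open AlgebraicGeometry CategoryTheory Limits TopologicalSpace

namespace Groth.Agent.Lib.Helper6.PUO

open Groth.Agent.Lib.Helper14.UOA EGA43 Groth.Agent.Lib.Helper6.QFac
  Groth.Agent.Lib.Helper21.FibDim Groth.Agent.Lib.Helper21.OpenAt
  Groth.Agent.Lib.Helper10.ValSpec

/-- base change of universal openness at a point, for arbitrary pullback squares -/
theorem isUnivOpenAt_of_isPullback {X Y P Y' : Scheme.{u}} {f : X ⟶ Y} {fst : P ⟶ X}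
    {snd : P ⟶ Y'} {g : Y' ⟶ Y} (sq : IsPullback fst snd f g) (x' : P)
    (h : IsUnivOpenAt f (fst x')) : IsUnivOpenAt snd x' := by
  intro Y₂ g₂ x₂ hx₂
  have sq1 : IsPullback (pullback.fst snd g₂) (pullback.snd snd g₂) snd g₂ :=
    IsPullback.of_hasPullback _ _
  have sq' := sq1.paste_horiz sq
  refine isOpenAt_snd_of_isUnivOpenAt h sq' x₂ ?_
  rw [Scheme.Hom.comp_base, TopCat.coe_comp, Function.comp_apply, hx₂]

/-- the local rings of the spectrum of a valuation ring are geometrically unibranch -/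
theorem isGeomUnibranch_stalk_Spec_of_valuationRing (A : CommRingCat.{u}) [IsDomain A]
    [ValuationRing A] (c : Spec A) : CAlg2.IsGeomUnibranch ((Spec A).presheaf.stalk c) := by
  let p : PrimeSpectrum A := c
  haveI : IsIntegrallyClosed A := by
    classical
    letI := IsBezout.toGCDDomain A
    exact GCDMonoid.toIsIntegrallyClosed
  have hM : p.asIdeal.primeCompl ≤ nonZeroDivisors A := Ideal.primeCompl_le_nonZeroDivisors _
  haveI : IsDomain (Localization.AtPrime p.asIdeal) := IsLocalization.isDomain_localization hM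
  haveI : IsIntegrallyClosed (Localization.AtPrime p.asIdeal) :=
    isIntegrallyClosed_of_isLocalization _ p.asIdeal.primeCompl hM
  exact Groth.Agent.Lib.Helper6.Chev.isGeomUnibranch_of_ringEquiv'
    (Groth.Agent.Lib.Helper6.UB.specStalkEquiv A p).symm
    (Groth.Agent.Lib.Helper6.RatSec.isGeomUnibranch_of_isIntegrallyClosed _)

open AffineSpace in
/-- **Core over a valuation ring**: a quasi-finite morphism `k : X ⟶ 𝔸ⁿ_A` over a valuation ring
`A` is universally open at every specialisation of a fibre-maximal point `z` of full residue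
transcendence degree at which `X ⟶ Spec A` is universally open. -/
theorem isUnivOpenAt_of_lqf_affineSpace_valuationRing (A : CommRingCat.{u}) [IsDomain A]
    [ValuationRing A] (σ : Type u) [Finite σ] {X : Scheme.{u}} (k : X ⟶ 𝔸(σ; Spec A))
    [LocallyOfFiniteType k] [LocallyQuasiFinite k] (x z : X) (hzx : z ⤳ x)
    (hzmax : ∀ τ : X, τ ⤳ z →
      (k ≫ (𝔸(σ; Spec A) ↘ Spec A)) τ = (k ≫ (𝔸(σ; Spec A) ↘ Spec A)) z → τ = z)
    (hrtd : rtd (k ≫ (𝔸(σ; Spec A) ↘ Spec A)) z = (Nat.card σ : ℕ))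
    (hop : IsUnivOpenAt (k ≫ (𝔸(σ; Spec A) ↘ Spec A)) z) : IsUnivOpenAt k x := by
  obtain ⟨ξ, hξz, hfξ, hFξ⟩ :=
    Groth.Agent.Lib.Helper21.CondT.exists_generization_fibreDimAt_of_isUnivOpenAt
      (k ≫ (𝔸(σ; Spec A) ↘ Spec A)) z hop hzmax (Nat.card σ) hrtd (genericPt A)
      (genericPt_specializes A _)
  obtain ⟨ξ₁, N', hξ₁ξ, hfξ₁, hξ₁max, hN', hF'⟩ :=
    exists_maximal_generization_fibreDimAt (k ≫ (𝔸(σ; Spec A) ↘ Spec A)) ξ
  have hNN : N' = Nat.card σ := by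
    rw [hFξ] at hF'
    exact_mod_cast hF'.symm
  subst hNN
  -- the image of `ξ₁` is the generic point of the affine space
  obtain ⟨c', hc'⟩ := exists_nat_trdeg_residueFieldMap (𝔸(σ; Spec A) ↘ Spec A) (k ξ₁)
  have h0 := rtd_eq_zero_of_locallyQuasiFinite k ξ₁
  have h1 := trdeg_comp k (𝔸(σ; Spec A) ↘ Spec A) ξ₁ c' 0 hc' h0
  have hc'N : c' = Nat.card σ := by
    rw [hN'] at h1
    have : Nat.card σ = c' + 0 := by exact_mod_cast h1
    omega
  have hgen : (𝔸(σ; Spec A) ↘ Spec A) (k ξ₁) = genericPt A := by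
    rw [← Scheme.Hom.comp_apply]
    exact hfξ₁.trans hfξ
  have hgenmax : ∀ η' : Spec A, η' ⤳ (𝔸(σ; Spec A) ↘ Spec A) (k ξ₁) →
      η' = (𝔸(σ; Spec A) ↘ Spec A) (k ξ₁) := by
    intro η' hη'
    rw [hgen] at hη' ⊢
    exact (hη'.antisymm (genericPt_specializes A η')).eq
  have ht₁max := maximal_of_rtd_affineSpace σ (Spec A) (k ξ₁) hgenmax (by
    unfold rtd
    rw [hc', hc'N])
  haveI : IrreducibleSpace (Spec A) := inferInstanceAs (IrreducibleSpace (PrimeSpectrum A))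
  haveI hTirr : IrreducibleSpace 𝔸(σ; Spec A) := by
    have h := isIrreducible_preimage_affineSpace (S := Spec A) σ ⊤
      (by simpa using IrreducibleSpace.isIrreducible_univ (Spec A))
    rw [irreducibleSpace_def]
    simpa using h
  have ht₁ : k ξ₁ = genericPoint 𝔸(σ; Spec A) :=
    (ht₁max (genericPoint _) (genericPoint_specializes _)).symm
  -- the closure of `ξ₁`
  let C : TopologicalSpace.Closeds X := ⟨closure {ξ₁}, isClosed_closure⟩
  have hCirr : IsIrreducible (C : Set X) := isIrreducible_singleton.closure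
  haveI := irreducibleSpace_subscheme_vanishingIdeal C hCirr
  have hr : Set.range (Scheme.IdealSheafData.vanishingIdeal C).subschemeι = closure {ξ₁} := by
    rw [Scheme.IdealSheafData.range_subschemeι, Scheme.IdealSheafData.coe_support_vanishingIdeal]
    rfl
  obtain ⟨w₁, hw₁⟩ : ξ₁ ∈ Set.range (Scheme.IdealSheafData.vanishingIdeal C).subschemeι := by
    rw [hr]; exact subset_closure rfl
  obtain ⟨w, hw⟩ : x ∈ Set.range (Scheme.IdealSheafData.vanishingIdeal C).subschemeι := by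
    rw [hr]; exact specializes_iff_mem_closure.mp ((hξ₁ξ.trans hξz).trans hzx)
  have hdom : DenseRange ((Scheme.IdealSheafData.vanishingIdeal C).subschemeι ≫ k) := by
    intro t
    have h2 : t ∈ closure {genericPoint 𝔸(σ; Spec A)} :=
      (genericPoint_specializes t).mem_closure
    refine closure_mono ?_ h2
    rintro _ rfl
    refine ⟨w₁, ?_⟩
    rw [Scheme.Hom.comp_apply, hw₁, ht₁]
  have hGU : CAlg2.IsGeomUnibranch ((𝔸(σ; Spec A)).presheaf.stalk
      (((Scheme.IdealSheafData.vanishingIdeal C).subschemeι ≫ k) w)) :=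
    Groth.Agent.Lib.Helper6.UB.isGeomUnibranch_stalk_affineSpace σ _
      (isGeomUnibranch_stalk_Spec_of_valuationRing A _)
  have h3 := isUnivOpenAt_of_quasiFinite_of_irreducible
    ((Scheme.IdealSheafData.vanishingIdeal C).subschemeι ≫ k) hdom w hGU
  have h4 := isUnivOpenAt_of_comp (Scheme.IdealSheafData.vanishingIdeal C).subschemeι k w h3
  rwa [hw] at h4

open AffineSpace in
/-- **SGA 3 VI_B**: let `k : X ⟶ 𝔸ⁿ_S` be locally quasi-finite and locally of finite presentation,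
`f = k ≫ (𝔸ⁿ_S ↘ S)`, and `z` a fibre-maximal point of residue transcendence degree `n` at which `f`
is universally open. Then `k` is universally open at every specialisation of `z` in the fibre. -/
theorem isUnivOpenAt_of_lqf_affineSpace {X S : Scheme.{u}} (σ : Type u) [Finite σ]
    (k : X ⟶ 𝔸(σ; S)) [LocallyOfFinitePresentation k] [LocallyQuasiFinite k] (x z : X)
    (hzx : z ⤳ x) (hfz : (k ≫ (𝔸(σ; S) ↘ S)) z = (k ≫ (𝔸(σ; S) ↘ S)) x)
    (hzmax : ∀ τ : X, τ ⤳ z → (k ≫ (𝔸(σ; S) ↘ S)) τ = (k ≫ (𝔸(σ; S) ↘ S)) z → τ = z)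
    (hrtd : rtd (k ≫ (𝔸(σ; S) ↘ S)) z = (Nat.card σ : ℕ))
    (hop : IsUnivOpenAt (k ≫ (𝔸(σ; S) ↘ S)) z) : IsUnivOpenAt k x := by
  refine isUnivOpenAt_of_valuationRing k x (fun A _ _ a P p₁ p₂ sqP p₀ hp₀ => ?_)
  obtain ⟨pr, sqT⟩ : ∃ pr : 𝔸(σ; Spec A) ⟶ 𝔸(σ; S), IsPullback pr (𝔸(σ; Spec A) ↘ Spec A)
      (𝔸(σ; S) ↘ S) (a ≫ (𝔸(σ; S) ↘ S)) := ⟨_, AffineSpace.isPullback_map _⟩
  obtain ⟨σs, hσ1, hσ2⟩ : ∃ σs : Spec A ⟶ 𝔸(σ; Spec A), σs ≫ pr = a ∧
      σs ≫ (𝔸(σ; Spec A) ↘ Spec A) = 𝟙 _ :=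
    ⟨sqT.lift a (𝟙 _) (by rw [Category.id_comp]), sqT.lift_fst _ _ _, sqT.lift_snd _ _ _⟩
  obtain ⟨XA, π, kA, sqX⟩ : ∃ (XA : Scheme.{u}) (π : XA ⟶ X) (kA : XA ⟶ 𝔸(σ; Spec A)),
      IsPullback π kA k pr := ⟨_, _, _, IsPullback.of_hasPullback k pr⟩
  have sqf := sqX.paste_vert sqT
  obtain ⟨j, hj1, hj2⟩ : ∃ j : P ⟶ XA, j ≫ π = p₁ ∧ j ≫ kA = p₂ ≫ σs :=
    ⟨sqX.lift p₁ (p₂ ≫ σs) (by rw [sqP.w, Category.assoc, hσ1]), sqX.lift_fst _ _ _,
      sqX.lift_snd _ _ _⟩
  have sqj : IsPullback j p₂ kA σs :=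
    IsPullback.of_right (by rw [hj1, hσ1]; exact sqP) hj2 sqX
  haveI : LocallyOfFiniteType k := inferInstance
  haveI : LocallyOfFiniteType kA :=
    MorphismProperty.of_isPullback (P := @LocallyOfFiniteType) sqX inferInstance
  haveI : LocallyQuasiFinite kA :=
    MorphismProperty.of_isPullback (P := @LocallyQuasiFinite) sqX inferInstance
  have hπx : π (j p₀) = x := by
    rw [← Scheme.Hom.comp_apply, hj1]
    exact hp₀
  -- a generisation over `z`
  obtain ⟨z₀, hz₀x, hπz₀, hfz₀⟩ := exists_generization_of_isPullback sqf (j p₀) z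
    (by rw [hπx]; exact hzx) (by rw [hπx]; exact hfz)
  obtain ⟨z₁, N', hz₁z₀, hfz₁, hz₁max, hN', hF'⟩ :=
    exists_maximal_generization_fibreDimAt (kA ≫ (𝔸(σ; Spec A) ↘ Spec A)) z₀
  have hw : ∀ t, (k ≫ (𝔸(σ; S) ↘ S)) (π t) =
      (a ≫ (𝔸(σ; S) ↘ S)) ((kA ≫ (𝔸(σ; Spec A) ↘ Spec A)) t) := fun t => by
    have := congrArg (fun φ : _ ⟶ S => φ t) sqf.w
    simpa only [Scheme.Hom.comp_apply] using this
  have hπz₁ : π z₁ = z := by
    apply hzmax
    · rw [← hπz₀]
      exact hz₁z₀.map π.continuous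
    · rw [hw, hfz₁, ← hw, hπz₀]
  have hFz : FlatMor.fibreDimAt (k ≫ (𝔸(σ; S) ↘ S)) z = (Nat.card σ : ℕ) :=
    Groth.Agent.Lib.Helper21.OpenAt.fibreDimAt_eq_trdeg_of_maximal _ z hzmax _ hrtd
  have hNN : N' = Nat.card σ := by
    rw [Groth.Agent.Lib.Helper21.BaseChg.fibreDimAt_eq_of_isPullback sqf z₀, hπz₀, hFz] at hF'
    exact_mod_cast hF'.symm
  subst hNN
  have hopA : IsUnivOpenAt (kA ≫ (𝔸(σ; Spec A) ↘ Spec A)) z₁ :=
    isUnivOpenAt_of_isPullback sqf z₁ (by rw [hπz₁]; exact hop)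
  have hkAx := isUnivOpenAt_of_lqf_affineSpace_valuationRing A σ kA (j p₀) z₁
    (hz₁z₀.trans hz₀x) hz₁max hN' hopA
  exact isOpenAt_snd_of_isUnivOpenAt hkAx sqj p₀ rfl

end Groth.Agent.Lib.Helper6.PUO
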