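import Mathlib
import Groth.Agent.Lib.Helper6.GC1

/-!
# Geometric components: base change invariance of the numbers of geometric components
-/

set_option autoImplicit false
universe u

open CategoryTheory AlgebraicGeometry Limits IsLocalRing Topology TensorProduct

namespace Groth.Agent.Lib.Helper6.GC

section top

variable {A B : Type*} [TopologicalSpace A] [TopologicalSpace B]

theorem encard_irreducibleComponents_congr (e : A ≃ₜ B) :
    (irreducibleComponents A).encard = (irreducibleComponents B).encard := by
  have := irreducibleComponentsEquivOfIsPreirreducibleFiber e e.continuous e.isOpenMap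
    (fun x => by
      have : e ⁻¹' {x} = {e.symm x} := by
        ext a
        simp only [Set.mem_preimage, Set.mem_singleton_iff]
        exact ⟨fun h => by rw [← h, e.symm_apply_apply], fun h => by rw [h, e.apply_symm_apply]⟩
      rw [this]
      exact isPreirreducible_singleton) e.surjective
  exact (Set.encard_congr this.toEquiv).symm

theorem card_connectedComponents_congr (e : A ≃ₜ B) :
    ENat.card (_root_.ConnectedComponents A) = ENat.card (_root_.ConnectedComponents B) := by
  have h := e.isQuotientMap.isCoinducing.connectedComponentsHomeomorph (fun y => by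
    have : e ⁻¹' {y} = {e.symm y} := by
      ext a
      simp only [Set.mem_preimage, Set.mem_singleton_iff]
      exact ⟨fun h => by rw [← h, e.symm_apply_apply], fun h => by rw [h, e.apply_symm_apply]⟩
    rw [this]
    exact isConnected_singleton)
  exact ENat.card_congr h.toEquiv

end top

/-- The number of irreducible components of the base change of `f` to a field-valued point. -/
noncomputable def irr {X Y : Scheme.{u}} (f : X ⟶ Y) {L : Type u} [Field L]
    (ξ : Spec (CommRingCat.of L) ⟶ Y) : ℕ∞ :=
  (irreducibleComponents ↥(pullback f ξ)).encard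

/-- The number of connected components of the base change of `f` to a field-valued point. -/
noncomputable def conn {X Y : Scheme.{u}} (f : X ⟶ Y) {L : Type u} [Field L]
    (ξ : Spec (CommRingCat.of L) ⟶ Y) : ℕ∞ :=
  ENat.card (_root_.ConnectedComponents ↥(pullback f ξ))

theorem irr_eq_of_isPullback {X Y W : Scheme.{u}} {f : X ⟶ Y} {L : Type u} [Field L]
    {ξ : Spec (CommRingCat.of L) ⟶ Y} {q : W ⟶ X} {p : W ⟶ Spec (CommRingCat.of L)}
    (h : IsPullback q p f ξ) : irr f ξ = (irreducibleComponents W).encard :=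
  (encard_irreducibleComponents_congr (Scheme.homeoOfIso h.isoPullback)).symm

theorem conn_eq_of_isPullback {X Y W : Scheme.{u}} {f : X ⟶ Y} {L : Type u} [Field L]
    {ξ : Spec (CommRingCat.of L) ⟶ Y} {q : W ⟶ X} {p : W ⟶ Spec (CommRingCat.of L)}
    (h : IsPullback q p f ξ) : conn f ξ = ENat.card (_root_.ConnectedComponents W) :=
  (card_connectedComponents_congr (Scheme.homeoOfIso h.isoPullback)).symm

theorem irr_conn_comp {X Y : Scheme.{u}} (f : X ⟶ Y) {L L' : Type u} [Field L]
    [Field L'] [IsSepClosed L] (ξ : Spec (CommRingCat.of L) ⟶ Y)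
    (q : Spec (CommRingCat.of L') ⟶ Spec (CommRingCat.of L)) :
    irr f (q ≫ ξ) = irr f ξ ∧ conn f (q ≫ ξ) = conn f ξ := by
  let π := pullback.snd f ξ
  let r : pullback f (q ≫ ξ) ⟶ pullback f ξ :=
    pullback.lift (pullback.fst f (q ≫ ξ)) (pullback.snd f (q ≫ ξ) ≫ q)
      (by rw [Category.assoc, pullback.condition])
  have hr1 : r ≫ pullback.fst f ξ = pullback.fst f (q ≫ ξ) := pullback.lift_fst _ _ _
  have hr2 : r ≫ π = pullback.snd f (q ≫ ξ) ≫ q := pullback.lift_snd _ _ _
  have h : IsPullback r (pullback.snd f (q ≫ ξ)) π q := by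
    refine IsPullback.of_right ?_ hr2 (IsPullback.of_hasPullback f ξ)
    rw [hr1]
    exact IsPullback.of_hasPullback f (q ≫ ξ)
  obtain ⟨φ, rfl⟩ := Spec.map_surjective q
  haveI : GeometricallyIrreducible (Spec.map φ) := geometricallyIrreducible_SpecMap φ
  haveI : GeometricallyIrreducible r := MorphismProperty.of_isPullback h.flip inferInstance
  haveI : UniversallyOpen (Spec.map φ) := inferInstance
  haveI : UniversallyOpen r := MorphismProperty.of_isPullback h.flip inferInstance
  haveI : GeometricallyConnected r := by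
    refine ⟨fun K _ y Z fst snd hZ => ?_⟩
    haveI : IrreducibleSpace Z :=
      GeometricallyIrreducible.geometrically_irreducibleSpace (f := r) y fst snd hZ
    infer_instance
  constructor
  · exact Set.encard_congr (r.irreducibleComponentsEquiv r.isOpenMap)
  · exact ENat.card_congr (r.connectedComponentsHomeomorph r.isOpenMap).toEquiv

theorem irr_conn_eq_sepPt {X Y : Scheme.{u}} (f : X ⟶ Y) {L : Type u}
    [Field L] [IsSepClosed L] (ξ : Spec (CommRingCat.of L) ⟶ Y) (y : Y)
    (hy : ξ (closedPoint L) = y) :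
    irr f ξ = irr f (GN.sepPt Y y) ∧ conn f ξ = conn f (GN.sepPt Y y) := by
  subst hy
  let χ := Scheme.descResidueField (Scheme.stalkClosedPointTo ξ)
  have hξ : Spec.map χ ≫ Y.fromSpecResidueField (ξ (closedPoint L)) = ξ :=
    Scheme.descResidueField_stalkClosedPointTo_fromSpecResidueField L Y ξ
  letI : Algebra (Y.residueField (ξ (closedPoint L))) L := χ.hom.toAlgebra
  let l : SeparableClosure (Y.residueField (ξ (closedPoint L))) →ₐ[Y.residueField
    (ξ (closedPoint L))] L := IsSepClosed.lift
  have hχ : χ = CommRingCat.ofHom (algebraMap (Y.residueField (ξ (closedPoint L)))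
      (SeparableClosure (Y.residueField (ξ (closedPoint L))))) ≫
      CommRingCat.ofHom l.toRingHom := by
    ext a
    exact (l.commutes a).symm
  have h2 : ξ = Spec.map (CommRingCat.ofHom l.toRingHom) ≫
      GN.sepPt Y (ξ (closedPoint L)) := by
    unfold GN.sepPt
    rw [← Category.assoc, ← Spec.map_comp, ← hχ, hξ]
  have h3 := irr_conn_comp f (GN.sepPt Y (ξ (closedPoint L)))
    (Spec.map (CommRingCat.ofHom l.toRingHom))
  rw [← h2] at h3
  exact h3

theorem irr_baseChange {X Y X' Y' : Scheme.{u}} {f : X ⟶ Y} {f' : X' ⟶ Y'} {h : X' ⟶ X}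
    {g : Y' ⟶ Y} (hc : IsPullback h f' f g) {L : Type u} [Field L]
    (ξ' : Spec (CommRingCat.of L) ⟶ Y') : irr f' ξ' = irr f (ξ' ≫ g) :=
  (irr_eq_of_isPullback ((IsPullback.of_hasPullback f' ξ').paste_horiz hc)).symm

theorem conn_baseChange {X Y X' Y' : Scheme.{u}} {f : X ⟶ Y} {f' : X' ⟶ Y'} {h : X' ⟶ X}
    {g : Y' ⟶ Y} (hc : IsPullback h f' f g) {L : Type u} [Field L]
    (ξ' : Spec (CommRingCat.of L) ⟶ Y') : conn f' ξ' = conn f (ξ' ≫ g) :=
  (conn_eq_of_isPullback ((IsPullback.of_hasPullback f' ξ').paste_horiz hc)).symm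

theorem geomFiber_isPullback {X Y : Scheme.{u}} (f : X ⟶ Y) (y : Y) :
    IsPullback
      (pullback.fst (f.fiberToSpecResidueField y) (Spec.map (CommRingCat.ofHom
        (algebraMap (Y.residueField y) (SeparableClosure (Y.residueField y))))) ≫ f.fiberι y)
      (pullback.snd (f.fiberToSpecResidueField y) (Spec.map (CommRingCat.ofHom
        (algebraMap (Y.residueField y) (SeparableClosure (Y.residueField y))))))
      f (GN.sepPt Y y) := by
  let q := Spec.map (CommRingCat.ofHom
    (algebraMap (Y.residueField y) (SeparableClosure (Y.residueField y))))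
  have h1 : IsPullback (pullback.snd (f.fiberToSpecResidueField y) q)
      (pullback.fst (f.fiberToSpecResidueField y) q) q (f.fiberToSpecResidueField y) :=
    (IsPullback.of_hasPullback (f.fiberToSpecResidueField y) q).flip
  have h2 : IsPullback (f.fiberToSpecResidueField y) (f.fiberι y) (Y.fromSpecResidueField y) f :=
    (IsPullback.of_hasPullback f (Y.fromSpecResidueField y)).flip
  exact (h1.paste_vert h2).flip

theorem nGeomIrredComp_eq_irr {X Y : Scheme.{u}} (f : X ⟶ Y) (y : Y) :
    MoreMor.nGeomIrredComp f y = irr f (GN.sepPt Y y) :=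
  (irr_eq_of_isPullback (geomFiber_isPullback f y)).symm

theorem nGeomConnComp_eq_conn {X Y : Scheme.{u}} (f : X ⟶ Y) (y : Y) :
    MoreMor.nGeomConnComp f y = conn f (GN.sepPt Y y) :=
  (conn_eq_of_isPullback (geomFiber_isPullback f y)).symm

/-- Base change invariance of the number of geometric irreducible components. -/
theorem nGeomIrredComp_baseChange {X Y X' Y' : Scheme.{u}} {f : X ⟶ Y} {f' : X' ⟶ Y'}
    {h : X' ⟶ X} {g : Y' ⟶ Y} (hc : IsPullback h f' f g) (y' : Y') :
    MoreMor.nGeomIrredComp f' y' = MoreMor.nGeomIrredComp f (g y') := by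
  rw [nGeomIrredComp_eq_irr, nGeomIrredComp_eq_irr, irr_baseChange hc]
  refine (irr_conn_eq_sepPt f _ _ ?_).1
  rw [Scheme.Hom.comp_apply, GN.sepPt_apply]

/-- Base change invariance of the number of geometric connected components. -/
theorem nGeomConnComp_baseChange {X Y X' Y' : Scheme.{u}} {f : X ⟶ Y} {f' : X' ⟶ Y'}
    {h : X' ⟶ X} {g : Y' ⟶ Y} (hc : IsPullback h f' f g) (y' : Y') :
    MoreMor.nGeomConnComp f' y' = MoreMor.nGeomConnComp f (g y') := by
  rw [nGeomConnComp_eq_conn, nGeomConnComp_eq_conn, conn_baseChange hc]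
  refine (irr_conn_eq_sepPt f _ _ ?_).2
  rw [Scheme.Hom.comp_apply, GN.sepPt_apply]

end Groth.Agent.Lib.Helper6.GC
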