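import Mathlib
import Groth.Agent.Lib.Helper6.GN1

/-!
# The geometric number of points of a flat separated quasi-finite morphism (EGA IV 15.5.9 (ii))
-/

set_option autoImplicit false
universe u

open CategoryTheory AlgebraicGeometry Limits IsLocalRing Topology

namespace Groth.Agent.Lib.Helper6.GN

theorem finite_fibres {X Y : Scheme.{u}} (f : X ⟶ Y) [LocallyQuasiFinite f] [QuasiCompact f]
    (y : Y) : (f ⁻¹' {y}).Finite :=
  f.finite_preimage_singleton y

set_option maxHeartbeats 1600000 in
/-- The key local statement. -/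
theorem exists_etale_nbhd {X Y : Scheme.{u}} (f : X ⟶ Y) [Flat f]
    [LocallyOfFinitePresentation f] [IsSeparated f] [LocallyQuasiFinite f] [QuasiCompact f]
    (y : Y) :
    ∃ (V : Scheme.{u}) (a : V ⟶ Y) (v₀ : V) (N₁ : V.Opens), Etale a ∧ a v₀ = y ∧ v₀ ∈ N₁ ∧
      (∀ v ∈ N₁, MoreMor.nGeomConnComp f y ≤ MoreMor.nGeomConnComp f (a v)) ∧
      (∀ NV : V.Opens, NV ≤ N₁ →
        (∀ v ∈ NV, MoreMor.nGeomConnComp f (a v) = MoreMor.nGeomConnComp f y) →
        IsFinite (pullback.snd f a ∣_ NV)) := by
  classical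
  have hfin : ∀ y : Y, (f ⁻¹' {y}).Finite := finite_fibres f
  obtain ⟨V, a, v₀, hEt, hav₀, κ, hκ, D, z, hD, -, hdisj, hcov⟩ :=
    Wt.exists_etale_nbhd_fibre f hfin y
  haveI := hEt
  haveI := hκ
  haveI : ∀ k, IsFinite ((D k).ι ≫ pullback.snd f a) := fun k => (hD k).2.1
  have hsq : IsPullback (pullback.fst f a) (pullback.snd f a) f a :=
    IsPullback.of_hasPullback f a
  have hfin' : ∀ v : V, ((pullback.snd f a) ⁻¹' {v}).Finite := fun v =>
    Wt.finite_preimage_singleton_of_isPullback hsq hfin v
  -- the number of geometric points at `y`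
  have hny : MoreMor.nGeomConnComp f y = (Fintype.card κ : ℕ∞) := by
    rw [← hav₀, ← nGeomConnComp_baseChange hsq v₀]
    rw [nGeomConnComp_eq_card_fibre (pullback.snd f a) v₀ (fun x hx => by
      obtain ⟨k, rfl⟩ := hcov x hx
      exact (hD k).2.2.2.2)]
    have hbij : Function.Bijective (fun k : κ =>
        (⟨z k, (hD k).2.2.1⟩ : ((pullback.snd f a) ⁻¹' {v₀}))) := by
      constructor
      · intro k l hkl
        by_contra hne
        have h1 : z k ∈ (D k : Set ↑(pullback f a)) := (hD k).1
        have h2 : z k ∈ (D l : Set ↑(pullback f a)) := by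
          have : z k = z l := congrArg Subtype.val hkl
          rw [this]
          exact (hD l).1
        exact Set.disjoint_left.mp (hdisj hne) h1 h2
      · rintro ⟨x, hx⟩
        obtain ⟨k, rfl⟩ := hcov x hx
        exact ⟨k, rfl⟩
    rw [← ENat.card_congr (Equiv.ofBijective _ hbij), ENat.card_eq_coe_fintype_card]
  -- the images of the pieces are open
  have hopen : ∀ k, IsOpen ((pullback.snd f a) '' (D k : Set ↑(pullback f a))) := fun k =>
    (pullback.snd f a).isOpenMap _ (D k).isOpen
  let N₁ : V.Opens := ⟨⋂ k, (pullback.snd f a) '' (D k : Set ↑(pullback f a)),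
    isOpen_iInter_of_finite hopen⟩
  have hv₀N : v₀ ∈ N₁ := Set.mem_iInter.mpr fun k => ⟨z k, (hD k).1, (hD k).2.2.1⟩
  -- lower bound for the number of points of the fibres over `N₁`
  have hlow : ∀ v ∈ N₁, ∀ (S : Set ↑(pullback f a)), S ⊆ (pullback.snd f a) ⁻¹' {v} →
      (∀ k, Disjoint S (D k : Set ↑(pullback f a))) →
      (Fintype.card κ : ℕ∞) + S.encard ≤ MoreMor.nGeomConnComp f (a v) := by
    intro v hv S hS hSD
    rw [← nGeomConnComp_baseChange hsq v]
    refine le_trans ?_ (card_fibre_le_nGeomConnComp (pullback.snd f a) v)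
    have hv' : ∀ k, ∃ x, x ∈ (D k : Set ↑(pullback f a)) ∧ pullback.snd f a x = v :=
      fun k => Set.mem_iInter.mp hv k
    choose ζ hζD hζv using hv'
    have hζinj : Function.Injective ζ := by
      intro k l hkl
      by_contra hne
      have h2 : ζ k ∈ (D l : Set ↑(pullback f a)) := by
        rw [hkl]
        exact hζD l
      exact Set.disjoint_left.mp (hdisj hne) (hζD k) h2
    have hdisj2 : Disjoint (Set.range ζ) S := by
      rw [Set.disjoint_left]
      rintro _ ⟨k, rfl⟩ hS'
      exact Set.disjoint_left.mp (hSD k) hS' (hζD k)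
    have hsub : Set.range ζ ∪ S ⊆ (pullback.snd f a) ⁻¹' {v} := by
      rintro x (⟨k, rfl⟩ | hx)
      · exact hζv k
      · exact hS hx
    calc (Fintype.card κ : ℕ∞) + S.encard = (Set.range ζ).encard + S.encard := by
          rw [← Set.image_univ, hζinj.encard_image, Set.encard_univ,
            ENat.card_eq_coe_fintype_card]
      _ = (Set.range ζ ∪ S).encard := (Set.encard_union_eq hdisj2).symm
      _ ≤ ((pullback.snd f a) ⁻¹' {v}).encard := Set.encard_le_encard hsub
      _ = ENat.card ((pullback.snd f a) ⁻¹' {v}) := rfl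
  refine ⟨V, a, v₀, N₁, hEt, hav₀, hv₀N, fun v hv => ?_, fun NV hNV hconst => ?_⟩
  · rw [hny]
    have := hlow v hv ∅ (Set.empty_subset _) (fun k => Set.empty_disjoint _)
    rwa [Set.encard_empty, add_zero] at this
  · -- over `NV` everything lies in the union of the `D k`
    have hcover : ∀ x : ↑(pullback f a), pullback.snd f a x ∈ NV → ∃ k, x ∈ D k := by
      intro x hx
      by_contra hcon
      push Not at hcon
      have := hlow _ (hNV hx) {x} (by simp) (fun k => by
        rw [Set.disjoint_left]
        rintro x' (rfl : x' = x) hx'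
        exact hcon k hx')
      rw [hconst _ hx, hny, Set.encard_singleton] at this
      have h2 : ((Fintype.card κ + 1 : ℕ) : ℕ∞) ≤ (Fintype.card κ : ℕ) := by
        exact_mod_cast this
      have h3 : Fintype.card κ + 1 ≤ Fintype.card κ := by exact_mod_cast h2
      omega
    have hres : IsPullback (pullback.snd f a ⁻¹ᵁ NV).ι (pullback.snd f a ∣_ NV)
        (pullback.snd f a) NV.ι := (isPullback_morphismRestrict (pullback.snd f a) NV).flip
    haveI hUfin : IsFinite ((⨆ k, D k).ι ≫ pullback.snd f a) :=
      EtLoc.isFinite_iSup_of_pairwise_disjoint _ D (fun k l hkl => by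
        change Disjoint (D k) (D l)
        rw [disjoint_iff]
        ext x
        have := hdisj hkl
        change Disjoint (D k : Set ↑(pullback f a)) (D l) at this
        rw [Set.disjoint_left] at this
        simp only [TopologicalSpace.Opens.coe_inf, Set.mem_inter_iff, SetLike.mem_coe,
          TopologicalSpace.Opens.coe_bot, Set.mem_empty_iff_false, iff_false, not_and]
        exact fun h1 h2 => this h1 h2) inferInstance
    have htop : (pullback.snd f a ⁻¹ᵁ NV).ι ⁻¹ᵁ (⨆ k, D k) = ⊤ := by
      ext x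
      simp only [TopologicalSpace.Opens.coe_top, Set.mem_univ, iff_true]
      have hx : pullback.snd f a ((pullback.snd f a ⁻¹ᵁ NV).ι x) ∈ NV := by
        have : (pullback.snd f a ⁻¹ᵁ NV).ι x ∈ Set.range (pullback.snd f a ⁻¹ᵁ NV).ι := ⟨_, rfl⟩
        rw [Scheme.Opens.range_ι] at this
        exact this
      obtain ⟨k, hk⟩ := hcover _ hx
      change (pullback.snd f a ⁻¹ᵁ NV).ι x ∈ (⨆ k, D k : (pullback f a).Opens)
      exact (le_iSup D k) hk
    have h1 := Wt.isFinite_preimage hres (⨆ k, D k)
    rw [htop] at h1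
    exact (MorphismProperty.cancel_left_of_respectsIso @IsFinite
      (Scheme.topIso _).hom (pullback.snd f a ∣_ NV)).mp h1

end Groth.Agent.Lib.Helper6.GN
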