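import Groth.Prelude.Def_Mor2
import Groth.Agent.Lib.Helper6.BddFibBasic

set_option autoImplicit false
universe u

open CategoryTheory AlgebraicGeometry Limits TensorProduct

namespace Groth.Agent.Lib.Helper6.BddFibLib

set_option backward.isDefEq.respectTransparency.types false in
/-- A finite flat morphism to the spectrum of a field has degree equal to its rank. -/
theorem finiteOfDegLE_of_finite_flat {K : CommRingCat.{u}} (hK : IsField K) {T : Scheme.{u}}
    (p : T ⟶ Spec K) [IsFinite p] [Flat p] (pt : Spec K) :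
    BddFib.FiniteOfDegLE K p (p.finrank pt) := by
  let _ := hK.toField
  have hT : IsAffine T := isAffine_of_isAffineHom p
  rw [finiteOfDegLE_iff]
  refine ⟨hT, ?_⟩
  set ψ : K ⟶ Γ(T, ⊤) := (Scheme.ΓSpecIso K).inv ≫ p.appTop with hψ
  have hp : p = T.isoSpec.hom ≫ Spec.map ψ := eq_isoSpec_hom_comp p
  have h1 : IsFinite (Spec.map ψ) := by
    rw [← MorphismProperty.cancel_left_of_respectsIso (P := @IsFinite) T.isoSpec.hom, ← hp]
    infer_instance
  have h2 : Flat (Spec.map ψ) := by
    rw [← MorphismProperty.cancel_left_of_respectsIso (P := @Flat) T.isoSpec.hom, ← hp]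
    infer_instance
  have h1' : ψ.hom.Finite := (IsFinite.SpecMap_iff ψ).mp h1
  have h2' : ψ.hom.Flat := Flat.SpecMap_iff.mp h2
  have e1 : p.finrank pt = (Spec.map ψ).finrank pt := by
    conv_lhs => rw [hp]
    rw [Scheme.Hom.finrank_comp_left_of_isIso]
  rw [e1, Scheme.Hom.finrank_SpecMap_eq_finrank h1' h2']
  let _ : Algebra K Γ(T, ⊤) := ψ.hom.toAlgebra
  have hfin : Module.Finite K Γ(T, ⊤) := h1'
  refine ⟨hfin, ?_⟩
  change _ ≤ Module.rankAtStalk (R := K) Γ(T, ⊤) pt
  rw [Module.rankAtStalk_eq_finrank_of_free]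
  exact le_rfl

end Groth.Agent.Lib.Helper6.BddFibLib

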