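import Groth.Agent.Lib.Helper6.BddFibBasic

set_option autoImplicit false
universe u

open CategoryTheory AlgebraicGeometry Limits TensorProduct

namespace Groth.Agent.Lib.Helper6.BddFibLib

/-- A finite-dimensional algebra over a field has at most `dim` prime ideals. -/
theorem card_primeSpectrum_le_finrank (k R : Type*) [Field k] [CommRing R] [Algebra k R]
    [Module.Finite k R] :
    Finite (PrimeSpectrum R) ∧ Nat.card (PrimeSpectrum R) ≤ Module.finrank k R := by
  classical
  have : IsArtinianRing R := IsArtinianRing.of_finite k R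
  have hfin : Finite (PrimeSpectrum R) := inferInstance
  refine ⟨hfin, ?_⟩
  cases nonempty_fintype (PrimeSpectrum R)
  have hmax : ∀ p : PrimeSpectrum R, p.asIdeal.IsMaximal := fun p =>
    IsArtinianRing.isMaximal_of_isPrime p.asIdeal
  have hcop : Pairwise (Function.onFun IsCoprime fun p : PrimeSpectrum R => p.asIdeal) := by
    intro p q hpq
    have := hmax p
    have := hmax q
    exact Ideal.isCoprime_of_isMaximal (fun h => hpq (PrimeSpectrum.ext h))
  have hex : ∀ p : PrimeSpectrum R, ∃ r : R, ∀ q : PrimeSpectrum R,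
      r - (if q = p then 1 else 0) ∈ q.asIdeal := fun p =>
    Ideal.exists_forall_sub_mem_ideal hcop (fun q => if q = p then 1 else 0)
  choose e he using hex
  have hli : LinearIndependent k e := by
    rw [Fintype.linearIndependent_iff]
    intro g hg j
    have h1 : Ideal.Quotient.mk j.asIdeal (∑ i, g i • e i) = 0 := by rw [hg, map_zero]
    have h2 : ∀ i, Ideal.Quotient.mk j.asIdeal (g i • e i) =
        if i = j then algebraMap k (R ⧸ j.asIdeal) (g i) else 0 := by
      intro i
      have h3 : Ideal.Quotient.mk j.asIdeal (e i) = if j = i then 1 else 0 := by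
        have := he i j
        rw [← Ideal.Quotient.eq_zero_iff_mem, map_sub, sub_eq_zero] at this
        rw [this]
        split_ifs <;> simp
      rw [Algebra.smul_def, map_mul, h3]
      by_cases hij : i = j
      · subst hij
        simp
      · rw [if_neg (Ne.symm hij), if_neg hij, mul_zero]
    rw [map_sum] at h1
    simp only [h2, Finset.sum_ite_eq', Finset.mem_univ, if_true] at h1
    have := hmax j
    have hnt : Nontrivial (R ⧸ j.asIdeal) := Ideal.Quotient.nontrivial_iff.mpr this.ne_top
    exact (map_eq_zero_iff _ (algebraMap k (R ⧸ j.asIdeal)).injective).mp h1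
  rw [Nat.card_eq_fintype_card]
  exact hli.fintype_card_le_finrank

theorem finite_and_card_le_of_finiteOfDegLE {K : CommRingCat.{u}} (hK : IsField K)
    {T : Scheme.{u}} (p : T ⟶ Spec K) (n : ℕ) (h : BddFib.FiniteOfDegLE K p n) :
    Finite T ∧ Nat.card T ≤ n := by
  let _ := hK.toField
  rw [finiteOfDegLE_iff] at h
  obtain ⟨hT, hD⟩ := h
  let _ : Algebra K Γ(T, ⊤) := ((Scheme.ΓSpecIso K).inv ≫ p.appTop).hom.toAlgebra
  obtain ⟨hfin, hrank⟩ := hD
  obtain ⟨h1, h2⟩ := card_primeSpectrum_le_finrank K Γ(T, ⊤)
  let e : T ≃ PrimeSpectrum Γ(T, ⊤) := (TopCat.homeoOfIso (asIso T.isoSpec.hom.base)).toEquiv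
  refine ⟨Finite.of_equiv _ e.symm, ?_⟩
  rw [Nat.card_congr e]
  exact h2.trans hrank

end Groth.Agent.Lib.Helper6.BddFibLib
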