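import Mathlib
import Groth.Agent.Lib.Helper6.CMChart3
import Groth.Agent.Lib.Helper21.OpenAt15

/-!
# Cohen–Macaulay locus: fibre-maximal points, density in fibres, local constancy of fibre dimension
-/

set_option autoImplicit false
set_option linter.style.haveILetI false
universe u
open AlgebraicGeometry CategoryTheory Limits TopologicalSpace

namespace Groth.Agent.Lib.Helper6.CMChart

open Groth.Agent.Lib.Helper6.QFac Groth.Agent.Lib.Helper21.FibDim Groth.Agent.Lib.Helper21.OpenAt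
  Groth.Agent.Lib.Helper21.EquiSub Groth.Agent.Lib.Helper21.FourCond

/-- a morphism locally of finite type is Cohen–Macaulay at the points maximal in their fibres
at which it is flat -/
theorem isCMAt_of_maximal {X S : Scheme.{u}} (f : X ⟶ S) [LocallyOfFiniteType f] (ζ : X)
    (hmax : ∀ τ : X, τ ⤳ ζ → f τ = f ζ → τ = ζ) (hfl : (f.stalkMap ζ).hom.Flat) :
    MoreMor.IsCMAt f ζ := by
  refine ⟨hfl, ?_⟩
  haveI : IsLocallyNoetherian (f.fiber (f ζ)) :=
    Groth.Agent.Lib.Helper23.CMMor.isLocallyNoetherian_fiber_of_lft f (f ζ)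
  obtain ⟨a, b, ha, hb, hab⟩ := exists_fibreDimAt_eq_add f ζ
  have h1 := fibreDimAt_eq_trdeg_of_maximal f ζ hmax a ha
  rw [h1] at hab
  have : a = a + b := by exact_mod_cast hab
  have hb0 : b = 0 := by omega
  apply isCohenMacaulayLocalRing_of_ringKrullDim_eq_zero
  rw [hb, hb0]
  rfl

/-- the Cohen–Macaulay locus of a flat morphism locally of finite type is dense in every fibre -/
theorem dense_cmLocus_fiber {X S : Scheme.{u}} (f : X ⟶ S) [Flat f] [LocallyOfFiniteType f]
    (s : S) : Dense ((f.fiberι s) ⁻¹' {x : X | MoreMor.IsCMAt f x}) := by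
  rw [dense_iff_inter_open]
  rintro O hO ⟨w, hw⟩
  obtain ⟨ζ, N, hζx, hfζ, hζmax, -, -⟩ := exists_maximal_generization_fibreDimAt f (f.fiberι s w)
  have hfs : f (f.fiberι s w) = s := (f.fiberHomeo s w).2
  have hζs : ζ ∈ Set.range (f.fiberι s) := by
    rw [Scheme.Hom.range_fiberι]
    exact hfζ.trans hfs
  obtain ⟨ζ', rfl⟩ := hζs
  have hsp : ζ' ⤳ w := (f.fiberι s).isEmbedding.isInducing.specializes_iff.mp hζx
  refine ⟨ζ', hsp.mem_open hO hw, ?_⟩
  exact isCMAt_of_maximal f _ hζmax ((Flat.iff_flat_stalkMap f).mp inferInstance _)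

/-- the local fibre dimension is locally constant near a point where `f` is Cohen–Macaulay -/
theorem exists_open_fibreDimAt_eq_of_isCMAt {X S : Scheme.{u}} (f : X ⟶ S)
    [LocallyOfFinitePresentation f] (x : X) (hCM : MoreMor.IsCMAt f x) :
    ∃ W : X.Opens, x ∈ W ∧ ∀ z ∈ W, FlatMor.fibreDimAt f z = FlatMor.fibreDimAt f x := by
  haveI : LocallyOfFiniteType f := inferInstance
  obtain ⟨N, hN⟩ := exists_nat_fibreDimAt f x
  obtain ⟨U, g, hxU, hg, hfl, hlqf⟩ := exists_flat_chart_nhd_of_isCMAt f x hCM N hN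
  haveI := hlqf
  haveI := hfl
  refine ⟨U, hxU, fun z hz => ?_⟩
  rw [hN]
  exact Groth.Agent.Lib.Helper6.FlatFD.fibreDimAt_eq_of_flat_chart f N U g hg ⊤
    (fun u _ => (Flat.iff_flat_stalkMap g).mp inferInstance u) ⟨z, hz⟩ trivial

end Groth.Agent.Lib.Helper6.CMChart
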