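import Groth.Prelude.Def_Frob
import Groth.Agent.Lib.Helper12.UnivHomeo
import Mathlib.AlgebraicGeometry.Morphisms.UniversallyInjective
import Mathlib.FieldTheory.PurelyInseparable.Basic
import Mathlib.AlgebraicGeometry.Morphisms.Integral

set_option autoImplicit false
universe u

open CategoryTheory AlgebraicGeometry Limits

namespace Groth.Agent.Lib.Helper6.Perf

open Groth.Agent.Lib.Helper12

variable (X : Scheme.{u}) (p : ℕ) [Fact p.Prime] [FrobSch.IsCharP X p]

theorem isIntegralHom_frob : IsIntegralHom (FrobSch.frob X p) := by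
  have : IsAffineHom (FrobSch.frob X p) := ⟨fun U hU => hU⟩
  refine ⟨fun U hU s => ?_⟩
  have key : ∀ s' : Γ(X, U), ((FrobSch.frob X p).app U).hom.IsIntegralElem
      (show Γ(X, FrobSch.frob X p ⁻¹ᵁ U) from s') := by
    intro s'
    refine ⟨Polynomial.X ^ p - Polynomial.C s',
      Polynomial.monic_X_pow_sub_C s' (Fact.out : p.Prime).ne_zero, ?_⟩
    rw [Polynomial.eval₂_sub, Polynomial.eval₂_pow, Polynomial.eval₂_X, Polynomial.eval₂_C]
    exact sub_eq_zero.mpr rfl
  exact key s

theorem residueFieldMap_frob (x : X) (z : X.residueField x) :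
    (FrobSch.frob X p).residueFieldMap x z = z ^ p := by
  obtain ⟨t, rfl⟩ := X.residue_surjective x z
  obtain ⟨U, hxU, s, rfl⟩ := X.presheaf.exists_germ_eq (x := x) t
  have h := Scheme.evaluation_naturality_apply (FrobSch.frob X p) (V := U) x hxU s
  change (FrobSch.frob X p).residueFieldMap x (X.evaluation U x hxU s) = _ at h
  change (FrobSch.frob X p).residueFieldMap x (X.evaluation U x hxU s) = (X.evaluation U x hxU s) ^ p
  rw [h, ← map_pow]
  rfl

omit [Fact p.Prime] in
theorem natCast_residueField_eq_zero (x : X) : (p : X.residueField x) = 0 := by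
  have h := FrobSch.natCast_eq_zero_app X p ⊤
  have := congrArg (X.evaluation ⊤ x trivial) h
  simpa using this

theorem isPurelyInseparable_residueFieldMap_frob (x : X) :
    ((FrobSch.frob X p).residueFieldMap x).hom.IsPurelyInseparable := by
  have hp : (p : X.residueField ((FrobSch.frob X p) x)) = 0 := natCast_residueField_eq_zero X p x
  have : CharP (X.residueField ((FrobSch.frob X p) x)) p :=
    (CharP.charP_iff_prime_eq_zero Fact.out).2 hp
  have : ExpChar (X.residueField ((FrobSch.frob X p) x)) p := ExpChar.prime Fact.out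
  algebraize [((FrobSch.frob X p).residueFieldMap x).hom]
  rw [RingHom.IsPurelyInseparable]
  refine (isPurelyInseparable_iff_pow_mem (X.residueField ((FrobSch.frob X p) x)) p).mpr ?_
  intro z
  refine ⟨1, z, ?_⟩
  rw [pow_one]
  exact residueFieldMap_frob X p x z

theorem universallyInjective_frob : UniversallyInjective (FrobSch.frob X p) := by
  have := (tfae_universallyInjective (FrobSch.frob X p)).out 0 2
  rw [this]
  exact ⟨fun a b h => h, isPurelyInseparable_residueFieldMap_frob X p⟩

theorem isUnivHomeo_frob : FlatMor.IsUnivHomeo (FrobSch.frob X p) := by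
  rw [isUnivHomeo_iff]
  exact ⟨isIntegralHom_frob X p, universallyInjective_frob X p, ⟨fun x => ⟨x, rfl⟩⟩⟩

end Groth.Agent.Lib.Helper6.Perf
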