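import Mathlib
import Groth.Prelude.Def_CAlg2
import Groth.Agent.Lib.Helper6.GeomUnibranch1

/-!
# Geometric unibranchness of a (possibly non-reduced) local ring through a domain quotient
`O ≃ A_red`.
-/

set_option autoImplicit false
universe u

namespace Groth.Agent.Lib.Helper6.GU7

open Groth.Agent.Lib.Helper6.GU

section Transfer

variable (A : Type u) [CommRing A]
variable (O K : Type u) [CommRing O] [IsDomain O] [Field K] [Algebra O K] [IsFractionRing O K]
variable (e : O ≃+* CAlg2.red A)

include e in
theorem isDomain_red : IsDomain (CAlg2.red A) := e.symm.toMulEquiv.isDomain O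

/-- The induced isomorphism of fraction fields. -/
noncomputable def fracEquiv : K ≃+* FractionRing (CAlg2.red A) :=
  IsFractionRing.ringEquivOfRingEquiv e

omit [IsDomain O] in
theorem fracEquiv_algebraMap (o : O) :
    fracEquiv A O K e (algebraMap O K o) =
      algebraMap (CAlg2.red A) (FractionRing (CAlg2.red A)) (e o) :=
  IsFractionRing.ringEquivOfRingEquiv_algebraMap (K := K)
    (L := FractionRing (CAlg2.red A)) e o

theorem fracEquiv_symm_algebraMap (r : CAlg2.red A) :
    (fracEquiv A O K e).symm (algebraMap (CAlg2.red A) (FractionRing (CAlg2.red A)) r) =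
      algebraMap O K (e.symm r) := by
  have := fracEquiv_algebraMap A O K e (e.symm r)
  rw [RingEquiv.apply_symm_apply] at this
  rw [← this, RingEquiv.symm_apply_apply]

theorem isIntegral_fracEquiv {x : K} (hx : IsIntegral O x) :
    IsIntegral (CAlg2.red A) (fracEquiv A O K e x) := by
  refine hx.map_of_comp_eq e.toRingHom (fracEquiv A O K e).toRingHom ?_
  refine RingHom.ext (fun o => ?_)
  exact (fracEquiv_algebraMap A O K e o).symm

theorem isIntegral_fracEquiv_symm {y : FractionRing (CAlg2.red A)}
    (hy : IsIntegral (CAlg2.red A) y) : IsIntegral O ((fracEquiv A O K e).symm y) := by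
  refine hy.map_of_comp_eq e.symm.toRingHom (fracEquiv A O K e).symm.toRingHom ?_
  refine RingHom.ext (fun r => ?_)
  exact (fracEquiv_symm_algebraMap A O K e r).symm

/-- The comparison between the integral closure of `O` in `K` and `CAlg2.normRed A`. -/
noncomputable def normEquiv : integralClosure O K ≃+* CAlg2.normRed A :=
  RingEquiv.ofRingHom
    (((fracEquiv A O K e).toRingHom.comp (integralClosure O K).val.toRingHom).codRestrict
      (integralClosure (CAlg2.red A) (FractionRing (CAlg2.red A)))
      (fun x => isIntegral_fracEquiv A O K e x.2))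
    (((fracEquiv A O K e).symm.toRingHom.comp
      (integralClosure (CAlg2.red A) (FractionRing (CAlg2.red A))).val.toRingHom).codRestrict
      (integralClosure O K) (fun y => isIntegral_fracEquiv_symm A O K e y.2))
    (by
      ext y
      exact (fracEquiv A O K e).apply_symm_apply y.1)
    (by
      ext x
      exact (fracEquiv A O K e).symm_apply_apply x.1)

theorem normEquiv_coe (x : integralClosure O K) :
    ((normEquiv A O K e x : CAlg2.normRed A) : FractionRing (CAlg2.red A)) =
      fracEquiv A O K e x.1 := rfl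

theorem normEquiv_algebraMap (o : O) :
    normEquiv A O K e (algebraMap O (integralClosure O K) o) =
      algebraMap (CAlg2.red A) (CAlg2.normRed A) (e o) := by
  apply Subtype.ext
  exact fracEquiv_algebraMap A O K e o

theorem isUnit_normEquiv_iff (x : integralClosure O K) :
    IsUnit (normEquiv A O K e x) ↔ IsUnit x :=
  ⟨fun h => by
    have := h.map (normEquiv A O K e).symm
    rwa [RingEquiv.symm_apply_apply] at this, fun h => h.map (normEquiv A O K e)⟩

variable [IsLocalRing A]

include e in
/-- From the prelude's definition to the intrinsic form. -/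
theorem gu'_of_isGeomUnibranch (h : CAlg2.IsGeomUnibranch A) : GU' O K := by
  obtain ⟨⟨-, hloc⟩, hres⟩ := h
  haveI : IsLocalRing (CAlg2.normRed A) := hloc
  haveI : IsLocalRing (integralClosure O K) := (normEquiv A O K e).symm.isLocalRing
  obtain ⟨q, hq⟩ := ExpChar.exists
    (R := CAlg2.normRed A ⧸ IsLocalRing.maximalIdeal (CAlg2.normRed A))
  have hqe : ringExpChar (CAlg2.normRed A ⧸ IsLocalRing.maximalIdeal (CAlg2.normRed A)) = q :=
    ringExpChar.eq _ q
  refine ⟨inferInstance, q, ?_, ?_⟩
  · cases hq with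
    | zero => exact Or.inl rfl
    | prime hp =>
      refine Or.inr ⟨hp, ?_⟩
      intro hu
      have h1 : IsUnit ((q : ℕ) : CAlg2.normRed A) := by
        have := hu.map (normEquiv A O K e)
        rwa [map_natCast] at this
      have h2 : ((q : ℕ) : CAlg2.normRed A) ∈ IsLocalRing.maximalIdeal (CAlg2.normRed A) := by
        apply Ideal.Quotient.eq_zero_iff_mem.mp
        have e' : Ideal.Quotient.mk (IsLocalRing.maximalIdeal (CAlg2.normRed A))
            ((q : ℕ) : CAlg2.normRed A) = ((q : ℕ) : CAlg2.normRed A ⧸ _) :=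
          map_natCast (Ideal.Quotient.mk (IsLocalRing.maximalIdeal (CAlg2.normRed A))) q
        rw [e']
        exact CharP.cast_eq_zero _ q
      exact (IsLocalRing.mem_maximalIdeal _).mp h2 h1
  · intro x
    obtain ⟨n, a, ha⟩ := hres (IsLocalRing.maximalIdeal (CAlg2.normRed A))
      (Ideal.Quotient.mk _ (normEquiv A O K e x))
    rw [hqe] at ha
    refine ⟨n, e.symm (Ideal.Quotient.mk _ a), ?_⟩
    rw [← isUnit_normEquiv_iff A O K e, map_sub, map_pow, normEquiv_algebraMap,
      RingEquiv.apply_symm_apply]
    have h1 : Ideal.Quotient.mk (IsLocalRing.maximalIdeal (CAlg2.normRed A))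
        (normEquiv A O K e x ^ q ^ n) =
        (Ideal.Quotient.mk (IsLocalRing.maximalIdeal (CAlg2.normRed A))
          (normEquiv A O K e x)) ^ q ^ n :=
      RingHom.map_pow _ _ _
    have h2 := Ideal.Quotient.eq.mp (h1.trans ha.symm)
    exact h2

include e in
/-- From the intrinsic form to the prelude's definition. -/
theorem isGeomUnibranch_of_gu' (h : GU' O K) : CAlg2.IsGeomUnibranch A := by
  obtain ⟨hloc, q, hq, hres⟩ := h
  haveI : IsLocalRing (integralClosure O K) := hloc
  haveI : IsLocalRing (CAlg2.normRed A) := (normEquiv A O K e).isLocalRing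
  refine ⟨⟨isDomain_red A O e, inferInstance⟩, ?_⟩
  intro m' hm'
  obtain rfl : m' = IsLocalRing.maximalIdeal (CAlg2.normRed A) := IsLocalRing.eq_maximalIdeal hm'
  intro x
  obtain ⟨y, rfl⟩ := Ideal.Quotient.mk_surjective x
  obtain ⟨n, o, hno⟩ := hres ((normEquiv A O K e).symm y)
  rw [← isUnit_normEquiv_iff A O K e, map_sub, map_pow, normEquiv_algebraMap,
    RingEquiv.apply_symm_apply] at hno
  obtain ⟨a, ha⟩ := Ideal.Quotient.mk_surjective (e o)
  rw [← ha] at hno
  have hmem0 : y ^ q ^ n - algebraMap (CAlg2.red A) (CAlg2.normRed A) (Ideal.Quotient.mk _ a) ∈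
      IsLocalRing.maximalIdeal (CAlg2.normRed A) := hno
  have hmem : (Ideal.Quotient.mk (IsLocalRing.maximalIdeal (CAlg2.normRed A)) y) ^ q ^ n =
      Ideal.Quotient.mk (IsLocalRing.maximalIdeal (CAlg2.normRed A))
        (algebraMap (CAlg2.red A) (CAlg2.normRed A) (Ideal.Quotient.mk _ a)) :=
    (RingHom.map_pow _ _ _).symm.trans (Ideal.Quotient.eq.mpr hmem0)
  rcases hq with rfl | ⟨hqp, hqu⟩
  · refine ⟨0, a, ?_⟩
    rw [pow_zero, pow_one]
    rw [one_pow, pow_one] at hmem
    exact hmem.symm
  · have hq0 : ((q : ℕ) : CAlg2.normRed A ⧸ IsLocalRing.maximalIdeal (CAlg2.normRed A)) = 0 := by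
      have e' : Ideal.Quotient.mk (IsLocalRing.maximalIdeal (CAlg2.normRed A))
          ((q : ℕ) : CAlg2.normRed A) = ((q : ℕ) : CAlg2.normRed A ⧸ _) :=
        map_natCast (Ideal.Quotient.mk (IsLocalRing.maximalIdeal (CAlg2.normRed A))) q
      rw [← e']
      apply Ideal.Quotient.eq_zero_iff_mem.mpr
      rw [IsLocalRing.mem_maximalIdeal]
      intro hu
      apply hqu
      have := hu.map (normEquiv A O K e).symm
      rwa [map_natCast] at this
    haveI : Fact q.Prime := ⟨hqp⟩
    haveI : Nontrivial (CAlg2.normRed A ⧸ IsLocalRing.maximalIdeal (CAlg2.normRed A)) :=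
      Ideal.Quotient.nontrivial_iff.mpr hm'.ne_top
    haveI : CharP (CAlg2.normRed A ⧸ IsLocalRing.maximalIdeal (CAlg2.normRed A)) q :=
      (CharP.charP_iff_prime_eq_zero hqp).mpr hq0
    have e'' : ringExpChar (CAlg2.normRed A ⧸ IsLocalRing.maximalIdeal (CAlg2.normRed A)) = q :=
      ringExpChar.eq _ q
    refine ⟨n, a, ?_⟩
    rw [e'']
    exact hmem.symm

include e in
theorem isGeomUnibranch_iff_gu' : CAlg2.IsGeomUnibranch A ↔ GU' O K :=
  ⟨gu'_of_isGeomUnibranch A O K e, isGeomUnibranch_of_gu' A O K e⟩

end Transfer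

end Groth.Agent.Lib.Helper6.GU7
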