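import Mathlib
import Groth.Agent.Lib.Helper6.GeomUnibranch2

/-!
# Geometric unibranchness along an integral birational extension of domains (domain core)
-/

set_option autoImplicit false
set_option linter.unusedSectionVars false
universe u

namespace Groth.Agent.Lib.Helper6.RP

open Groth.Agent.Lib.Helper6.GU

/-- Elementwise form of "the residue field extension `κ(p) → κ(q)` is purely inseparable". -/
def PIat {R S : Type u} [CommRing R] [CommRing S] [Algebra R S] (p : Ideal R) (q : Ideal S) :
    Prop :=
  ∃ c : ℕ, (c = 1 ∨ (c.Prime ∧ (c : R) ∈ p)) ∧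
    ∀ s : S, ∃ (n : ℕ) (r t : R), t ∉ p ∧ algebraMap R S t * s ^ c ^ n - algebraMap R S r ∈ q

section DomainCore

variable (R S K : Type u) [CommRing R] [IsDomain R] [CommRing S] [IsDomain S] [Field K]
  [Algebra R S] [Algebra R K] [Algebra S K] [IsScalarTower R S K]
  [IsFractionRing R K] [IsFractionRing S K] [Algebra.IsIntegral R S]
variable (p : Ideal R) [p.IsPrime]
variable (O : Type u) [CommRing O] [Algebra R O] [IsLocalization.AtPrime O p] [Algebra O K]
  [IsScalarTower R O K]

include R S K p O

theorem isIntegral_of_S (s : S) : IsIntegral O (algebraMap S K s) := by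
  have h1 : IsIntegral R (algebraMap S K s) :=
    (Algebra.IsIntegral.isIntegral (R := R) s).map (IsScalarTower.toAlgHom R S K)
  exact h1.tower_top

/-- The map `S → integralClosure O K`. -/
noncomputable def inclS : S →+* integralClosure O K :=
  (algebraMap S K).codRestrict (integralClosure O K) (fun s => isIntegral_of_S R S K p O s)

theorem inclS_coe (s : S) : ((inclS R S K p O s : integralClosure O K) : K) = algebraMap S K s := rfl

theorem inclS_algebraMap (r : R) :
    inclS R S K p O (algebraMap R S r) = algebraMap O (integralClosure O K) (algebraMap R O r) := by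
  apply Subtype.ext
  change algebraMap S K (algebraMap R S r) = algebraMap O K (algebraMap R O r)
  rw [← IsScalarTower.algebraMap_apply R S K, ← IsScalarTower.algebraMap_apply R O K]

variable [IsLocalRing O] [hloc : IsLocalRing (integralClosure O K)]

/-- The prime of `S` cut out by the maximal ideal of the (local) integral closure of `O`. -/
noncomputable def q₀ : Ideal S :=
  (IsLocalRing.maximalIdeal (integralClosure O K)).comap (inclS R S K p O)

instance : (q₀ R S K p O).IsPrime := Ideal.comap_isPrime _ _

theorem isUnit_algebraMap_iff (r : R) :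
    IsUnit (algebraMap O (integralClosure O K) (algebraMap R O r)) ↔ r ∉ p := by
  constructor
  · intro hu ha
    have h1 : algebraMap R O r ∈ IsLocalRing.maximalIdeal O :=
      (IsLocalization.AtPrime.to_map_mem_maximal_iff O p r).mpr ha
    have hmax : ((IsLocalRing.maximalIdeal (integralClosure O K)).comap
        (algebraMap O (integralClosure O K))).IsMaximal :=
      Ideal.isMaximal_comap_of_isIntegral_of_isMaximal _
    have h2 := IsLocalRing.eq_maximalIdeal hmax
    have h3 : algebraMap R O r ∈ (IsLocalRing.maximalIdeal (integralClosure O K)).comap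
        (algebraMap O (integralClosure O K)) := by rw [h2]; exact h1
    exact (IsLocalRing.mem_maximalIdeal _).mp h3 hu
  · intro ha
    exact ((IsLocalization.AtPrime.isUnit_to_map_iff O p r).mpr ha).map _

theorem comap_q₀ : (q₀ R S K p O).comap (algebraMap R S) = p := by
  ext r
  rw [Ideal.mem_comap, q₀, Ideal.mem_comap, inclS_algebraMap, IsLocalRing.mem_maximalIdeal,
    mem_nonunits_iff, isUnit_algebraMap_iff R S K p O r, not_not]

/-- Clearing denominators. -/
theorem exists_mul_mem' (u : integralClosure O K) :
    ∃ (t : R), t ∉ p ∧ IsIntegral R (algebraMap R K t * (u : K)) := by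
  obtain ⟨⟨t, ht⟩, htu⟩ := IsIntegral.exists_multiple_integral_of_isLocalization
    (R := R) (Rₘ := O) p.primeCompl (u : K) u.2
  refine ⟨t, ht, ?_⟩
  have : (⟨t, ht⟩ : p.primeCompl) • (u : K) = algebraMap R K t * (u : K) := by
    rw [Submonoid.smul_def, Algebra.smul_def]
  rw [← this]
  exact htu

theorem notMem_q₀_iff (s : S) : s ∉ q₀ R S K p O ↔ IsUnit (inclS R S K p O s) := by
  rw [q₀, Ideal.mem_comap, IsLocalRing.mem_maximalIdeal, mem_nonunits_iff, not_not]

/-- Uniqueness of the prime of `S` over `p` when `O = R_p` is geometrically unibranch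
(only locality of the integral closure is used). -/
theorem eq_q₀ (q : Ideal S) [q.IsPrime] (hq : q.comap (algebraMap R S) = p) :
    q = q₀ R S K p O := by
  have hinjT : Function.Injective (algebraMap S (integralClosure S K)) := by
    intro a b hab
    have := congrArg (fun x : integralClosure S K => (x : K)) hab
    exact (IsFractionRing.injective S K) this
  have hker : (⊥ : Ideal (integralClosure S K)).comap (algebraMap S (integralClosure S K)) ≤ q := by
    intro s hs
    rw [Ideal.mem_comap, Ideal.mem_bot] at hs
    have : s = 0 := hinjT (by rw [hs, map_zero])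
    rw [this]
    exact q.zero_mem
  obtain ⟨q', -, hq'p, hq'q⟩ := Ideal.exists_ideal_over_prime_of_isIntegral q
    (⊥ : Ideal (integralClosure S K)) hker
  have hle : q ≤ q₀ R S K p O := by
    intro s hs
    by_contra hns
    have hu : IsUnit (inclS R S K p O s) := (notMem_q₀_iff R S K p O s).mp hns
    obtain ⟨u, hu'⟩ := hu.exists_right_inv
    obtain ⟨t, ht, hw⟩ := exists_mul_mem' R S K p O u
    let w' : integralClosure S K := ⟨algebraMap R K t * (u : K), hw.tower_top⟩
    have hsu : algebraMap S K s * (u : K) = 1 := by
      have := congrArg (fun x : integralClosure O K => (x : K)) hu'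
      simpa [inclS_coe] using this
    have hmul : algebraMap S (integralClosure S K) s * w' =
        algebraMap S (integralClosure S K) (algebraMap R S t) := by
      apply Subtype.ext
      change algebraMap S K s * (algebraMap R K t * (u : K)) = algebraMap S K (algebraMap R S t)
      rw [← IsScalarTower.algebraMap_apply R S K, mul_left_comm, hsu, mul_one]
    have h1 : algebraMap S (integralClosure S K) s ∈ q' := by
      rw [← hq'q] at hs
      exact hs
    have h2 : algebraMap S (integralClosure S K) (algebraMap R S t) ∈ q' :=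
      hmul ▸ q'.mul_mem_right _ h1
    have h3 : t ∈ p := by
      rw [← hq, Ideal.mem_comap, ← hq'q, Ideal.mem_comap]
      exact h2
    exact ht h3
  by_contra hne
  have hlt : q < q₀ R S K p O := lt_of_le_of_ne hle hne
  obtain ⟨x, hx₀, hxq⟩ := Set.exists_of_ssubset hlt
  have := Ideal.comap_lt_comap_of_integral_mem_sdiff (R := R) hle ⟨hx₀, hxq⟩
    (Algebra.IsIntegral.isIntegral x)
  rw [hq, comap_q₀ R S K p O] at this
  exact lt_irrefl _ this

theorem inclS_notUnit_of_factor (s : S) (n : ℕ) (c : ℕ) (o : O) (r t : R)
    (hot : o * algebraMap R O t = algebraMap R O r)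
    (hno : ¬ IsUnit ((inclS R S K p O s) ^ c ^ n - algebraMap O (integralClosure O K) o)) :
    algebraMap R S t * s ^ c ^ n - algebraMap R S r ∈ q₀ R S K p O := by
  by_contra hns
  have hu := (notMem_q₀_iff R S K p O _).mp hns
  have e : inclS R S K p O (algebraMap R S t * s ^ c ^ n - algebraMap R S r) =
      algebraMap O (integralClosure O K) (algebraMap R O t) *
        ((inclS R S K p O s) ^ c ^ n - algebraMap O (integralClosure O K) o) := by
    rw [map_sub, map_mul, map_pow, inclS_algebraMap, inclS_algebraMap, mul_sub, ← map_mul,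
      mul_comm (algebraMap R O t) o, hot]
  rw [e] at hu
  exact hno (isUnit_of_mul_isUnit_right hu)

/-- Pure inseparability of the residue extension at `q₀`, elementwise. -/
theorem pIat_q₀ (c : ℕ) (hc : c = 1 ∨ (c.Prime ∧ ¬ IsUnit ((c : ℕ) : integralClosure O K)))
    (hres : ∀ x : integralClosure O K, ∃ (n : ℕ) (o : O),
      ¬ IsUnit (x ^ c ^ n - algebraMap O (integralClosure O K) o)) :
    PIat p (q₀ R S K p O) := by
  refine ⟨c, ?_, fun s => ?_⟩
  · rcases hc with rfl | ⟨hcp, hcu⟩
    · exact Or.inl rfl
    · refine Or.inr ⟨hcp, ?_⟩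
      by_contra hcp'
      apply hcu
      have := (isUnit_algebraMap_iff R S K p O ((c : ℕ) : R)).mpr hcp'
      rwa [map_natCast, map_natCast] at this
  · obtain ⟨n, o, hno⟩ := hres (inclS R S K p O s)
    obtain ⟨⟨r, t⟩, hrt⟩ := IsLocalization.surj p.primeCompl o
    exact ⟨n, r, t, t.2, inclS_notUnit_of_factor R S K p O s n c o r t hrt hno⟩

end DomainCore

section Two

variable (R S K : Type u) [CommRing R] [IsDomain R] [CommRing S] [IsDomain S] [Field K]
  [Algebra R S] [Algebra R K] [Algebra S K] [IsScalarTower R S K]
  [IsFractionRing R K] [IsFractionRing S K] [Algebra.IsIntegral R S]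
variable (p : Ideal R) [p.IsPrime]
variable (O : Type u) [CommRing O] [Algebra R O] [IsLocalization.AtPrime O p] [Algebra O K]
  [IsScalarTower R O K]
variable (q : Ideal S) [q.IsPrime] (hq : q.comap (algebraMap R S) = p)
variable (O₂ : Type u) [CommRing O₂] [Algebra S O₂] [IsLocalization.AtPrime O₂ q] [Algebra O₂ K]
  [IsScalarTower S O₂ K]

include R S K p O q hq O₂

theorem isUnit_toO₂_aux (y : p.primeCompl) :
    IsUnit (((algebraMap S O₂).comp (algebraMap R S)) y) := by
  rw [RingHom.comp_apply]
  apply (IsLocalization.AtPrime.isUnit_to_map_iff O₂ q _).mpr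
  intro hmem
  apply y.2
  have h2 : (y : R) ∈ q.comap (algebraMap R S) := hmem
  rw [hq] at h2
  exact h2

/-- The canonical map `R_p → S_q`. -/
noncomputable def toO₂ : O →+* O₂ :=
  IsLocalization.lift (M := p.primeCompl) (g := (algebraMap S O₂).comp (algebraMap R S))
    (isUnit_toO₂_aux R S K p O q hq O₂)

theorem toO₂_algebraMap (r : R) :
    toO₂ R S K p O q hq O₂ (algebraMap R O r) = algebraMap S O₂ (algebraMap R S r) :=
  IsLocalization.lift_eq _ r

theorem algebraMap_toO₂ (o : O) :
    algebraMap O₂ K (toO₂ R S K p O q hq O₂ o) = algebraMap O K o := by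
  have : (algebraMap O₂ K).comp (toO₂ R S K p O q hq O₂) = algebraMap O K := by
    apply IsLocalization.ringHom_ext p.primeCompl
    ext r
    simp only [RingHom.comp_apply, toO₂_algebraMap]
    rw [← IsScalarTower.algebraMap_apply S O₂ K, ← IsScalarTower.algebraMap_apply R S K,
      ← IsScalarTower.algebraMap_apply R O K]
  exact RingHom.congr_fun this o

theorem isIntegral_O₂_of_O (x : K) (hx : IsIntegral O x) : IsIntegral O₂ x := by
  letI : Algebra O O₂ := (toO₂ R S K p O q hq O₂).toAlgebra
  haveI : IsScalarTower O O₂ K := IsScalarTower.of_algebraMap_eq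
    (fun o => (algebraMap_toO₂ R S K p O q hq O₂ o).symm)
  exact hx.tower_top

theorem isIntegral_O_of_O₂
    (hinv : ∀ s : S, s ∉ q → ∃ v : K, IsIntegral O v ∧ algebraMap S K s * v = 1)
    (x : K) (hx : IsIntegral O₂ x) : IsIntegral O x := by
  obtain ⟨⟨s, hs⟩, hsx⟩ := IsIntegral.exists_multiple_integral_of_isLocalization
    (R := S) (Rₘ := O₂) q.primeCompl x hx
  have h1 : IsIntegral S (algebraMap S K s * x) := by
    have : (⟨s, hs⟩ : q.primeCompl) • x = algebraMap S K s * x := by
      rw [Submonoid.smul_def, Algebra.smul_def]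
    rw [← this]
    exact hsx
  have h2 : IsIntegral R (algebraMap S K s * x) := isIntegral_trans _ h1
  have h3 : IsIntegral O (algebraMap S K s * x) := h2.tower_top
  obtain ⟨v, hv, hsv⟩ := hinv s hs
  have : x = v * (algebraMap S K s * x) := by
    rw [← mul_assoc, mul_comm v, hsv, one_mul]
  rw [this]
  exact hv.mul h3

/-- The integral closures of `R_p` and `S_q` in `K` coincide (under the inversion hypothesis). -/
noncomputable def icEquiv
    (hinv : ∀ s : S, s ∉ q → ∃ v : K, IsIntegral O v ∧ algebraMap S K s * v = 1) :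
    integralClosure O₂ K ≃+* integralClosure O K :=
  RingEquiv.ofRingHom
    ((integralClosure O₂ K).val.toRingHom.codRestrict (integralClosure O K)
      (fun x => isIntegral_O_of_O₂ R S K p O q hq O₂ hinv _ x.2))
    ((integralClosure O K).val.toRingHom.codRestrict (integralClosure O₂ K)
      (fun x => isIntegral_O₂_of_O R S K p O q hq O₂ _ x.2))
    (by ext; rfl) (by ext; rfl)

theorem icEquiv_coe
    (hinv : ∀ s : S, s ∉ q → ∃ v : K, IsIntegral O v ∧ algebraMap S K s * v = 1)
    (x : integralClosure O₂ K) : ((icEquiv R S K p O q hq O₂ hinv x : integralClosure O K) : K) = x :=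
  rfl

theorem icEquiv_algebraMap_toO₂
    (hinv : ∀ s : S, s ∉ q → ∃ v : K, IsIntegral O v ∧ algebraMap S K s * v = 1) (o : O) :
    icEquiv R S K p O q hq O₂ hinv (algebraMap O₂ (integralClosure O₂ K) (toO₂ R S K p O q hq O₂ o)) =
      algebraMap O (integralClosure O K) o := by
  apply Subtype.ext
  exact algebraMap_toO₂ R S K p O q hq O₂ o

end Two

end Groth.Agent.Lib.Helper6.RP
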