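import Mathlib
import Groth.Agent.Lib.Helper6.RP1

/-!
# Domain core, continued: transfer of `GU'` between `R_p` and `S_q`
-/

set_option autoImplicit false
set_option linter.unusedSectionVars false
universe u

namespace Groth.Agent.Lib.Helper6.RP

open Groth.Agent.Lib.Helper6.GU

section Two

variable (R S K : Type u) [CommRing R] [IsDomain R] [CommRing S] [IsDomain S] [Field K]
  [Algebra R S] [Algebra R K] [Algebra S K] [IsScalarTower R S K]
  [IsFractionRing R K] [IsFractionRing S K] [Algebra.IsIntegral R S]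
variable (p : Ideal R) [p.IsPrime]
variable (O : Type u) [CommRing O] [Algebra R O] [IsLocalization.AtPrime O p] [Algebra O K]
  [IsScalarTower R O K]
variable (q : Ideal S) [q.IsPrime] (hq : q.comap (algebraMap R S) = p)
variable (O₂ : Type u) [CommRing O₂] [Algebra S O₂] [IsLocalization.AtPrime O₂ q] [Algebra O₂ K]
  [IsScalarTower S O₂ K]

include R S K p O q hq O₂

/-- Forward direction: if `R_p` is geometrically unibranch, so is `S_q` for the prime `q`
over `p`. -/
theorem gu'_O₂_of_gu' (hGU : GU' O K) : GU' O₂ K := by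
  obtain ⟨hloc, c, hc, hres⟩ := hGU
  haveI := hloc
  haveI : IsLocalRing O := IsLocalization.AtPrime.isLocalRing O p
  have hqq : q = q₀ R S K p O := eq_q₀ R S K p O q hq
  have hinv : ∀ s : S, s ∉ q → ∃ v : K, IsIntegral O v ∧ algebraMap S K s * v = 1 := by
    intro s hs
    rw [hqq] at hs
    have hu := (notMem_q₀_iff R S K p O s).mp hs
    obtain ⟨u, hu'⟩ := hu.exists_right_inv
    refine ⟨u, u.2, ?_⟩
    have := congrArg (fun x : integralClosure O K => (x : K)) hu'
    simpa [inclS_coe] using this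
  let e := icEquiv R S K p O q hq O₂ hinv
  haveI : IsLocalRing (integralClosure O₂ K) := e.symm.isLocalRing
  refine ⟨inferInstance, c, ?_, ?_⟩
  · rcases hc with rfl | ⟨hcp, hcu⟩
    · exact Or.inl rfl
    · refine Or.inr ⟨hcp, fun hu => hcu ?_⟩
      have := hu.map e
      rwa [map_natCast] at this
  · intro x
    obtain ⟨n, o, hno⟩ := hres (e x)
    refine ⟨n, toO₂ R S K p O q hq O₂ o, fun hu => hno ?_⟩
    have := hu.map e
    rwa [map_sub, map_pow, icEquiv_algebraMap_toO₂] at this

theorem exists_mul_eq_of_unique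
    (huniq : ∀ q' : Ideal S, q'.IsPrime → q'.comap (algebraMap R S) = p → q' = q)
    (s : S) (hs : s ∉ q) : ∃ (s' : S) (t : R), t ∉ p ∧ s * s' = algebraMap R S t := by
  by_contra h
  push Not at h
  have hdisj : Disjoint ((Ideal.span {s} : Ideal S) : Set S)
      (Algebra.algebraMapSubmonoid S p.primeCompl : Set S) := by
    rw [Set.disjoint_left]
    rintro x hx ⟨t, ht, rfl⟩
    obtain ⟨a, ha⟩ := Ideal.mem_span_singleton'.mp hx
    exact h a t ht (by rw [mul_comm, ha])
  obtain ⟨P, hPprime, hP, hPdisj⟩ := Ideal.exists_le_prime_disjoint (Ideal.span {s})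
    (Algebra.algebraMapSubmonoid S p.primeCompl) hdisj
  have hle : P.comap (algebraMap R S) ≤ p := by
    intro r hr
    by_contra hrp
    exact Set.disjoint_left.mp hPdisj (show algebraMap R S r ∈ (P : Set S) from hr)
      ⟨r, hrp, rfl⟩
  obtain ⟨Q, hQP, hQprime, hQp⟩ :=
    Ideal.exists_ideal_over_prime_of_isIntegral_of_isPrime p P hle
  have hQq := huniq Q hQprime hQp
  rw [hQq] at hQP
  exact hs (hQP (hP (Ideal.mem_span_singleton_self s)))

theorem hinv_of_unique
    (huniq : ∀ q' : Ideal S, q'.IsPrime → q'.comap (algebraMap R S) = p → q' = q) :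
    ∀ s : S, s ∉ q → ∃ v : K, IsIntegral O v ∧ algebraMap S K s * v = 1 := by
  intro s hs
  obtain ⟨s', t, ht, hst⟩ := exists_mul_eq_of_unique R S K p O q hq O₂ huniq s hs
  have hut : IsUnit (algebraMap R O t) := (IsLocalization.AtPrime.isUnit_to_map_iff O p t).mpr ht
  obtain ⟨w, hw⟩ := hut.exists_right_inv
  refine ⟨algebraMap S K s' * algebraMap O K w, ?_, ?_⟩
  · exact (isIntegral_of_S R S K p O s').mul isIntegral_algebraMap
  · rw [← mul_assoc, ← map_mul, hst, ← IsScalarTower.algebraMap_apply R S K,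
      IsScalarTower.algebraMap_apply R O K, ← map_mul, hw, map_one]

end Two

end Groth.Agent.Lib.Helper6.RP
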