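import Mathlib
import Groth.Agent.Lib.Helper6.RP2

/-!
# Domain core, backward direction
-/

set_option autoImplicit false
set_option linter.unusedSectionVars false
universe u

namespace Groth.Agent.Lib.Helper6.RP

open Groth.Agent.Lib.Helper6.GU

section Pc

variable {O k : Type u} [CommRing O] [IsLocalRing O] [Field k] (g : O →+* k)
  (hg : ∀ o : O, g o ≠ 0 → IsUnit o)

/-- `y` has a `c^n`-th power in the range of `g`. -/
def Pc (c : ℕ) (y : k) : Prop := ∃ n : ℕ, y ^ c ^ n ∈ g.range

theorem Pc_of_range (c : ℕ) {y : k} (hy : y ∈ g.range) : Pc g c y := ⟨0, by simpa using hy⟩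

theorem Pc_mul (c : ℕ) {y₁ y₂ : k} (h₁ : Pc g c y₁) (h₂ : Pc g c y₂) : Pc g c (y₁ * y₂) := by
  obtain ⟨n₁, h₁⟩ := h₁
  obtain ⟨n₂, h₂⟩ := h₂
  refine ⟨n₁ + n₂, ?_⟩
  have e : (y₁ * y₂) ^ c ^ (n₁ + n₂) = (y₁ ^ c ^ n₁) ^ c ^ n₂ * (y₂ ^ c ^ n₂) ^ c ^ n₁ := by
    rw [mul_pow, ← pow_mul, ← pow_mul, ← pow_add, ← pow_add, add_comm n₂ n₁]
  rw [e]
  exact Subring.mul_mem _ (Subring.pow_mem _ h₁ _) (Subring.pow_mem _ h₂ _)

include hg in
theorem inv_mem_range {y : k} (hy : y ∈ g.range) : y⁻¹ ∈ g.range := by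
  obtain ⟨o, rfl⟩ := hy
  by_cases h0 : g o = 0
  · rw [h0, inv_zero]; exact Subring.zero_mem _
  · obtain ⟨w, hw⟩ := (hg o h0).exists_right_inv
    refine ⟨w, ?_⟩
    have : g o * g w = 1 := by rw [← map_mul, hw, map_one]
    exact (eq_inv_of_mul_eq_one_right this)

include hg in
theorem Pc_inv (c : ℕ) {y : k} (h : Pc g c y) : Pc g c y⁻¹ := by
  obtain ⟨n, h⟩ := h
  exact ⟨n, by rw [inv_pow]; exact inv_mem_range g hg h⟩

theorem Pc_root (c : ℕ) {y : k} (n : ℕ) (h : Pc g c (y ^ c ^ n)) : Pc g c y := by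
  obtain ⟨m, h⟩ := h
  exact ⟨n + m, by rwa [pow_add, pow_mul]⟩

theorem Pc_one_le (c : ℕ) {y : k} (h : Pc g 1 y) : Pc g c y := by
  obtain ⟨n, h⟩ := h
  rw [one_pow, pow_one] at h
  exact Pc_of_range g c h

end Pc

section Two

variable (R S K : Type u) [CommRing R] [IsDomain R] [CommRing S] [IsDomain S] [Field K]
  [Algebra R S] [Algebra R K] [Algebra S K] [IsScalarTower R S K]
  [IsFractionRing R K] [IsFractionRing S K] [Algebra.IsIntegral R S]
variable (p : Ideal R) [p.IsPrime]
variable (O : Type u) [CommRing O] [Algebra R O] [IsLocalization.AtPrime O p] [Algebra O K]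
  [IsScalarTower R O K]
variable (q : Ideal S) [q.IsPrime] (hq : q.comap (algebraMap R S) = p)
variable (O₂ : Type u) [CommRing O₂] [Algebra S O₂] [IsLocalization.AtPrime O₂ q] [Algebra O₂ K]
  [IsScalarTower S O₂ K]

include R S K p O q hq O₂

theorem icEquiv_algebraMap_S
    (hinv : ∀ s : S, s ∉ q → ∃ v : K, IsIntegral O v ∧ algebraMap S K s * v = 1) (s : S) :
    icEquiv R S K p O q hq O₂ hinv (algebraMap O₂ (integralClosure O₂ K) (algebraMap S O₂ s)) =
      inclS R S K p O s := by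
  apply Subtype.ext
  change algebraMap O₂ K (algebraMap S O₂ s) = algebraMap S K s
  rw [← IsScalarTower.algebraMap_apply S O₂ K]

set_option maxHeartbeats 1600000 in
/-- Backward direction: if `q` is the only prime over `p`, the residue extension is purely
inseparable and `S_q` is geometrically unibranch, then so is `R_p`. -/
theorem gu'_O_of_gu'
    (huniq : ∀ q' : Ideal S, q'.IsPrime → q'.comap (algebraMap R S) = p → q' = q)
    (hPI : PIat p q) (hGU₂ : GU' O₂ K) : GU' O K := by
  obtain ⟨hloc₂, c₂, hc₂, hres₂⟩ := hGU₂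
  haveI := hloc₂
  haveI : IsLocalRing O := IsLocalization.AtPrime.isLocalRing O p
  have hinv := hinv_of_unique R S K p O q hq O₂ huniq
  let e := icEquiv R S K p O q hq O₂ hinv
  haveI hloc : IsLocalRing (integralClosure O K) := e.isLocalRing
  obtain ⟨c₁, hc₁, hres₁⟩ := hPI
  have hqq : q₀ R S K p O = q := huniq _ inferInstance (comap_q₀ R S K p O)
  let ρ : integralClosure O K →+* IsLocalRing.ResidueField (integralClosure O K) :=
    IsLocalRing.residue (integralClosure O K)
  let g : O →+* IsLocalRing.ResidueField (integralClosure O K) :=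
    ρ.comp (algebraMap O (integralClosure O K))
  have hρ0 : ∀ x : integralClosure O K, ρ x = 0 ↔ ¬ IsUnit x := fun x => by
    change IsLocalRing.residue _ x = 0 ↔ _
    rw [IsLocalRing.residue_eq_zero_iff, IsLocalRing.mem_maximalIdeal, mem_nonunits_iff]
  have hgR : ∀ r : R, g (algebraMap R O r) ≠ 0 ↔ r ∉ p := fun r => by
    change ρ _ ≠ 0 ↔ _
    rw [Ne, hρ0, not_not, isUnit_algebraMap_iff R S K p O r]
  have hg : ∀ o : O, g o ≠ 0 → IsUnit o := by
    intro o ho
    obtain ⟨⟨r, t⟩, hrt⟩ := IsLocalization.surj p.primeCompl o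
    have h1 : g o * g (algebraMap R O t) = g (algebraMap R O r) := by rw [← map_mul, hrt]
    have h2 : g (algebraMap R O r) ≠ 0 := by
      rw [← h1]
      exact mul_ne_zero ho ((hgR t).mpr t.2)
    have h3 : IsUnit (algebraMap R O r) :=
      (IsLocalization.AtPrime.isUnit_to_map_iff O p r).mpr ((hgR r).mp h2)
    rw [← hrt] at h3
    exact isUnit_of_mul_isUnit_left h3
  -- elements of `S` are purely inseparable over the image of `O`
  have hS : ∀ s : S, Pc g c₁ (ρ (inclS R S K p O s)) := by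
    intro s
    obtain ⟨n, r, t, ht, hmem⟩ := hres₁ s
    rw [← hqq] at hmem
    have h1 : ρ (inclS R S K p O (algebraMap R S t * s ^ c₁ ^ n - algebraMap R S r)) = 0 := by
      rw [hρ0]
      intro hu
      exact ((notMem_q₀_iff R S K p O _).mpr hu) hmem
    rw [map_sub, map_mul, map_pow, inclS_algebraMap, inclS_algebraMap, map_sub, map_mul,
      map_pow, sub_eq_zero] at h1
    refine ⟨n, ?_⟩
    have h2 : ρ (inclS R S K p O s) ^ c₁ ^ n =
        g (algebraMap R O r) * (g (algebraMap R O t))⁻¹ := by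
      rw [eq_mul_inv_iff_mul_eq₀ ((hgR t).mpr ht), mul_comm]
      exact h1
    rw [h2]
    exact Subring.mul_mem _ ⟨_, rfl⟩ (inv_mem_range g hg ⟨_, rfl⟩)
  -- the common exponent
  have hc₁' : c₁.Prime → ¬ IsUnit ((c₁ : ℕ) : integralClosure O K) := by
    intro hp1 hu
    rcases hc₁ with h1 | ⟨-, hmem⟩
    · exact hp1.one_lt.ne' h1
    · have := (isUnit_algebraMap_iff R S K p O ((c₁ : ℕ) : R)).mp (by
        rwa [map_natCast, map_natCast])
      exact this hmem
  have hc₂' : c₂.Prime → ¬ IsUnit ((c₂ : ℕ) : integralClosure O K) := by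
    intro hp2 hu
    rcases hc₂ with h1 | ⟨-, hnu⟩
    · exact hp2.one_lt.ne' h1
    · apply hnu
      have := hu.map e.symm
      rwa [map_natCast] at this
  have hceq : c₁.Prime → c₂.Prime → c₁ = c₂ := by
    intro hp1 hp2
    by_contra hne
    have hcop : Nat.Coprime c₁ c₂ := (Nat.coprime_primes hp1 hp2).mpr hne
    obtain ⟨a, b, hab⟩ := (Nat.isCoprime_iff_coprime.mpr hcop)
    have h1 : ((c₁ : ℕ) : integralClosure O K) ∈ IsLocalRing.maximalIdeal _ := hc₁' hp1
    have h2 : ((c₂ : ℕ) : integralClosure O K) ∈ IsLocalRing.maximalIdeal _ := hc₂' hp2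
    have h3 : (1 : integralClosure O K) ∈ IsLocalRing.maximalIdeal (integralClosure O K) := by
      have : ((a * (c₁ : ℤ) + b * (c₂ : ℤ) : ℤ) : integralClosure O K) = 1 := by
        rw [hab]; simp
      rw [← this]
      push_cast
      exact Ideal.add_mem _ (Ideal.mul_mem_left _ _ h1) (Ideal.mul_mem_left _ _ h2)
    exact (IsLocalRing.mem_maximalIdeal _).mp h3 isUnit_one
  obtain ⟨c, hcv, hP1, hP2⟩ : ∃ c : ℕ, (c = 1 ∨ (c.Prime ∧ ¬ IsUnit ((c : ℕ) : integralClosure O K))) ∧
      (∀ y, Pc g c₁ y → Pc g c y) ∧ (∀ y, Pc g c₂ y → Pc g c y) := by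
    rcases hc₁ with h1 | ⟨hp1, -⟩
    · refine ⟨c₂, ?_, fun y hy => ?_, fun y hy => hy⟩
      · rcases hc₂ with h2 | ⟨hp2, -⟩
        · exact Or.inl h2
        · exact Or.inr ⟨hp2, hc₂' hp2⟩
      · rw [h1] at hy
        exact Pc_one_le g c₂ hy
    · refine ⟨c₁, Or.inr ⟨hp1, hc₁' hp1⟩, fun y hy => hy, fun y hy => ?_⟩
      rcases hc₂ with h2 | ⟨hp2, -⟩
      · rw [h2] at hy
        exact Pc_one_le g c₁ hy
      · rw [hceq hp1 hp2]
        exact hy
  refine ⟨hloc, c, hcv, fun x => ?_⟩
  obtain ⟨n, o₂, hno⟩ := hres₂ (e.symm x)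
  have hno' : ¬ IsUnit (x ^ c₂ ^ n - e (algebraMap O₂ (integralClosure O₂ K) o₂)) := by
    intro hu
    apply hno
    have := hu.map e.symm
    rwa [map_sub, map_pow, RingEquiv.symm_apply_apply] at this
  obtain ⟨⟨s₁, s₂⟩, hs⟩ := IsLocalization.surj q.primeCompl o₂
  have h1 : e (algebraMap O₂ (integralClosure O₂ K) o₂) * inclS R S K p O s₂ =
      inclS R S K p O s₁ := by
    rw [← icEquiv_algebraMap_S R S K p O q hq O₂ hinv, ← icEquiv_algebraMap_S R S K p O q hq O₂ hinv,
      ← map_mul, ← map_mul, hs]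
  have hs₂ : ρ (inclS R S K p O s₂) ≠ 0 := by
    rw [Ne, hρ0, not_not]
    apply (notMem_q₀_iff R S K p O _).mp
    rw [hqq]
    exact s₂.2
  have h2 : ρ (e (algebraMap O₂ (integralClosure O₂ K) o₂)) =
      ρ (inclS R S K p O s₁) * (ρ (inclS R S K p O s₂))⁻¹ := by
    rw [eq_mul_inv_iff_mul_eq₀ hs₂, ← map_mul, h1]
  have h3 : ρ x ^ c₂ ^ n = ρ (e (algebraMap O₂ (integralClosure O₂ K) o₂)) := by
    have := (hρ0 _).mpr hno'
    rwa [map_sub, map_pow, sub_eq_zero] at this
  have h4 : Pc g c (ρ x ^ c₂ ^ n) := by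
    rw [h3, h2]
    exact Pc_mul g c (hP1 _ (hS s₁)) (Pc_inv g hg c (hP1 _ (hS s₂)))
  -- conclude
  have h5 : Pc g c (ρ x) := by
    rcases hc₂ with h2' | ⟨hp2, -⟩
    · rw [h2', one_pow, pow_one] at h4
      exact h4
    · -- `c₂` prime: `c = c₂`
      have hcc : Pc g c₂ (ρ x ^ c₂ ^ n) → Pc g c₂ (ρ x) := Pc_root g c₂ n
      rcases hc₁ with h1' | ⟨hp1, -⟩
      · -- c = c₂ by construction? use the general fact below
        rcases hcv with hc1 | ⟨hcp, hcu⟩
        · -- c = 1 : then ρ x ^ c₂^n ∈ range; so Pc c₂, hence Pc c via hP2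
          rw [hc1] at h4
          obtain ⟨m, hm⟩ := h4
          rw [one_pow, pow_one] at hm
          exact hP2 _ (Pc_root g c₂ n (Pc_of_range g c₂ hm))
        · have : c = c₂ := by
            by_contra hne
            have hcop : Nat.Coprime c c₂ := (Nat.coprime_primes hcp hp2).mpr hne
            obtain ⟨a, b, hab⟩ := (Nat.isCoprime_iff_coprime.mpr hcop)
            have h1 : ((c : ℕ) : integralClosure O K) ∈ IsLocalRing.maximalIdeal _ := hcu
            have h2 : ((c₂ : ℕ) : integralClosure O K) ∈ IsLocalRing.maximalIdeal _ := hc₂' hp2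
            have h3 : (1 : integralClosure O K) ∈
                IsLocalRing.maximalIdeal (integralClosure O K) := by
              have : ((a * (c : ℤ) + b * (c₂ : ℤ) : ℤ) : integralClosure O K) = 1 := by
                rw [hab]; simp
              rw [← this]
              push_cast
              exact Ideal.add_mem _ (Ideal.mul_mem_left _ _ h1) (Ideal.mul_mem_left _ _ h2)
            exact (IsLocalRing.mem_maximalIdeal _).mp h3 isUnit_one
          rw [this] at h4 ⊢
          exact hcc h4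
      · rcases hcv with hc1 | ⟨hcp, hcu⟩
        · rw [hc1] at h4
          obtain ⟨m, hm⟩ := h4
          rw [one_pow, pow_one] at hm
          exact hP2 _ (Pc_root g c₂ n (Pc_of_range g c₂ hm))
        · have : c = c₂ := by
            by_contra hne
            have hcop : Nat.Coprime c c₂ := (Nat.coprime_primes hcp hp2).mpr hne
            obtain ⟨a, b, hab⟩ := (Nat.isCoprime_iff_coprime.mpr hcop)
            have h1 : ((c : ℕ) : integralClosure O K) ∈ IsLocalRing.maximalIdeal _ := hcu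
            have h2 : ((c₂ : ℕ) : integralClosure O K) ∈ IsLocalRing.maximalIdeal _ := hc₂' hp2
            have h3 : (1 : integralClosure O K) ∈
                IsLocalRing.maximalIdeal (integralClosure O K) := by
              have : ((a * (c : ℤ) + b * (c₂ : ℤ) : ℤ) : integralClosure O K) = 1 := by
                rw [hab]; simp
              rw [← this]
              push_cast
              exact Ideal.add_mem _ (Ideal.mul_mem_left _ _ h1) (Ideal.mul_mem_left _ _ h2)
            exact (IsLocalRing.mem_maximalIdeal _).mp h3 isUnit_one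
          rw [this] at h4 ⊢
          exact hcc h4
  obtain ⟨N, o, ho⟩ := h5
  refine ⟨N, o, ?_⟩
  rw [← hρ0, map_sub, map_pow, sub_eq_zero]
  exact ho.symm

end Two

end Groth.Agent.Lib.Helper6.RP
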