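import Mathlib
import Groth.Prelude.Def_CAlg2

/-!
# The reduction of a localization as a localization of a quotient domain
-/

set_option autoImplicit false
set_option linter.unusedSectionVars false
universe u

namespace Groth.Agent.Lib.Helper6.RP

section LQ

variable (R : Type u) [CommRing R] (p : Ideal R) [p.IsPrime]
  (Rp : Type u) [CommRing Rp] [Algebra R Rp] [IsLocalization.AtPrime Rp p]

/-- The contraction of the nilradical of `R_p` to `R`. -/
abbrev nilP : Ideal R := (nilradical Rp).comap (algebraMap R Rp)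

include p in
theorem nilP_le : nilP R Rp ≤ p := by
  haveI : IsLocalRing Rp := IsLocalization.AtPrime.isLocalRing Rp p
  intro r hr
  have h1 : algebraMap R Rp r ∈ IsLocalRing.maximalIdeal Rp := by
    have : nilradical Rp ≤ IsLocalRing.maximalIdeal Rp := by
      rw [nilradical_eq_sInf]
      exact sInf_le (IsLocalRing.maximalIdeal.isMaximal Rp).isPrime
    exact this hr
  exact (IsLocalization.AtPrime.to_map_mem_maximal_iff Rp p r).mp h1

theorem mk_mem_map_iff (r : R) :
    Ideal.Quotient.mk (nilP R Rp) r ∈ p.map (Ideal.Quotient.mk (nilP R Rp)) ↔ r ∈ p :=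
  Ideal.mem_quotient_iff_mem (nilP_le R p Rp)

instance isPrime_map_mk : (p.map (Ideal.Quotient.mk (nilP R Rp))).IsPrime :=
  Ideal.map_isPrime_of_surjective Ideal.Quotient.mk_surjective
    (by rw [Ideal.mk_ker]; exact nilP_le R p Rp)

theorem algebraMap_quot_mk (r : R) :
    algebraMap (R ⧸ nilP R Rp) (CAlg2.red Rp) (Ideal.Quotient.mk _ r) =
      Ideal.Quotient.mk _ (algebraMap R Rp r) := rfl

/-- `(R_p)_red` is the localization of `R / P` at `p / P`, `P` the contraction of the
nilradical. -/
instance isLocalization_red :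
    IsLocalization.AtPrime (CAlg2.red Rp) (p.map (Ideal.Quotient.mk (nilP R Rp))) := by
  rw [IsLocalization.AtPrime, isLocalization_iff]
  refine ⟨?_, ?_, ?_⟩
  · rintro ⟨x, hx⟩
    obtain ⟨r, rfl⟩ := Ideal.Quotient.mk_surjective x
    have hr : r ∉ p := fun h => hx ((mk_mem_map_iff R p Rp r).mpr h)
    rw [algebraMap_quot_mk]
    exact ((IsLocalization.AtPrime.isUnit_to_map_iff Rp p r).mpr hr).map _
  · intro z
    obtain ⟨a, rfl⟩ := Ideal.Quotient.mk_surjective z
    obtain ⟨⟨r, t⟩, hrt⟩ := IsLocalization.surj p.primeCompl a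
    refine ⟨⟨Ideal.Quotient.mk _ r, ⟨Ideal.Quotient.mk _ (t : R), ?_⟩⟩, ?_⟩
    · intro h
      exact t.2 ((mk_mem_map_iff R p Rp t).mp h)
    · change Ideal.Quotient.mk _ a * algebraMap (R ⧸ nilP R Rp) (CAlg2.red Rp)
        (Ideal.Quotient.mk _ (t : R)) = algebraMap (R ⧸ nilP R Rp) (CAlg2.red Rp)
        (Ideal.Quotient.mk _ r)
      rw [algebraMap_quot_mk, algebraMap_quot_mk, ← map_mul, hrt]
  · intro x y hxy
    refine ⟨1, ?_⟩
    rw [Submonoid.coe_one, one_mul, one_mul]
    exact (Ideal.algebraMap_quotient_injective (I := nilradical Rp) (R := R)) hxy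

end LQ

end Groth.Agent.Lib.Helper6.RP
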