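import Mathlib
import Groth.Agent.Lib.Helper6.RP3
import Groth.Agent.Lib.Helper6.RP4
import Groth.Agent.Lib.Helper6.GeomUnibranch7

/-!
# Wrapper: from general rings to the domain core
-/

set_option autoImplicit false
set_option linter.unusedSectionVars false
universe u

namespace Groth.Agent.Lib.Helper6.RP

open Groth.Agent.Lib.Helper6.GU

section LiftK

variable (D : Type u) [CommRing D] (𝔭 : Ideal D) [𝔭.IsPrime] (O : Type u) [CommRing O]
  [Algebra D O] [IsLocalization.AtPrime O 𝔭] (K : Type u) [Field K] [Algebra D K]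
  (hinj : Function.Injective (algebraMap D K))

/-- The canonical map from a localization of a subring of a field. -/
noncomputable def liftK : O →+* K :=
  IsLocalization.lift (M := 𝔭.primeCompl) (g := algebraMap D K) (fun y => IsUnit.mk0 _ (by
    rw [Ne, map_eq_zero_iff _ hinj]
    intro h
    exact y.2 (h ▸ 𝔭.zero_mem)))

theorem liftK_algebraMap (d : D) : liftK D 𝔭 O K hinj (algebraMap D O d) = algebraMap D K d :=
  IsLocalization.lift_eq _ d

end LiftK

section Setup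

variable (R S : Type u) [CommRing R] [CommRing S] [Algebra R S] [Algebra.IsIntegral R S]
variable (Rp : Type u) [CommRing Rp] [Algebra R Rp]
variable (Q : Ideal S) [Q.IsPrime] [Q.LiesOver (nilP R Rp)]

instance isScalarTower_RK :
    IsScalarTower (R ⧸ nilP R Rp) (S ⧸ Q) (FractionRing (S ⧸ Q)) := inferInstance

theorem algebraMap_RK_injective :
    Function.Injective (algebraMap (R ⧸ nilP R Rp) (FractionRing (S ⧸ Q))) :=
  (IsFractionRing.injective (S ⧸ Q) (FractionRing (S ⧸ Q))).comp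
    (FaithfulSMul.algebraMap_injective (R ⧸ nilP R Rp) (S ⧸ Q))

/-- Birationality at `P`: the fraction field of `S/Q` is that of `R/P`. -/
theorem isFractionRing_RK [(nilP R Rp).IsPrime]
    (hbir : ∀ s : S, ∃ r t : R, t ∉ nilP R Rp ∧
      algebraMap R S t * s - algebraMap R S r ∈ Q) :
    IsFractionRing (R ⧸ nilP R Rp) (FractionRing (S ⧸ Q)) := by
  haveI : FaithfulSMul (R ⧸ nilP R Rp) (FractionRing (S ⧸ Q)) :=
    (faithfulSMul_iff_algebraMap_injective _ _).mpr (algebraMap_RK_injective R S Rp Q)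
  have key : ∀ s : S ⧸ Q, ∃ x y : R ⧸ nilP R Rp, y ≠ 0 ∧
      algebraMap (S ⧸ Q) (FractionRing (S ⧸ Q)) s =
        algebraMap (R ⧸ nilP R Rp) (FractionRing (S ⧸ Q)) x /
          algebraMap (R ⧸ nilP R Rp) (FractionRing (S ⧸ Q)) y := by
    intro s
    obtain ⟨s, rfl⟩ := Ideal.Quotient.mk_surjective s
    obtain ⟨r, t, ht, hmem⟩ := hbir s
    have ht0 : Ideal.Quotient.mk (nilP R Rp) t ≠ 0 := by
      rw [Ne, Ideal.Quotient.eq_zero_iff_mem]; exact ht
    refine ⟨Ideal.Quotient.mk _ r, Ideal.Quotient.mk _ t, ht0, ?_⟩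
    have hy : algebraMap (R ⧸ nilP R Rp) (FractionRing (S ⧸ Q)) (Ideal.Quotient.mk _ t) ≠ 0 := by
      rw [Ne, map_eq_zero_iff _ (algebraMap_RK_injective R S Rp Q)]; exact ht0
    rw [eq_div_iff hy]
    change algebraMap (S ⧸ Q) _ (Ideal.Quotient.mk Q s) *
        algebraMap (S ⧸ Q) _ (algebraMap (R ⧸ nilP R Rp) (S ⧸ Q) (Ideal.Quotient.mk _ t)) =
      algebraMap (S ⧸ Q) _ (algebraMap (R ⧸ nilP R Rp) (S ⧸ Q) (Ideal.Quotient.mk _ r))
    rw [Ideal.Quotient.algebraMap_mk_of_liesOver, Ideal.Quotient.algebraMap_mk_of_liesOver,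
      ← map_mul, ← map_mul]
    congr 1
    rw [mul_comm, Ideal.Quotient.eq]
    exact hmem
  refine IsFractionRing.of_field _ _ fun z => ?_
  obtain ⟨⟨a, b⟩, hab⟩ := IsLocalization.surj (nonZeroDivisors (S ⧸ Q)) z
  obtain ⟨x₁, y₁, hy₁, h₁⟩ := key a
  obtain ⟨x₂, y₂, hy₂, h₂⟩ := key (b : S ⧸ Q)
  have hb0 : algebraMap (S ⧸ Q) (FractionRing (S ⧸ Q)) (b : S ⧸ Q) ≠ 0 := by
    rw [Ne, map_eq_zero_iff _ (IsFractionRing.injective (S ⧸ Q) (FractionRing (S ⧸ Q)))]
    exact nonZeroDivisors.ne_zero b.2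
  have hz : z = algebraMap (S ⧸ Q) _ a / algebraMap (S ⧸ Q) _ (b : S ⧸ Q) := by
    rw [eq_div_iff hb0]; exact hab
  refine ⟨x₁ * y₂, y₁ * x₂, ?_⟩
  rw [hz, h₁, h₂, map_mul, map_mul]
  have hy₁' : algebraMap (R ⧸ nilP R Rp) (FractionRing (S ⧸ Q)) y₁ ≠ 0 := by
    rw [Ne, map_eq_zero_iff _ (algebraMap_RK_injective R S Rp Q)]; exact hy₁
  have hy₂' : algebraMap (R ⧸ nilP R Rp) (FractionRing (S ⧸ Q)) y₂ ≠ 0 := by
    rw [Ne, map_eq_zero_iff _ (algebraMap_RK_injective R S Rp Q)]; exact hy₂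
  rw [div_div_div_eq]

section Primes

variable (p : Ideal R) [p.IsPrime] [IsLocalization.AtPrime Rp p]
variable (q : Ideal S) [q.IsPrime] (hq : q.comap (algebraMap R S) = p) (hQq : Q ≤ q)

include hQq in
theorem isPrime_map_mk_q : (q.map (Ideal.Quotient.mk Q)).IsPrime :=
  Ideal.map_isPrime_of_surjective Ideal.Quotient.mk_surjective (by rw [Ideal.mk_ker]; exact hQq)

include hQq in
theorem comap_mk_map_mk : (q.map (Ideal.Quotient.mk Q)).comap (Ideal.Quotient.mk Q) = q := by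
  rw [Ideal.comap_map_of_surjective _ Ideal.Quotient.mk_surjective, ← RingHom.ker_eq_comap_bot,
    Ideal.mk_ker, sup_eq_left.mpr hQq]

include hq hQq in
theorem comap_map_mk_q :
    (q.map (Ideal.Quotient.mk Q)).comap (algebraMap (R ⧸ nilP R Rp) (S ⧸ Q)) =
      p.map (Ideal.Quotient.mk (nilP R Rp)) := by
  ext x
  obtain ⟨r, rfl⟩ := Ideal.Quotient.mk_surjective x
  rw [Ideal.mem_comap, Ideal.Quotient.algebraMap_mk_of_liesOver,
    Ideal.mem_quotient_iff_mem hQq, mk_mem_map_iff R p Rp r, ← hq, Ideal.mem_comap]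

include hq hQq in
theorem pIat_of_quot (h : PIat (p.map (Ideal.Quotient.mk (nilP R Rp)))
    (q.map (Ideal.Quotient.mk Q))) : PIat p q := by
  obtain ⟨c, hc, hres⟩ := h
  refine ⟨c, ?_, fun s => ?_⟩
  · rcases hc with h1 | ⟨hcp, hmem⟩
    · exact Or.inl h1
    · refine Or.inr ⟨hcp, ?_⟩
      rw [← mk_mem_map_iff R p Rp, map_natCast]
      exact hmem
  · obtain ⟨n, r, t, ht, hmem⟩ := hres (Ideal.Quotient.mk Q s)
    obtain ⟨r, rfl⟩ := Ideal.Quotient.mk_surjective r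
    obtain ⟨t, rfl⟩ := Ideal.Quotient.mk_surjective t
    refine ⟨n, r, t, fun h => ht ((mk_mem_map_iff R p Rp t).mpr h), ?_⟩
    rw [Ideal.Quotient.algebraMap_mk_of_liesOver, Ideal.Quotient.algebraMap_mk_of_liesOver,
      ← map_pow, ← map_mul, ← map_sub, Ideal.mem_quotient_iff_mem hQq] at hmem
    exact hmem

include hq hQq in
theorem pIat_quot_of (h : PIat p q) : PIat (p.map (Ideal.Quotient.mk (nilP R Rp)))
    (q.map (Ideal.Quotient.mk Q)) := by
  obtain ⟨c, hc, hres⟩ := h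
  refine ⟨c, ?_, fun s => ?_⟩
  · rcases hc with h1 | ⟨hcp, hmem⟩
    · exact Or.inl h1
    · refine Or.inr ⟨hcp, ?_⟩
      have := (mk_mem_map_iff R p Rp ((c : ℕ) : R)).mpr hmem
      rwa [map_natCast] at this
  · obtain ⟨s, rfl⟩ := Ideal.Quotient.mk_surjective s
    obtain ⟨n, r, t, ht, hmem⟩ := hres s
    refine ⟨n, Ideal.Quotient.mk _ r, Ideal.Quotient.mk _ t,
      fun h => ht ((mk_mem_map_iff R p Rp t).mp h), ?_⟩
    rw [Ideal.Quotient.algebraMap_mk_of_liesOver, Ideal.Quotient.algebraMap_mk_of_liesOver,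
      ← map_pow, ← map_mul, ← map_sub, Ideal.mem_quotient_iff_mem hQq]
    exact hmem

end Primes

end Setup

end Groth.Agent.Lib.Helper6.RP
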