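import Mathlib
import Groth.Agent.Lib.Helper6.RP5

/-!
# Wrapper theorems (general rings)
-/

set_option autoImplicit false
set_option linter.unusedSectionVars false
universe u

namespace Groth.Agent.Lib.Helper6.RP

open Groth.Agent.Lib.Helper6.GU

section Fwd

variable (R S : Type u) [CommRing R] [CommRing S] [Algebra R S] [Algebra.IsIntegral R S]
variable (p : Ideal R) [p.IsPrime]
variable (Rp : Type u) [CommRing Rp] [Algebra R Rp] [IsLocalization.AtPrime Rp p] [IsLocalRing Rp]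
variable (Q : Ideal S) [Q.IsPrime] [Q.LiesOver (nilP R Rp)]
variable (hbir : ∀ s : S, ∃ r t : R, t ∉ nilP R Rp ∧ algebraMap R S t * s - algebraMap R S r ∈ Q)

include hbir in
set_option maxHeartbeats 800000 in
/-- Forward direction, part 1: uniqueness of the prime over `p` and pure inseparability. -/
theorem fwd_unique_PI (hGU : CAlg2.IsGeomUnibranch Rp) :
    ∃ q₀ : Ideal S, ∀ q : Ideal S, q.IsPrime → q.comap (algebraMap R S) = p → Q ≤ q →
      q = q₀ ∧ PIat p q := by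
  haveI hdom : IsDomain (CAlg2.red Rp) := hGU.1.1
  haveI : (nilradical Rp).IsPrime := (Ideal.Quotient.isDomain_iff_prime _).mp hdom
  haveI : (nilP R Rp).IsPrime := Ideal.comap_isPrime _ _
  haveI := isFractionRing_RK R S Rp Q hbir
  letI : Algebra (CAlg2.red Rp) (FractionRing (S ⧸ Q)) :=
    (liftK (R ⧸ nilP R Rp) (p.map (Ideal.Quotient.mk (nilP R Rp))) (CAlg2.red Rp)
      (FractionRing (S ⧸ Q)) (algebraMap_RK_injective R S Rp Q)).toAlgebra
  haveI : IsScalarTower (R ⧸ nilP R Rp) (CAlg2.red Rp) (FractionRing (S ⧸ Q)) :=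
    IsScalarTower.of_algebraMap_eq (fun d => (liftK_algebraMap _ _ _ _ _ d).symm)
  haveI : IsFractionRing (CAlg2.red Rp) (FractionRing (S ⧸ Q)) :=
    IsFractionRing.isFractionRing_of_isDomain_of_isLocalization
      (p.map (Ideal.Quotient.mk (nilP R Rp))).primeCompl _ _
  have hGU' : GU' (CAlg2.red Rp) (FractionRing (S ⧸ Q)) :=
    GU7.gu'_of_isGeomUnibranch Rp (CAlg2.red Rp) (FractionRing (S ⧸ Q)) (RingEquiv.refl _) hGU
  obtain ⟨hloc, c, hc, hres⟩ := hGU'
  haveI := hloc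
  haveI : IsLocalRing (CAlg2.red Rp) :=
    IsLocalization.AtPrime.isLocalRing (CAlg2.red Rp) (p.map (Ideal.Quotient.mk (nilP R Rp)))
  refine ⟨(q₀ (R ⧸ nilP R Rp) (S ⧸ Q) (FractionRing (S ⧸ Q))
    (p.map (Ideal.Quotient.mk (nilP R Rp))) (CAlg2.red Rp)).comap (Ideal.Quotient.mk Q), ?_⟩
  intro q hqp hq hQq
  haveI := hqp
  haveI := isPrime_map_mk_q S Q q hQq
  have hqb := comap_map_mk_q R S Rp Q p q hq hQq
  have h1 := eq_q₀ (R ⧸ nilP R Rp) (S ⧸ Q) (FractionRing (S ⧸ Q))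
    (p.map (Ideal.Quotient.mk (nilP R Rp))) (CAlg2.red Rp) (q.map (Ideal.Quotient.mk Q)) hqb
  refine ⟨?_, ?_⟩
  · rw [← h1, comap_mk_map_mk S Q q hQq]
  · apply pIat_of_quot R S Rp Q p q hq hQq
    rw [h1]
    exact pIat_q₀ _ _ _ _ _ c hc hres

end Fwd

section Both

variable (R S : Type u) [CommRing R] [CommRing S] [Algebra R S] [Algebra.IsIntegral R S]
variable (p : Ideal R) [p.IsPrime]
variable (Rp : Type u) [CommRing Rp] [Algebra R Rp] [IsLocalization.AtPrime Rp p] [IsLocalRing Rp]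
variable (q : Ideal S) [q.IsPrime] (hq : q.comap (algebraMap R S) = p)
variable (Sq : Type u) [CommRing Sq] [Algebra S Sq] [IsLocalization.AtPrime Sq q] [IsLocalRing Sq]
variable [(nilP S Sq).LiesOver (nilP R Rp)]
variable (hbir : ∀ s : S, ∃ r t : R, t ∉ nilP R Rp ∧
  algebraMap R S t * s - algebraMap R S r ∈ nilP S Sq)

include hq hbir in
set_option maxHeartbeats 800000 in
/-- Forward direction, part 2: `S_q` is geometrically unibranch. -/
theorem fwd_GU [IsDomain (CAlg2.red Sq)] (hGU : CAlg2.IsGeomUnibranch Rp) :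
    CAlg2.IsGeomUnibranch Sq := by
  haveI hdom : IsDomain (CAlg2.red Rp) := hGU.1.1
  haveI : (nilradical Rp).IsPrime := (Ideal.Quotient.isDomain_iff_prime _).mp hdom
  haveI : (nilP R Rp).IsPrime := Ideal.comap_isPrime _ _
  haveI : (nilradical Sq).IsPrime := (Ideal.Quotient.isDomain_iff_prime _).mp inferInstance
  haveI : (nilP S Sq).IsPrime := Ideal.comap_isPrime _ _
  haveI := isFractionRing_RK R S Rp (nilP S Sq) hbir
  letI : Algebra (CAlg2.red Rp) (FractionRing (S ⧸ nilP S Sq)) :=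
    (liftK (R ⧸ nilP R Rp) (p.map (Ideal.Quotient.mk (nilP R Rp))) (CAlg2.red Rp)
      (FractionRing (S ⧸ nilP S Sq)) (algebraMap_RK_injective R S Rp (nilP S Sq))).toAlgebra
  haveI : IsScalarTower (R ⧸ nilP R Rp) (CAlg2.red Rp) (FractionRing (S ⧸ nilP S Sq)) :=
    IsScalarTower.of_algebraMap_eq (fun d => (liftK_algebraMap _ _ _ _ _ d).symm)
  haveI : IsFractionRing (CAlg2.red Rp) (FractionRing (S ⧸ nilP S Sq)) :=
    IsFractionRing.isFractionRing_of_isDomain_of_isLocalization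
      (p.map (Ideal.Quotient.mk (nilP R Rp))).primeCompl _ _
  letI : Algebra (CAlg2.red Sq) (FractionRing (S ⧸ nilP S Sq)) :=
    (liftK (S ⧸ nilP S Sq) (q.map (Ideal.Quotient.mk (nilP S Sq))) (CAlg2.red Sq)
      (FractionRing (S ⧸ nilP S Sq)) (IsFractionRing.injective _ _)).toAlgebra
  haveI : IsScalarTower (S ⧸ nilP S Sq) (CAlg2.red Sq) (FractionRing (S ⧸ nilP S Sq)) :=
    IsScalarTower.of_algebraMap_eq (fun d => (liftK_algebraMap _ _ _ _ _ d).symm)
  haveI : IsFractionRing (CAlg2.red Sq) (FractionRing (S ⧸ nilP S Sq)) :=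
    IsFractionRing.isFractionRing_of_isDomain_of_isLocalization
      (q.map (Ideal.Quotient.mk (nilP S Sq))).primeCompl _ _
  have hGU' : GU' (CAlg2.red Rp) (FractionRing (S ⧸ nilP S Sq)) :=
    GU7.gu'_of_isGeomUnibranch Rp (CAlg2.red Rp) _ (RingEquiv.refl _) hGU
  have hQq : nilP S Sq ≤ q := nilP_le S q Sq
  have hqb := comap_map_mk_q R S Rp (nilP S Sq) p q hq hQq
  have h2 := gu'_O₂_of_gu' (R ⧸ nilP R Rp) (S ⧸ nilP S Sq) (FractionRing (S ⧸ nilP S Sq))
    (p.map (Ideal.Quotient.mk (nilP R Rp))) (CAlg2.red Rp)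
    (q.map (Ideal.Quotient.mk (nilP S Sq))) hqb (CAlg2.red Sq) hGU'
  exact GU7.isGeomUnibranch_of_gu' Sq (CAlg2.red Sq) _ (RingEquiv.refl _) h2

include hq hbir in
set_option maxHeartbeats 800000 in
/-- Backward direction. -/
theorem bwd_GU [IsDomain (CAlg2.red Rp)]
    (huniq : ∀ q' : Ideal S, q'.IsPrime → q'.comap (algebraMap R S) = p → q' = q)
    (hPI : PIat p q) (hGU₂ : CAlg2.IsGeomUnibranch Sq) :
    CAlg2.IsGeomUnibranch Rp := by
  haveI hdom₂ : IsDomain (CAlg2.red Sq) := hGU₂.1.1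
  haveI : (nilradical Rp).IsPrime := (Ideal.Quotient.isDomain_iff_prime _).mp inferInstance
  haveI : (nilP R Rp).IsPrime := Ideal.comap_isPrime _ _
  haveI : (nilradical Sq).IsPrime := (Ideal.Quotient.isDomain_iff_prime _).mp hdom₂
  haveI : (nilP S Sq).IsPrime := Ideal.comap_isPrime _ _
  haveI := isFractionRing_RK R S Rp (nilP S Sq) hbir
  letI : Algebra (CAlg2.red Rp) (FractionRing (S ⧸ nilP S Sq)) :=
    (liftK (R ⧸ nilP R Rp) (p.map (Ideal.Quotient.mk (nilP R Rp))) (CAlg2.red Rp)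
      (FractionRing (S ⧸ nilP S Sq)) (algebraMap_RK_injective R S Rp (nilP S Sq))).toAlgebra
  haveI : IsScalarTower (R ⧸ nilP R Rp) (CAlg2.red Rp) (FractionRing (S ⧸ nilP S Sq)) :=
    IsScalarTower.of_algebraMap_eq (fun d => (liftK_algebraMap _ _ _ _ _ d).symm)
  haveI : IsFractionRing (CAlg2.red Rp) (FractionRing (S ⧸ nilP S Sq)) :=
    IsFractionRing.isFractionRing_of_isDomain_of_isLocalization
      (p.map (Ideal.Quotient.mk (nilP R Rp))).primeCompl _ _
  letI : Algebra (CAlg2.red Sq) (FractionRing (S ⧸ nilP S Sq)) :=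
    (liftK (S ⧸ nilP S Sq) (q.map (Ideal.Quotient.mk (nilP S Sq))) (CAlg2.red Sq)
      (FractionRing (S ⧸ nilP S Sq)) (IsFractionRing.injective _ _)).toAlgebra
  haveI : IsScalarTower (S ⧸ nilP S Sq) (CAlg2.red Sq) (FractionRing (S ⧸ nilP S Sq)) :=
    IsScalarTower.of_algebraMap_eq (fun d => (liftK_algebraMap _ _ _ _ _ d).symm)
  haveI : IsFractionRing (CAlg2.red Sq) (FractionRing (S ⧸ nilP S Sq)) :=
    IsFractionRing.isFractionRing_of_isDomain_of_isLocalization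
      (q.map (Ideal.Quotient.mk (nilP S Sq))).primeCompl _ _
  have hGU₂' : GU' (CAlg2.red Sq) (FractionRing (S ⧸ nilP S Sq)) :=
    GU7.gu'_of_isGeomUnibranch Sq (CAlg2.red Sq) _ (RingEquiv.refl _) hGU₂
  have hQq : nilP S Sq ≤ q := nilP_le S q Sq
  have hqb := comap_map_mk_q R S Rp (nilP S Sq) p q hq hQq
  have huniq' : ∀ q' : Ideal (S ⧸ nilP S Sq), q'.IsPrime →
      q'.comap (algebraMap (R ⧸ nilP R Rp) (S ⧸ nilP S Sq)) =
        p.map (Ideal.Quotient.mk (nilP R Rp)) → q' = q.map (Ideal.Quotient.mk (nilP S Sq)) := by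
    intro q' hq'p hq'
    haveI := hq'p
    have h1 : (q'.comap (Ideal.Quotient.mk (nilP S Sq))).comap (algebraMap R S) = p := by
      ext r
      rw [Ideal.mem_comap, Ideal.mem_comap, ← mk_mem_map_iff R p Rp r, ← hq', Ideal.mem_comap,
        Ideal.Quotient.algebraMap_mk_of_liesOver]
    have h2 := huniq _ (Ideal.comap_isPrime _ _) h1
    rw [← h2, Ideal.map_comap_of_surjective _ Ideal.Quotient.mk_surjective]
  have hPI' := pIat_quot_of R S Rp (nilP S Sq) p q hq hQq hPI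
  have h2 := gu'_O_of_gu' (R ⧸ nilP R Rp) (S ⧸ nilP S Sq) (FractionRing (S ⧸ nilP S Sq))
    (p.map (Ideal.Quotient.mk (nilP R Rp))) (CAlg2.red Rp)
    (q.map (Ideal.Quotient.mk (nilP S Sq))) hqb (CAlg2.red Sq) huniq' hPI' hGU₂'
  exact GU7.isGeomUnibranch_of_gu' Rp (CAlg2.red Rp) _ (RingEquiv.refl _) h2

end Both

end Groth.Agent.Lib.Helper6.RP
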