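import Mathlib
import Groth.Agent.Lib.Helper6.RP6

/-!
# Ring-level statement with a global birationality hypothesis
-/

set_option autoImplicit false
set_option linter.unusedSectionVars false
universe u

namespace Groth.Agent.Lib.Helper6.RP

section NilP

variable (R : Type u) [CommRing R] (p : Ideal R) [p.IsPrime]
  (Rp : Type u) [CommRing Rp] [Algebra R Rp] [IsLocalization.AtPrime Rp p]

include p in
theorem nilP_le_of_prime_le (P' : Ideal R) [P'.IsPrime] (hP' : P' ≤ p) : nilP R Rp ≤ P' := by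
  intro r hr
  have h1 : algebraMap R Rp r ∈ nilradical Rp := hr
  obtain ⟨n, hn⟩ := mem_nilradical.mp h1
  rw [← map_pow, IsLocalization.map_eq_zero_iff p.primeCompl] at hn
  obtain ⟨m, hm⟩ := hn
  have h2 : (m : R) * r ^ n ∈ P' := by rw [hm]; exact P'.zero_mem
  rcases Ideal.IsPrime.mem_or_mem inferInstance h2 with h3 | h3
  · exact absurd (hP' h3) m.2
  · exact Ideal.IsPrime.mem_of_pow_mem inferInstance n h3

include p in
/-- If `Q` is a prime contained in `p` and in every prime contained in `p`, then `Q` is the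
contraction of the nilradical of `R_p`, which is then a prime ideal. -/
theorem nilP_eq_of_least (Q : Ideal R) [Q.IsPrime] (hQp : Q ≤ p)
    (hleast : ∀ P' : Ideal R, P'.IsPrime → P' ≤ p → Q ≤ P') :
    nilP R Rp = Q ∧ IsDomain (CAlg2.red Rp) := by
  have h1 : nilP R Rp = Q := by
    refine le_antisymm (nilP_le_of_prime_le R p Rp Q hQp) ?_
    intro s hs
    change algebraMap R Rp s ∈ nilradical Rp
    rw [nilradical_eq_sInf, Ideal.mem_sInf]
    intro J hJ
    have hJp : J.IsPrime := hJ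
    have hle : J.comap (algebraMap R Rp) ≤ p := by
      intro r hr
      by_contra hrp
      have hu : IsUnit (algebraMap R Rp r) :=
        (IsLocalization.AtPrime.isUnit_to_map_iff Rp p r).mpr hrp
      exact hJp.ne_top (Ideal.eq_top_of_isUnit_mem _ hr hu)
    exact hleast _ (Ideal.comap_isPrime _ _) hle hs
  refine ⟨h1, ?_⟩
  have h2 : nilradical Rp = Q.map (algebraMap R Rp) := by
    rw [← h1]
    exact (IsLocalization.map_under p.primeCompl Rp (nilradical Rp)).symm
  have h3 : (nilradical Rp).IsPrime := by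
    rw [h2]
    apply IsLocalization.isPrime_of_isPrime_disjoint p.primeCompl Rp Q inferInstance
    rw [Set.disjoint_left]
    intro m hm hmQ
    exact hm (hQp hmQ)
  exact (Ideal.Quotient.isDomain_iff_prime _).mpr h3

include p in
theorem nilP_mem_minimalPrimes [IsDomain (CAlg2.red Rp)] : nilP R Rp ∈ minimalPrimes R := by
  haveI : (nilradical Rp).IsPrime := (Ideal.Quotient.isDomain_iff_prime _).mp inferInstance
  haveI : (nilP R Rp).IsPrime := Ideal.comap_isPrime _ _
  refine ⟨⟨inferInstance, bot_le⟩, ?_⟩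
  rintro P' ⟨hP', -⟩ hle
  haveI := hP'
  exact nilP_le_of_prime_le R p Rp P' (hle.trans (nilP_le R p Rp))

end NilP

/-- Ring-level birationality of `R → S`: minimal primes correspond bijectively, with unique
primes over minimal primes and trivial residue field extensions there. -/
structure BirR (R S : Type u) [CommRing R] [CommRing S] [Algebra R S] : Prop where
  comap_min : ∀ Q ∈ minimalPrimes S, Q.comap (algebraMap R S) ∈ minimalPrimes R
  exists_over : ∀ P ∈ minimalPrimes R, ∃ Q : Ideal S, Q.IsPrime ∧ Q.comap (algebraMap R S) = P ∧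
    (∀ Q' : Ideal S, Q'.IsPrime → Q'.comap (algebraMap R S) = P → Q' = Q) ∧
    ∀ s : S, ∃ r t : R, t ∉ P ∧ algebraMap R S t * s - algebraMap R S r ∈ Q

section Main

variable (R S : Type u) [CommRing R] [CommRing S] [Algebra R S] [Algebra.IsIntegral R S]
variable (hB : BirR R S)
variable (p : Ideal R) [p.IsPrime]
variable (Rp : Type u) [CommRing Rp] [Algebra R Rp] [IsLocalization.AtPrime Rp p] [IsLocalRing Rp]

include hB in
theorem least_prime_over [IsDomain (CAlg2.red Rp)] (Q : Ideal S) [Q.IsPrime]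
    (hQP : Q.comap (algebraMap R S) = nilP R Rp)
    (hQuniq : ∀ Q' : Ideal S, Q'.IsPrime → Q'.comap (algebraMap R S) = nilP R Rp → Q' = Q)
    (P'' : Ideal S) [P''.IsPrime] (hle : P''.comap (algebraMap R S) ≤ p) : Q ≤ P'' := by
  obtain ⟨Q', hQ'min, hQ'le⟩ := Ideal.exists_minimalPrimes_le (I := ⊥) (J := P'') bot_le
  haveI : Q'.IsPrime := hQ'min.1.1
  have h1 := hB.comap_min Q' hQ'min
  have h2 : Q'.comap (algebraMap R S) ≤ p := (Ideal.comap_mono hQ'le).trans hle
  haveI : (Q'.comap (algebraMap R S)).IsPrime := Ideal.comap_isPrime _ _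
  have h3 : nilP R Rp ≤ Q'.comap (algebraMap R S) := nilP_le_of_prime_le R p Rp _ h2
  haveI : (nilradical Rp).IsPrime := (Ideal.Quotient.isDomain_iff_prime _).mp inferInstance
  haveI : (nilP R Rp).IsPrime := Ideal.comap_isPrime _ _
  have h4 : Q'.comap (algebraMap R S) ≤ nilP R Rp := h1.2 ⟨inferInstance, bot_le⟩ h3
  have h5 := hQuniq Q' inferInstance (le_antisymm h4 h3)
  rw [← h5]
  exact hQ'le

include hB in
/-- **Forward direction (rings).** -/
theorem ring_fwd (hGU : CAlg2.IsGeomUnibranch Rp) :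
    ∃ q₀ : Ideal S, ∀ (q : Ideal S) [q.IsPrime], q.comap (algebraMap R S) = p →
      (q = q₀ ∧ PIat p q ∧ ∀ (Sq : Type u) [CommRing Sq] [Algebra S Sq]
        [IsLocalization.AtPrime Sq q] [IsLocalRing Sq], CAlg2.IsGeomUnibranch Sq) := by
  haveI hdom : IsDomain (CAlg2.red Rp) := hGU.1.1
  obtain ⟨Q, hQp, hQP, hQuniq, hbir⟩ :=
    hB.exists_over (nilP R Rp) (nilP_mem_minimalPrimes R p Rp)
  haveI := hQp
  haveI : Q.LiesOver (nilP R Rp) := ⟨hQP.symm⟩
  obtain ⟨q₀, h⟩ := fwd_unique_PI R S p Rp Q hbir hGU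
  refine ⟨q₀, fun q hq hqp => ?_⟩
  have hQq : Q ≤ q := least_prime_over R S hB p Rp Q hQP hQuniq q (le_of_eq hqp)
  obtain ⟨h1, h2⟩ := h q hq hqp hQq
  refine ⟨h1, h2, fun Sq _ _ _ _ => ?_⟩
  obtain ⟨hnil, hdom₂⟩ := nilP_eq_of_least S q Sq Q hQq (fun P'' hP'' hle => by
    haveI := hP''
    exact least_prime_over R S hB p Rp Q hQP hQuniq P''
      ((Ideal.comap_mono hle).trans (le_of_eq hqp)))
  haveI := hdom₂
  haveI : (nilP S Sq).LiesOver (nilP R Rp) := ⟨by rw [hnil]; exact hQP.symm⟩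
  exact fwd_GU R S p Rp q hqp Sq (by rw [hnil]; exact hbir) hGU

include hB in
/-- **Backward direction (rings).** -/
theorem ring_bwd (q : Ideal S) [q.IsPrime] (hq : q.comap (algebraMap R S) = p)
    (huniq : ∀ q' : Ideal S, q'.IsPrime → q'.comap (algebraMap R S) = p → q' = q)
    (hPI : PIat p q)
    (Sq : Type u) [CommRing Sq] [Algebra S Sq] [IsLocalization.AtPrime Sq q] [IsLocalRing Sq]
    (hGU₂ : CAlg2.IsGeomUnibranch Sq) : CAlg2.IsGeomUnibranch Rp := by
  haveI hdom₂ : IsDomain (CAlg2.red Sq) := hGU₂.1.1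
  haveI : (nilradical Sq).IsPrime := (Ideal.Quotient.isDomain_iff_prime _).mp hdom₂
  haveI : (nilP S Sq).IsPrime := Ideal.comap_isPrime _ _
  have hQmin : nilP S Sq ∈ minimalPrimes S := nilP_mem_minimalPrimes S q Sq
  have hPmin := hB.comap_min _ hQmin
  haveI : ((nilP S Sq).comap (algebraMap R S)).IsPrime := Ideal.comap_isPrime _ _
  have hPp : (nilP S Sq).comap (algebraMap R S) ≤ p :=
    (Ideal.comap_mono (nilP_le S q Sq)).trans (le_of_eq hq)
  have hleast : ∀ P' : Ideal R, P'.IsPrime → P' ≤ p →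
      (nilP S Sq).comap (algebraMap R S) ≤ P' := by
    intro P' hP' hP'p
    haveI := hP'
    obtain ⟨P'', hP''min, hP''le⟩ := Ideal.exists_minimalPrimes_le (I := ⊥) (J := P') bot_le
    obtain ⟨Q'', hQ''p, hQ''P, -, -⟩ := hB.exists_over P'' hP''min
    haveI := hQ''p
    obtain ⟨q'', hq''Q, hq''p, hq''⟩ :=
      Ideal.exists_ideal_over_prime_of_isIntegral_of_isPrime p Q''
        (by rw [hQ''P]; exact hP''le.trans hP'p)
    have h1 := huniq q'' hq''p hq''
    rw [h1] at hq''Q
    have h2 : nilP S Sq ≤ Q'' := nilP_le_of_prime_le S q Sq Q'' hq''Q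
    calc (nilP S Sq).comap (algebraMap R S) ≤ Q''.comap (algebraMap R S) := Ideal.comap_mono h2
      _ = P'' := hQ''P
      _ ≤ P' := hP''le
  obtain ⟨hnilR, hdom⟩ := nilP_eq_of_least R p Rp _ hPp hleast
  haveI := hdom
  haveI : (nilP S Sq).LiesOver (nilP R Rp) := ⟨hnilR⟩
  obtain ⟨Q₁, hQ₁p, hQ₁P, hQ₁uniq, hbir⟩ := hB.exists_over _ hPmin
  have hQ₁ : nilP S Sq = Q₁ := hQ₁uniq _ inferInstance rfl
  refine bwd_GU R S p Rp q hq Sq ?_ huniq hPI hGU₂
  intro s
  obtain ⟨r, t, ht, hmem⟩ := hbir s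
  exact ⟨r, t, by rw [hnilR]; exact ht, by rw [hQ₁]; exact hmem⟩

end Main

end Groth.Agent.Lib.Helper6.RP
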