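import Mathlib
import Groth.Agent.Lib.Helper6.UB9

set_option autoImplicit false
universe u

open CategoryTheory AlgebraicGeometry Limits

namespace Groth.Agent.Lib.Helper6.UB

/-- Two maximal points specializing to a point whose local ring has a least prime coincide. -/
theorem eq_of_specializes_of_least_prime {X : Scheme.{u}} (x : X)
    (N : Ideal (X.presheaf.stalk x)) [N.IsPrime]
    (hN : ∀ P : Ideal (X.presheaf.stalk x), P.IsPrime → N ≤ P)
    (e₁ e₂ : X) (h₁ : e₁ ⤳ x) (h₂ : e₂ ⤳ x) (hm₁ : ∀ t : X, t ⤳ e₁ → t = e₁)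
    (hm₂ : ∀ t : X, t ⤳ e₂ → t = e₂) : e₁ = e₂ := by
  let b : Spec (X.presheaf.stalk x) := ⟨N, inferInstance⟩
  have key : ∀ e : X, e ⤳ x → (∀ t : X, t ⤳ e → t = e) → X.fromSpecStalk x b = e := by
    intro e he hm
    have hmem : e ∈ Set.range (X.fromSpecStalk x) := by
      rw [AlgebraicGeometry.Scheme.range_fromSpecStalk]; exact he
    obtain ⟨z, hz⟩ := hmem
    have hbz : b ⤳ z :=
      (PrimeSpectrum.le_iff_specializes (R := X.presheaf.stalk x) b z).mp
        (hN z.asIdeal z.2)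
    have h1 : X.fromSpecStalk x b ⤳ X.fromSpecStalk x z := hbz.map (X.fromSpecStalk x).continuous
    rw [hz] at h1
    exact hm _ h1
  rw [← key e₁ h₁ hm₁, ← key e₂ h₂ hm₂]

/-- Stalks of a scheme étale over a scheme with geometrically unibranch (possibly non-reduced)
local ring have a least prime. -/
theorem exists_least_prime_stalk_of_etale {X Y : Scheme.{u}} (f : X ⟶ Y) [Etale f] (x : X)
    (hGU : CAlg2.IsGeomUnibranch (Y.presheaf.stalk (f x))) :
    ∃ N : Ideal (X.presheaf.stalk x), N.IsPrime ∧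
      ∀ P : Ideal (X.presheaf.stalk x), P.IsPrime → N ≤ P := by
  obtain ⟨_, ⟨U, hU : IsAffineOpen U, rfl⟩, hfy, -⟩ :=
    Y.isBasis_affineOpens.exists_subset_of_mem_open (Set.mem_univ (f x)) isOpen_univ
  obtain ⟨_, ⟨V, hV : IsAffineOpen V, rfl⟩, hxV, hVU⟩ :=
    X.isBasis_affineOpens.exists_subset_of_mem_open (show x ∈ (f ⁻¹ᵁ U : Set X) from hfy)
      (f ⁻¹ᵁ U).isOpen
  have e : V ≤ f ⁻¹ᵁ U := hVU
  let _ : Algebra Γ(Y, U) Γ(X, V) := (f.appLE U V e).hom.toAlgebra
  have : Algebra.Etale Γ(Y, U) Γ(X, V) := Etale.etale_appLE f hU hV e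
  have hcomap : (hV.primeIdealOf ⟨x, hxV⟩).asIdeal.comap (algebraMap Γ(Y, U) Γ(X, V)) =
      (hU.primeIdealOf ⟨f x, hfy⟩).asIdeal :=
    congr($(IsAffineOpen.comap_primeIdealOf_appLE U hU V hV e hxV).1)
  let _ : Algebra Γ(X, V) (X.presheaf.stalk x) :=
    TopCat.Presheaf.algebra_section_stalk X.presheaf ⟨x, hxV⟩
  have hlocX : IsLocalization.AtPrime (X.presheaf.stalk x) (hV.primeIdealOf ⟨x, hxV⟩).asIdeal :=
    hV.isLocalization_stalk ⟨x, hxV⟩
  let _ : Algebra Γ(Y, U) (Y.presheaf.stalk (f x)) :=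
    TopCat.Presheaf.algebra_section_stalk Y.presheaf ⟨f x, hfy⟩
  have hlocY : IsLocalization.AtPrime (Y.presheaf.stalk (f x))
      (hU.primeIdealOf ⟨f x, hfy⟩).asIdeal :=
    hU.isLocalization_stalk ⟨f x, hfy⟩
  obtain ⟨N, hNp, hNq, hNle⟩ := exists_least_prime_le_of_etale' Γ(Y, U) Γ(X, V)
    (hV.primeIdealOf ⟨x, hxV⟩).asIdeal (hU.primeIdealOf ⟨f x, hfy⟩).asIdeal hcomap
    (Y.presheaf.stalk (f x)) hGU
  have hdisj : Disjoint ((hV.primeIdealOf ⟨x, hxV⟩).asIdeal.primeCompl : Set Γ(X, V)) N := by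
    rw [Set.disjoint_left]
    intro s hs hsN
    exact hs (hNq hsN)
  refine ⟨N.map (algebraMap Γ(X, V) (X.presheaf.stalk x)),
    IsLocalization.isPrime_of_isPrime_disjoint (hV.primeIdealOf ⟨x, hxV⟩).asIdeal.primeCompl _ N
      hNp hdisj, ?_⟩
  intro P hP
  rw [Ideal.map_le_iff_le_comap]
  haveI : (P.comap (algebraMap Γ(X, V) (X.presheaf.stalk x))).IsPrime := Ideal.comap_isPrime _ _
  apply hNle _ inferInstance
  have h1 : P ≤ IsLocalRing.maximalIdeal (X.presheaf.stalk x) :=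
    IsLocalRing.le_maximalIdeal hP.ne_top
  have h2 := Ideal.comap_mono (f := algebraMap Γ(X, V) (X.presheaf.stalk x)) h1
  have h3 : Ideal.comap (algebraMap Γ(X, V) (X.presheaf.stalk x))
      (IsLocalRing.maximalIdeal (X.presheaf.stalk x)) = (hV.primeIdealOf ⟨x, hxV⟩).asIdeal :=
    IsLocalization.AtPrime.under_maximalIdeal (X.presheaf.stalk x) _
  rwa [h3] at h2

set_option backward.isDefEq.respectTransparency.types false in
set_option maxHeartbeats 1600000 in
/-- **EGA IV 18.10.7-type statement**: irreducible components of a scheme étale over an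
irreducible scheme with geometrically unibranch local rings. -/
theorem components_of_etale {X Y : Scheme.{u}} (f : X ⟶ Y) [Etale f] [IrreducibleSpace Y]
    (hY : ∀ y : Y, CAlg2.IsGeomUnibranch (Y.presheaf.stalk y)) :
    (∀ x : X, ∃! Z, Z ∈ irreducibleComponents X ∧ x ∈ Z) ∧
    (∀ Z ∈ irreducibleComponents X, IsOpen Z ∧ ∃! x : X, x ∈ Z ∧ f x = genericPoint Y) := by
  classical
  haveI := locallyQuasiFinite_of_unramified f
  set η := genericPoint Y with hη
  set E : Set X := f ⁻¹' {η} with hE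
  have hEdisc : _root_.IsDiscrete E := f.isDiscrete_preimage_singleton η
  have hηmax : ∀ z : Y, z ⤳ η → z = η := fun z hz =>
    (hz.antisymm (genericPoint_specializes z)).eq
  have hEmax : ∀ e ∈ E, ∀ t : X, t ⤳ e → t = e := by
    intro e he t ht
    have h1 : f t ⤳ f e := ht.map f.continuous
    rw [show f e = η from he] at h1
    exact hEdisc.eq_of_specializes ht (hηmax _ h1) he
  -- local finiteness
  have hlf : ∀ x : X, ∃ V : Set X, IsOpen V ∧ x ∈ V ∧ (E ∩ V).Finite := by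
    intro x
    have hU' : ∃ U : Y.Opens, IsAffineOpen U ∧ f x ∈ U := by
      obtain ⟨_, ⟨U, hU, rfl⟩, hfy, -⟩ :=
        Y.isBasis_affineOpens.exists_subset_of_mem_open (Set.mem_univ (f x)) isOpen_univ
      exact ⟨U, hU, hfy⟩
    obtain ⟨U, hU, hfy⟩ := hU'
    have hV' : ∃ V : X.Opens, IsAffineOpen V ∧ x ∈ V ∧ V ≤ f ⁻¹ᵁ U := by
      obtain ⟨_, ⟨V, hV, rfl⟩, hxV, hVU⟩ :=
        X.isBasis_affineOpens.exists_subset_of_mem_open (show x ∈ (f ⁻¹ᵁ U : Set X) from hfy)
          (f ⁻¹ᵁ U).isOpen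
      exact ⟨V, hV, hxV, hVU⟩
    obtain ⟨V, hV, hxV, e⟩ := hV'
    refine ⟨V, V.isOpen, hxV, ?_⟩
    by_cases hηU : η ∈ U
    · haveI : IsAffine V.toScheme := hV
      haveI : IsAffine U.toScheme := hU
      have hfin := (f.resLE U V e).finite_preimage_singleton (⟨η, hηU⟩ : U.toScheme)
      refine (hfin.image (fun p : V.toScheme => (p.1 : X))).subset ?_
      rintro z ⟨hzE, hzV⟩
      refine ⟨(⟨z, hzV⟩ : V.toScheme), ?_, rfl⟩
      apply Subtype.ext
      have h1 := congr($(Scheme.Hom.resLE_comp_ι f e) (⟨z, hzV⟩ : V.toScheme))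
      simp only [Scheme.Hom.comp_apply] at h1
      exact h1.trans hzE
    · convert Set.finite_empty
      rw [Set.eq_empty_iff_forall_notMem]
      rintro z ⟨hzE, hzV⟩
      apply hηU
      have : f z = η := hzE
      rw [← this]
      exact e hzV
  -- every point has a generization in the generic fibre
  have hgen : ∀ x : X, ∃ e ∈ E, e ⤳ x := by
    intro x
    have hg : GeneralizingMap f := Flat.generalizingMap f
    obtain ⟨w', hw', hfw'⟩ := hg (a := x) (b := η) (genericPoint_specializes _)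
    exact ⟨w', hfw', hw'⟩
  -- uniqueness of that generization
  have huniq : ∀ x : X, ∀ e₁ ∈ E, ∀ e₂ ∈ E, e₁ ⤳ x → e₂ ⤳ x → e₁ = e₂ := by
    intro x e₁ he₁ e₂ he₂ h₁ h₂
    obtain ⟨N, hNp, hNle⟩ := exists_least_prime_stalk_of_etale f x (hY _)
    haveI := hNp
    exact eq_of_specializes_of_least_prime x N hNle e₁ e₂ h₁ h₂ (hEmax e₁ he₁) (hEmax e₂ he₂)
  -- closures of points of the generic fibre are clopen
  have hclopen : ∀ e₀ ∈ E, IsClopen (closure {e₀}) := by
    intro e₀ he₀E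
    let T : Set X := {x | ∃ e ∈ E \ {e₀}, e ⤳ x}
    have hTclosed : IsClosed T :=
      isClosed_setOf_exists_specializes E hlf (E \ {e₀}) Set.sdiff_subset
    have hZ : closure {e₀} = Tᶜ := by
      ext x
      rw [← specializes_iff_mem_closure]
      constructor
      · rintro h ⟨e, ⟨heE, hne⟩, hex⟩
        exact hne (huniq x e heE e₀ he₀E hex h)
      · intro hxT
        obtain ⟨e, heE, hex⟩ := hgen x
        by_cases hee : e = e₀
        · rw [← hee]; exact hex
        · exact (hxT ⟨e, ⟨heE, hee⟩, hex⟩).elim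
    exact ⟨isClosed_closure, hZ ▸ hTclosed.isOpen_compl⟩
  -- description of the irreducible components
  have hcomp1 : ∀ e ∈ E, closure {e} ∈ irreducibleComponents X := by
    intro e he
    refine ⟨isIrreducible_singleton.closure, fun Z hZ hle => ?_⟩
    exact hZ.isPreirreducible.isPreconnected.subset_isClopen (hclopen e he)
      ⟨e, hle (subset_closure rfl), subset_closure rfl⟩
  have hcomp2 : ∀ Z ∈ irreducibleComponents X, ∃ e ∈ E, Z = closure {e} := by
    intro Z hZ
    obtain ⟨x, hx⟩ := hZ.1.nonempty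
    obtain ⟨e, he, hex⟩ := hgen x
    refine ⟨e, he, ?_⟩
    have h1 : Z ⊆ closure {e} :=
      hZ.1.isPreirreducible.isPreconnected.subset_isClopen (hclopen e he)
        ⟨x, hx, specializes_iff_mem_closure.mp hex⟩
    exact le_antisymm h1 (hZ.2 isIrreducible_singleton.closure h1)
  refine ⟨fun x => ?_, fun Z hZ => ?_⟩
  · obtain ⟨e, he, hex⟩ := hgen x
    refine ⟨closure {e}, ⟨hcomp1 e he, specializes_iff_mem_closure.mp hex⟩, ?_⟩
    rintro Z' ⟨hZ', hxZ'⟩
    obtain ⟨e', he', rfl⟩ := hcomp2 Z' hZ'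
    rw [huniq x e' he' e he (specializes_iff_mem_closure.mpr hxZ') hex]
  · obtain ⟨e, he, rfl⟩ := hcomp2 Z hZ
    refine ⟨(hclopen e he).isOpen, e, ⟨subset_closure rfl, he⟩, ?_⟩
    rintro x' ⟨hx'Z, hx'η⟩
    exact (hEmax x' hx'η e (specializes_iff_mem_closure.mpr hx'Z)).symm

end Groth.Agent.Lib.Helper6.UB
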