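import Mathlib
import Groth.Agent.Lib.Helper6.Wt9
import Groth.Agent.Lib.Helper6.UB10

/-!
# Separable degree of a fibre at a geometrically unibranch point (EGA IV 18.10.x)
-/

set_option autoImplicit false
universe u

open CategoryTheory AlgebraicGeometry Limits

namespace Groth.Agent.Lib.Helper6.SD

open Groth.Agent.Lib.Helper6.Wt Groth.Agent.Lib.Helper6.UB

theorem exists_maximal_generization {T : Type*} [TopologicalSpace T] [QuasiSober T] [T0Space T]
    (z : T) : ∃ ζ : T, ζ ⤳ z ∧ ∀ t : T, t ⤳ ζ → t = ζ := by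
  obtain ⟨ζ, hζ⟩ := QuasiSober.sober (isIrreducible_irreducibleComponent (x := z))
    isClosed_irreducibleComponent
  refine ⟨ζ, hζ.specializes mem_irreducibleComponent, fun t ht => ?_⟩
  have h1 : irreducibleComponent z ⊆ closure {t} := by
    rw [← hζ.def]
    exact (specializes_iff_closure_subset.mp ht)
  have h2 : closure {t} = irreducibleComponent z :=
    eq_irreducibleComponent isIrreducible_singleton.closure.isPreirreducible h1
  have h3 : IsGenericPoint t (irreducibleComponent z) := h2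
  exact h3.eq hζ

theorem closure_mem_irreducibleComponents_of_maximal {T : Type*} [TopologicalSpace T]
    [QuasiSober T] [T0Space T] (η : T) (h : ∀ z : T, z ⤳ η → z = η) :
    closure {η} ∈ irreducibleComponents T := by
  refine ⟨isIrreducible_singleton.closure, fun Z hZ hle => ?_⟩
  obtain ⟨z, hz⟩ := QuasiSober.sober hZ.closure isClosed_closure
  have hη : η ∈ closure Z := subset_closure (hle (subset_closure rfl))
  have hzη : z ⤳ η := by
    rw [specializes_iff_mem_closure, hz.def]
    exact hη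
  have := h z hzη
  subst this
  rw [hz.def]
  exact subset_closure

theorem map_eq_genericPoint_of_maximal {X Y : Scheme.{u}} (f : X ⟶ Y) [IrreducibleSpace Y]
    (hdom : ∀ Z ∈ irreducibleComponents ↥X, genericPoint Y ∈ f '' Z) (x : X)
    (hx : ∀ t : X, t ⤳ x → t = x) : f x = genericPoint Y := by
  obtain ⟨z, hz, hfz⟩ := hdom _ (closure_mem_irreducibleComponents_of_maximal x hx)
  have h1 : x ⤳ z := specializes_iff_mem_closure.mpr hz
  have h2 : f x ⤳ genericPoint Y := hfz ▸ h1.map f.continuous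
  exact (h2.antisymm (genericPoint_specializes _)).eq


theorem fibreIntegral_one_nonneg {W T : Scheme.{u}} (h : W ⟶ T) (t : T) :
    0 ≤ MoreMor.fibreIntegral h (fun _ => 1) t := by
  rw [fibreIntegral_eq_finsum_mem]
  refine finsum_nonneg fun x => finsum_nonneg fun _ => ?_
  rw [one_mul]
  unfold deg
  exact Int.natCast_nonneg _

set_option maxHeartbeats 1600000 in
/-- Key inequality: for a separated locally quasi-finite morphism with finite fibres to an
integral scheme, all of whose maximal points lie over the generic point, the geometric number of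
points of the fibre at a geometrically unibranch point is at most that of the generic fibre. -/
theorem fibreIntegral_le_of_geomUnibranch {W T : Scheme.{u}} (h : W ⟶ T) [LocallyQuasiFinite h]
    [LocallyOfFiniteType h] [IsSeparated h] [IsIntegral T]
    (hfin : ∀ t : T, (h ⁻¹' {t}).Finite)
    (hmax : ∀ x : W, (∀ t : W, t ⤳ x → t = x) → h x = genericPoint T)
    (t₀ : T) (hGU : CAlg2.IsGeomUnibranch (T.presheaf.stalk t₀)) :
    MoreMor.fibreIntegral h (fun _ => 1) t₀ ≤
      MoreMor.fibreIntegral h (fun _ => 1) (genericPoint T) := by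
  classical
  obtain ⟨V, a, v₀, hEt, hav₀, κ, hκ, D, z, hD, hclopen, hdisj, hall⟩ :=
    exists_etale_nbhd_fibre h hfin t₀
  haveI := hEt
  set p₁ := pullback.fst h a with hp₁
  set p₂ := pullback.snd h a with hp₂
  have hc : IsPullback p₁ p₂ h a := IsPullback.of_hasPullback h a
  haveI : LocallyQuasiFinite p₂ := by rw [hp₂]; infer_instance
  haveI : Flat p₁ := by rw [hp₁]; infer_instance
  haveI : LocallyQuasiFinite a := locallyQuasiFinite_of_unramified a
  have hfin₂ : ∀ v, (p₂ ⁻¹' {v}).Finite := finite_preimage_singleton_of_isPullback hc hfin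
  have hbc : ∀ v, MoreMor.fibreIntegral p₂ (fun _ => 1) v =
      MoreMor.fibreIntegral h (fun _ => 1) (a v) :=
    fun v => fibreIntegral_baseChange hc hfin (fun _ => 1) v
  have hzinj : Function.Injective z := by
    intro k l hkl
    by_contra hne
    exact Set.disjoint_left.mp (hdisj hne) (hD k).1 (hkl ▸ (hD l).1)
  have hfib : p₂ ⁻¹' {v₀} = Set.range z := by
    ext w
    constructor
    · intro hw
      obtain ⟨k, hk⟩ := hall w hw
      exact ⟨k, hk.symm⟩
    · rintro ⟨k, rfl⟩
      exact (hD k).2.2.1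
  have h1 : MoreMor.fibreIntegral p₂ (fun _ => 1) v₀ = Fintype.card κ := by
    rw [fibreIntegral_eq_finsum_mem, hfib, finsum_mem_range hzinj, finsum_eq_sum_of_fintype]
    simp only [one_mul]
    rw [Finset.sum_congr rfl (fun k _ => deg_eq_one p₂ (z k) (hD k).2.2.2.2)]
    simp
  rw [← hav₀, ← hbc v₀, h1]
  rcases isEmpty_or_nonempty κ with hκe | ⟨⟨k₀⟩⟩
  · rw [Fintype.card_eq_zero]
    exact_mod_cast fibreIntegral_one_nonneg h _
  -- maximal generizations of the points `z k`
  have hζex : ∀ k, ∃ ζ : ↑(pullback h a), ζ ⤳ z k ∧ ∀ t, t ⤳ ζ → t = ζ :=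
    fun k => exists_maximal_generization (z k)
  choose ζ hζz hζmax using hζex
  have hζD : ∀ k, ζ k ∈ D k := fun k => (hζz k).mem_open (D k).2 (hD k).1
  have hζinj : Function.Injective ζ := by
    intro k l hkl
    by_contra hne
    exact Set.disjoint_left.mp (hdisj hne) (hζD k) (hkl ▸ hζD l)
  have hp₁max : ∀ k, ∀ t : W, t ⤳ p₁ (ζ k) → t = p₁ (ζ k) := by
    intro k t ht
    obtain ⟨ζ', hζ', rfl⟩ := Flat.generalizingMap p₁ ht
    rw [hζmax k ζ' hζ']
  set η := genericPoint T with hη
  have haη : ∀ k, a (p₂ (ζ k)) = η := by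
    intro k
    rw [← Scheme.Hom.comp_apply, ← pullback.condition, Scheme.Hom.comp_apply]
    exact hmax _ (hp₁max k)
  have hηmax : ∀ t : T, t ⤳ η → t = η := fun t ht =>
    (ht.antisymm (genericPoint_specializes t)).eq
  have hdisc : _root_.IsDiscrete (a ⁻¹' {η}) := a.isDiscrete_preimage_singleton η
  have hp₂max : ∀ k, ∀ t : V, t ⤳ p₂ (ζ k) → t = p₂ (ζ k) := by
    intro k t ht
    have h1 : a t ⤳ a (p₂ (ζ k)) := ht.map a.continuous
    rw [haη k] at h1
    exact hdisc.eq_of_specializes ht (hηmax _ h1) (haη k)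
  have hp₂sp : ∀ k, p₂ (ζ k) ⤳ v₀ := by
    intro k
    have := (hζz k).map p₂.continuous
    rwa [(hD k).2.2.1] at this
  obtain ⟨N, hNp, hN⟩ := exists_least_prime_stalk_of_etale a v₀ (by rw [hav₀]; exact hGU)
  set ξ₀ := p₂ (ζ k₀) with hξ₀
  have hξ : ∀ k, p₂ (ζ k) = ξ₀ := fun k =>
    eq_of_specializes_of_least_prime v₀ N hN _ _ (hp₂sp k) (hp₂sp k₀) (hp₂max k) (hp₂max k₀)
  have h2 : (Fintype.card κ : ℤ) ≤ MoreMor.fibreIntegral p₂ (fun _ => 1) ξ₀ := by
    rw [fibreIntegral_eq_finsum_mem, finsum_mem_eq_finite_toFinset_sum _ (hfin₂ ξ₀)]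
    simp only [one_mul]
    have hsub : Finset.image ζ Finset.univ ⊆ (hfin₂ ξ₀).toFinset := by
      intro w hw
      obtain ⟨k, -, rfl⟩ := Finset.mem_image.mp hw
      exact (hfin₂ ξ₀).mem_toFinset.mpr (hξ k)
    calc (Fintype.card κ : ℤ) = ∑ _k : κ, (1 : ℤ) := by simp
      _ ≤ ∑ k : κ, deg p₂ (ζ k) :=
        Finset.sum_le_sum fun k _ => deg_pos_of_locallyQuasiFinite p₂ (ζ k)
      _ = ∑ w ∈ Finset.image ζ Finset.univ, deg p₂ w :=
        (Finset.sum_image (fun k _ l _ hkl => hζinj hkl)).symm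
      _ ≤ ∑ w ∈ (hfin₂ ξ₀).toFinset, deg p₂ w :=
        Finset.sum_le_sum_of_subset_of_nonneg hsub
          fun w _ _ => (deg_pos_of_locallyQuasiFinite p₂ w).le
  rw [hbc ξ₀, hξ₀, haη k₀] at h2
  exact h2

end Groth.Agent.Lib.Helper6.SD
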