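import Mathlib
import Groth.Agent.Lib.Helper6.RP7
import Groth.Agent.Lib.Helper6.SD1

/-!
# Chart lemmas: points of an affine open, primes, residue fields
-/

set_option autoImplicit false
set_option linter.unusedSectionVars false
universe u

open AlgebraicGeometry CategoryTheory

namespace Groth.Agent.Lib.Helper6.RP

section Chart

variable {X : Scheme.{u}} {U : X.Opens} (hU : IsAffineOpen U)

theorem mem_basicOpen_iff_notMem_primeIdealOf (a : Γ(X, U)) (x : U) :
    (x : X) ∈ X.basicOpen a ↔ a ∉ (hU.primeIdealOf x).asIdeal := by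
  rw [Scheme.mem_basicOpen X a x.1 x.2]
  letI := X.presheaf.algebra_section_stalk x
  haveI := hU.isLocalization_stalk x
  exact IsLocalization.AtPrime.isUnit_to_map_iff (X.presheaf.stalk x.1)
    (hU.primeIdealOf x).asIdeal a

theorem primeIdealOf_injective : Function.Injective hU.primeIdealOf := by
  intro x y h
  have h1 := hU.fromSpec_primeIdealOf x
  have h2 := hU.fromSpec_primeIdealOf y
  rw [h] at h1
  exact Subtype.ext (h1.symm.trans h2)

theorem primeIdealOf_surjective : Function.Surjective hU.primeIdealOf := by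
  intro q
  refine ⟨hU.isoSpec.inv q, ?_⟩
  change hU.isoSpec.hom (hU.isoSpec.inv q) = q
  rw [← Scheme.Hom.comp_apply, Iso.inv_hom_id]
  rfl

theorem specializes_iff_primeIdealOf_le (y z : U) :
    (y : X) ⤳ (z : X) ↔ (hU.primeIdealOf y).asIdeal ≤ (hU.primeIdealOf z).asIdeal := by
  rw [← subtype_specializes_iff]
  have hind : Topology.IsInducing (fun w : U => hU.isoSpec.hom w) :=
    hU.isoSpec.hom.homeomorph.isInducing
  have h1 : y ⤳ z ↔ hU.isoSpec.hom y ⤳ hU.isoSpec.hom z :=
    (hind.specializes_iff).symm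
  rw [show (y ⤳ z) ↔ (hU.isoSpec.hom y ⤳ hU.isoSpec.hom z) from h1]
  exact (PrimeSpectrum.le_iff_specializes _ _).symm

theorem ker_evaluation (y : X) (hy : y ∈ U) :
    RingHom.ker (X.evaluation U y hy).hom = (hU.primeIdealOf ⟨y, hy⟩).asIdeal := by
  ext a
  rw [RingHom.mem_ker]
  change X.evaluation U y hy a = 0 ↔ _
  rw [Scheme.evaluation_eq_zero_iff_notMem_basicOpen,
    mem_basicOpen_iff_notMem_primeIdealOf hU a ⟨y, hy⟩, not_not]

theorem evaluation_eq_zero_iff (y : X) (hy : y ∈ U) (a : Γ(X, U)) :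
    (X.evaluation U y hy).hom a = 0 ↔ a ∈ (hU.primeIdealOf ⟨y, hy⟩).asIdeal := by
  rw [← ker_evaluation hU y hy, RingHom.mem_ker]

theorem exists_evaluation_mul_eq (s : X) (hs : s ∈ U) (x : X.residueField s) :
    ∃ r σ : Γ(X, U), σ ∉ (hU.primeIdealOf ⟨s, hs⟩).asIdeal ∧
      x * (X.evaluation U s hs).hom σ = (X.evaluation U s hs).hom r := by
  obtain ⟨y, rfl⟩ := X.residue_surjective s x
  letI := X.presheaf.algebra_section_stalk ⟨s, hs⟩
  haveI := hU.isLocalization_stalk ⟨s, hs⟩
  obtain ⟨⟨r, σ⟩, hrσ⟩ := IsLocalization.surj (hU.primeIdealOf ⟨s, hs⟩).asIdeal.primeCompl y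
  refine ⟨r, σ.1, σ.2, ?_⟩
  have := congrArg (X.residue s).hom hrσ
  rw [map_mul] at this
  exact this

/-- A point of an affine open is a generic point of an irreducible component of `X` iff its
prime ideal is a minimal prime. -/
theorem mem_genericPoints_iff (x : X) (hx : x ∈ U) :
    x ∈ genericPoints X ↔ (hU.primeIdealOf ⟨x, hx⟩).asIdeal ∈ minimalPrimes Γ(X, U) := by
  constructor
  · intro hgen
    refine ⟨⟨(hU.primeIdealOf ⟨x, hx⟩).2, bot_le⟩, ?_⟩
    rintro P' ⟨hP', -⟩ hle
    obtain ⟨z, hz⟩ := primeIdealOf_surjective hU ⟨P', hP'⟩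
    have hzx : (z : X) ⤳ x := by
      rw [specializes_iff_primeIdealOf_le hU z ⟨x, hx⟩, hz]
      exact hle
    -- x is maximal
    have hirr : closure {x} ∈ irreducibleComponents X := hgen
    have h1 : closure {x} ⊆ closure {(z : X)} := specializes_iff_closure_subset.mp hzx
    have h2 : closure {(z : X)} ⊆ closure {x} :=
      hirr.2 isIrreducible_singleton.closure h1
    have h3 : (z : X) = x := by
      have hg : IsGenericPoint (z : X) (closure {x}) := (subset_antisymm h2 h1 : _)
      exact hg.eq (rfl : IsGenericPoint x (closure {x}))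
    have h4 : z = ⟨x, hx⟩ := Subtype.ext h3
    have h5 := congrArg PrimeSpectrum.asIdeal hz
    rw [h4] at h5
    exact le_of_eq h5
  · intro hmin
    apply Groth.Agent.Lib.Helper6.SD.closure_mem_irreducibleComponents_of_maximal
    intro z hzx
    have hzU : z ∈ U := hzx.mem_open U.2 hx
    have h1 := (specializes_iff_primeIdealOf_le hU ⟨z, hzU⟩ ⟨x, hx⟩).mp hzx
    have h2 := hmin.2 ⟨(hU.primeIdealOf ⟨z, hzU⟩).2, bot_le⟩ h1
    have h3 : hU.primeIdealOf ⟨z, hzU⟩ = hU.primeIdealOf ⟨x, hx⟩ :=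
      PrimeSpectrum.ext (le_antisymm h1 h2)
    exact congrArg Subtype.val (primeIdealOf_injective hU h3)

end Chart

end Groth.Agent.Lib.Helper6.RP
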