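import Mathlib
import Groth.Prelude.Def_Pi1
import Groth.Agent.Lib.Helper6.NormIsoB
import Groth.Agent.Lib.Helper6.NormIsoC

set_option autoImplicit false
set_option linter.style.haveILetI false
universe u
open CategoryTheory AlgebraicGeometry

namespace Groth.Agent.Lib.Helper6.NormIso

open Groth.Agent.Lib.Helper6.GU

theorem isIso_stalkMap_iff_restrict {X Y : Scheme.{u}} (f : Y ⟶ X) (U : X.Opens)
    (y : (f ⁻¹ᵁ U).toScheme) : IsIso ((f ∣_ U).stalkMap y) ↔ IsIso (f.stalkMap y.1) :=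
  (MorphismProperty.isomorphisms CommRingCat).arrow_mk_iso_iff (morphismRestrictStalkMap f U y)

theorem restrict_isIso_of_good (X : Scheme.{u}) [IsIntegral X] {Y : Scheme.{u}} (f : Y ⟶ X)
    (hN : Pi1.IsNormalScheme Y) [IsIntegralHom f] [IrreducibleSpace Y]
    (hfib : f.base ⁻¹' {genericPoint X} = {genericPoint Y})
    (hiso : IsIso (f.stalkMap (genericPoint Y)))
    (V : X.Opens) (hVne : (V : Set X).Nonempty)
    (hVn : ∀ x ∈ V, IsIntegrallyClosed (X.presheaf.stalk x)) :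
    Dense (V : Set X) ∧ Dense ((f ⁻¹ᵁ V : Y.Opens) : Set Y) ∧ IsIso (f ∣_ V) := by
  haveI : IsIntegral Y := isIntegral_of_normal_irreducible Y hN
  have hfη : f (genericPoint Y) = genericPoint X := by
    have : genericPoint Y ∈ f.base ⁻¹' {genericPoint X} := by rw [hfib]; rfl
    exact this
  obtain ⟨x, hx⟩ := hVne
  have hηV : genericPoint X ∈ V :=
    ((genericPoint_spec X).mem_open_set_iff V.isOpen).mpr ⟨x, trivial, hx⟩
  have hηW : genericPoint Y ∈ f ⁻¹ᵁ V := by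
    change f (genericPoint Y) ∈ V; rw [hfη]; exact hηV
  refine ⟨V.isOpen.dense ⟨x, hx⟩, (f ⁻¹ᵁ V).isOpen.dense ⟨_, hηW⟩, ?_⟩
  haveI : Nonempty V := ⟨⟨_, hηV⟩⟩
  haveI : Nonempty (f ⁻¹ᵁ V : Y.Opens) := ⟨⟨_, hηW⟩⟩
  have hVnormal : Pi1.IsNormalScheme V := by
    intro z
    let ρ : (V : Scheme).presheaf.stalk z ≃+* X.presheaf.stalk z.1 :=
      (V.stalkIso z).commRingCatIsoToRingEquiv
    haveI := hVn z.1 z.2
    exact ⟨inferInstance, IsIntegrallyClosed.of_equiv ρ.symm⟩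
  have hgenV : V.ι (genericPoint V) = genericPoint X := genericPoint_eq_of_isOpenImmersion V.ι
  have hgenW : (f ⁻¹ᵁ V).ι (genericPoint (f ⁻¹ᵁ V).toScheme) = genericPoint Y :=
    genericPoint_eq_of_isOpenImmersion (f ⁻¹ᵁ V).ι
  refine isIso_of_good_of_normal V hVnormal (f ∣_ V) (isNormalScheme_opens hN _) ?_ ?_
  · ext y
    have key : V.ι ((f ∣_ V) y) = f ((f ⁻¹ᵁ V).ι y) := by
      rw [← Scheme.Hom.comp_apply, ← Scheme.Hom.comp_apply, morphismRestrict_ι]
    constructor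
    · intro hy
      have h1 : (f ∣_ V) y = genericPoint V := hy
      have h2 : f ((f ⁻¹ᵁ V).ι y) = genericPoint X := by rw [← key, h1, hgenV]
      have h3 : (f ⁻¹ᵁ V).ι y ∈ f.base ⁻¹' {genericPoint X} := h2
      rw [hfib, Set.mem_singleton_iff, ← hgenW] at h3
      exact (f ⁻¹ᵁ V).ι.isOpenEmbedding.injective h3
    · rintro rfl
      change (f ∣_ V) (genericPoint (f ⁻¹ᵁ V).toScheme) = genericPoint V
      apply V.ι.isOpenEmbedding.injective
      rw [key, hgenW, hfη, hgenV]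
  · rw [isIso_stalkMap_iff_restrict]
    have : (genericPoint (f ⁻¹ᵁ V).toScheme).1 = genericPoint Y := hgenW
    rw [this]
    exact hiso

theorem good_of_restrict_isIso (X : Scheme.{u}) [IsIntegral X] {Y : Scheme.{u}} (f : Y ⟶ X)
    (U : X.Opens) (hU : Dense (U : Set X)) (hW : Dense ((f ⁻¹ᵁ U : Y.Opens) : Set Y))
    [IsIso (f ∣_ U)] :
    ∃ _ : IrreducibleSpace ↥Y, f.base ⁻¹' {genericPoint X} = {genericPoint Y} ∧
      IsIso (f.stalkMap (genericPoint Y)) := by
  obtain ⟨x, hx⟩ := hU.nonempty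
  have hηU : genericPoint X ∈ U :=
    ((genericPoint_spec X).mem_open_set_iff U.isOpen).mpr ⟨x, trivial, hx⟩
  haveI : Nonempty U := ⟨⟨_, hηU⟩⟩
  haveI : IrreducibleSpace (f ⁻¹ᵁ U).toScheme :=
    (Homeomorph.irreducibleSpace_iff (f ∣_ U).homeomorph).mpr inferInstance
  have hirr : IsIrreducible ((f ⁻¹ᵁ U : Y.Opens) : Set Y) := by
    haveI : IrreducibleSpace ↥((f ⁻¹ᵁ U : Y.Opens) : Set Y) := this
    exact IsIrreducible.of_subtype
  haveI : IrreducibleSpace ↥Y := by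
    rw [irreducibleSpace_def, Set.top_eq_univ, ← hW.closure_eq]
    exact hirr.closure
  have hgenU : U.ι (genericPoint U) = genericPoint X := genericPoint_eq_of_isOpenImmersion U.ι
  have hgenW : (f ⁻¹ᵁ U).ι (genericPoint (f ⁻¹ᵁ U).toScheme) = genericPoint Y :=
    genericPoint_eq_of_isOpenImmersion (f ⁻¹ᵁ U).ι
  have hWU : (f ∣_ U) (genericPoint (f ⁻¹ᵁ U).toScheme) = genericPoint U :=
    genericPoint_eq_of_isOpenImmersion (f ∣_ U)
  have key : ∀ y : (f ⁻¹ᵁ U).toScheme, U.ι ((f ∣_ U) y) = f ((f ⁻¹ᵁ U).ι y) := fun y => by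
    rw [← Scheme.Hom.comp_apply, ← Scheme.Hom.comp_apply, morphismRestrict_ι]
  have hfη : f (genericPoint Y) = genericPoint X := by
    rw [← hgenW, ← key, hWU, hgenU]
  refine ⟨inferInstance, ?_, ?_⟩
  · ext y
    constructor
    · intro hy
      have hy' : f y = genericPoint X := hy
      have hyW : y ∈ f ⁻¹ᵁ U := by
        change f y ∈ U; rw [hy']; exact hηU
      let y' : (f ⁻¹ᵁ U).toScheme := ⟨y, hyW⟩
      have h1 : (f ∣_ U) y' = genericPoint U := by
        apply U.ι.isOpenEmbedding.injective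
        rw [key y', hgenU]
        exact hy'
      have h2 : y' = genericPoint (f ⁻¹ᵁ U).toScheme :=
        (f ∣_ U).homeomorph.injective (h1.trans hWU.symm)
      have h3 := congrArg (f ⁻¹ᵁ U).ι h2
      rw [hgenW] at h3
      exact h3
    · rintro rfl
      exact hfη
  · have h1 : IsIso ((f ∣_ U).stalkMap (genericPoint (f ⁻¹ᵁ U).toScheme)) := inferInstance
    rw [isIso_stalkMap_iff_restrict] at h1
    have : (genericPoint (f ⁻¹ᵁ U).toScheme).1 = genericPoint Y := hgenW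
    rw [this] at h1
    exact h1

end Groth.Agent.Lib.Helper6.NormIso
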