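import Groth.Agent.Lib.Helper6.UnivHomeoRF

set_option autoImplicit false
universe u

open CategoryTheory AlgebraicGeometry Limits TensorProduct Polynomial

namespace Groth.Agent.Lib.Helper6.UnivHomeoRing

/-- A ring map is surjective on spectra as soon as every residue field of the source admits a
field extension receiving a compatible map from the target. -/
theorem comap_surjective_of_forall_exists_field {A B : Type u} [CommRing A] [CommRing B]
    (φ : A →+* B)
    (h : ∀ 𝔭 : PrimeSpectrum A, ∃ (K : Type u) (_ : Field K)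
      (ι : 𝔭.asIdeal.ResidueField →+* K) (ψ : B →+* K),
      ψ.comp φ = ι.comp (algebraMap A 𝔭.asIdeal.ResidueField)) :
    Function.Surjective (PrimeSpectrum.comap φ) := by
  intro 𝔭
  obtain ⟨K, _, ι, ψ, hψ⟩ := h 𝔭
  refine ⟨⟨RingHom.ker ψ, RingHom.ker_isPrime ψ⟩, ?_⟩
  ext a
  change φ a ∈ RingHom.ker ψ ↔ a ∈ 𝔭.asIdeal
  rw [RingHom.mem_ker, ← RingHom.comp_apply, hψ, RingHom.comp_apply,
    map_eq_zero_iff ι ι.injective, Ideal.algebraMap_residueField_eq_zero]

section Quotient

variable {A : Type u} [CommRing A] (S : Set A[X])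

/-- Ring homomorphisms out of `A[X]/(S)` into a ring are determined by their restriction to `A`
and their value on the class of `X`. -/
theorem quotient_span_hom_ext {R : Type*} [Semiring R] (σ τ : (A[X] ⧸ Ideal.span S) →+* R)
    (h₁ : σ.comp (algebraMap A _) = τ.comp (algebraMap A _))
    (h₂ : σ (Ideal.Quotient.mk _ X) = τ (Ideal.Quotient.mk _ X)) : σ = τ := by
  apply Ideal.Quotient.ringHom_ext
  apply Polynomial.ringHom_ext
  · intro a
    exact congrArg (fun k => k a) h₁
  · exact h₂

/-- Construct a ring hom out of `A[X]/(S)`. -/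
noncomputable def quotientSpanLift {R : Type*} [CommRing R] (g : A →+* R) (s : R)
    (hs : ∀ f ∈ S, f.eval₂ g s = 0) : (A[X] ⧸ Ideal.span S) →+* R :=
  Ideal.Quotient.lift (Ideal.span S) (Polynomial.eval₂RingHom g s) (by
    have : Ideal.span S ≤ RingHom.ker (Polynomial.eval₂RingHom g s) := by
      rw [Ideal.span_le]
      intro f hf
      exact hs f hf
    intro f hf
    exact (RingHom.mem_ker).mp (this hf))

theorem quotientSpanLift_comp {R : Type*} [CommRing R] (g : A →+* R) (s : R)
    (hs : ∀ f ∈ S, f.eval₂ g s = 0) :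
    (quotientSpanLift S g s hs).comp (algebraMap A _) = g := by
  ext a
  have : algebraMap A (A[X] ⧸ Ideal.span S) a = Ideal.Quotient.mk (Ideal.span S) (C a) := rfl
  rw [RingHom.comp_apply, this]
  unfold quotientSpanLift
  rw [Ideal.Quotient.lift_mk]
  simp

theorem eval₂_quotient_mk_X (f : A[X]) (hf : f ∈ S) :
    f.eval₂ (algebraMap A (A[X] ⧸ Ideal.span S)) (Ideal.Quotient.mk _ X) = 0 := by
  have h1 : f.eval₂ (algebraMap A (A[X] ⧸ Ideal.span S)) (Ideal.Quotient.mk _ X) =
      Ideal.Quotient.mk (Ideal.span S) f := by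
    have : (algebraMap A (A[X] ⧸ Ideal.span S)) = (Ideal.Quotient.mk (Ideal.span S)).comp C := rfl
    rw [this, ← Polynomial.hom_eval₂, Polynomial.eval₂_C_X]
  rw [h1]
  exact Ideal.Quotient.eq_zero_iff_mem.mpr (Ideal.subset_span hf)

theorem isIntegral_quotient_span (f : A[X]) (hf : f ∈ S) (hm : f.Monic) :
    (algebraMap A (A[X] ⧸ Ideal.span S)).IsIntegral := by
  have hX : IsIntegral A (Ideal.Quotient.mk (Ideal.span S) X) :=
    ⟨f, hm, eval₂_quotient_mk_X S f hf⟩
  intro b
  obtain ⟨g, rfl⟩ := Ideal.Quotient.mk_surjective b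
  induction g using Polynomial.induction_on' with
  | add p q hp hq => rw [map_add]; exact IsIntegral.add hp hq
  | monomial n a =>
    rw [← C_mul_X_pow_eq_monomial, map_mul, map_pow]
    apply IsIntegral.mul
    · have : Ideal.Quotient.mk (Ideal.span S) (C a) = algebraMap A (A[X] ⧸ Ideal.span S) a := rfl
      rw [this]
      exact isIntegral_algebraMap
    · exact IsIntegral.pow hX n

/-- Criterion for `Spec A[X]/(S) → Spec A` to be a universal homeomorphism. -/
theorem isUnivHomeo_quotient_span (f : A[X]) (hf : f ∈ S) (hm : f.Monic)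
    (huniq : ∀ (K : Type u) [Field K] (g : A →+* K) (s s' : K),
      (∀ f ∈ S, f.eval₂ g s = 0) → (∀ f ∈ S, f.eval₂ g s' = 0) → s = s')
    (hex : ∀ 𝔭 : PrimeSpectrum A, ∃ (K : Type u) (_ : Field K)
      (ι : 𝔭.asIdeal.ResidueField →+* K) (s : K),
      ∀ f ∈ S, f.eval₂ (ι.comp (algebraMap A 𝔭.asIdeal.ResidueField)) s = 0) :
    FlatMor.IsUnivHomeo (Spec.map (CommRingCat.ofHom (algebraMap A (A[X] ⧸ Ideal.span S)))) := by
  rw [isUnivHomeo_SpecMap_iff]
  refine ⟨isIntegral_quotient_span S f hf hm, ?_, ?_⟩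
  · intro K _ σ τ hστ
    apply quotient_span_hom_ext S σ τ hστ
    apply huniq K (σ.comp (algebraMap A _))
    · intro f hf
      rw [← Polynomial.hom_eval₂, eval₂_quotient_mk_X S f hf, map_zero]
    · intro f hf
      rw [show σ.comp (algebraMap A _) = τ.comp (algebraMap A _) from hστ,
        ← Polynomial.hom_eval₂, eval₂_quotient_mk_X S f hf, map_zero]
  · apply comap_surjective_of_forall_exists_field
    intro 𝔭
    obtain ⟨K, _, ι, s, hs⟩ := hex 𝔭
    exact ⟨K, inferInstance, ι, quotientSpanLift S _ s hs, quotientSpanLift_comp S _ s hs⟩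

/-- Triviality of residue field extensions for `A → A[X]/(S)` can be checked on the class of `X`. -/
theorem trivRF_quotient_span
    (h : ∀ q : PrimeSpectrum (A[X] ⧸ Ideal.span S), ∃ s a : A,
      algebraMap A (A[X] ⧸ Ideal.span S) s ∉ q.asIdeal ∧
      algebraMap A (A[X] ⧸ Ideal.span S) s * Ideal.Quotient.mk (Ideal.span S) X -
        algebraMap A (A[X] ⧸ Ideal.span S) a ∈ q.asIdeal) :
    TrivRF A (A[X] ⧸ Ideal.span S) := by
  intro q b
  obtain ⟨g, rfl⟩ := Ideal.Quotient.mk_surjective b
  induction g using Polynomial.induction_on' with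
  | add p q' hp hq => rw [map_add]; exact trivRF_aux_add q hp hq
  | monomial n a =>
    rw [← C_mul_X_pow_eq_monomial, map_mul, map_pow]
    apply trivRF_aux_mul q
    · refine ⟨1, a, ?_, ?_⟩
      · rw [map_one]; exact q.2.one_notMem
      · have : Ideal.Quotient.mk (Ideal.span S) (C a) = algebraMap A (A[X] ⧸ Ideal.span S) a := rfl
        rw [this, map_one, one_mul, sub_self]
        exact Ideal.zero_mem _
    · induction n with
      | zero =>
        refine ⟨1, 1, ?_, ?_⟩
        · rw [map_one]; exact q.2.one_notMem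
        · rw [pow_zero, map_one, one_mul, sub_self]
          exact Ideal.zero_mem _
      | succ n ih =>
        rw [pow_succ]
        exact trivRF_aux_mul q ih (h q)

end Quotient

end Groth.Agent.Lib.Helper6.UnivHomeoRing
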