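import Groth.Agent.Lib.Helper6.AWNRing
import Groth.Agent.S7402
import Groth.Agent.S7403

set_option autoImplicit false
universe u

open CategoryTheory AlgebraicGeometry Limits TensorProduct Polynomial

namespace Groth.Agent.Lib.Helper6.AWN

open Groth.Agent.Lib.Helper6.UnivHomeoRing Groth.Agent.Lib.Helper6.SqCube

section Reduced

variable {R : Type*} [CommRing R] [IsReduced R]

theorem eq_of_sq_eq_of_cube_eq {a b : R} (h2 : a ^ 2 = b ^ 2) (h3 : a ^ 3 = b ^ 3) : a = b := by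
  have h : (a - b) ^ 3 = 0 := by
    have : (a - b) ^ 3 = a ^ 3 - 3 * (a ^ 2) * b + 3 * a * (b ^ 2) - b ^ 3 := by ring
    rw [this, h2, ← h2]
    have e : a ^ 3 - 3 * a ^ 2 * b + 3 * a * a ^ 2 - b ^ 3 =
        4 * a ^ 3 - 3 * (a ^ 2) * b - b ^ 3 := by ring
    rw [e, h2, h3]
    ring
  have := (IsReduced.eq_zero _ ⟨3, h⟩)
  exact sub_eq_zero.mp this

theorem eq_of_pow_eq_of_mul_eq {a b : R} (p : ℕ) (hp : p.Prime) (h1 : a ^ p = b ^ p)
    (h2 : (p : R) * a = (p : R) * b) : a = b := by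
  have hnil : a - b ∈ nilradical R := by
    rw [nilradical_eq_sInf, Ideal.mem_sInf]
    intro 𝔮 h𝔮
    have h𝔮' : 𝔮.IsPrime := h𝔮
    by_cases hp𝔮 : (p : R) ∈ 𝔮
    · have : Fact p.Prime := ⟨hp⟩
      have hchar : CharP (R ⧸ 𝔮) p := by
        rw [CharP.charP_iff_prime_eq_zero hp]
        rw [← map_natCast (Ideal.Quotient.mk 𝔮)]
        exact Ideal.Quotient.eq_zero_iff_mem.mpr hp𝔮
      rw [← Ideal.Quotient.eq_zero_iff_mem, map_sub, sub_eq_zero]
      apply frobenius_inj (R ⧸ 𝔮) p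
      change (Ideal.Quotient.mk 𝔮 a) ^ p = (Ideal.Quotient.mk 𝔮 b) ^ p
      rw [← map_pow, ← map_pow, h1]
    · have : (p : R) * (a - b) ∈ 𝔮 := by
        rw [mul_sub, h2, sub_self]; exact Ideal.zero_mem _
      exact (h𝔮'.mem_or_mem this).resolve_left hp𝔮
  have : a - b = 0 := by
    have h0 : nilradical R = ⊥ := nilradical_eq_zero R
    rw [h0] at hnil
    exact hnil
  exact sub_eq_zero.mp this

end Reduced

section RingAWN

variable {A W : Type u} [CommRing A] [CommRing W] {φ : A →+* W}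

theorem ringAWN_uh (hφ : HTop.IsRingAWN φ) : UH φ := (uh_iff φ).mp hφ.1

theorem ringAWN_exists_hom (hφ : HTop.IsRingAWN φ) {C : Type u} [CommRing C] (ψ : A →+* C)
    (hψ : UH ψ) : ∃ χ : C →+* W, χ.comp ψ = φ := by
  obtain ⟨χ, h, -⟩ := hφ.2 C ψ ((uh_iff ψ).mpr hψ)
  exact ⟨χ, h⟩

theorem ringAWN_hom_ext (hφ : HTop.IsRingAWN φ) {C : Type u} [CommRing C] (ψ : A →+* C)
    (hψ : UH ψ) (χ χ' : C →+* W) (h : χ.comp ψ = φ) (h' : χ'.comp ψ = φ) : χ = χ' := by
  obtain ⟨χ₀, -, huniq⟩ := hφ.2 C ψ ((uh_iff ψ).mpr hψ)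
  rw [huniq χ h, huniq χ' h']

theorem uh_of_surjective_of_ker_le {R R' : Type u} [CommRing R] [CommRing R'] (π : R →+* R')
    (hπ : Function.Surjective π) (hker : RingHom.ker π ≤ nilradical R) : UH π := by
  have hint : π.IsIntegral := RingHom.isIntegral_of_surjective _ hπ
  refine ⟨hint, ?_, comap_surjective_of_isIntegral_of_ker_le π hint hker⟩
  intro K _ σ τ hστ
  ext c
  obtain ⟨r, rfl⟩ := hπ c
  exact congrArg (fun k => k r) hστ

/-- If `χ ∘ ι = id` on an absolute weak normalization then ... (retraction trick). -/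
theorem ringAWN_retract (hφ : HTop.IsRingAWN φ) {C : Type u} [CommRing C] (ι : W →+* C)
    (hι : UH ι) : ∃ χ : C →+* W, χ.comp ι = RingHom.id W := by
  obtain ⟨χ, hχ⟩ := ringAWN_exists_hom hφ (ι.comp φ) ((ringAWN_uh hφ).comp hι)
  refine ⟨χ, ?_⟩
  apply ringAWN_hom_ext hφ φ (ringAWN_uh hφ)
  · rw [RingHom.comp_assoc]; exact hχ
  · rfl

theorem ringAWN_isReduced (hφ : HTop.IsRingAWN φ) : IsReduced W := by
  have hπ : UH (Ideal.Quotient.mk (nilradical W)) := by
    apply uh_of_surjective_of_ker_le _ Ideal.Quotient.mk_surjective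
    rw [Ideal.mk_ker]
  obtain ⟨χ, hχ⟩ := ringAWN_retract hφ _ hπ
  constructor
  intro x hx
  have h1 : Ideal.Quotient.mk (nilradical W) x = 0 :=
    Ideal.Quotient.eq_zero_iff_mem.mpr hx
  have h2 := congrArg (fun k => k x) hχ
  simp only [RingHom.comp_apply, RingHom.id_apply] at h2
  rw [← h2, h1, map_zero]

theorem ringAWN_isAWNRing (hφ : HTop.IsRingAWN φ) : HTop.IsAWNRing W := by
  have hred := ringAWN_isReduced hφ
  constructor
  · intro x y hxy
    have hU := (Groth.Agent.S7402.result W x y hxy).1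
    obtain ⟨χ, hχ⟩ := ringAWN_retract hφ _ ((uh_iff _).mp hU)
    have hχ' : ∀ w : W, χ (algebraMap W _ w) = w := fun w => congrArg (fun k => k w) hχ
    have hS2 : (X ^ 2 - C x : W[X]) ∈ ({X ^ 2 - C x, X ^ 3 - C y} : Set W[X]) := Or.inl rfl
    have hS3 : (X ^ 3 - C y : W[X]) ∈ ({X ^ 2 - C x, X ^ 3 - C y} : Set W[X]) := Or.inr rfl
    have e2 := eval₂_quotient_mk_X _ _ hS2
    have e3 := eval₂_quotient_mk_X _ _ hS3
    simp only [eval₂_sub, eval₂_pow, eval₂_X, eval₂_C, sub_eq_zero] at e2 e3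
    refine ⟨χ (Ideal.Quotient.mk _ X), ⟨?_, ?_⟩, ?_⟩
    · rw [← map_pow, e2, hχ']
    · rw [← map_pow, e3, hχ']
    · rintro a' ⟨h1, h2⟩
      apply eq_of_sq_eq_of_cube_eq
      · rw [← h1, ← map_pow, e2, hχ']
      · rw [← h2, ← map_pow, e3, hχ']
  · intro p hp x y hxy
    have hU := Groth.Agent.S7403.result W p hp x y hxy
    obtain ⟨χ, hχ⟩ := ringAWN_retract hφ _ ((uh_iff _).mp hU)
    have hχ' : ∀ w : W, χ (algebraMap W _ w) = w := fun w => congrArg (fun k => k w) hχ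
    have hS1 : (X ^ p - C x : W[X]) ∈ ({X ^ p - C x, C (p : W) * X - C y} : Set W[X]) :=
      Or.inl rfl
    have hS2 : (C (p : W) * X - C y : W[X]) ∈ ({X ^ p - C x, C (p : W) * X - C y} : Set W[X]) :=
      Or.inr rfl
    have e1 := eval₂_quotient_mk_X _ _ hS1
    have e2 := eval₂_quotient_mk_X _ _ hS2
    simp only [eval₂_sub, eval₂_pow, eval₂_mul, eval₂_X, eval₂_C, eval₂_natCast, sub_eq_zero,
      map_natCast] at e1 e2
    have ht1 : χ (Ideal.Quotient.mk _ X) ^ p = x := by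
      rw [← map_pow, e1, hχ']
    have ht2 : (p : W) * χ (Ideal.Quotient.mk _ X) = y := by
      have := congrArg χ e2
      rw [map_mul, map_natCast, hχ'] at this
      exact this
    refine ⟨χ (Ideal.Quotient.mk _ X), ⟨ht1.symm, ht2.symm⟩, ?_⟩
    rintro a' ⟨h1, h2⟩
    apply eq_of_pow_eq_of_mul_eq p hp
    · rw [← h1, ht1]
    · rw [← h2, ht2]

theorem isReduced_of_isSeminormalRing {B : Type u} [CommRing B] (h : HTop.IsSeminormalRing B) :
    IsReduced B := by
  rw [isReduced_iff_pow_one_lt 2 (by norm_num)]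
  intro x hx
  obtain ⟨a, -, huniq⟩ := h 0 0 (by simp)
  have h0 : (0 : B) = a := huniq 0 ⟨by simp, by simp⟩
  have hx' : x = a := huniq x ⟨hx.symm, by rw [pow_succ, hx, zero_mul]⟩
  rw [hx', ← h0]

theorem isAWNRing_of_ringEquiv {B W : Type u} [CommRing B] [CommRing W] (e : B ≃+* W)
    (h : HTop.IsAWNRing W) : HTop.IsAWNRing B := by
  constructor
  · intro x y hxy
    obtain ⟨a, ⟨h1, h2⟩, huniq⟩ := h.1 (e x) (e y) (by rw [← map_pow, ← map_pow, hxy])
    refine ⟨e.symm a, ⟨?_, ?_⟩, ?_⟩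
    · apply e.injective; rw [map_pow, e.apply_symm_apply, h1]
    · apply e.injective; rw [map_pow, e.apply_symm_apply, h2]
    · rintro b ⟨hb1, hb2⟩
      apply e.injective
      rw [e.apply_symm_apply]
      exact huniq (e b) ⟨by rw [hb1, map_pow], by rw [hb2, map_pow]⟩
  · intro p hp x y hxy
    obtain ⟨a, ⟨h1, h2⟩, huniq⟩ := h.2 p hp (e x) (e y) (by
      rw [← map_pow, ← hxy, map_mul, map_pow, map_natCast])
    refine ⟨e.symm a, ⟨?_, ?_⟩, ?_⟩
    · apply e.injective; rw [map_pow, e.apply_symm_apply, h1]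
    · apply e.injective; rw [map_mul, map_natCast, e.apply_symm_apply, h2]
    · rintro b ⟨hb1, hb2⟩
      apply e.injective
      rw [e.apply_symm_apply]
      exact huniq (e b) ⟨by rw [hb1, map_pow], by rw [hb2, map_mul, map_natCast]⟩

theorem uh_comap_injective {R R' : Type u} [CommRing R] [CommRing R'] {ψ : R →+* R'} (h : UH ψ) :
    Function.Injective (PrimeSpectrum.comap ψ) := by
  let _ : Algebra R R' := ψ.toAlgebra
  exact comap_injective_of_isUnivHomeo (A := R) (B := R') ((uh_iff ψ).mpr h)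

theorem uh_ker_le_nilradical {R R' : Type u} [CommRing R] [CommRing R'] {ψ : R →+* R'} (h : UH ψ) :
    RingHom.ker ψ ≤ nilradical R :=
  (PrimeSpectrum.denseRange_comap_iff_ker_le_nilRadical ψ).mp h.2.2.denseRange

/-- Cancellation: if `χ ∘ ψ` and `ψ` are universal homeomorphisms, so is `χ`. -/
theorem uh_of_comp {R R' R'' : Type u} [CommRing R] [CommRing R'] [CommRing R'']
    {ψ : R →+* R'} {χ : R' →+* R''} (hψ : UH ψ) (h : UH (χ.comp ψ)) : UH χ := by
  refine ⟨RingHom.IsIntegral.tower_top ψ χ h.1, ?_, ?_⟩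
  · intro K _ σ τ hστ
    apply h.2.1
    rw [← RingHom.comp_assoc, ← RingHom.comp_assoc, hστ]
  · intro 𝔭'
    obtain ⟨𝔮, h𝔮⟩ := h.2.2 (PrimeSpectrum.comap ψ 𝔭')
    refine ⟨𝔮, ?_⟩
    apply uh_comap_injective hψ
    rw [← h𝔮]
    rfl

theorem bijective_of_isAWNRing {B : Type u} [CommRing B] (hφ : HTop.IsRingAWN φ)
    (ψ : A →+* B) (hψ : UH ψ) (χ : B →+* W) (hχ : χ.comp ψ = φ) (hB : HTop.IsAWNRing B) :
    Function.Bijective χ := by
  have hredB : IsReduced B := isReduced_of_isSeminormalRing hB.1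
  have hredW : IsReduced W := ringAWN_isReduced hφ
  have hUχ : UH χ := uh_of_comp hψ (hχ ▸ ringAWN_uh hφ)
  have hinj : Function.Injective χ := by
    rw [RingHom.injective_iff_ker_eq_bot, eq_bot_iff]
    have := uh_ker_le_nilradical hUχ
    rwa [nilradical_eq_zero B] at this
  refine ⟨hinj, ?_⟩
  by_contra hns
  let _ : Algebra B W := χ.toAlgebra
  have hne : ¬ Function.Surjective (algebraMap B W) := hns
  rcases exists_sq_cube_or_p hne ((uh_iff χ).mpr hUχ) with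
    ⟨w, h1, ⟨x, hx⟩, ⟨y, hy⟩⟩ | ⟨p, w, hp, h1, ⟨y, hy⟩, ⟨x, hx⟩⟩
  · have hx' : χ x = w ^ 2 := hx
    have hy' : χ y = w ^ 3 := hy
    have hxy : x ^ 3 = y ^ 2 := by
      apply hinj
      rw [map_pow, map_pow, hx', hy']; ring
    obtain ⟨a, ⟨ha1, ha2⟩, -⟩ := hB.1 x y hxy
    apply h1
    refine ⟨a, ?_⟩
    change χ a = w
    apply eq_of_sq_eq_of_cube_eq
    · rw [← map_pow, ← ha1, hx']
    · rw [← map_pow, ← ha2, hy']
  · have hx' : χ x = w ^ p := hx
    have hy' : χ y = (p : W) * w := hy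
    have hxy : (p : B) ^ p * x = y ^ p := by
      apply hinj
      rw [map_mul, map_pow, map_pow, map_natCast, hx', hy']; ring
    obtain ⟨a, ⟨ha1, ha2⟩, -⟩ := hB.2 p hp x y hxy
    apply h1
    refine ⟨a, ?_⟩
    change χ a = w
    apply eq_of_pow_eq_of_mul_eq p hp
    · rw [← map_pow, ← ha1, hx']
    · have : χ y = (p : W) * χ a := by rw [ha2, map_mul, map_natCast]
      rw [← this, hy']

theorem bijective_iff_isAWNRing {B : Type u} [CommRing B] (hφ : HTop.IsRingAWN φ)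
    (ψ : A →+* B) (hψ : UH ψ) (χ : B →+* W) (hχ : χ.comp ψ = φ) :
    Function.Bijective χ ↔ HTop.IsAWNRing B := by
  constructor
  · intro h
    exact isAWNRing_of_ringEquiv (RingEquiv.ofBijective χ h) (ringAWN_isAWNRing hφ)
  · exact bijective_of_isAWNRing hφ ψ hψ χ hχ

end RingAWN

end Groth.Agent.Lib.Helper6.AWN
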