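import Groth.Agent.Lib.Helper6.AWNRing2
import Groth.Agent.Lib.Helper12.UnivHomeo
import Groth.Agent.S7422
import Groth.Agent.S7420
import Mathlib.AlgebraicGeometry.RelativeGluing

set_option autoImplicit false
universe u

open CategoryTheory AlgebraicGeometry Limits

namespace Groth.Agent.Lib.Helper6.AWNSch

open Groth.Agent.Lib.Helper6.AWN Groth.Agent.Lib.Helper6.SqCube Groth.Agent.Lib.Helper12

/-- The identity of an absolutely weakly normal ring is an absolute weak normalization. -/
theorem isRingAWN_id_of_isAWNRing {A : Type u} [CommRing A] (hA : HTop.IsAWNRing A) :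
    HTop.IsRingAWN (RingHom.id A) := by
  obtain ⟨W, _, φ, hφ⟩ := Groth.Agent.S7422.result A
  have hid : UH (RingHom.id A) := UH.of_bijective Function.bijective_id
  have hbij : Function.Bijective φ :=
    (bijective_iff_isAWNRing hφ (RingHom.id A) hid φ (RingHom.comp_id φ)).mpr hA
  let e : A ≃+* W := RingEquiv.ofBijective φ hbij
  refine ⟨(uh_iff _).mpr hid, ?_⟩
  intro C _ ψ hψ
  obtain ⟨χ', hχ', huniq⟩ := hφ.2 C ψ hψ
  refine ⟨e.symm.toRingHom.comp χ', ?_, ?_⟩
  · ext a
    have : χ' (ψ a) = φ a := congrArg (fun f => f a) hχ'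
    simp only [RingHom.comp_apply, RingHom.id_apply, this]
    exact e.symm_apply_apply a
  · intro χ₁ hχ₁
    have h1 : (φ.comp χ₁).comp ψ = φ := by
      rw [RingHom.comp_assoc, hχ₁, RingHom.comp_id]
    have h2 := huniq _ h1
    ext c
    have : φ (χ₁ c) = χ' c := congrArg (fun f => f c) h2
    simp only [RingHom.comp_apply]
    rw [← this]
    exact (e.symm_apply_apply (χ₁ c)).symm

/-- Over an absolutely weakly normal ring, a universal homeomorphism has a unique retraction. -/
theorem existsUnique_retraction {A C : Type u} [CommRing A] [CommRing C] (hA : HTop.IsAWNRing A)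
    (ψ : A →+* C) (hψ : FlatMor.IsUnivHomeo (Spec.map (CommRingCat.ofHom ψ))) :
    ∃! χ : C →+* A, χ.comp ψ = RingHom.id A :=
  (isRingAWN_id_of_isAWNRing hA).2 C ψ hψ

theorem existsUnique_section_SpecMap {A C : CommRingCat.{u}} (hA : HTop.IsAWNRing A) (ψ : A ⟶ C)
    (hψ : FlatMor.IsUnivHomeo (Spec.map ψ)) :
    ∃! s : Spec A ⟶ Spec C, s ≫ Spec.map ψ = 𝟙 _ := by
  obtain ⟨χ, hχ, huniq⟩ := existsUnique_retraction hA ψ.hom hψ
  refine ⟨Spec.map (CommRingCat.ofHom χ), ?_, ?_⟩
  · change Spec.map (CommRingCat.ofHom χ) ≫ Spec.map ψ = 𝟙 _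
    rw [← Spec.map_comp, ← Spec.map_id]
    congr 1
    ext a
    exact congrArg (fun f => f a) hχ
  · intro s hs
    obtain ⟨χ₁, rfl⟩ := Spec.map_surjective s
    change Spec.map χ₁ ≫ Spec.map ψ = 𝟙 _ at hs
    rw [← Spec.map_comp, ← Spec.map_id] at hs
    have h1 := Spec.map_injective hs
    have : χ₁.hom = χ := huniq χ₁.hom (by
      ext a
      exact congrArg (fun f => f.hom a) h1)
    congr 1
    ext c
    exact congrArg (fun f => f c) this

theorem existsUnique_section_of_isAffine {Z W : Scheme.{u}} [IsAffine Z]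
    (hZ : HTop.IsAWNRing Γ(Z, ⊤)) (ρ : W ⟶ Z) (hρ : FlatMor.IsUnivHomeo ρ) :
    ∃! s : Z ⟶ W, s ≫ ρ = 𝟙 Z := by
  have haff : IsAffineHom ρ := IsUnivHomeo.isAffineHom hρ
  have hW : IsAffine W := isAffine_of_isAffineHom ρ
  have hnat : W.isoSpec.hom ≫ Spec.map ρ.appTop = ρ ≫ Z.isoSpec.hom :=
    Scheme.isoSpec_hom_naturality ρ
  have hρ' : FlatMor.IsUnivHomeo (Spec.map ρ.appTop) := by
    have h1 : FlatMor.IsUnivHomeo (W.isoSpec.hom ≫ Spec.map ρ.appTop) := by
      rw [hnat]
      exact IsUnivHomeo.comp hρ (isUnivHomeo_of_isIso _)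
    exact (MorphismProperty.cancel_left_of_respectsIso FlatMor.IsUnivHomeo _ _).mp h1
  obtain ⟨s', hs', huniq⟩ := existsUnique_section_SpecMap hZ ρ.appTop hρ'
  refine ⟨Z.isoSpec.hom ≫ s' ≫ W.isoSpec.inv, ?_, ?_⟩
  · have : W.isoSpec.inv ≫ ρ = Spec.map ρ.appTop ≫ Z.isoSpec.inv := by
      rw [Iso.inv_comp_eq, ← Category.assoc, hnat, Category.assoc, Iso.hom_inv_id, Category.comp_id]
    change (Z.isoSpec.hom ≫ s' ≫ W.isoSpec.inv) ≫ ρ = 𝟙 Z
    rw [Category.assoc, Category.assoc, this, ← Category.assoc s', hs', Category.id_comp,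
      Iso.hom_inv_id]
  · intro s hs
    change s ≫ ρ = 𝟙 Z at hs
    have h2 : (Z.isoSpec.inv ≫ s ≫ W.isoSpec.hom) ≫ Spec.map ρ.appTop = 𝟙 _ := by
      rw [Category.assoc, Category.assoc, hnat, ← Category.assoc s, hs, Category.id_comp,
        Iso.inv_hom_id]
    have h3 := huniq _ h2
    rw [← h3]
    simp

theorem isAWNRing_top_of_affineOpen {Z : Scheme.{u}} (hZ : HTop.IsAWN Z) (V : Z.affineOpens) :
    HTop.IsAWNRing Γ(V.1.toScheme, ⊤) := by
  have h1 := ((Groth.Agent.S7420.result Z).2.mp hZ) V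
  exact isAWNRing_of_ringEquiv (V.1.topIso).commRingCatIsoToRingEquiv h1

/-- Over an absolutely weakly normal scheme, a universal homeomorphism has unique local lifts. -/
theorem existsUnique_lift_affineOpen {Z W : Scheme.{u}} (hZ : HTop.IsAWN Z) (ρ : W ⟶ Z)
    (hρ : FlatMor.IsUnivHomeo ρ) (V : Z.affineOpens) :
    ∃! t : V.1.toScheme ⟶ W, t ≫ ρ = V.1.ι := by
  have : IsAffine V.1.toScheme := V.2
  have hsnd : FlatMor.IsUnivHomeo (pullback.snd ρ V.1.ι) :=
    MorphismProperty.pullback_snd _ _ hρ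
  obtain ⟨σ, hσ, huniq⟩ := existsUnique_section_of_isAffine
    (isAWNRing_top_of_affineOpen hZ V) (pullback.snd ρ V.1.ι) hsnd
  refine ⟨σ ≫ pullback.fst ρ V.1.ι, ?_, ?_⟩
  · change (σ ≫ pullback.fst ρ V.1.ι) ≫ ρ = V.1.ι
    rw [Category.assoc, pullback.condition, ← Category.assoc, hσ, Category.id_comp]
  · intro t ht
    change t ≫ ρ = V.1.ι at ht
    have h1 : pullback.lift t (𝟙 _) (by rw [ht, Category.id_comp]) ≫ pullback.snd ρ V.1.ι = 𝟙 _ :=
      pullback.lift_snd _ _ _
    have h2 := huniq _ h1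
    rw [← h2, pullback.lift_fst]

/-- Over an absolutely weakly normal scheme, a universal homeomorphism has a unique section. -/
theorem existsUnique_section {Z W : Scheme.{u}} (hZ : HTop.IsAWN Z) (ρ : W ⟶ Z)
    (hρ : FlatMor.IsUnivHomeo ρ) : ∃! s : Z ⟶ W, s ≫ ρ = 𝟙 Z := by
  choose t ht huniq using existsUnique_lift_affineOpen hZ ρ hρ
  let t' : ∀ i : Z.directedAffineCover.I₀, Z.directedAffineCover.X i ⟶ W := fun i => t i
  have ht' : ∀ i : Z.directedAffineCover.I₀, t' i ≫ ρ = Z.directedAffineCover.f i := fun i => ht i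
  have huniq' : ∀ (i : Z.directedAffineCover.I₀) (y : Z.directedAffineCover.X i ⟶ W),
      y ≫ ρ = Z.directedAffineCover.f i → y = t' i := fun i y hy => huniq i y hy
  have hcompat : ∀ {V' V : Z.directedAffineCover.I₀} (hij : V' ⟶ V),
      Z.directedAffineCover.trans hij ≫ t' V = t' V' := by
    intro V' V hij
    apply huniq' V'
    rw [Category.assoc, ht' V]
    exact Scheme.Cover.trans_map _ hij
  have hglue : ∀ i : Z.directedAffineCover.I₀, Z.directedAffineCover.f i ≫
      Z.directedAffineCover.glueMorphismsOfLocallyDirected t' hcompat = t' i :=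
    fun i => Scheme.OpenCover.map_glueMorphismsOfLocallyDirected _ _ _ i
  refine ⟨Z.directedAffineCover.glueMorphismsOfLocallyDirected t' hcompat, ?_, ?_⟩
  · apply Z.directedAffineCover.hom_ext
    intro V
    rw [← Category.assoc, hglue, Category.comp_id]
    exact ht' V
  · intro s hs
    change s ≫ ρ = 𝟙 Z at hs
    apply Z.directedAffineCover.hom_ext
    intro V
    rw [hglue]
    apply huniq' V
    rw [Category.assoc, hs, Category.comp_id]

/-- A universal homeomorphism from an absolutely weakly normal scheme is an absolute weak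
normalization. -/
theorem isAWNormalization_of_isAWN {X' X : Scheme.{u}} (ν : X' ⟶ X) (hν : FlatMor.IsUnivHomeo ν)
    (hX' : HTop.IsAWN X') : HTop.IsAWNormalization ν := by
  refine ⟨hν, ?_⟩
  intro Y π hπ
  have hsnd : FlatMor.IsUnivHomeo (pullback.snd π ν) := MorphismProperty.pullback_snd _ _ hπ
  obtain ⟨s, hs, huniq⟩ := existsUnique_section hX' (pullback.snd π ν) hsnd
  refine ⟨s ≫ pullback.fst π ν, ?_, ?_⟩
  · change (s ≫ pullback.fst π ν) ≫ π = ν
    rw [Category.assoc, pullback.condition, ← Category.assoc, hs, Category.id_comp]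
  · intro h hh
    change h ≫ π = ν at hh
    have h1 : pullback.lift h (𝟙 _) (by rw [hh, Category.id_comp]) ≫ pullback.snd π ν = 𝟙 _ :=
      pullback.lift_snd _ _ _
    have h2 := huniq _ h1
    rw [← h2, pullback.lift_fst]

/-- Two absolute weak normalizations of the same scheme are uniquely isomorphic: the comparison
morphism is an isomorphism. -/
theorem isIso_of_isAWNormalization {X₁ X₂ X : Scheme.{u}} (ν₁ : X₁ ⟶ X) (ν₂ : X₂ ⟶ X)
    (h₁ : HTop.IsAWNormalization ν₁) (h₂ : HTop.IsAWNormalization ν₂) (h : X₁ ⟶ X₂)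
    (hh : h ≫ ν₂ = ν₁) : IsIso h := by
  obtain ⟨g, hg, -⟩ := h₂.2 X₁ ν₁ h₁.1
  obtain ⟨i₁, -, hu₁⟩ := h₁.2 X₁ ν₁ h₁.1
  obtain ⟨i₂, -, hu₂⟩ := h₂.2 X₂ ν₂ h₂.1
  refine ⟨g, ?_, ?_⟩
  · have e1 : h ≫ g = i₁ := hu₁ _ (by change (h ≫ g) ≫ ν₁ = ν₁; rw [Category.assoc, hg, hh])
    have e2 : 𝟙 X₁ = i₁ := hu₁ _ (Category.id_comp _)
    rw [e1, e2]
  · have e1 : g ≫ h = i₂ := hu₂ _ (by change (g ≫ h) ≫ ν₂ = ν₂; rw [Category.assoc, hh, hg])
    have e2 : 𝟙 X₂ = i₂ := hu₂ _ (Category.id_comp _)
    rw [e1, e2]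

theorem isAWNRing_of_isOpenImmersion_affineOpen {X₀ X : Scheme.{u}} (j : X₀ ⟶ X)
    [IsOpenImmersion j] (U₀ : X₀.Opens) (h : HTop.IsAWNRing Γ(X, j ''ᵁ U₀)) :
    HTop.IsAWNRing Γ(X₀, U₀) :=
  isAWNRing_of_ringEquiv (j.appIso U₀).symm.commRingCatIsoToRingEquiv h

theorem isAWNRing_image_of_isOpenImmersion {X₀ X : Scheme.{u}} (j : X₀ ⟶ X)
    [IsOpenImmersion j] (U₀ : X₀.Opens) (h : HTop.IsAWNRing Γ(X₀, U₀)) :
    HTop.IsAWNRing Γ(X, j ''ᵁ U₀) :=
  isAWNRing_of_ringEquiv (j.appIso U₀).commRingCatIsoToRingEquiv h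

/-- An open subscheme of an absolutely weakly normal scheme is absolutely weakly normal. -/
theorem isAWN_of_isOpenImmersion {X₀ X : Scheme.{u}} (j : X₀ ⟶ X) [IsOpenImmersion j]
    (hX : HTop.IsAWN X) : HTop.IsAWN X₀ := by
  rw [(Groth.Agent.S7420.result X₀).2]
  intro U₀
  have hU : IsAffineOpen (j ''ᵁ U₀.1) := U₀.2.image_of_isOpenImmersion j
  have h1 := ((Groth.Agent.S7420.result X).2.mp hX) ⟨j ''ᵁ U₀.1, hU⟩
  exact isAWNRing_of_isOpenImmersion_affineOpen j U₀.1 h1

/-- A scheme covered by absolutely weakly normal opens is absolutely weakly normal. -/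
theorem isAWN_of_openCover {G : Scheme.{u}} (𝒰 : G.OpenCover) (h : ∀ i, HTop.IsAWN (𝒰.X i)) :
    HTop.IsAWN G := by
  intro x
  obtain ⟨i, y, rfl⟩ := 𝒰.exists_eq x
  obtain ⟨U₀, hy, hU₀⟩ := h i y
  refine ⟨⟨(𝒰.f i) ''ᵁ U₀.1, U₀.2.image_of_isOpenImmersion (𝒰.f i)⟩, ⟨y, hy, rfl⟩, ?_⟩
  exact isAWNRing_image_of_isOpenImmersion (𝒰.f i) U₀.1 hU₀

set_option backward.isDefEq.respectTransparency.types false in
/-- Being a universal homeomorphism is local on the target. -/
theorem isUnivHomeo_of_openCover {G X : Scheme.{u}} (ν : G ⟶ X) (𝒰 : X.OpenCover)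
    (h : ∀ i, FlatMor.IsUnivHomeo (pullback.snd ν (𝒰.f i))) : FlatMor.IsUnivHomeo ν := by
  rw [isUnivHomeo_iff]
  have h' := fun i => (isUnivHomeo_iff.mp (h i))
  refine ⟨?_, ?_, ?_⟩
  · exact IsZariskiLocalAtTarget.of_openCover (P := @IsIntegralHom) 𝒰 (fun i => (h' i).1)
  · exact IsZariskiLocalAtTarget.of_openCover (P := @UniversallyInjective) 𝒰 (fun i => (h' i).2.1)
  · exact IsZariskiLocalAtTarget.of_openCover (P := @Surjective) 𝒰 (fun i => (h' i).2.2)

theorem isAWN_Spec_of_isAWNRing {B : CommRingCat.{u}} (hB : HTop.IsAWNRing B) :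
    HTop.IsAWN (Spec B) := by
  intro x
  refine ⟨⟨⊤, isAffineOpen_top _⟩, trivial, ?_⟩
  exact isAWNRing_of_ringEquiv (Scheme.ΓSpecIso B).commRingCatIsoToRingEquiv hB

/-- Affine schemes have absolute weak normalizations (with absolutely weakly normal source). -/
theorem exists_isAWNormalization_of_isAffine (V : Scheme.{u}) [IsAffine V] :
    ∃ (P : Scheme.{u}) (p : P ⟶ V), FlatMor.IsUnivHomeo p ∧ HTop.IsAWN P := by
  obtain ⟨B, _, φ, hφ⟩ := Groth.Agent.S7422.result Γ(V, ⊤)
  refine ⟨Spec (CommRingCat.of B), Spec.map (CommRingCat.ofHom φ) ≫ V.isoSpec.inv, ?_, ?_⟩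
  · exact IsUnivHomeo.comp hφ.1 (isUnivHomeo_of_isIso _)
  · exact isAWN_Spec_of_isAWNRing (B := CommRingCat.of B) (ringAWN_isAWNRing hφ)

section Glue

variable (X : Scheme.{u})

theorem exists_awn_affineOpens (U : X.affineOpens) :
    ∃ (P : Scheme.{u}) (p : P ⟶ U.1.toScheme), FlatMor.IsUnivHomeo p ∧ HTop.IsAWN P :=
  haveI : IsAffine U.1.toScheme := U.2
  exists_isAWNormalization_of_isAffine U.1.toScheme

/-- The chosen absolute weak normalization of the affine open `U`. -/
noncomputable def awP (U : X.affineOpens) : Scheme.{u} :=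
  (exists_awn_affineOpens X U).choose

/-- Its structure morphism. -/
noncomputable def awp (U : X.affineOpens) : awP X U ⟶ U.1.toScheme :=
  (exists_awn_affineOpens X U).choose_spec.choose

theorem awp_uh (U : X.affineOpens) : FlatMor.IsUnivHomeo (awp X U) :=
  (exists_awn_affineOpens X U).choose_spec.choose_spec.1

theorem awP_isAWN (U : X.affineOpens) : HTop.IsAWN (awP X U) :=
  (exists_awn_affineOpens X U).choose_spec.choose_spec.2

theorem awp_isAWNormalization (U : X.affineOpens) : HTop.IsAWNormalization (awp X U) :=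
  isAWNormalization_of_isAWN _ (awp_uh X U) (awP_isAWN X U)

/-- The base change of the chosen normalization of `V` to `U ≤ V` is a normalization of `U`. -/
theorem pullback_isAWNormalization {U V : X.affineOpens} (h : U ≤ V) :
    HTop.IsAWNormalization (pullback.snd (awp X V) (X.homOfLE h)) := by
  refine isAWNormalization_of_isAWN _ (MorphismProperty.pullback_snd _ _ (awp_uh X V)) ?_
  exact isAWN_of_isOpenImmersion (pullback.fst (awp X V) (X.homOfLE h)) (awP_isAWN X V)

/-- The comparison morphism to the base change. -/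
noncomputable def awc {U V : X.affineOpens} (h : U ≤ V) :
    awP X U ⟶ pullback (awp X V) (X.homOfLE h) :=
  ((awp_isAWNormalization X U).2 _ _ (pullback_isAWNormalization X h).1).choose

theorem awc_snd {U V : X.affineOpens} (h : U ≤ V) :
    awc X h ≫ pullback.snd (awp X V) (X.homOfLE h) = awp X U :=
  ((awp_isAWNormalization X U).2 _ _ (pullback_isAWNormalization X h).1).choose_spec.1

theorem awc_unique {U V : X.affineOpens} (h : U ≤ V)
    (m : awP X U ⟶ pullback (awp X V) (X.homOfLE h))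
    (hm : m ≫ pullback.snd (awp X V) (X.homOfLE h) = awp X U) : m = awc X h :=
  ((awp_isAWNormalization X U).2 _ _ (pullback_isAWNormalization X h).1).choose_spec.2 m hm

instance awc_isIso {U V : X.affineOpens} (h : U ≤ V) : IsIso (awc X h) :=
  isIso_of_isAWNormalization _ _ (awp_isAWNormalization X U) (pullback_isAWNormalization X h)
    _ (awc_snd X h)

/-- The transition morphisms between the chosen normalizations. -/
noncomputable def awtr {U V : X.affineOpens} (h : U ≤ V) : awP X U ⟶ awP X V :=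
  awc X h ≫ pullback.fst (awp X V) (X.homOfLE h)

theorem awtr_awp {U V : X.affineOpens} (h : U ≤ V) :
    awtr X h ≫ awp X V = awp X U ≫ X.homOfLE h := by
  rw [awtr, Category.assoc, pullback.condition, ← Category.assoc, awc_snd]

theorem awtr_unique {U V : X.affineOpens} (h : U ≤ V) (m : awP X U ⟶ awP X V)
    (hm : m ≫ awp X V = awp X U ≫ X.homOfLE h) : m = awtr X h := by
  have h1 : pullback.lift m (awp X U) hm = awc X h :=
    awc_unique X h _ (pullback.lift_snd _ _ _)
  rw [awtr, ← h1, pullback.lift_fst]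

theorem isPullback_awtr {U V : X.affineOpens} (h : U ≤ V) :
    IsPullback (awtr X h) (awp X U) (awp X V) (X.homOfLE h) := by
  have := IsPullback.of_iso_pullback ⟨awtr_awp X h⟩ (asIso (awc X h)) rfl (awc_snd X h)
  exact this

theorem awtr_refl (U : X.affineOpens) : awtr X (le_refl U) = 𝟙 (awP X U) := by
  symm
  apply awtr_unique
  rw [Category.id_comp]
  have : X.homOfLE (le_refl U : U.1 ≤ U.1) = 𝟙 _ := Scheme.homOfLE_rfl X U.1
  rw [this, Category.comp_id]

theorem awtr_trans {U V W : X.affineOpens} (h₁ : U ≤ V) (h₂ : V ≤ W) :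
    awtr X (h₁.trans h₂) = awtr X h₁ ≫ awtr X h₂ := by
  symm
  apply awtr_unique
  rw [Category.assoc, awtr_awp, ← Category.assoc, awtr_awp, Category.assoc,
    Scheme.homOfLE_homOfLE]

/-- The functor of chosen normalizations of the affine opens. -/
noncomputable def awFunctor : X.affineOpens ⥤ Scheme.{u} where
  obj U := awP X U
  map f := awtr X (leOfHom f)
  map_id U := awtr_refl X U
  map_comp f g := awtr_trans X (leOfHom f) (leOfHom g)

/-- The relative gluing datum of the chosen normalizations. -/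
noncomputable def awGluing :
    Scheme.Cover.RelativeGluingData X.directedAffineCover where
  functor := (awFunctor X : X.affineOpens ⥤ Scheme.{u})
  natTrans :=
    { app := fun U => awp X U
      naturality := fun _ _ f => awtr_awp X (leOfHom f) }
  equifibered := fun _ _ f => isPullback_awtr X (leOfHom f)

/-- Every scheme has an absolute weak normalization, with absolutely weakly normal source. -/
theorem exists_isAWNormalization :
    ∃ (X' : Scheme.{u}) (ν : X' ⟶ X), HTop.IsAWNormalization ν ∧ HTop.IsAWN X' := by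
  have hG : HTop.IsAWN (awGluing X).glued :=
    isAWN_of_openCover (awGluing X).cover (fun U => awP_isAWN X U)
  refine ⟨(awGluing X).glued, (awGluing X).toBase, ?_, hG⟩
  refine isAWNormalization_of_isAWN _ ?_ hG
  refine isUnivHomeo_of_openCover _ X.directedAffineCover (fun U => ?_)
  have sq := ((awGluing X).isPullback_natTrans_ι_toBase U).flip
  have e : sq.isoPullback.hom ≫ pullback.snd (awGluing X).toBase (X.directedAffineCover.f U) =
      awp X U := sq.isoPullback_hom_snd
  have h1 : FlatMor.IsUnivHomeo (sq.isoPullback.hom ≫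
      pullback.snd (awGluing X).toBase (X.directedAffineCover.f U)) := by
    rw [e]; exact awp_uh X U
  have hiso : IsIso sq.isoPullback.hom := inferInstance
  exact (MorphismProperty.cancel_left_of_respectsIso FlatMor.IsUnivHomeo sq.isoPullback.hom _).mp h1

end Glue

end Groth.Agent.Lib.Helper6.AWNSch
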