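import Groth.Agent.Lib.Helper6.AWNScheme
import Groth.Agent.S7421

set_option autoImplicit false
universe u

open CategoryTheory AlgebraicGeometry Limits

namespace Groth.Agent.Lib.Helper6.AWNSch

open Groth.Agent.Lib.Helper6.AWN Groth.Agent.Lib.Helper6.SqCube Groth.Agent.Lib.Helper12

/-- The source of an absolute weak normalization is absolutely weakly normal. -/
theorem isAWN_source_of_isAWNormalization {X' X : Scheme.{u}} (ν : X' ⟶ X)
    (hν : HTop.IsAWNormalization ν) : HTop.IsAWN X' := by
  obtain ⟨G, ν₀, h₀, hG⟩ := exists_isAWNormalization X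
  obtain ⟨c, hc, -⟩ := hν.2 G ν₀ h₀.1
  have : IsIso c := isIso_of_isAWNormalization ν ν₀ hν h₀ c hc
  exact isAWN_of_isOpenImmersion c hG

/-- Absolutely weakly normal schemes are reduced. -/
theorem isReduced_of_isAWN {X : Scheme.{u}} (hX : HTop.IsAWN X) : IsReduced X := by
  apply (Groth.Agent.S7421.result.{u}).2 X
  intro x
  obtain ⟨U, hxU, hU⟩ := hX x
  exact ⟨U, hxU, hU.1⟩

/-- A universal homeomorphism from a reduced scheme onto an absolutely weakly normal scheme is an
isomorphism. -/
theorem isIso_of_isAWN_of_isReduced {X Y : Scheme.{u}} (hX : HTop.IsAWN X) (π : Y ⟶ X)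
    (hπ : FlatMor.IsUnivHomeo π) [IsReduced Y] : IsIso π := by
  obtain ⟨s, hs, -⟩ := existsUnique_section hX π hπ
  change s ≫ π = 𝟙 X at hs
  have hsUH : FlatMor.IsUnivHomeo s :=
    IsUnivHomeo.of_comp_left (by rw [hs]; exact isUnivHomeo_of_isIso _) hπ
  have : Surjective s := IsUnivHomeo.surjective hsUH
  have : UniversallyInjective π := IsUnivHomeo.universallyInjective hπ
  have : IsSeparated π := ⟨isClosedImmersion_diagonal_of_universallyInjective π⟩
  have e : π ≫ s = 𝟙 Y := ext_of_isDominant_of_isSeparated π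
    (by rw [Category.assoc, hs, Category.comp_id, Category.id_comp]) s
    (by rw [← Category.assoc, hs, Category.id_comp, Category.comp_id])
  exact ⟨s, e, hs⟩

/-- A scheme isomorphic to an absolutely weakly normal scheme is absolutely weakly normal. -/
theorem isAWN_of_isIso {X Y : Scheme.{u}} (f : X ⟶ Y) [IsIso f] (hY : HTop.IsAWN Y) :
    HTop.IsAWN X := isAWN_of_isOpenImmersion f hY

end Groth.Agent.Lib.Helper6.AWNSch
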