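import Mathlib

/-!
# Covering a Noetherian scheme by `e` affine opens, given a bound on chains of irreducible closeds

If every finite set of points of `X` lies in an affine open and chains of irreducible closed
subsets inside a closed `Z` have length `< e`, then `Z` is covered by `e` affine opens.
-/
set_option autoImplicit false
universe u
open CategoryTheory AlgebraicGeometry TopologicalSpace

namespace Groth.Agent.Lib.Helper6.AffCov

theorem exists_affine_cover_of_chain_bound {X : Scheme.{u}} [NoetherianSpace X]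
    (hav : ∀ E : Set X, E.Finite → ∃ U : X.Opens, IsAffineOpen U ∧ E ⊆ U) :
    ∀ (e : ℕ) (Z : Set X), IsClosed Z →
      (∀ p : LTSeries (IrreducibleCloseds X), (p.last : Set X) ⊆ Z → p.length < e) →
      ∃ U : Fin e → X.Opens, (∀ i, IsAffineOpen (U i)) ∧ Z ⊆ ⋃ i, (U i : Set X) := by
  intro e
  induction e with
  | zero =>
    intro Z hZ hch
    refine ⟨Fin.elim0, fun i => i.elim0, ?_⟩
    intro z hz
    exfalso
    let T : IrreducibleCloseds X :=
      ⟨closure {z}, isIrreducible_singleton.closure, isClosed_closure⟩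
    have := hch (RelSeries.singleton _ T) (by
      show closure {z} ⊆ Z
      exact hZ.closure_subset_iff.mpr (Set.singleton_subset_iff.mpr hz))
    exact Nat.not_lt_zero _ this
  | succ e ih =>
    intro Z hZ hch
    obtain ⟨S, hSf, hSc, hSi, hSU⟩ := NoetherianSpace.exists_finite_set_isClosed_irreducible hZ
    have hgen : ∀ t ∈ S, ∃ ξ : X, IsGenericPoint ξ t :=
      fun t ht => QuasiSober.sober (hSi t ht) (hSc t ht)
    choose ξ hξ using hgen
    haveI : Finite S := hSf.to_subtype
    obtain ⟨U₀, hU₀, hEU⟩ := hav (Set.range (fun t : S => ξ t.1 t.2)) (Set.finite_range _)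
    have hZ' : IsClosed (Z \ (U₀ : Set X)) := hZ.sdiff U₀.isOpen
    obtain ⟨U', hU', hcov⟩ := ih (Z \ (U₀ : Set X)) hZ' (by
      intro p hp
      have hpZ : (p.last : Set X) ⊆ ⋃₀ S := hSU ▸ (hp.trans Set.sdiff_subset)
      obtain ⟨t, ht, hpt⟩ : ∃ t ∈ S, (p.last : Set X) ⊆ t := by
        have := (isIrreducible_iff_sUnion_isClosed.mp p.last.isIrreducible) hSf.toFinset
          (by intro z hz; exact hSc z (hSf.mem_toFinset.mp hz))
          (by rw [hSf.coe_toFinset]; exact hpZ)
        obtain ⟨t, ht, hpt⟩ := this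
        exact ⟨t, hSf.mem_toFinset.mp ht, hpt⟩
      let T' : IrreducibleCloseds X := ⟨t, hSi t ht, hSc t ht⟩
      have hlt : p.last < T' := by
        refine lt_of_le_of_ne hpt (fun h => ?_)
        have h1 : ξ t ht ∈ (p.last : Set X) := by
          have : (p.last : Set X) = t :=
            congrArg (fun Z : IrreducibleCloseds X => (Z : Set X)) h
          rw [this]
          exact (hξ t ht).mem
        exact (hp h1).2 (hEU ⟨⟨t, ht⟩, rfl⟩)
      have := hch (p.snoc T' hlt) (by
        rw [RelSeries.last_snoc]
        show t ⊆ Z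
        rw [hSU]
        exact Set.subset_sUnion_of_mem ht)
      rw [RelSeries.snoc_length] at this
      omega)
    refine ⟨Fin.cons U₀ U', ?_, ?_⟩
    · intro i
      refine Fin.cases ?_ ?_ i
      · simpa using hU₀
      · intro j
        simpa using hU' j
    · intro z hz
      by_cases hzU : z ∈ U₀
      · exact Set.mem_iUnion.mpr ⟨0, by simpa using hzU⟩
      · obtain ⟨j, hj⟩ := Set.mem_iUnion.mp (hcov ⟨hz, hzU⟩)
        exact Set.mem_iUnion.mpr ⟨j.succ, by simpa using hj⟩

end Groth.Agent.Lib.Helper6.AffCov
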