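import Mathlib
import Groth.Agent.S1573
import Groth.Agent.S12049
import Groth.Agent.Lib.Helper18.JacDim1

/-!
# Opens with affine inclusion containing a dense open of a Noetherian separated scheme
-/
set_option autoImplicit false
universe u
open CategoryTheory CategoryTheory.Limits AlgebraicGeometry TopologicalSpace

namespace Groth.Agent.Lib.Helper6.AffIncl

variable {S : Scheme.{u}}

theorem isAffineHom_ι_of_inf (U : S.Opens)
    (hΔ : ∀ V : S.Opens, IsAffineOpen V → IsAffineOpen (U ⊓ V)) : IsAffineHom U.ι := by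
  refine ⟨fun V hV => ?_⟩
  rw [← Scheme.Hom.isAffineOpen_iff_of_isOpenImmersion U.ι,
    Scheme.Hom.image_preimage_eq_opensRange_inf, Scheme.Opens.opensRange_ι]
  exact hΔ V hV

theorem isAffineOpen_inf_of_isAffineHom (V : S.Opens) [IsAffineHom V.ι] (W : S.Opens)
    (hW : IsAffineOpen W) : IsAffineOpen (V ⊓ W) := by
  have h := IsAffineHom.isAffine_preimage (f := V.ι) W hW
  rw [← Scheme.Hom.isAffineOpen_iff_of_isOpenImmersion V.ι,
    Scheme.Hom.image_preimage_eq_opensRange_inf, Scheme.Opens.opensRange_ι] at h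
  exact h

/-- The complement of an open `V ⊇ U` (`U` dense) with affine inclusion is a union of members of
any finite family of irreducible closed sets with union `S \ U`. -/
theorem compl_eq_sUnion [IsNoetherian S] (U V : S.Opens) (hU : Dense (U : Set S)) (hUV : U ≤ V)
    [IsAffineHom V.ι] (C : Set (Set S)) (hCf : C.Finite) (hCc : ∀ t ∈ C, IsClosed t)
    (hCi : ∀ t ∈ C, IsIrreducible t) (hC : (U : Set S)ᶜ = ⋃₀ C) :
    (V : Set S)ᶜ = ⋃₀ {t ∈ C | t ⊆ (V : Set S)ᶜ} := by
  apply Set.Subset.antisymm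
  · intro x hx
    obtain ⟨S', hSfin, hSclosed, hSirr, hS⟩ :=
      NoetherianSpace.exists_finite_set_isClosed_irreducible (V.isOpen.isClosed_compl)
    rw [hS] at hx
    obtain ⟨t, ht, hxt⟩ := hx
    obtain ⟨m, htm, hm⟩ := hSfin.exists_le_maximal ht
    have hmS : m ∈ S' := hm.1
    obtain ⟨ξ, hξ⟩ := QuasiSober.sober (hSirr m hmS) (hSclosed m hmS)
    have hcl : closure {ξ} = m := hξ
    have hmV : m ⊆ (V : Set S)ᶜ := by rw [hS]; exact Set.subset_sUnion_of_mem hmS
    have hξm : ξ ∈ m := by rw [← hcl]; exact subset_closure rfl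
    have hξV : ξ ∉ V := hmV hξm
    have hmax : ∀ y : S, y ∉ V → y ⤳ ξ → y = ξ := by
      intro y hy hspec
      have hirr : IsIrreducible (closure ({y} : Set S)) := isIrreducible_singleton.closure
      have hsub : closure ({y} : Set S) ⊆ ⋃₀ S' := by
        rw [← hS]
        exact (V.isOpen.isClosed_compl.closure_subset_iff).mpr (Set.singleton_subset_iff.mpr hy)
      obtain ⟨s, hsS, hys⟩ := (isIrreducible_iff_sUnion_isClosed.mp hirr)
        hSfin.toFinset (fun t ht => hSclosed t (hSfin.mem_toFinset.mp ht))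
        (by rw [hSfin.coe_toFinset]; exact hsub)
      have hsS' : s ∈ S' := hSfin.mem_toFinset.mp hsS
      have hms : m ≤ s := by
        have h0 : closure ({ξ} : Set S) ⊆ s := by
          refine ((isClosed_closure.closure_subset_iff).mpr ?_).trans hys
          rw [Set.singleton_subset_iff]
          exact hspec.mem_closure
        rwa [hcl] at h0
      have hsm : s ≤ m := hm.2 hsS' hms
      have hy' : y ∈ closure ({ξ} : Set S) := by
        rw [hcl]
        exact hsm (hys (subset_closure rfl))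
      have h2 : ξ ⤳ y := specializes_iff_mem_closure.mpr hy'
      exact (hspec.antisymm h2).eq
    have hdim := (Groth.Agent.S1573.result S V ξ hξV hmax).1
    -- `m ⊆ Uᶜ = ⋃₀ C`
    have hmU : m ⊆ ⋃₀ C := by
      rw [← hC]
      intro z hz hzU
      exact hmV hz (hUV hzU)
    obtain ⟨c, hcC, hmc⟩ : ∃ c ∈ C, m ⊆ c := by
      obtain ⟨c, hc, hmc⟩ := (isIrreducible_iff_sUnion_isClosed.mp (hSirr m hmS))
        hCf.toFinset (fun t ht => hCc t (hCf.mem_toFinset.mp ht))
        (by rw [hCf.coe_toFinset]; exact hmU)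
      exact ⟨c, hCf.mem_toFinset.mp hc, hmc⟩
    obtain ⟨ξ', hξ'⟩ := QuasiSober.sober (hCi c hcC) (hCc c hcC)
    have hcl' : closure {ξ'} = c := hξ'
    have h1 : ξ' ⤳ ξ := by
      rw [specializes_iff_mem_closure, hcl']
      exact hmc hξm
    have hξ'c : ξ' ∈ c := by rw [← hcl']; exact subset_closure rfl
    have hξ'U : ξ' ∉ U := by
      have : ξ' ∈ (U : Set S)ᶜ := by rw [hC]; exact ⟨c, hcC, hξ'c⟩
      exact this
    have heq : ξ' = ξ := by
      by_contra hne
      -- an irreducible component through `ξ'`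
      obtain ⟨Z, hZ, hZsub⟩ := Groth.Agent.Lib.Helper18.JacDim.exists_irreducibleComponent_superset
        (closure ({ξ'} : Set S)) isIrreducible_singleton.closure
      have hZcl : IsClosed Z := isClosed_of_mem_irreducibleComponents Z hZ
      obtain ⟨η, hη⟩ := QuasiSober.sober hZ.1 hZcl
      have hηU : η ∈ (U : Set S) :=
        Groth.Agent.Lib.Helper18.JacDim.genericPoint_mem_of_dense Z hZ η hη (U : Set S) U.isOpen hU
      have hηξ' : η ⤳ ξ' := by
        rw [specializes_iff_mem_closure, hη.def]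
        exact hZsub (subset_closure rfl)
      have hne' : η ≠ ξ' := fun h => hξ'U (h ▸ hηU)
      have h2 := Groth.Agent.S12049.two_le_dim S η ξ' ξ hηξ' h1 hne' hne
      have h3 : (2 : WithBot ℕ∞) ≤ 1 := h2.trans hdim
      exact absurd h3 (by decide)
    have hmc' : m = c := by rw [← hcl, ← hcl', heq]
    exact ⟨c, ⟨hcC, hmc' ▸ hmV⟩, hmc (htm hxt)⟩
  · rintro x ⟨t, ⟨-, ht⟩, hxt⟩
    exact ht hxt


theorem main (S : Scheme.{u}) [IsNoetherian S] [S.IsSeparated] (U : S.Opens)
    (hne : (U : Set S).Nonempty) (hU : Dense (U : Set S)) :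
    Set.Finite {V : S.Opens | U ≤ V ∧ IsAffineHom V.ι} ∧
      ∃ V₀ : S.Opens, (U ≤ V₀ ∧ IsAffineHom V₀.ι) ∧
        ∀ V : S.Opens, U ≤ V → IsAffineHom V.ι → V₀ ≤ V := by
  classical
  obtain ⟨C, hCf, hCc, hCi, hC⟩ :=
    NoetherianSpace.exists_finite_set_isClosed_irreducible (U.isOpen.isClosed_compl)
  have hfin : Set.Finite {V : S.Opens | U ≤ V ∧ IsAffineHom V.ι} := by
    refine Set.Finite.of_injOn (f := fun V : S.Opens => {t ∈ C | t ⊆ (V : Set S)ᶜ})
      (t := {D | D ⊆ C}) ?_ ?_ hCf.finite_subsets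
    · intro V _ t ht
      exact ht.1
    · intro V₁ h₁ V₂ h₂ heq
      haveI := h₁.2
      haveI := h₂.2
      have e1 := compl_eq_sUnion U V₁ hU h₁.1 C hCf hCc hCi hC
      have e2 := compl_eq_sUnion U V₂ hU h₂.1 C hCf hCc hCi hC
      have heq' : {t ∈ C | t ⊆ (V₁ : Set S)ᶜ} = {t ∈ C | t ⊆ (V₂ : Set S)ᶜ} := heq
      have : (V₁ : Set S)ᶜ = (V₂ : Set S)ᶜ := by rw [e1, e2, heq']
      exact Opens.ext (compl_injective this)
  refine ⟨hfin, ?_⟩
  have key : ∀ F : Finset S.Opens, (∀ V ∈ F, IsAffineHom V.ι) → IsAffineHom (F.inf id).ι := by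
    intro F
    induction F using Finset.induction_on with
    | empty =>
      intro _
      rw [Finset.inf_empty]
      exact isAffineHom_ι_of_inf ⊤ (fun W hW => by rwa [top_inf_eq])
    | insert a F ha ih =>
      intro h
      rw [Finset.inf_insert, id]
      haveI := h a (Finset.mem_insert_self a F)
      haveI := ih (fun V hV => h V (Finset.mem_insert_of_mem hV))
      refine isAffineHom_ι_of_inf _ (fun W hW => ?_)
      have h1 := isAffineOpen_inf_of_isAffineHom a W hW
      have h2 := isAffineOpen_inf_of_isAffineHom (F.inf id) W hW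
      have h3 := h1.inf h2
      have : a ⊓ F.inf id ⊓ W = (a ⊓ W) ⊓ (F.inf id ⊓ W) := by
        rw [inf_inf_distrib_right]
      rw [this]
      exact h3
  refine ⟨hfin.toFinset.inf id, ⟨?_, key _ (fun V hV => (hfin.mem_toFinset.mp hV).2)⟩, ?_⟩
  · exact Finset.le_inf (fun V hV => (hfin.mem_toFinset.mp hV).1)
  · intro V hUV hV
    exact Finset.inf_le (f := id) (hfin.mem_toFinset.mpr ⟨hUV, hV⟩)

end Groth.Agent.Lib.Helper6.AffIncl
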