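import Mathlib

set_option autoImplicit false
universe u

namespace Groth.Agent.Lib.Helper6

open IsLocalRing

/-- If `B` is a subalgebra of `A` containing generators `Y` of an ideal `m` and surjecting onto
`A ⧸ m`, then `A = B + m^n` for all `n`. -/
theorem subalgebra_sup_pow_eq_top {R A : Type*} [CommRing R] [CommRing A] [Algebra R A]
    (B : Subalgebra R A) (m : Ideal A) (Y : Set A) (hY : Ideal.span Y = m) (hYB : Y ⊆ B)
    (hB : ∀ a : A, ∃ b ∈ B, a - b ∈ m) (n : ℕ) :
    ∀ a : A, ∃ b ∈ B, a - b ∈ m ^ n := by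
  -- key claim: m^n ⊆ B + m^(n+1)
  have key : ∀ n : ℕ, ∀ c ∈ m ^ n, ∃ b ∈ B, c - b ∈ m ^ (n + 1) := by
    intro n
    induction n with
    | zero =>
      intro c _
      obtain ⟨b, hb, hcb⟩ := hB c
      exact ⟨b, hb, by simpa using hcb⟩
    | succ n ih =>
      intro c hc
      rw [pow_succ'] at hc
      refine Submodule.mul_induction_on hc ?_ ?_
      · intro a ha c hc
        -- a ∈ m = span Y
        rw [← hY] at ha
        revert c
        refine Submodule.span_induction
          (p := fun a _ => ∀ c ∈ m ^ n, ∃ b ∈ B, a * c - b ∈ m ^ (n + 1 + 1))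
          ?_ ?_ ?_ ?_ ha
        · intro y hy c hc
          obtain ⟨b, hb, hcb⟩ := ih c hc
          refine ⟨y * b, B.mul_mem (hYB hy) hb, ?_⟩
          have : y * c - y * b = y * (c - b) := by ring
          rw [this, pow_succ']
          exact Ideal.mul_mem_mul (hY ▸ Ideal.subset_span hy) hcb
        · intro c _
          exact ⟨0, B.zero_mem, by simp⟩
        · rintro x y _ _ h1 h2 c hc
          obtain ⟨b1, hb1, h1⟩ := h1 c hc
          obtain ⟨b2, hb2, h2⟩ := h2 c hc
          refine ⟨b1 + b2, B.add_mem hb1 hb2, ?_⟩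
          have : (x + y) * c - (b1 + b2) = (x * c - b1) + (y * c - b2) := by ring
          rw [this]
          exact Ideal.add_mem _ h1 h2
        · rintro r x _ h1 c hc
          obtain ⟨b1, hb1, h1⟩ := h1 (r * c) (Ideal.mul_mem_left _ _ hc)
          refine ⟨b1, hb1, ?_⟩
          have : r • x * c - b1 = x * (r * c) - b1 := by
            simp only [smul_eq_mul]; ring
          rw [this]
          exact h1
      · rintro x y ⟨b1, hb1, h1⟩ ⟨b2, hb2, h2⟩
        refine ⟨b1 + b2, B.add_mem hb1 hb2, ?_⟩
        have : (x + y) - (b1 + b2) = (x - b1) + (y - b2) := by ring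
        rw [this]
        exact Ideal.add_mem _ h1 h2
  induction n with
  | zero =>
    intro a
    exact ⟨0, B.zero_mem, by simp⟩
  | succ n ih =>
    intro a
    obtain ⟨b, hb, hab⟩ := ih a
    obtain ⟨b', hb', h'⟩ := key n (a - b) hab
    refine ⟨b + b', B.add_mem hb hb', ?_⟩
    have : a - (b + b') = a - b - b' := by ring
    rw [this]
    exact h'

/-- `R → A` with `A` Artinian local is of finite type as soon as `R → A → κ(A)` is. -/
theorem finiteType_of_residue_comp {R A : Type*} [CommRing R] [CommRing A] [IsLocalRing A]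
    [IsArtinianRing A] (ψ : R →+* A) (h : ((IsLocalRing.residue A).comp ψ).FiniteType) :
    ψ.FiniteType := by
  classical
  algebraize [ψ]
  have h' : Algebra.FiniteType R (ResidueField A) := by
    have : (algebraMap R (ResidueField A)) = (IsLocalRing.residue A).comp ψ := rfl
    rw [← this] at h
    exact RingHom.finiteType_algebraMap.mp h
  obtain ⟨s, hs⟩ := h'.out
  let φ : A →ₐ[R] ResidueField A := IsScalarTower.toAlgHom R A (ResidueField A)
  have hφ : Function.Surjective φ := IsLocalRing.residue_surjective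
  have hφker : ∀ a : A, φ a = 0 ↔ a ∈ maximalIdeal A := fun a =>
    IsLocalRing.residue_eq_zero_iff a
  obtain ⟨Y, hY⟩ := (inferInstance : IsNoetherianRing A).noetherian (maximalIdeal A)
  let t : Finset A := s.image (Function.surjInv hφ)
  let B : Subalgebra R A := Algebra.adjoin R ((t ∪ Y : Finset A) : Set A)
  have hBmap : B.map φ = ⊤ := by
    rw [eq_top_iff, ← hs]
    apply Algebra.adjoin_le
    intro x hx
    refine ⟨Function.surjInv hφ x, Algebra.subset_adjoin ?_, Function.surjInv_eq hφ x⟩
    simp only [Finset.coe_union, Set.mem_union, Finset.mem_coe]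
    left
    exact Finset.mem_image_of_mem _ hx
  have hB : ∀ a : A, ∃ b ∈ B, a - b ∈ maximalIdeal A := by
    intro a
    have : φ a ∈ B.map φ := by rw [hBmap]; trivial
    obtain ⟨b, hb, hba⟩ := this
    refine ⟨b, hb, ?_⟩
    have hba' : φ b = φ a := hba
    rw [← hφker, map_sub, hba', sub_self]
  have hYB : (Y : Set A) ⊆ B := by
    intro y hy
    apply Algebra.subset_adjoin
    simp only [Finset.coe_union, Set.mem_union, Finset.mem_coe]
    right; exact hy
  obtain ⟨n, hn⟩ : ∃ n : ℕ, maximalIdeal A ^ n = ⊥ := by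
    have h1 := IsArtinianRing.isNilpotent_jacobson_bot (R := A)
    rw [IsLocalRing.jacobson_eq_maximalIdeal ⊥ bot_ne_top] at h1
    exact h1
  have hBtop : B = ⊤ := by
    rw [eq_top_iff]
    intro a _
    obtain ⟨b, hb, hab⟩ := subalgebra_sup_pow_eq_top B (maximalIdeal A) Y hY hYB hB n a
    rw [hn, Ideal.mem_bot, sub_eq_zero] at hab
    rw [hab]; exact hb
  apply RingHom.finiteType_algebraMap.mpr
  exact ⟨⟨t ∪ Y, hBtop⟩⟩

end Groth.Agent.Lib.Helper6
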