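import Mathlib
import Groth.Prelude.Def_MoreMor
import Groth.Prelude.Def_CurvBase
import Groth.Agent.S9501
import Groth.Agent.Lib.Helper10.PullbackStalk

/-!
# Associated points of a fibre and the relative assassin (helper6)
-/

set_option autoImplicit false
set_option linter.style.haveILetI false
set_option linter.unusedSectionVars false
universe u

open CategoryTheory CategoryTheory.Limits AlgebraicGeometry TopologicalSpace Opposite TensorProduct

namespace Groth.Agent.Lib.Helper6.RelAss

section L

variable {O Ob : Type u} [CommRing O] [CommRing Ob] (φ : O →+* Ob) (hφ : Function.Surjective φ)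

include hφ in
/-- associated primes of a module over a quotient ring, computed over the ring -/
theorem isAssociatedPrime_comap_iff_of_surjective {T : Type*} [AddCommGroup T] [Module Ob T]
    [Module O T] (hcompat : ∀ (a : O) (t : T), a • t = φ a • t) (P : Ideal Ob) [hP : P.IsPrime] :
    IsAssociatedPrime (P.comap φ) T ↔ IsAssociatedPrime P T := by
  have hcolon : ∀ t : T, (⊥ : Submodule O T).colon {t} =
      ((⊥ : Submodule Ob T).colon {t}).comap φ := by
    intro t
    ext a
    rw [Ideal.mem_comap, Submodule.mem_colon_singleton, Submodule.mem_colon_singleton,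
      Submodule.mem_bot, Submodule.mem_bot, hcompat]
  constructor
  · rintro ⟨-, t, ht⟩
    refine ⟨hP, t, ?_⟩
    rw [hcolon, ← Ideal.comap_radical] at ht
    exact Ideal.comap_injective_of_surjective φ hφ ht
  · rintro ⟨-, t, ht⟩
    refine ⟨Ideal.comap_isPrime _ _, t, ?_⟩
    rw [hcolon, ← Ideal.comap_radical, ← ht]

include hφ in
/-- for a surjective local homomorphism `O → Ō` with kernel `K`: the maximal ideal of `Ō` is
associated to `Ō ⊗ E` iff the maximal ideal of `O` is associated to `E / K E` -/
theorem isAssociatedPrime_tensor_iff_quotient [IsLocalRing O] [IsLocalRing Ob] [IsLocalHom φ]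
    (K : Ideal O) (hK : RingHom.ker φ = K) (E : Type u) [AddCommGroup E] [Module O E] :
    letI := φ.toAlgebra
    IsAssociatedPrime (IsLocalRing.maximalIdeal Ob) (Ob ⊗[O] E) ↔
      IsAssociatedPrime (IsLocalRing.maximalIdeal O) (E ⧸ (K • (⊤ : Submodule O E))) := by
  letI := φ.toAlgebra
  subst hK
  have hm : (IsLocalRing.maximalIdeal Ob).comap φ = IsLocalRing.maximalIdeal O :=
    IsLocalRing.maximalIdeal_comap φ
  rw [← isAssociatedPrime_comap_iff_of_surjective φ hφ (T := Ob ⊗[O] E)
    (fun a t => (algebraMap_smul Ob a t).symm) (IsLocalRing.maximalIdeal Ob), hm]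
  let e1 : (O ⧸ RingHom.ker φ) ≃ₗ[O] Ob :=
    { (RingHom.quotientKerEquivOfSurjective hφ) with
      map_smul' := fun a b => by
        obtain ⟨b, rfl⟩ := Ideal.Quotient.mk_surjective b
        change φ (a * b) = φ a * φ b
        exact map_mul φ a b }
  exact LinearEquiv.isAssociatedPrime_iff ((TensorProduct.congr e1.symm (LinearEquiv.refl O E)) ≪≫ₗ
    TensorProduct.quotTensorEquivQuotSMul E (RingHom.ker φ))

end L

open Groth.Agent.Lib.Helper10.PullbackStalk in
/-- the associated points of the restriction of `F` to a fibre are the points of the relative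
assassin -/
theorem isAssPoint_fiber_iff {X S : Scheme.{u}} (f : X ⟶ S) (F : X.Modules) [F.IsQuasicoherent]
    (s : S) (y : ↥(f.fiber s)) :
    Curv2.IsAssPoint ((Scheme.Modules.pullback (f.fiberι s)).obj F) y ↔
      (f.fiberι s) y ∈ MoreMor.relAss f F := by
  obtain ⟨hsurj, hker⟩ := Groth.Agent.S9501.result f s y
  letI := ((f.fiberι s).stalkMap y).hom.toAlgebra
  obtain ⟨ε⟩ := nonempty_stalk_pullback_equiv (f.fiberι s) F y
  unfold Curv2.IsAssPoint MoreMor.relAss
  rw [Set.mem_ofPred_eq, LinearEquiv.isAssociatedPrime_iff ε]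
  exact isAssociatedPrime_tensor_iff_quotient ((f.fiberι s).stalkMap y).hom hsurj _ hker
    (F.presheaf.stalk _)

end Groth.Agent.Lib.Helper6.RelAss
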