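import Mathlib
import Groth.Prelude.Def_MoreMor
import Groth.Prelude.Def_FDesc
import Groth.Prelude.Def_CohB1
import Groth.Prelude.Def_FlatMod2
import Groth.Agent.Lib.Helper6.AssTens1
import Groth.Agent.Lib.Helper29.QCohAss2
import Groth.Agent.Lib.Helper29.QCohIdealMod

/-!
# Relative associated points over associated points of the base are associated points (helper6)
-/

set_option autoImplicit false
set_option linter.style.haveILetI false
set_option linter.unusedSectionVars false
universe u

open CategoryTheory CategoryTheory.Limits AlgebraicGeometry TopologicalSpace Opposite TensorProduct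
open Groth.Agent.Lib.Helper29.QCoh Groth.Agent.Lib.Helper3.AssTensor

namespace Groth.Agent.Lib.Helper6.AssTens

variable {X Y S : Scheme.{u}}

/-- an associated point of the structure sheaf has its maximal ideal associated to the local
ring -/
theorem maximalIdeal_mem_associatedPrimes_stalk [IsLocallyNoetherian S] (s : S)
    (hs : s ∈ AssSch.Ass (Coh.structureModule S)) :
    IsLocalRing.maximalIdeal (S.presheaf.stalk s) ∈
      associatedPrimes (S.presheaf.stalk s) (S.presheaf.stalk s) := by
  obtain ⟨_, ⟨S₀, hS₀ : IsAffineOpen S₀, rfl⟩, hsS₀, -⟩ :=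
    S.isBasis_affineOpens.exists_subset_of_mem_open (Set.mem_univ s) isOpen_univ
  haveI : IsNoetherianRing Γ(S, S₀) := IsLocallyNoetherian.component_noetherian ⟨S₀, hS₀⟩
  haveI : (Coh.structureModule S).IsQuasicoherent :=
    inferInstanceAs (unitM S).IsQuasicoherent
  have h1 : (hS₀.primeIdealOf ⟨s, hsS₀⟩).asIdeal ∈ associatedPrimes Γ(S, S₀) Γ(S, S₀) :=
    primeIdealOf_mem_associatedPrimes (Coh.structureModule S) hS₀ s hsS₀
      ((isAssPoint_iff_isWeakAssPoint _ s).1 hs)
  letI : Algebra Γ(S, S₀) (S.presheaf.stalk s) :=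
    TopCat.Presheaf.algebra_section_stalk S.presheaf ⟨s, hsS₀⟩
  haveI hloc := hS₀.isLocalization_stalk ⟨s, hsS₀⟩
  haveI : IsLocalizedModule (hS₀.primeIdealOf ⟨s, hsS₀⟩).asIdeal.primeCompl
      (Algebra.linearMap Γ(S, S₀) (S.presheaf.stalk s)) :=
    (isLocalizedModule_iff_isLocalization' _ _).mpr hloc
  apply Module.associatedPrimes.mem_associatedPrimes_of_comap_mem_associatedPrimes_of_isLocalizedModule
    (hS₀.primeIdealOf ⟨s, hsS₀⟩).asIdeal.primeCompl
    (Algebra.linearMap Γ(S, S₀) (S.presheaf.stalk s))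
  have h2 : (IsLocalRing.maximalIdeal (S.presheaf.stalk s)).comap
      (algebraMap Γ(S, S₀) (S.presheaf.stalk s)) = (hS₀.primeIdealOf ⟨s, hsS₀⟩).asIdeal :=
    IsLocalization.AtPrime.under_maximalIdeal (S.presheaf.stalk s)
      (hS₀.primeIdealOf ⟨s, hsS₀⟩).asIdeal
  rw [h2]
  exact h1

/-- a relative associated point of a module flat over the base, lying over an associated point
of the base, is an associated point -/
theorem mem_ass_of_mem_relAss [IsLocallyNoetherian S] (g : Y ⟶ S) (G : Y.Modules) (y : Y)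
    (hfl : FlatMod.IsFlatOverAt g G y) (hrel : y ∈ MoreMor.relAss g G)
    (hs : g y ∈ AssSch.Ass (Coh.structureModule S)) : y ∈ AssSch.Ass G := by
  letI algsy : Algebra (S.presheaf.stalk (g y)) (Y.presheaf.stalk y) :=
    (g.stalkMap y).hom.toAlgebra
  letI modsG : Module (S.presheaf.stalk (g y)) (G.presheaf.stalk y) :=
    FlatMod.moduleStalkOver g G y
  haveI tw : IsScalarTower (S.presheaf.stalk (g y)) (Y.presheaf.stalk y) (G.presheaf.stalk y) :=
    IsScalarTower.of_algebraMap_smul (fun r m => rfl)
  haveI hflat : Module.Flat (S.presheaf.stalk (g y)) (G.presheaf.stalk y) := hfl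
  have key := associatedPrimes_tensor (R := S.presheaf.stalk (g y)) (Y.presheaf.stalk y)
    (G.presheaf.stalk y) (M := S.presheaf.stalk (g y))
  have h1 : IsLocalRing.maximalIdeal (Y.presheaf.stalk y) ∈ associatedPrimes (Y.presheaf.stalk y)
      ((G.presheaf.stalk y) ⊗[S.presheaf.stalk (g y)] (S.presheaf.stalk (g y))) := by
    rw [key]
    exact Set.mem_iUnion₂.mpr ⟨_, maximalIdeal_mem_associatedPrimes_stalk (g y) hs, hrel⟩
  have e := AlgebraTensorModule.rid (S.presheaf.stalk (g y)) (Y.presheaf.stalk y)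
    (G.presheaf.stalk y)
  exact (LinearEquiv.isAssociatedPrime_iff e).mp h1

end Groth.Agent.Lib.Helper6.AssTens
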