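import Mathlib
import Groth.Agent.Lib.Helper9.TensAss1
import Groth.Agent.Lib.Helper9.AssFlat1

/-!
# Associated primes along a free ring extension with good fibres (helper6)

`R → R'` Noetherian with `R'` a free `R`-module, `N` any `R`-module, `Q'` a prime of `R'` lying
over `Q`.  If the associated primes of `R'/QR'` are all minimal, then
`Q' ∈ Ass_{R'}(R' ⊗ N)` iff `Q ∈ Ass_R(N)` and `Q'` is minimal among the primes over `Q`.
-/

set_option autoImplicit false
set_option linter.style.haveILetI false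
set_option linter.unusedSectionVars false
universe u
open TensorProduct

namespace Groth.Agent.Lib.Helper6.RelAss

open Groth.Agent.Lib.Helper9.AssFlat Groth.Agent.Lib.Helper9.TensAss

section T

variable {R R' : Type u} [CommRing R] [CommRing R'] [Algebra R R']

/-- contraction of an associated prime of `R' ⊗ N` along a free extension is associated to `N` -/
theorem comap_mem_associatedPrimes_of_free [IsNoetherianRing R] [IsNoetherianRing R']
    [Module.Free R R'] (N : Type u) [AddCommGroup N] [Module R N] (Q' : Ideal R')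
    (h : Q' ∈ associatedPrimes R' (R' ⊗[R] N)) :
    Q'.comap (algebraMap R R') ∈ associatedPrimes R N := by
  classical
  obtain ⟨hQ'p, z, hz⟩ := (isAssociatedPrime_iff).mp h
  haveI := hQ'p
  obtain ⟨b⟩ : Nonempty (Module.Basis (Module.Free.ChooseBasisIndex R R') R R') :=
    ⟨Module.Free.chooseBasis R R'⟩
  obtain ⟨Φ, hΦ⟩ : ∃ Φ : R' ⊗[R] N ≃ₗ[R] (Module.Free.ChooseBasisIndex R R') →₀ N,
      Φ = TensorProduct.equivFinsuppOfBasisLeft b := ⟨_, rfl⟩
  have key : ∀ r : R, r ∈ Q'.comap (algebraMap R R') ↔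
      ∀ i ∈ (Φ z).support, r • (Φ z) i = 0 := by
    intro r
    rw [Ideal.mem_comap, hz, Submodule.mem_colon_singleton, Submodule.mem_bot, algebraMap_smul,
      ← LinearEquiv.map_eq_zero_iff Φ, map_smul]
    constructor
    · intro h0 i _
      have := DFunLike.congr_fun h0 i
      simpa using this
    · intro h0
      ext i
      by_cases hi : i ∈ (Φ z).support
      · simpa using h0 i hi
      · rw [Finsupp.notMem_support_iff] at hi
        simp [hi]
  haveI hQp : (Q'.comap (algebraMap R R')).IsPrime := Ideal.comap_isPrime _ _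
  have h1 : (Φ z).support.inf (fun i => (⊥ : Submodule R N).colon {(Φ z) i}) ≤
      Q'.comap (algebraMap R R') := by
    intro r hr
    rw [key]
    intro i hi
    have := (Finset.inf_le hi : (Φ z).support.inf
      (fun i => (⊥ : Submodule R N).colon {(Φ z) i}) ≤ _) hr
    rwa [Submodule.mem_colon_singleton, Submodule.mem_bot] at this
  obtain ⟨i, hi, hle⟩ := (Ideal.IsPrime.inf_le' hQp).mp h1
  rw [AssociatedPrimes.mem_iff, isAssociatedPrime_iff]
  refine ⟨hQp, (Φ z) i, le_antisymm ?_ hle⟩
  intro r hr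
  rw [Submodule.mem_colon_singleton, Submodule.mem_bot]
  exact (key r).mp hr i hi

/-- an associated prime of `R' ⊗ N` is an associated prime of `R' ⊗ R/Q`, `Q` its contraction -/
theorem mem_associatedPrimes_tensor_quotient_of_mem [IsNoetherianRing R] [Module.Flat R R']
    (N : Type u) [AddCommGroup N] [Module R N] (Q' : Ideal R')
    (h : Q' ∈ associatedPrimes R' (R' ⊗[R] N)) :
    ∃ _ : (Q'.comap (algebraMap R R')).IsPrime,
      Q' ∈ associatedPrimes R' (R' ⊗[R] (R ⧸ Q'.comap (algebraMap R R'))) := by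
  obtain ⟨hQ'p, z, hz⟩ := h
  obtain ⟨N₀, hfin, hN₀⟩ := TensorProduct.exists_finite_submodule_right_of_setFinite
    (M := R') {z} (Set.finite_singleton z)
  obtain ⟨z₀, hz₀⟩ := hN₀ (Set.mem_singleton z)
  have hinj : Function.Injective (N₀.subtype.baseChange R') := by
    rw [LinearMap.baseChange_eq_ltensor]
    exact Module.Flat.lTensor_preserves_injective_linearMap _ Subtype.val_injective
  have hz₀' : (N₀.subtype.baseChange R') z₀ = z := by
    rw [← hz₀, LinearMap.baseChange_eq_ltensor]
  have h0 : Q' ∈ associatedPrimes R' (R' ⊗[R] N₀) := by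
    refine ⟨hQ'p, z₀, ?_⟩
    rw [hz]
    congr 1
    ext ρ
    rw [Submodule.mem_colon_singleton, Submodule.mem_bot, Submodule.mem_colon_singleton,
      Submodule.mem_bot, ← hz₀', ← map_smul, map_eq_zero_iff _ hinj]
  obtain ⟨q, hq, -, hmem⟩ := exists_prime_of_mem_associatedPrimes_tensor N₀ h0
  have := comap_eq_of_mem_associatedPrimes_tensor_quotient q hmem
  subst this
  exact ⟨hq, hmem⟩

/-- minimal primes over `QR'` contracting to `Q ∈ Ass N` are associated to `R' ⊗ N` -/
theorem mem_associatedPrimes_tensor_of_minimal [IsNoetherianRing R] [IsNoetherianRing R']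
    [Module.Flat R R'] (N : Type u) [AddCommGroup N] [Module R N] (Q' : Ideal R')
    [hQ' : Q'.IsPrime] (hQ : Q'.comap (algebraMap R R') ∈ associatedPrimes R N)
    (hmin : ∀ Q'' : Ideal R', Q''.IsPrime → Q'' ≤ Q' →
      Q''.comap (algebraMap R R') = Q'.comap (algebraMap R R') → Q'' = Q') :
    Q' ∈ associatedPrimes R' (R' ⊗[R] N) := by
  obtain ⟨Q, hQdef⟩ : ∃ Q : Ideal R, Q = Q'.comap (algebraMap R R') := ⟨_, rfl⟩
  rw [← hQdef] at hQ hmin
  haveI hQp : Q.IsPrime := hQ.isPrime
  have hJle : Q.map (algebraMap R R') ≤ Q' := by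
    rw [Ideal.map_le_iff_le_comap, hQdef]
  obtain ⟨P₀, hP₀, hP₀le⟩ := Ideal.exists_minimalPrimes_le hJle
  have hP₀ass : P₀ ∈ associatedPrimes R' (R' ⊗[R] (R ⧸ Q)) := by
    rw [← LinearEquiv.AssociatedPrimes.eq (Ideal.qoutMapEquivTensorQout R' (I := Q))]
    apply Module.associatedPrimes.minimalPrimes_annihilator_subset_associatedPrimes R'
      (R' ⧸ Q.map (algebraMap R R'))
    rwa [Ideal.annihilator_quotient]
  have hP₀c := comap_eq_of_mem_associatedPrimes_tensor_quotient Q hP₀ass
  have hPQ := hmin P₀ hP₀.1.1 hP₀le hP₀c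
  rw [hPQ] at hP₀ass
  obtain ⟨-, f, hf⟩ := (isAssociatedPrime_iff_exists_injective_linearMap Q N).mp hQ
  have hfB : Function.Injective (f.baseChange R') := by
    rw [LinearMap.baseChange_eq_ltensor]
    exact Module.Flat.lTensor_preserves_injective_linearMap f hf
  exact associatedPrimes.subset_of_injective hfB hP₀ass

/-- associated primes of `R'/J` over `R'` give associated primes of the ring `R'/J` -/
theorem map_mk_mem_associatedPrimes [IsNoetherianRing R'] (J : Ideal R') (P : Ideal R')
    (hP : P ∈ associatedPrimes R' (R' ⧸ J)) :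
    P.map (Ideal.Quotient.mk J) ∈ associatedPrimes (R' ⧸ J) (R' ⧸ J) ∧
      (P.map (Ideal.Quotient.mk J)).comap (Ideal.Quotient.mk J) = P := by
  obtain ⟨hPp, x, hx⟩ := (isAssociatedPrime_iff).mp hP
  have hJP : J ≤ P := by
    intro j hj
    rw [hx, Submodule.mem_colon_singleton, Submodule.mem_bot]
    obtain ⟨y, rfl⟩ := Ideal.Quotient.mk_surjective x
    change Ideal.Quotient.mk J (j * y) = 0
    rw [Ideal.Quotient.eq_zero_iff_mem]
    exact J.mul_mem_right _ hj
  have hcomap : (P.map (Ideal.Quotient.mk J)).comap (Ideal.Quotient.mk J) = P := by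
    rw [Ideal.comap_map_of_surjective _ Ideal.Quotient.mk_surjective, ← RingHom.ker_eq_comap_bot,
      Ideal.mk_ker, sup_eq_left.mpr hJP]
  haveI : (P.map (Ideal.Quotient.mk J)).IsPrime :=
    Ideal.map_isPrime_of_surjective Ideal.Quotient.mk_surjective (by rw [Ideal.mk_ker]; exact hJP)
  refine ⟨?_, hcomap⟩
  rw [AssociatedPrimes.mem_iff, isAssociatedPrime_iff]
  refine ⟨inferInstance, x, ?_⟩
  ext ρ
  obtain ⟨ρ, rfl⟩ := Ideal.Quotient.mk_surjective ρ
  rw [Submodule.mem_colon_singleton, Submodule.mem_bot, ← Ideal.mem_comap, hcomap, hx,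
    Submodule.mem_colon_singleton, Submodule.mem_bot]
  obtain ⟨y, rfl⟩ := Ideal.Quotient.mk_surjective x
  rfl

/-- good quotient: associated primes of `R' ⊗ R/Q` are minimal over `QR'` -/
theorem eq_of_le_of_good [IsNoetherianRing R'] (Q : Ideal R)
    (hgood : Good (R' ⧸ Q.map (algebraMap R R')))
    (P : Ideal R') (hP : P ∈ associatedPrimes R' (R' ⊗[R] (R ⧸ Q)))
    (P'' : Ideal R') [P''.IsPrime] (hJ : Q.map (algebraMap R R') ≤ P'') (hle : P'' ≤ P) :
    P'' = P := by
  rw [← LinearEquiv.AssociatedPrimes.eq (Ideal.qoutMapEquivTensorQout R' (I := Q))] at hP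
  obtain ⟨P₀, hP₀, hP₀le⟩ := Ideal.exists_minimalPrimes_le hJ
  have hP₀ass : P₀ ∈ associatedPrimes R' (R' ⧸ Q.map (algebraMap R R')) := by
    apply Module.associatedPrimes.minimalPrimes_annihilator_subset_associatedPrimes R'
      (R' ⧸ Q.map (algebraMap R R'))
    rwa [Ideal.annihilator_quotient]
  obtain ⟨h1, h1c⟩ := map_mk_mem_associatedPrimes _ P hP
  obtain ⟨h0, h0c⟩ := map_mk_mem_associatedPrimes _ P₀ hP₀ass
  have h2 := hgood.eq_of_le h0 h1 (Ideal.map_mono (hP₀le.trans hle))
  have hPP : P₀ = P := by rw [← h0c, ← h1c, h2]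
  exact le_antisymm hle (hPP ▸ hP₀le)

/-- **Associated primes along a free extension with good fibres.** -/
theorem mem_associatedPrimes_tensor_iff [IsNoetherianRing R] [IsNoetherianRing R']
    [Module.Free R R'] (N : Type u) [AddCommGroup N] [Module R N] (Q' : Ideal R')
    [hQ' : Q'.IsPrime]
    (hgood : Good (R' ⧸ (Q'.comap (algebraMap R R')).map (algebraMap R R'))) :
    Q' ∈ associatedPrimes R' (R' ⊗[R] N) ↔
      Q'.comap (algebraMap R R') ∈ associatedPrimes R N ∧
        ∀ Q'' : Ideal R', Q''.IsPrime → Q'' ≤ Q' →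
          Q''.comap (algebraMap R R') = Q'.comap (algebraMap R R') → Q'' = Q' := by
  constructor
  · intro h
    refine ⟨comap_mem_associatedPrimes_of_free N Q' h, fun Q'' hQ''p hle hc => ?_⟩
    obtain ⟨-, h1⟩ := mem_associatedPrimes_tensor_quotient_of_mem N Q' h
    haveI := hQ''p
    refine eq_of_le_of_good _ hgood Q' h1 Q'' ?_ hle
    rw [Ideal.map_le_iff_le_comap, hc]
  · rintro ⟨h1, h2⟩
    exact mem_associatedPrimes_tensor_of_minimal N Q' h1 h2

end T

end Groth.Agent.Lib.Helper6.RelAss
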