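import Mathlib
import Groth.Agent.Lib.Helper6.RelAss2

/-!
# Relative associated primes as associated primes of the fibre module (helper6)
-/

set_option autoImplicit false
set_option linter.style.haveILetI false
set_option linter.unusedSectionVars false
universe u
open TensorProduct

namespace Groth.Agent.Lib.Helper6.RelAss

open Groth.Agent.Lib.Helper26.FiberAss Groth.Agent.Lib.Helper6.FibDense

section F

variable {R S : Type u} [CommRing R] [CommRing S] [Algebra R S] (p : Ideal R) [p.IsPrime]
  (N : Type u) [AddCommGroup N] [Module S N] [Module R N] [IsScalarTower R S N]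

attribute [local instance] Algebra.TensorProduct.rightAlgebra

/-- every element of the fibre ring is, up to a unit, the image of an element of `S` -/
theorem exists_isUnit_mul_eq_includeRight (ρ : p.Fiber S) :
    ∃ (u : p.Fiber S) (c : S), IsUnit u ∧
      u * ρ = Algebra.TensorProduct.includeRight (R := R) (A := p.ResidueField) (B := S) c := by
  obtain ⟨r, hr, c, hc⟩ := Ideal.Fiber.exists_smul_eq_one_tmul p ρ
  refine ⟨_, c, isUnit_includeRight_algebraMap p hr, ?_⟩
  rw [← smul_eq_includeRight_mul, hc]
  rfl

/-- ideals of the fibre ring are determined by their contractions to `S` -/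
theorem fiber_le_of_comap_le (P₁ P₂ : Ideal (p.Fiber S))
    (h : P₁.comap (Algebra.TensorProduct.includeRight (R := R) (A := p.ResidueField)
      (B := S)).toRingHom ≤ P₂.comap (Algebra.TensorProduct.includeRight (R := R)
      (A := p.ResidueField) (B := S)).toRingHom) : P₁ ≤ P₂ := by
  intro ρ hρ
  obtain ⟨u, c, hu, huc⟩ := exists_isUnit_mul_eq_includeRight p ρ
  have h1 : c ∈ P₁.comap (Algebra.TensorProduct.includeRight (R := R) (A := p.ResidueField)
      (B := S)).toRingHom := by
    rw [Ideal.mem_comap]
    change (Algebra.TensorProduct.includeRight (R := R) (A := p.ResidueField) (B := S) c) ∈ P₁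
    rw [← huc]
    exact P₁.mul_mem_left _ hρ
  have h2 := h h1
  rw [Ideal.mem_comap] at h2
  change (Algebra.TensorProduct.includeRight (R := R) (A := p.ResidueField) (B := S) c) ∈ P₂ at h2
  rw [← huc] at h2
  obtain ⟨v, hv⟩ := hu.exists_left_inv
  have h3 := P₂.mul_mem_left v h2
  rwa [← mul_assoc, hv, one_mul] at h3

/-- relative associated primes are the associated primes of the fibre module -/
theorem relAssAt_iff_mem_associatedPrimes [Algebra.FiniteType R S] (Q : Ideal (p.Fiber S))
    [hQ : Q.IsPrime] :
    RelAssAt R (Q.comap (Algebra.TensorProduct.includeRight (R := R) (A := p.ResidueField)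
      (B := S)).toRingHom) N ↔ Q ∈ associatedPrimes (p.Fiber S) (FlatCA.fiberMod p S N) := by
  haveI : IsNoetherianRing (p.Fiber S) := Algebra.FiniteType.isNoetherianRing p.ResidueField _
  obtain ⟨q, hqdef⟩ : ∃ q : Ideal S, q = Q.comap (Algebra.TensorProduct.includeRight (R := R)
    (A := p.ResidueField) (B := S)).toRingHom := ⟨_, rfl⟩
  rw [← hqdef]
  haveI hqp : q.IsPrime := by rw [hqdef]; exact Ideal.comap_isPrime _ _
  have hq : q.comap (algebraMap R S) = p := by
    rw [hqdef]; exact comap_comap_includeRight p Q
  have hincl : ∀ c : S, (Algebra.TensorProduct.includeRight (R := R) (A := p.ResidueField)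
      (B := S) c : p.Fiber S) ∈ Q ↔ c ∈ q := by
    intro c
    rw [hqdef, Ideal.mem_comap]
    rfl
  have hunit : ∀ u : p.Fiber S, IsUnit u → u ∉ Q := fun u hu h =>
    hQ.ne_top (Ideal.eq_top_of_isUnit_mem _ h hu)
  rw [AssociatedPrimes.mem_iff, isAssociatedPrime_iff]
  constructor
  · intro h
    obtain ⟨n, hn⟩ := exists_ann_of_relAssAt p N q hq h
    refine ⟨hQ, (fiberModEquiv (S := S) p N).symm n, ?_⟩
    ext ρ
    rw [Submodule.mem_colon_singleton, Submodule.mem_bot]
    obtain ⟨u, c, hu, huc⟩ := exists_isUnit_mul_eq_includeRight p ρ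
    have h1 : ρ ∈ Q ↔ c ∈ q := by
      rw [← hincl, ← huc]
      constructor
      · intro h; exact Q.mul_mem_left _ h
      · intro h
        exact (hQ.mem_or_mem h).resolve_left (hunit u hu)
    have h2 : ρ • (fiberModEquiv (S := S) p N).symm n = 0 ↔ c • n = 0 := by
      have h3 := includeRight_smul_eq_zero_iff p N c ((fiberModEquiv (S := S) p N).symm n)
      rw [LinearEquiv.apply_symm_apply, ← huc, mul_smul] at h3
      rw [← h3]
      exact (hu.smul_eq_zero).symm
    rw [h1, h2]
    exact hn c
  · rintro ⟨-, n', hn'⟩
    refine relAssAt_of_ann p N q hq (fiberModEquiv p N n') fun c => ?_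
    rw [← includeRight_smul_eq_zero_iff, ← hincl, hn', Submodule.mem_colon_singleton,
      Submodule.mem_bot]

end F

end Groth.Agent.Lib.Helper6.RelAss
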