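import Mathlib
import Groth.Agent.Lib.Helper9.AssFlat4

/-!
# The fibre ring of a base change (helper6)

`κ' ⊗_{A'} C' = κ' ⊗_κ (κ ⊗_A C)` for a pushout `C' = A' ⊗_A C` and fields `κ → κ'` over `A → A'`.
-/

set_option autoImplicit false
set_option linter.style.haveILetI false
set_option linter.unusedSectionVars false
universe u
open TensorProduct

namespace Groth.Agent.Lib.Helper6.RelAss

open Groth.Agent.Lib.Helper9.TensAss Groth.Agent.Lib.Helper9.AssFlat

section BC3

variable {A A' C C' : Type u} [CommRing A] [CommRing A'] [CommRing C] [CommRing C']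
  [Algebra A A'] [Algebra A C] [Algebra A' C'] [Algebra C C'] [Algebra A C']
  [IsScalarTower A A' C'] [IsScalarTower A C C'] [Algebra.IsPushout A A' C C']
  (κ κ' : Type u) [Field κ] [Field κ'] [Algebra A κ] [Algebra A' κ'] [Algebra A κ']
  [IsScalarTower A A' κ'] [Algebra κ κ'] [IsScalarTower A κ κ']

/-- the fibre ring of the base change is the base change of the fibre ring -/
noncomputable def fiberE : κ' ⊗[κ] (κ ⊗[A] C) ≃ₐ[κ'] κ' ⊗[A'] C' :=
  (Algebra.TensorProduct.cancelBaseChange A κ κ' κ' C).trans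
    ((Algebra.TensorProduct.cancelBaseChange A A' κ' κ' C).symm.trans
      (Algebra.TensorProduct.congr AlgEquiv.refl (Algebra.IsPushout.equiv A A' C C')))

theorem fiberE_tmul (k' : κ') (k : κ) (c : C) :
    fiberE (A := A) (A' := A') (C := C) (C' := C') κ κ' (k' ⊗ₜ[κ] (k ⊗ₜ[A] c)) =
      (k • k') ⊗ₜ[A'] algebraMap C C' c := by
  simp [fiberE, Algebra.IsPushout.equiv_tmul]

/-- the map of fibre rings -/
noncomputable def fiberMap : κ ⊗[A] C →+* κ' ⊗[A'] C' :=
  (fiberE (A := A) (A' := A') (C := C) (C' := C') κ κ').toAlgHom.toRingHom.comp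
    (Algebra.TensorProduct.includeRight (R := κ) (A := κ') (B := κ ⊗[A] C)).toRingHom

theorem fiberMap_apply (x : κ ⊗[A] C) :
    fiberMap (A := A) (A' := A') (C := C) (C' := C') κ κ' x =
      fiberE (A := A) (A' := A') (C := C) (C' := C') κ κ' ((1 : κ') ⊗ₜ[κ] x) := rfl

theorem fiberMap_tmul (k : κ) (c : C) :
    fiberMap (A := A) (A' := A') (C := C) (C' := C') κ κ' (k ⊗ₜ[A] c) =
      (algebraMap κ κ' k) ⊗ₜ[A'] algebraMap C C' c := by
  rw [fiberMap_apply, fiberE_tmul, ← Algebra.algebraMap_eq_smul_one]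

/-- the fibre ring of the base change is free over the fibre ring -/
theorem free_fiberMap :
    letI := (fiberMap (A := A) (A' := A') (C := C) (C' := C') κ κ').toAlgebra
    Module.Free (κ ⊗[A] C) (κ' ⊗[A'] C') := by
  letI := (fiberMap (A := A) (A' := A') (C := C) (C' := C') κ κ').toAlgebra
  let f : (κ ⊗[A] C) ⊗[κ] κ' ≃+* κ' ⊗[A'] C' :=
    (Algebra.TensorProduct.comm κ (κ ⊗[A] C) κ').toRingEquiv.trans
      (fiberE (A := A) (A' := A') (C := C) (C' := C') κ κ').toRingEquiv
  have hf : ∀ r : κ ⊗[A] C, f (r ⊗ₜ[κ] (1 : κ')) =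
      fiberMap (A := A) (A' := A') (C := C) (C' := C') κ κ' r := fun r => by
    simp [f, fiberMap_apply]
  let e : (κ ⊗[A] C) ⊗[κ] κ' ≃ₗ[κ ⊗[A] C] κ' ⊗[A'] C' :=
    { toFun := f
      map_add' := map_add f
      map_smul' := fun r x => by
        have h1 : r • x = (r ⊗ₜ[κ] (1 : κ')) * x := by
          induction x using TensorProduct.induction_on with
          | zero => simp
          | tmul a b =>
            rw [TensorProduct.smul_tmul', Algebra.TensorProduct.tmul_mul_tmul, one_mul,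
              smul_eq_mul]
          | add a b ha hb => rw [smul_add, mul_add, ha, hb]
        rw [RingHom.id_apply, h1]
        change f (r ⊗ₜ[κ] (1 : κ') * x) = _
        rw [map_mul, hf, Algebra.smul_def]
        rfl
      invFun := f.symm
      left_inv := f.left_inv
      right_inv := f.right_inv }
  exact Module.Free.of_equiv e

/-- the fibres of the map of fibre rings are good -/
theorem good_fiberMap (Q : Ideal (κ ⊗[A] C)) [Q.IsPrime] :
    Good ((κ' ⊗[A'] C') ⧸ Q.map (fiberMap (A := A) (A' := A') (C := C) (C' := C') κ κ')) :=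
  (good_quotient_of_tensorEquiv (fiberMap (A := A) (A' := A') (C := C) (C' := C') κ κ')
    (fiberE (A := A) (A' := A') (C := C) (C' := C') κ κ').toRingEquiv (fun _ => rfl) Q).1

attribute [local instance] Algebra.TensorProduct.rightAlgebra

/-- the fibre module of the base change is the base change of the fibre module -/
theorem nonempty_fiberMod_equiv {M : Type u} [AddCommGroup M] [Module C M] {M' : Type u}
    [AddCommGroup M'] [Module C' M'] (e : M' ≃ₗ[C'] C' ⊗[C] M) :
    letI := (fiberMap (A := A) (A' := A') (C := C) (C' := C') κ κ').toAlgebra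
    Nonempty ((κ' ⊗[A'] C') ⊗[κ ⊗[A] C] ((κ ⊗[A] C) ⊗[C] M) ≃ₗ[κ' ⊗[A'] C']
      (κ' ⊗[A'] C') ⊗[C'] M') := by
  letI algRR' : Algebra (κ ⊗[A] C) (κ' ⊗[A'] C') :=
    (fiberMap (A := A) (A' := A') (C := C) (C' := C') κ κ').toAlgebra
  letI algCR' : Algebra C (κ' ⊗[A'] C') :=
    ((algebraMap C' (κ' ⊗[A'] C')).comp (algebraMap C C')).toAlgebra
  haveI tw1 : IsScalarTower C C' (κ' ⊗[A'] C') := IsScalarTower.of_algebraMap_eq (fun _ => rfl)
  haveI tw2 : IsScalarTower C (κ ⊗[A] C) (κ' ⊗[A'] C') :=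
    IsScalarTower.of_algebraMap_eq (fun c => by
      change (1 : κ') ⊗ₜ[A'] algebraMap C C' c =
        fiberMap (A := A) (A' := A') (C := C) (C' := C') κ κ' ((1 : κ) ⊗ₜ[A] c)
      rw [fiberMap_tmul, map_one])
  exact ⟨(AlgebraTensorModule.cancelBaseChange C (κ ⊗[A] C) (κ' ⊗[A'] C') (κ' ⊗[A'] C') M) ≪≫ₗ
    (AlgebraTensorModule.cancelBaseChange C C' (κ' ⊗[A'] C') (κ' ⊗[A'] C') M).symm ≪≫ₗ
    (AlgebraTensorModule.congr (LinearEquiv.refl (κ' ⊗[A'] C') (κ' ⊗[A'] C')) e.symm)⟩

end BC3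

end Groth.Agent.Lib.Helper6.RelAss
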