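import Mathlib
import Groth.Agent.Lib.Helper6.RelAss10
import Groth.Agent.Lib.Helper6.RelAss21
import Groth.Agent.Lib.Helper6.RelAss22
import Groth.Agent.Lib.Helper6.RelAss23

/-!
# Relative associated primes and arbitrary base change: the ring level statement (helper6)
-/

set_option autoImplicit false
set_option linter.style.haveILetI false
set_option linter.unusedSectionVars false
universe u
open TensorProduct

namespace Groth.Agent.Lib.Helper6.RelAss

open Groth.Agent.Lib.Helper6.FibDense Groth.Agent.Lib.Helper26.FiberAss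

section BC4

variable {A A' C C' : Type u} [CommRing A] [CommRing A'] [CommRing C] [CommRing C']
  [Algebra A A'] [Algebra A C] [Algebra A' C'] [Algebra C C'] [Algebra A C']
  [IsScalarTower A A' C'] [IsScalarTower A C C'] [Algebra.IsPushout A A' C C']
  {M : Type u} [AddCommGroup M] [Module C M] [Module A M] [IsScalarTower A C M]
  {M' : Type u} [AddCommGroup M'] [Module C' M'] [Module A' M'] [IsScalarTower A' C' M']
  (e : M' ≃ₗ[C'] C' ⊗[C] M)
  (p' : Ideal A') [p'.IsPrime] (p : Ideal A) [p.IsPrime] (hp : p'.comap (algebraMap A A') = p)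

attribute [local instance] Algebra.TensorProduct.rightAlgebra

include e hp in
/-- **EGA IV 4.2.7 type statement, ring level**: `q'` is a relative associated prime of the base
change iff its contraction is a relative associated prime and `q'` is minimal among the primes
with the same contractions to `A'` and to `C`. -/
theorem relAssAt_baseChange_iff [Algebra.FiniteType A C] [Algebra.FiniteType A' C']
    (q' : Ideal C') [hq'p : q'.IsPrime] (hq' : q'.comap (algebraMap A' C') = p') :
    RelAssAt A' q' M' ↔ RelAssAt A (q'.comap (algebraMap C C')) M ∧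
      ∀ q'' : Ideal C', q''.IsPrime → q'' ≤ q' → q''.comap (algebraMap A' C') = p' →
        q''.comap (algebraMap C C') = q'.comap (algebraMap C C') → q'' = q' := by
  have hker : ∀ a : A, algebraMap A p'.ResidueField a = 0 ↔ a ∈ p := by
    intro a
    rw [IsScalarTower.algebraMap_apply A A' p'.ResidueField,
      Ideal.algebraMap_residueField_eq_zero, ← hp, Ideal.mem_comap]
  let σ : p.ResidueField →+* p'.ResidueField := Ideal.ResidueField.lift p
    (algebraMap A p'.ResidueField) (fun a ha => (hker a).mpr ha) (fun a ha => by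
      change IsUnit (algebraMap A p'.ResidueField a)
      rw [isUnit_iff_ne_zero]
      exact fun h0 => ha ((hker a).mp h0))
  letI algκκ' : Algebra p.ResidueField p'.ResidueField := σ.toAlgebra
  haveI tw2 : IsScalarTower A p.ResidueField p'.ResidueField :=
    IsScalarTower.of_algebraMap_eq (fun a =>
      (Ideal.ResidueField.lift_algebraMap p (algebraMap A p'.ResidueField) _ _ a).symm)
  letI algRR' : Algebra (p.Fiber C) (p'.Fiber C') :=
    (fiberMap (A := A) (A' := A') (C := C) (C' := C') p.ResidueField p'.ResidueField).toAlgebra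
  haveI : IsNoetherianRing (p.Fiber C) := Algebra.FiniteType.isNoetherianRing p.ResidueField _
  haveI : IsNoetherianRing (p'.Fiber C') := Algebra.FiniteType.isNoetherianRing p'.ResidueField _
  haveI hfree : Module.Free (p.Fiber C) (p'.Fiber C') :=
    free_fiberMap (A := A) (A' := A') (C := C) (C' := C') p.ResidueField p'.ResidueField
  obtain ⟨Ψ⟩ := nonempty_fiberMod_equiv (A := A) (A' := A') p.ResidueField p'.ResidueField e
  -- the prime `Q'` of the fibre ring
  have hex : ∀ q'' : Ideal C', q''.IsPrime → q''.comap (algebraMap A' C') = p' →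
      ∃ Q'' : Ideal (p'.Fiber C'), Q''.IsPrime ∧
        Q''.comap (Algebra.TensorProduct.includeRight (R := A') (A := p'.ResidueField)
          (B := C')).toRingHom = q'' := by
    intro q'' hq''p hq''
    haveI hlo : q''.LiesOver p' := ⟨hq''.symm⟩
    refine ⟨(PrimeSpectrum.primesOverOrderIsoFiber A' C' p' ⟨q'', hq''p, hlo⟩).asIdeal,
      (PrimeSpectrum.primesOverOrderIsoFiber A' C' p' ⟨q'', hq''p, hlo⟩).2, ?_⟩
    have h1 := congrArg Subtype.val
      ((PrimeSpectrum.primesOverOrderIsoFiber A' C' p').symm_apply_apply ⟨q'', hq''p, hlo⟩)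
    rw [PrimeSpectrum.coe_primesOverOrderIsoFiber_symm_apply] at h1
    exact h1
  obtain ⟨Q', hQ'p, hQ'q'⟩ := hex q' hq'p hq'
  obtain ⟨Q, hQdef⟩ : ∃ Q : Ideal (p.Fiber C),
      Q = Q'.comap (algebraMap (p.Fiber C) (p'.Fiber C')) := ⟨_, rfl⟩
  haveI hQp : Q.IsPrime := by rw [hQdef]; exact Ideal.comap_isPrime _ _
  have hsq : ∀ c : C, algebraMap (p.Fiber C) (p'.Fiber C')
      (Algebra.TensorProduct.includeRight (R := A) (A := p.ResidueField) (B := C) c) =
      Algebra.TensorProduct.includeRight (R := A') (A := p'.ResidueField) (B := C')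
        (algebraMap C C' c) := fun c => by
    change fiberMap (A := A) (A' := A') (C := C) (C' := C') p.ResidueField p'.ResidueField
      ((1 : p.ResidueField) ⊗ₜ[A] c) = (1 : p'.ResidueField) ⊗ₜ[A'] algebraMap C C' c
    rw [fiberMap_tmul, map_one]
  have hcomm : ∀ P' : Ideal (p'.Fiber C'),
      (P'.comap (algebraMap (p.Fiber C) (p'.Fiber C'))).comap
        (Algebra.TensorProduct.includeRight (R := A) (A := p.ResidueField) (B := C)).toRingHom =
      (P'.comap (Algebra.TensorProduct.includeRight (R := A') (A := p'.ResidueField)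
        (B := C')).toRingHom).comap (algebraMap C C') := by
    intro P'
    ext c
    simp only [Ideal.mem_comap]
    change algebraMap (p.Fiber C) (p'.Fiber C')
      (Algebra.TensorProduct.includeRight (R := A) (A := p.ResidueField) (B := C) c) ∈ P' ↔
      Algebra.TensorProduct.includeRight (R := A') (A := p'.ResidueField) (B := C')
        (algebraMap C C' c) ∈ P'
    rw [hsq]
  have hQq : Q.comap (Algebra.TensorProduct.includeRight (R := A) (A := p.ResidueField)
      (B := C)).toRingHom = q'.comap (algebraMap C C') := by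
    rw [hQdef, hcomm, hQ'q']
  have hF' := relAssAt_iff_mem_associatedPrimes p' M' Q'
  rw [hQ'q'] at hF'
  have hF := relAssAt_iff_mem_associatedPrimes p M Q
  rw [hQq] at hF
  have hT := mem_associatedPrimes_tensor_iff (R := p.Fiber C) (R' := p'.Fiber C')
    (FlatCA.fiberMod p C M) Q' (by
      rw [← hQdef]
      exact good_fiberMap (A := A) (A' := A') (C := C) (C' := C') p.ResidueField
        p'.ResidueField Q)
  have hΨ : associatedPrimes (p'.Fiber C') ((p'.Fiber C') ⊗[p.Fiber C] FlatCA.fiberMod p C M) =
      associatedPrimes (p'.Fiber C') (FlatCA.fiberMod p' C' M') :=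
    LinearEquiv.AssociatedPrimes.eq Ψ
  rw [hF', ← hΨ, hT, ← hQdef, ← hF]
  refine and_congr_right fun _ => ?_
  constructor
  · intro hmin q'' hq''p hle hq''A hq''C
    obtain ⟨Q'', hQ''p, hQ''q''⟩ := hex q'' hq''p hq''A
    have h1 : Q'' ≤ Q' := fiber_le_of_comap_le p' Q'' Q' (by rw [hQ''q'', hQ'q']; exact hle)
    have h2 : Q''.comap (algebraMap (p.Fiber C) (p'.Fiber C')) = Q := by
      have h3 : (Q''.comap (algebraMap (p.Fiber C) (p'.Fiber C'))).comap
          (Algebra.TensorProduct.includeRight (R := A) (A := p.ResidueField) (B := C)).toRingHom =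
          Q.comap (Algebra.TensorProduct.includeRight (R := A) (A := p.ResidueField)
            (B := C)).toRingHom := by
        rw [hcomm, hQ''q'', hQq, hq''C]
      exact le_antisymm (fiber_le_of_comap_le p _ _ h3.le) (fiber_le_of_comap_le p _ _ h3.ge)
    have h4 := hmin Q'' hQ''p h1 h2
    rw [← hQ''q'', h4, hQ'q']
  · intro hmin Q'' hQ''p hle hc
    haveI := hQ''p
    have h1 := hmin (Q''.comap (Algebra.TensorProduct.includeRight (R := A')
      (A := p'.ResidueField) (B := C')).toRingHom) (Ideal.comap_isPrime _ _)
      (by rw [← hQ'q']; exact Ideal.comap_mono hle) (comap_comap_includeRight p' Q'')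
      (by rw [← hcomm, hc, hQq])
    exact le_antisymm hle (fiber_le_of_comap_le p' _ _ (by rw [h1, hQ'q']))

end BC4

end Groth.Agent.Lib.Helper6.RelAss
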