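import Mathlib
import Groth.Agent.Lib.Helper6.RelAss22

/-!
# Relative associated primes as associated primes of the fibre module: Noetherian fibre rings
(helper6).  Same as `RelAss2`/`RelAss22` with "finite type" replaced by "the fibre ring is
Noetherian".
-/

set_option autoImplicit false
set_option linter.style.haveILetI false
set_option linter.unusedSectionVars false
universe u
open TensorProduct

namespace Groth.Agent.Lib.Helper6.RelAss

open Groth.Agent.Lib.Helper26.FiberAss Groth.Agent.Lib.Helper6.FibDense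

section FN

variable {R S : Type u} [CommRing R] [CommRing S] [Algebra R S] (p : Ideal R) [p.IsPrime]
  (N : Type u) [AddCommGroup N] [Module S N] [Module R N] [IsScalarTower R S N]

attribute [local instance] Algebra.TensorProduct.rightAlgebra

/-- a relative associated prime is the annihilator of an element of the fibre module -/
theorem exists_ann_of_relAssAt_N [IsNoetherianRing (p.Fiber S)] (q : Ideal S) [hqp : q.IsPrime]
    (hq : q.comap (algebraMap R S) = p) (h : RelAssAt R q N) :
    ∃ n : N ⊗[R] p.ResidueField, ∀ c : S, c ∈ q ↔ c • n = 0 := by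
  obtain ⟨m, hm⟩ := h
  haveI hlo : q.LiesOver p := ⟨hq.symm⟩
  obtain ⟨Q, hQdef⟩ : ∃ Q : PrimeSpectrum (p.Fiber S),
      Q = PrimeSpectrum.primesOverOrderIsoFiber R S p ⟨q, hqp, hlo⟩ := ⟨_, rfl⟩
  have hQq : Q.asIdeal.comap (Algebra.TensorProduct.includeRight (R := R) (A := p.ResidueField)
      (B := S)).toRingHom = q := by
    have h1 := congrArg Subtype.val
      ((PrimeSpectrum.primesOverOrderIsoFiber R S p).symm_apply_apply ⟨q, hqp, hlo⟩)
    rw [← hQdef, PrimeSpectrum.coe_primesOverOrderIsoFiber_symm_apply] at h1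
    exact h1
  have hincl : ∀ c : S, (Algebra.TensorProduct.includeRight (R := R) (A := p.ResidueField)
      (B := S) c : p.Fiber S) ∈ Q.asIdeal ↔ c ∈ q := by
    intro c
    rw [← hQq, Ideal.mem_comap]
    rfl
  have hlift : ∀ ρ : p.Fiber S, ∃ (u : p.Fiber S) (c : S), IsUnit u ∧
      u * ρ = Algebra.TensorProduct.includeRight (R := R) (A := p.ResidueField) (B := S) c := by
    intro ρ
    obtain ⟨r, hr, c, hc⟩ := Ideal.Fiber.exists_smul_eq_one_tmul p ρ
    refine ⟨_, c, isUnit_includeRight_algebraMap p hr, ?_⟩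
    rw [← smul_eq_includeRight_mul, hc]
    rfl
  obtain ⟨n₀, hn₀⟩ : ∃ n₀ : FlatCA.fiberMod p S N, n₀ = FlatCA.toFiberMod p S N m := ⟨_, rfl⟩
  have hkill : ∀ c : S, (Algebra.TensorProduct.includeRight (R := R) (A := p.ResidueField)
      (B := S) c : p.Fiber S) • n₀ = 0 ↔
      ∃ r ∉ p, (algebraMap R S r * c) • m ∈ (p.map (algebraMap R S)) • (⊤ : Submodule S N) := by
    intro c
    rw [includeRight_smul_eq_zero_iff, hn₀, fiberModEquiv_toFiberMod, smul_tmul_one_eq_zero_iff]
  have h1p : (1 : R) ∉ p := fun h => (Ideal.IsPrime.ne_top inferInstance)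
    ((Ideal.eq_top_iff_one p).mpr h)
  have hunit : ∀ u : p.Fiber S, IsUnit u → u ∉ Q.asIdeal := fun u hu h =>
    Q.2.ne_top (Ideal.eq_top_of_isUnit_mem _ h hu)
  have hweak : ∀ ρ : p.Fiber S, ρ ∈ Q.asIdeal ↔
      ∃ (k : ℕ) (δ : p.Fiber S), δ ∉ Q.asIdeal ∧ (δ * ρ ^ k) • n₀ = 0 := by
    intro ρ
    constructor
    · intro hρ
      obtain ⟨u, c, hu, huc⟩ := hlift ρ
      have hc : c ∈ q := by
        rw [← hincl, ← huc]
        exact Q.asIdeal.mul_mem_left _ hρ
      obtain ⟨k, d, hd, hmem⟩ := (hm c).mp hc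
      rw [hq] at hmem
      refine ⟨k, Algebra.TensorProduct.includeRight (R := R) (A := p.ResidueField) (B := S) d *
        u ^ k, fun h => ?_, ?_⟩
      · rcases Q.2.mem_or_mem h with h' | h'
        · exact hd ((hincl d).mp h')
        · exact hunit _ (hu.pow k) h'
      · have h2 : (Algebra.TensorProduct.includeRight (R := R) (A := p.ResidueField) (B := S) d *
            u ^ k) * ρ ^ k =
            Algebra.TensorProduct.includeRight (R := R) (A := p.ResidueField) (B := S)
              (d * c ^ k) := by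
          rw [map_mul, map_pow, ← huc, mul_pow, mul_assoc]
        rw [h2, hkill]
        refine ⟨1, h1p, ?_⟩
        rw [map_one, one_mul]
        exact hmem
    · rintro ⟨k, δ, hδ, e⟩
      by_contra hρ
      have h2 : δ * ρ ^ k ∉ Q.asIdeal := by
        intro h
        rcases Q.2.mem_or_mem h with h' | h'
        · exact hδ h'
        · exact hρ (Q.2.mem_of_pow_mem k h')
      obtain ⟨u', c', hu', huc'⟩ := hlift (δ * ρ ^ k)
      have hc' : c' ∉ q := by
        rw [← hincl, ← huc']
        intro h
        rcases Q.2.mem_or_mem h with h' | h'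
        · exact hunit _ hu' h'
        · exact h2 h'
      have h3 : (Algebra.TensorProduct.includeRight (R := R) (A := p.ResidueField) (B := S) c' :
          p.Fiber S) • n₀ = 0 := by
        rw [← huc', mul_smul, e, smul_zero]
      obtain ⟨r', hr', hmem'⟩ := (hkill c').mp h3
      have h4 : (1 : S) ∈ q := by
        rw [hm 1]
        refine ⟨0, algebraMap R S r' * c', fun h => ?_, ?_⟩
        · rcases hqp.mem_or_mem h with h' | h'
          · exact hr' (hq ▸ Ideal.mem_comap.mpr h')
          · exact hc' h'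
        · rw [hq, pow_zero, mul_one]
          exact hmem'
      exact hqp.ne_top ((Ideal.eq_top_iff_one q).mpr h4)
  haveI := Q.2
  obtain ⟨n', hn'⟩ := exists_ann_eq_of_weak Q.asIdeal n₀ hweak
  refine ⟨fiberModEquiv p N n', fun c => ?_⟩
  rw [← includeRight_smul_eq_zero_iff, ← hn', hincl]


/-- relative associated primes are the associated primes of the fibre module -/
theorem relAssAt_iff_mem_associatedPrimes_N [IsNoetherianRing (p.Fiber S)] (Q : Ideal (p.Fiber S))
    [hQ : Q.IsPrime] :
    RelAssAt R (Q.comap (Algebra.TensorProduct.includeRight (R := R) (A := p.ResidueField)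
      (B := S)).toRingHom) N ↔ Q ∈ associatedPrimes (p.Fiber S) (FlatCA.fiberMod p S N) := by
  obtain ⟨q, hqdef⟩ : ∃ q : Ideal S, q = Q.comap (Algebra.TensorProduct.includeRight (R := R)
    (A := p.ResidueField) (B := S)).toRingHom := ⟨_, rfl⟩
  rw [← hqdef]
  haveI hqp : q.IsPrime := by rw [hqdef]; exact Ideal.comap_isPrime _ _
  have hq : q.comap (algebraMap R S) = p := by
    rw [hqdef]; exact comap_comap_includeRight p Q
  have hincl : ∀ c : S, (Algebra.TensorProduct.includeRight (R := R) (A := p.ResidueField)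
      (B := S) c : p.Fiber S) ∈ Q ↔ c ∈ q := by
    intro c
    rw [hqdef, Ideal.mem_comap]
    rfl
  have hunit : ∀ u : p.Fiber S, IsUnit u → u ∉ Q := fun u hu h =>
    hQ.ne_top (Ideal.eq_top_of_isUnit_mem _ h hu)
  rw [AssociatedPrimes.mem_iff, isAssociatedPrime_iff]
  constructor
  · intro h
    obtain ⟨n, hn⟩ := exists_ann_of_relAssAt_N p N q hq h
    refine ⟨hQ, (fiberModEquiv (S := S) p N).symm n, ?_⟩
    ext ρ
    rw [Submodule.mem_colon_singleton, Submodule.mem_bot]
    obtain ⟨u, c, hu, huc⟩ := exists_isUnit_mul_eq_includeRight p ρ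
    have h1 : ρ ∈ Q ↔ c ∈ q := by
      rw [← hincl, ← huc]
      constructor
      · intro h; exact Q.mul_mem_left _ h
      · intro h
        exact (hQ.mem_or_mem h).resolve_left (hunit u hu)
    have h2 : ρ • (fiberModEquiv (S := S) p N).symm n = 0 ↔ c • n = 0 := by
      have h3 := includeRight_smul_eq_zero_iff p N c ((fiberModEquiv (S := S) p N).symm n)
      rw [LinearEquiv.apply_symm_apply, ← huc, mul_smul] at h3
      rw [← h3]
      exact (hu.smul_eq_zero).symm
    rw [h1, h2]
    exact hn c
  · rintro ⟨-, n', hn'⟩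
    refine relAssAt_of_ann p N q hq (fiberModEquiv p N n') fun c => ?_
    rw [← includeRight_smul_eq_zero_iff, ← hincl, hn', Submodule.mem_colon_singleton,
      Submodule.mem_bot]


end FN

end Groth.Agent.Lib.Helper6.RelAss
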