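import Mathlib
import Groth.Prelude.Def_MoreMor
import Groth.Agent.Lib.Helper6.RelAss24
import Groth.Agent.Lib.Helper6.RelAssN2
import Groth.Agent.Lib.Helper6.RelAss20
import Groth.Agent.Lib.Helper6.RelAss11
import Groth.Agent.Lib.Helper6.RelAss7
import Groth.Agent.Lib.Helper6.FibDense5
import Groth.Agent.Lib.Helper29.QCohFinite
import Groth.Agent.Lib.Helper29.QCohPullback
import Groth.Agent.Lib.Helper18.GFl5
import Groth.Agent.Lib.Lead.SchDense

/-!
# The relative assassin and arbitrary base change (EGA IV 4.2.7 type statement), for locally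
Noetherian total spaces instead of finite type morphisms (helper6)
-/

set_option autoImplicit false
set_option linter.style.haveILetI false
set_option linter.unusedSectionVars false
universe u

open CategoryTheory CategoryTheory.Limits AlgebraicGeometry TopologicalSpace Opposite TensorProduct
open Groth.Agent.Lib.Helper29.QCoh Groth.Agent.Lib.Helper6.FibDense Groth.Agent.Lib.Helper18
open Groth.Agent.Lib.Lead.SchDense

namespace Groth.Agent.Lib.Helper6.RelAss

/-- fibre rings of a Noetherian algebra are Noetherian -/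
theorem isNoetherianRing_fiber {A B : Type u} [CommRing A] [CommRing B] [Algebra A B] (p : Ideal A)
    [p.IsPrime] [IsNoetherianRing B] : IsNoetherianRing (p.Fiber B) := by
  letI : Algebra B (p.Fiber B) := Algebra.TensorProduct.rightAlgebra
  have e := (Ideal.Fiber.algEquivQuotient (R := A) (S := B) p).toRingEquiv
  exact isNoetherianRing_of_ringEquiv _ e.symm

set_option maxHeartbeats 3200000 in
set_option maxRecDepth 4000 in
/-- a point of a base change is a relative associated point iff its image is one and it is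
maximal under generisation among the points with the same two projections (locally Noetherian
total spaces) -/
theorem mem_relAss_pullback_iff_N {X S X' S' : Scheme.{u}} [IsLocallyNoetherian X]
    [IsLocallyNoetherian X'] (f : X ⟶ S)
    (F : X.Modules) [F.IsQuasicoherent] (g : S' ⟶ S) (f' : X' ⟶ S') (g' : X' ⟶ X)
    (hc : IsPullback g' f' f g) (x' : X') :
    x' ∈ MoreMor.relAss f' ((Scheme.Modules.pullback g').obj F) ↔
      g' x' ∈ MoreMor.relAss f F ∧
        ∀ x'' : X', f' x'' = f' x' → g' x'' = g' x' → x'' ⤳ x' → x'' = x' := by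
  have hw : f (g' x') = g (f' x') := by
    rw [← Scheme.Hom.comp_apply, ← Scheme.Hom.comp_apply, hc.w]
  obtain ⟨_, ⟨S₀, hS₀ : IsAffineOpen S₀, rfl⟩, hsS₀, -⟩ :=
    S.isBasis_affineOpens.exists_subset_of_mem_open (Set.mem_univ (g (f' x'))) isOpen_univ
  obtain ⟨_, ⟨S'₀, hS'₀ : IsAffineOpen S'₀, rfl⟩, hs', hSS⟩ :=
    S'.isBasis_affineOpens.exists_subset_of_mem_open
      (show f' x' ∈ ((g ⁻¹ᵁ S₀ : S'.Opens) : Set S') from hsS₀) (g ⁻¹ᵁ S₀).isOpen
  obtain ⟨_, ⟨W, hW : IsAffineOpen W, rfl⟩, hxW, hWS⟩ :=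
    X.isBasis_affineOpens.exists_subset_of_mem_open
      (show g' x' ∈ ((f ⁻¹ᵁ S₀ : X.Opens) : Set X) from by
        change f (g' x') ∈ S₀
        rw [hw]; exact hsS₀) (f ⁻¹ᵁ S₀).isOpen
  obtain ⟨W', hW'def⟩ : ∃ W' : X'.Opens, W' = g' ⁻¹ᵁ W ⊓ f' ⁻¹ᵁ S'₀ := ⟨_, rfl⟩
  have hW'W : W' ≤ g' ⁻¹ᵁ W := by rw [hW'def]; exact inf_le_left
  have hW'S' : W' ≤ f' ⁻¹ᵁ S'₀ := by rw [hW'def]; exact inf_le_right
  have hW' : IsAffineOpen W' := GFl.isAffineOpen_of_isPullback hc hS₀ hS'₀ hW hSS hWS hW'def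
  have hpo := GFl.isPushout_appLE_of_isPullback hc hS₀ hS'₀ hW hSS hWS hW'def
  letI algAC : Algebra Γ(S, S₀) Γ(X, W) := (f.appLE S₀ W hWS).hom.toAlgebra
  letI algAA' : Algebra Γ(S, S₀) Γ(S', S'₀) := (g.appLE S₀ S'₀ hSS).hom.toAlgebra
  letI algA'C' : Algebra Γ(S', S'₀) Γ(X', W') := (f'.appLE S'₀ W' hW'S').hom.toAlgebra
  letI algCC' : Algebra Γ(X, W) Γ(X', W') := (g'.appLE W W' hW'W).hom.toAlgebra
  letI algAC' : Algebra Γ(S, S₀) Γ(X', W') :=
    ((g'.appLE W W' hW'W).hom.comp (f.appLE S₀ W hWS).hom).toAlgebra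
  haveI tw1 : IsScalarTower Γ(S, S₀) Γ(X, W) Γ(X', W') :=
    IsScalarTower.of_algebraMap_eq (fun _ => rfl)
  haveI tw2 : IsScalarTower Γ(S, S₀) Γ(S', S'₀) Γ(X', W') :=
    IsScalarTower.of_algebraMap_eq (fun r => by
      have hw := hpo.w
      exact congr($(hw).hom r))
  haveI hpo1 : Algebra.IsPushout Γ(S, S₀) Γ(X, W) Γ(S', S'₀) Γ(X', W') :=
    CommRingCat.isPushout_iff_isPushout.mp hpo
  haveI hpo2 : Algebra.IsPushout Γ(S, S₀) Γ(S', S'₀) Γ(X, W) Γ(X', W') := hpo1.symm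
  letI modAM : Module Γ(S, S₀) Γ(F, W) := Module.compHom _ (f.appLE S₀ W hWS).hom
  haveI twM : IsScalarTower Γ(S, S₀) Γ(X, W) Γ(F, W) :=
    IsScalarTower.of_algebraMap_smul (fun r m => rfl)
  letI modA'M' : Module Γ(S', S'₀) Γ((Scheme.Modules.pullback g').obj F, W') :=
    Module.compHom _ (f'.appLE S'₀ W' hW'S').hom
  haveI twM' : IsScalarTower Γ(S', S'₀) Γ(X', W') Γ((Scheme.Modules.pullback g').obj F, W') :=
    IsScalarTower.of_algebraMap_smul (fun r m => rfl)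
  haveI hnC : IsNoetherianRing Γ(X, W) := IsLocallyNoetherian.component_noetherian ⟨W, hW⟩
  haveI hnC' : IsNoetherianRing Γ(X', W') := IsLocallyNoetherian.component_noetherian ⟨W', hW'⟩
  have e : Γ((Scheme.Modules.pullback g').obj F, W') ≃ₗ[Γ(X', W')]
      Γ(X', W') ⊗[Γ(X, W)] Γ(F, W) := pullbackSectionsEquiv g' F hW' hW hW'W
  obtain ⟨p', hp'⟩ : ∃ p' : Ideal Γ(S', S'₀), p' = (hS'₀.primeIdealOf ⟨f' x', hs'⟩).asIdeal :=
    ⟨_, rfl⟩
  haveI hp'p : p'.IsPrime := by rw [hp']; infer_instance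
  obtain ⟨p, hpdef⟩ : ∃ p : Ideal Γ(S, S₀), p = (hS₀.primeIdealOf ⟨g (f' x'), hSS hs'⟩).asIdeal :=
    ⟨_, rfl⟩
  haveI hpp : p.IsPrime := by rw [hpdef]; infer_instance
  have hp : p'.comap (algebraMap Γ(S, S₀) Γ(S', S'₀)) = p := by
    rw [hp', hpdef]
    exact congrArg PrimeSpectrum.asIdeal
      (IsAffineOpen.comap_primeIdealOf_appLE S₀ hS₀ S'₀ hS'₀ hSS hs')
  have hpx' : ∀ (y' : X') (hy'W' : y' ∈ W'), f' y' = f' x' →
      (hW'.primeIdealOf ⟨y', hy'W'⟩).asIdeal.comap (algebraMap Γ(S', S'₀) Γ(X', W')) = p' := by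
    intro y' hy'W' hfy'
    have h1 := congrArg PrimeSpectrum.asIdeal
      (IsAffineOpen.comap_primeIdealOf_appLE S'₀ hS'₀ W' hW' hW'S' hy'W')
    refine h1.trans ?_
    rw [hp']
    congr 2
    exact Subtype.ext hfy'
  have hqx' : ∀ (y' : X') (hy'W' : y' ∈ W'),
      (hW'.primeIdealOf ⟨y', hy'W'⟩).asIdeal.comap (algebraMap Γ(X, W) Γ(X', W')) =
        (hW.primeIdealOf ⟨g' y', hW'W hy'W'⟩).asIdeal := by
    intro y' hy'W'
    exact congrArg PrimeSpectrum.asIdeal
      (IsAffineOpen.comap_primeIdealOf_appLE W hW W' hW' hW'W hy'W')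
  have hx'W' : x' ∈ W' := by
    rw [hW'def]
    exact ⟨hxW, hs'⟩
  haveI hnR : IsNoetherianRing (p.Fiber Γ(X, W)) := isNoetherianRing_fiber p
  haveI hnR' : IsNoetherianRing (p'.Fiber Γ(X', W')) := isNoetherianRing_fiber p'
  rw [mem_relAss_iff f' ((Scheme.Modules.pullback g').obj F) hS'₀ hW' hW'S' x' hx'W',
    mem_relAss_iff f F hS₀ hW hWS (g' x') (hW'W hx'W'), ← hqx' x' hx'W',
    relAssAt_baseChange_iff_N e p' p hp (hW'.primeIdealOf ⟨x', hx'W'⟩).asIdeal
      (hpx' x' hx'W' rfl)]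
  refine and_congr_right fun _ => ?_
  constructor
  · intro hmin x'' hfx'' hgx'' hspec
    have hx''W' : x'' ∈ W' := hspec.mem_open W'.isOpen hx'W'
    have h1 := hmin (hW'.primeIdealOf ⟨x'', hx''W'⟩).asIdeal inferInstance
      ((primeIdealOf_le_iff_specializes hW' x'' x' hx''W' hx'W').mpr hspec)
      (hpx' x'' hx''W' hfx'') (by
        rw [hqx' x'' hx''W', hqx' x' hx'W']
        congr 2
        exact Subtype.ext hgx'')
    exact eq_of_primeIdealOf_eq' hW' x'' x' hx''W' hx'W' h1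
  · intro hmax q'' hq''p hle hq''A hq''C
    obtain ⟨x'', hx''W', hx''q⟩ := exists_point_of_prime' hW' ⟨q'', hq''p⟩
    have hx''q' : (hW'.primeIdealOf ⟨x'', hx''W'⟩).asIdeal = q'' :=
      congrArg PrimeSpectrum.asIdeal hx''q
    have h1 : x'' = x' := by
      refine hmax x'' ?_ ?_ ?_
      · apply eq_of_primeIdealOf_eq' hS'₀ _ _ (hW'S' hx''W') hs'
        rw [← hp', ← hq''A, ← hx''q']
        exact (congrArg PrimeSpectrum.asIdeal
          (IsAffineOpen.comap_primeIdealOf_appLE S'₀ hS'₀ W' hW' hW'S' hx''W')).symm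
      · apply eq_of_primeIdealOf_eq' hW _ _ (hW'W hx''W') (hW'W hx'W')
        rw [← hqx' x'' hx''W', ← hqx' x' hx'W', hx''q', hq''C]
      · rw [← primeIdealOf_le_iff_specializes hW' x'' x' hx''W' hx'W', hx''q']
        exact hle
    subst h1
    exact hx''q'.symm

end Groth.Agent.Lib.Helper6.RelAss
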