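import Mathlib
import Groth.Prelude.Def_MoreMor
import Groth.Prelude.Def_FDesc
import Groth.Prelude.Def_CohB1
import Groth.Prelude.Def_FlatMod2
import Groth.Agent.Lib.Helper6.AssTens1
import Groth.Agent.Lib.Helper6.AssTens4
import Groth.Agent.Lib.Helper6.RelAssN3
import Groth.Agent.Lib.Helper6.RelAss26
import Groth.Agent.Lib.Helper10.FibreProductStalk

/-!
# Associated points of `F ⊗_S G` on a fibre product, `G` flat over `S` (helper6)
-/

set_option autoImplicit false
set_option linter.style.haveILetI false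
set_option linter.unusedSectionVars false
universe u

open CategoryTheory CategoryTheory.Limits AlgebraicGeometry TopologicalSpace Opposite TensorProduct
open Groth.Agent.Lib.Helper6.RelAss

namespace Groth.Agent.Lib.Helper6.AssTens

variable {X Y S : Scheme.{u}}

/-- the associated points of `F ⊗_S G`: a point `z` is associated iff its image in `X` is
associated to `F`, its image in `Y` is a relative associated point of `G` and `z` is maximal among
the points with the same two projections -/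
theorem mem_ass_tensorS_iff (f : X ⟶ S) (g : Y ⟶ S) [IsLocallyNoetherian X]
    [IsLocallyNoetherian Y] [IsLocallyNoetherian (pullback f g)]
    (F : X.Modules) [F.IsQuasicoherent] (G : Y.Modules) [G.IsQuasicoherent]
    (hGfl : FlatMod.IsFlatOver g G) (z : ↥(pullback f g)) :
    z ∈ AssSch.Ass (CohB1.tensorMod ((Scheme.Modules.pullback (pullback.fst f g)).obj F)
        ((Scheme.Modules.pullback (pullback.snd f g)).obj G)) ↔
      pullback.fst f g z ∈ AssSch.Ass F ∧ pullback.snd f g z ∈ MoreMor.relAss g G ∧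
        ∀ z'' : ↥(pullback f g), pullback.fst f g z'' = pullback.fst f g z →
          pullback.snd f g z'' = pullback.snd f g z → z'' ⤳ z → z'' = z := by
  have hc : IsPullback (pullback.snd f g) (pullback.fst f g) g f :=
    (IsPullback.of_hasPullback f g).flip
  have hfl : FlatMod.IsFlatOverAt (pullback.fst f g)
      ((Scheme.Modules.pullback (pullback.snd f g)).obj G) z :=
    Groth.Agent.Lib.Helper10.FibreProductStalk.isFlatOverAt_baseChange z G hc (hGfl _)
  rw [mem_ass_tensor_pullback_iff (pullback.fst f g) F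
      ((Scheme.Modules.pullback (pullback.snd f g)).obj G) z hfl,
    mem_relAss_pullback_iff_N g G f (pullback.fst f g) (pullback.snd f g) hc z]

theorem comm_apply (f : X ⟶ S) (g : Y ⟶ S) (z : ↥(pullback f g)) :
    g (pullback.snd f g z) = f (pullback.fst f g z) := by
  rw [← Scheme.Hom.comp_apply, ← Scheme.Hom.comp_apply, pullback.condition]

/-- S4670 -/
theorem snd_mem_ass_of_mem_ass_tensorS (f : X ⟶ S) (g : Y ⟶ S) [IsLocallyNoetherian X]
    [IsLocallyNoetherian Y] [IsLocallyNoetherian S] [IsLocallyNoetherian (pullback f g)]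
    (F : X.Modules) [F.IsQuasicoherent] (G : Y.Modules) [G.IsQuasicoherent]
    (hGfl : FlatMod.IsFlatOver g G)
    (hAss : ∀ x ∈ AssSch.Ass F, f x ∈ AssSch.Ass (Coh.structureModule S))
    (z : ↥(pullback f g))
    (hz : z ∈ AssSch.Ass (CohB1.tensorMod ((Scheme.Modules.pullback (pullback.fst f g)).obj F)
      ((Scheme.Modules.pullback (pullback.snd f g)).obj G))) :
    pullback.snd f g z ∈ AssSch.Ass G := by
  obtain ⟨hx, hyrel, -⟩ := (mem_ass_tensorS_iff f g F G hGfl z).mp hz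
  refine mem_ass_of_mem_relAss g G _ (hGfl _) hyrel ?_
  rw [comm_apply]
  exact hAss _ hx

/-- S4671 -/
theorem noEmbedded_tensorS_of_noEmbedded (f : X ⟶ S) (g : Y ⟶ S) [IsLocallyNoetherian X]
    [IsLocallyNoetherian Y] [IsLocallyNoetherian S] [IsLocallyNoetherian (pullback f g)]
    (F : X.Modules) [F.IsQuasicoherent] (G : Y.Modules) [G.IsQuasicoherent]
    (hGfl : FlatMod.IsFlatOver g G)
    (hAss : ∀ x ∈ AssSch.Ass F, f x ∈ AssSch.Ass (Coh.structureModule S))
    (hFne : AssSch.NoEmbedded F) (hGne : AssSch.NoEmbedded G) :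
    AssSch.NoEmbedded (CohB1.tensorMod ((Scheme.Modules.pullback (pullback.fst f g)).obj F)
      ((Scheme.Modules.pullback (pullback.snd f g)).obj G)) := by
  intro z₁ hz₁ z₂ hz₂ hspec
  obtain ⟨hx₁, -, hmax₁⟩ := (mem_ass_tensorS_iff f g F G hGfl z₁).mp hz₁
  obtain ⟨hx₂, -, -⟩ := (mem_ass_tensorS_iff f g F G hGfl z₂).mp hz₂
  have hxx := hFne _ hx₁ _ hx₂ (hspec.map (pullback.fst f g).continuous)
  have hy₁ := snd_mem_ass_of_mem_ass_tensorS f g F G hGfl hAss z₁ hz₁
  have hy₂ := snd_mem_ass_of_mem_ass_tensorS f g F G hGfl hAss z₂ hz₂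
  have hyy := hGne _ hy₁ _ hy₂ (hspec.map (pullback.snd f g).continuous)
  exact (hmax₁ z₂ hxx.symm hyy.symm hspec).symm

/-- S4685 -/
theorem noEmbedded_tensorS_of_noEmbedded_fibre (f : X ⟶ S) (g : Y ⟶ S) [IsLocallyNoetherian X]
    [IsLocallyNoetherian Y] [IsLocallyNoetherian (pullback f g)]
    (F : X.Modules) [F.IsQuasicoherent] (G : Y.Modules) [G.IsQuasicoherent]
    (hGfl : FlatMod.IsFlatOver g G) (hFne : AssSch.NoEmbedded F)
    (hGne : ∀ s : ↥S, AssSch.NoEmbedded ((Scheme.Modules.pullback (g.fiberι s)).obj G)) :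
    AssSch.NoEmbedded (CohB1.tensorMod ((Scheme.Modules.pullback (pullback.fst f g)).obj F)
      ((Scheme.Modules.pullback (pullback.snd f g)).obj G)) := by
  intro z₁ hz₁ z₂ hz₂ hspec
  obtain ⟨hx₁, hy₁, hmax₁⟩ := (mem_ass_tensorS_iff f g F G hGfl z₁).mp hz₁
  obtain ⟨hx₂, hy₂, -⟩ := (mem_ass_tensorS_iff f g F G hGfl z₂).mp hz₂
  have hxx := hFne _ hx₁ _ hx₂ (hspec.map (pullback.fst f g).continuous)
  obtain ⟨y₁, hy₁def⟩ : ∃ y₁ : Y, y₁ = pullback.snd f g z₁ := ⟨_, rfl⟩
  obtain ⟨y₂, hy₂def⟩ : ∃ y₂ : Y, y₂ = pullback.snd f g z₂ := ⟨_, rfl⟩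
  rw [← hy₁def] at hy₁
  rw [← hy₂def] at hy₂
  have hsp : y₂ ⤳ y₁ := by
    rw [hy₁def, hy₂def]
    exact hspec.map (pullback.snd f g).continuous
  have hgy : g y₂ = g y₁ := by
    rw [hy₁def, hy₂def, comm_apply, comm_apply, hxx]
  have hy₂r : y₂ ∈ Set.range (g.fiberι (g y₁)) := by
    rw [g.range_fiberι (g y₁)]
    exact hgy
  obtain ⟨w₂, rfl⟩ := hy₂r
  have hι : (g.fiberι (g y₁)) (g.asFiber y₁) = y₁ := Scheme.Hom.fiberι_asFiber g y₁
  have h1 : g.asFiber y₁ ∈ AssSch.Ass ((Scheme.Modules.pullback (g.fiberι (g y₁))).obj G) :=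
    (isAssPoint_fiber_iff g G (g y₁) (g.asFiber y₁)).mpr (by rw [hι]; exact hy₁)
  have h2 : w₂ ∈ AssSch.Ass ((Scheme.Modules.pullback (g.fiberι (g y₁))).obj G) :=
    (isAssPoint_fiber_iff g G (g y₁) w₂).mpr hy₂
  have hsp' : w₂ ⤳ g.asFiber y₁ := by
    rw [← (g.fiberι (g y₁)).isEmbedding.isInducing.specializes_iff, hι]
    exact hsp
  have h3 := hGne (g y₁) _ h1 _ h2 hsp'
  have hyy : pullback.snd f g z₂ = pullback.snd f g z₁ := by
    rw [← hy₁def, ← hy₂def, ← h3, hι]
  exact (hmax₁ z₂ hxx.symm hyy hspec).symm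

end Groth.Agent.Lib.Helper6.AssTens
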