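import Mathlib

/-!
# Ring-level lemmas for the weighting `length * insep degree`
-/

set_option autoImplicit false
universe u

open IsLocalRing TensorProduct

namespace Groth.Agent.Lib.Helper6.FibRank

section A

variable {Ry Ry' Rx Rv Ru : Type u} [CommRing Ry] [CommRing Ry'] [CommRing Rx] [CommRing Rv]
  [CommRing Ru] [IsLocalRing Ry] [IsLocalRing Ry'] [IsLocalRing Rx] [IsLocalRing Rv]
  [IsLocalRing Ru]

theorem map_maximalIdeal_ringEquiv (θ : Ry ≃+* Ry') :
    Ideal.map θ.toRingHom (maximalIdeal Ry) = maximalIdeal Ry' := by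
  haveI : (Ideal.map θ.toRingHom (maximalIdeal Ry)).IsMaximal := by
    refine Ideal.IsMaximal.map_of_surjective_of_ker_le (f := θ.toRingHom) θ.surjective ?_
    have : RingHom.ker θ.toRingHom = ⊥ := (RingHom.injective_iff_ker_eq_bot _).mp θ.injective
    rw [this]
    exact bot_le
  exact IsLocalRing.eq_maximalIdeal inferInstance

theorem length_quotient_eq (a : Ry →+* Rx) (b : Rx →+* Ru) (c : Ry' →+* Rv) (d : Rv →+* Ru)
    (θ : Ry ≃+* Ry') (hcomm : b.comp a = (d.comp c).comp θ.toRingHom)
    [IsLocalHom b] (hbflat : b.Flat) (hb : Ideal.map b (maximalIdeal Rx) = maximalIdeal Ru)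
    (hc : Ideal.map c (maximalIdeal Ry') = maximalIdeal Rv) :
    Module.length Ru (Ru ⧸ Ideal.map d (maximalIdeal Rv)) =
      Module.length Rx (Rx ⧸ Ideal.map a (maximalIdeal Ry)) := by
  have h1 : Ideal.map d (maximalIdeal Rv) = Ideal.map b (Ideal.map a (maximalIdeal Ry)) := by
    rw [← hc, Ideal.map_map, ← map_maximalIdeal_ringEquiv θ, Ideal.map_map, Ideal.map_map, hcomm]
  rw [h1]
  letI : Algebra Rx Ru := b.toAlgebra
  haveI : Module.Flat Rx Ru := hbflat
  haveI : IsLocalHom (algebraMap Rx Ru) := ‹IsLocalHom b›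
  set I := Ideal.map a (maximalIdeal Ry) with hI
  have e := (Algebra.TensorProduct.quotIdealMapEquivTensorQuot Ru I).toLinearEquiv
  have h2 : Ideal.map b I = I.map (algebraMap Rx Ru) := rfl
  rw [h2, e.length_eq, IsLocalRing.length_baseChange Rx Ru (Rx ⧸ I)]
  have h3 : (maximalIdeal Rx).map (algebraMap Rx Ru) = maximalIdeal Ru := hb
  rw [h3]
  have h4 : Module.length Ru (Ru ⧸ maximalIdeal Ru) = 1 := by
    rw [Module.length_eq_one_iff, isSimpleModule_iff_isCoatom, ← Ideal.isMaximal_def]
    infer_instance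
  rw [h4, mul_one]

end A

section B

variable {k k' E M L : Type u} [Field k] [Field k'] [Field E] [Field M] [Field L]

theorem finInsepDegree_eq (a : k →+* E) (b : E →+* L) (c : k' →+* M) (d : M →+* L)
    (θ : k ≃+* k') (hcomm : b.comp a = (d.comp c).comp θ.toRingHom)
    (hsepb : letI := b.toAlgebra; Algebra.IsSeparable E L)
    (hsepc : letI := c.toAlgebra; Algebra.IsSeparable k' M)
    (halg : letI := a.toAlgebra; Algebra.IsAlgebraic k E) :
    (letI := a.toAlgebra; Field.finInsepDegree k E) =
      (letI := d.toAlgebra; Field.finInsepDegree M L) := by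
  letI aA : Algebra k E := a.toAlgebra
  letI bA : Algebra E L := b.toAlgebra
  letI dA : Algebra M L := d.toAlgebra
  letI cA : Algebra k' M := c.toAlgebra
  letI kM : Algebra k M := (c.comp θ.toRingHom).toAlgebra
  letI kL : Algebra k L := (b.comp a).toAlgebra
  haveI : IsScalarTower k E L := IsScalarTower.of_algebraMap_eq (fun _ => rfl)
  haveI : IsScalarTower k M L := IsScalarTower.of_algebraMap_eq (fun x => by
    change (b.comp a) x = d (c (θ x))
    rw [hcomm]
    rfl)
  haveI : Algebra.IsSeparable E L := hsepb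
  haveI : Algebra.IsSeparable k' M := hsepc
  haveI : Algebra.IsAlgebraic k E := halg
  haveI : Algebra.IsSeparable k M :=
    Algebra.IsSeparable.of_equiv_equiv θ.symm (RingEquiv.refl M) (by
      ext x
      change c (θ (θ.symm x)) = c x
      rw [RingEquiv.apply_symm_apply])
  haveI : Algebra.IsAlgebraic k M := Algebra.IsSeparable.isAlgebraic k M
  have h1 := Field.finInsepDegree_mul_finInsepDegree_of_isAlgebraic k E L
  have h2 := Field.finInsepDegree_mul_finInsepDegree_of_isAlgebraic k M L
  rw [Algebra.IsSeparable.finInsepDegree_eq (F := E) (E := L), mul_one] at h1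
  rw [Algebra.IsSeparable.finInsepDegree_eq (F := k) (E := M), one_mul] at h2
  exact h1.trans h2.symm

end B

end Groth.Agent.Lib.Helper6.FibRank
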