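import Mathlib
import Groth.Agent.Lib.Helper4.EtNbhd3

/-!
# Stalk maps of étale morphisms: unramifiedness
-/

set_option autoImplicit false
universe u

open CategoryTheory CategoryTheory.Limits AlgebraicGeometry IsLocalRing

namespace Groth.Agent.Lib.Helper6.FibRank

/-- an essentially étale local algebra is essentially of finite type and formally unramified -/
theorem essFiniteType_formallyUnramified_of_isEssentiallyEtale (A B : Type u) [CommRing A]
    [IsLocalRing A] [CommRing B] [Algebra A B] (h : EGA4loc.IsEssentiallyEtale A B) :
    Algebra.EssFiniteType A B ∧ Algebra.FormallyUnramified A B := by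
  obtain ⟨C, _, _, q, _, hEt, -, ⟨e⟩⟩ := h
  haveI := hEt
  haveI : Algebra.FormallyUnramified C (Localization.AtPrime q) :=
    Algebra.FormallyUnramified.of_isLocalization q.primeCompl
  haveI : Algebra.FormallyUnramified A (Localization.AtPrime q) :=
    Algebra.FormallyUnramified.comp A C _
  haveI : Algebra.EssFiniteType A (Localization.AtPrime q) := inferInstance
  exact ⟨(Algebra.EssFiniteType.iff_of_algEquiv e).mpr inferInstance,
    Algebra.FormallyUnramified.of_equiv e.symm⟩

theorem etale_stalkMap {U X : Scheme.{u}} (g : U ⟶ X) [Etale g] (u : U) :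
    letI := (g.stalkMap u).hom.toAlgebra
    Algebra.EssFiniteType (X.presheaf.stalk (g u)) (U.presheaf.stalk u) ∧
      Algebra.FormallyUnramified (X.presheaf.stalk (g u)) (U.presheaf.stalk u) := by
  letI := (g.stalkMap u).hom.toAlgebra
  exact essFiniteType_formallyUnramified_of_isEssentiallyEtale _ _
    (Groth.Agent.Lib.Helper4.EtNbhd.essEtale_stalkMap g u)

/-- the maximal ideal generates the maximal ideal along an étale morphism -/
theorem map_maximalIdeal_of_etale {U X : Scheme.{u}} (g : U ⟶ X) [Etale g] (u : U) :
    Ideal.map (g.stalkMap u).hom (maximalIdeal (X.presheaf.stalk (g u))) =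
      maximalIdeal (U.presheaf.stalk u) := by
  letI := (g.stalkMap u).hom.toAlgebra
  obtain ⟨h1, h2⟩ := etale_stalkMap g u
  haveI : IsLocalHom (algebraMap (X.presheaf.stalk (g u)) (U.presheaf.stalk u)) :=
    inferInstanceAs (IsLocalHom (g.stalkMap u).hom)
  exact Algebra.FormallyUnramified.map_maximalIdeal

/-- the residue field extension of an étale morphism is separable -/
theorem isSeparable_residueField_of_etale {U X : Scheme.{u}} (g : U ⟶ X) [Etale g] (u : U) :
    letI := (g.residueFieldMap u).hom.toAlgebra
    Algebra.IsSeparable (X.residueField (g u)) (U.residueField u) := by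
  letI := (g.stalkMap u).hom.toAlgebra
  obtain ⟨h1, h2⟩ := etale_stalkMap g u
  haveI : IsLocalHom (algebraMap (X.presheaf.stalk (g u)) (U.presheaf.stalk u)) :=
    inferInstanceAs (IsLocalHom (g.stalkMap u).hom)
  have key : Algebra.IsSeparable (ResidueField (X.presheaf.stalk (g u)))
    (ResidueField (U.presheaf.stalk u)) := inferInstance
  have hinst : (g.residueFieldMap u).hom.toAlgebra =
      (ResidueField.instAlgebra : Algebra (ResidueField ↑(X.presheaf.stalk (g u)))
        (ResidueField ↑(U.presheaf.stalk u))) := by
    apply Algebra.algebra_ext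
    intro r
    rfl
  rw [hinst]
  exact key

end Groth.Agent.Lib.Helper6.FibRank
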