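import Mathlib
import Groth.Agent.Lib.Helper6.FibRank2
import Groth.Agent.Lib.Helper6.FibRank3
import Groth.Agent.Lib.Helper6.Wt2

/-!
# Invariance of `length * insep degree` under étale base change
-/

set_option autoImplicit false
universe u

open CategoryTheory CategoryTheory.Limits AlgebraicGeometry IsLocalRing

namespace Groth.Agent.Lib.Helper6.FibRank

variable {X Y V W : Scheme.{u}} (f : X ⟶ Y) (g : V ⟶ Y) (a : W ⟶ X) (π : W ⟶ V)

theorem length_eq_of_etale [Etale g] [Etale a] (hsq : a ≫ f = π ≫ g) (u : W) :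
    Module.length (W.presheaf.stalk u) (W.presheaf.stalk u ⧸
        Ideal.map (π.stalkMap u).hom (maximalIdeal (V.presheaf.stalk (π u)))) =
      Module.length (X.presheaf.stalk (a u)) (X.presheaf.stalk (a u) ⧸
        Ideal.map (f.stalkMap (a u)).hom (maximalIdeal (Y.presheaf.stalk (f (a u))))) := by
  have hpt : f (a u) = g (π u) := by
    rw [← Scheme.Hom.comp_apply, ← Scheme.Hom.comp_apply, hsq]
  let θ : Y.presheaf.stalk (f (a u)) ≃+* Y.presheaf.stalk (g (π u)) :=
    (Y.presheaf.stalkCongr (.of_eq hpt)).commRingCatIsoToRingEquiv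
  haveI : IsLocalHom (a.stalkMap u).hom := inferInstance
  refine length_quotient_eq (f.stalkMap (a u)).hom (a.stalkMap u).hom (g.stalkMap (π u)).hom
    (π.stalkMap u).hom θ ?_ (Flat.stalkMap a u) (map_maximalIdeal_of_etale a u)
    (map_maximalIdeal_of_etale g (π u))
  have h1 := Scheme.Hom.stalkMap_congr_hom (a ≫ f) (π ≫ g) hsq u
  rw [Scheme.Hom.stalkMap_comp, Scheme.Hom.stalkMap_comp] at h1
  ext r
  exact congrArg (fun m => m.hom r) h1

theorem finInsepDegree_eq_of_etale [Etale g] [Etale a] [LocallyQuasiFinite f]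
    (hsq : a ≫ f = π ≫ g) (u : W) :
    (letI := (f.residueFieldMap (a u)).hom.toAlgebra
     Field.finInsepDegree (Y.residueField (f (a u))) (X.residueField (a u))) =
    (letI := (π.residueFieldMap u).hom.toAlgebra
     Field.finInsepDegree (V.residueField (π u)) (W.residueField u)) := by
  have hpt : f (a u) = g (π u) := by
    rw [← Scheme.Hom.comp_apply, ← Scheme.Hom.comp_apply, hsq]
  let θ : Y.residueField (f (a u)) ≃+* Y.residueField (g (π u)) :=
    (Y.residueFieldCongr hpt).commRingCatIsoToRingEquiv
  refine finInsepDegree_eq (f.residueFieldMap (a u)).hom (a.residueFieldMap u).hom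
    (g.residueFieldMap (π u)).hom (π.residueFieldMap u).hom θ ?_
    (isSeparable_residueField_of_etale a u) (isSeparable_residueField_of_etale g (π u))
    (Wt.isAlgebraic_residueField f (a u))
  have h1 := Scheme.Hom.residueFieldMap_congr hsq u
  rw [Scheme.residueFieldMap_comp, Scheme.residueFieldMap_comp] at h1
  ext r
  exact congrArg (fun m => m.hom r) h1

end Groth.Agent.Lib.Helper6.FibRank
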