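import Mathlib
import Groth.Prelude.Def_MoreMor
import Groth.Prelude.Def_CurvBase
import Groth.Agent.Lib.Helper6.Wt2

/-!
# Counting the points of a geometric fibre of a finite scheme over a field
-/

set_option autoImplicit false
universe u

open CategoryTheory CategoryTheory.Limits AlgebraicGeometry

namespace Groth.Agent.Lib.Helper6.GeomCount

/-- The geometric fibres of a locally quasi-finite morphism are discrete. -/
theorem discreteTopology_geomFiber {X Y : Scheme.{u}} (f : X ⟶ Y) [LocallyQuasiFinite f] (y : Y) :
    DiscreteTopology ↥(MoreMor.geomFiber f y) := by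
  let q := AlgebraicGeometry.Spec.map (CommRingCat.ofHom
    (algebraMap (Y.residueField y) (SeparableClosure (Y.residueField y))))
  let p := CategoryTheory.Limits.pullback.snd (f.fiberToSpecResidueField y) q
  haveI : AlgebraicGeometry.LocallyQuasiFinite (f.fiberToSpecResidueField y) :=
    CategoryTheory.MorphismProperty.pullback_snd _ _ inferInstance
  haveI : AlgebraicGeometry.LocallyQuasiFinite p := inferInstance
  have hd := p.isDiscrete_preimage_singleton (default : ↥(AlgebraicGeometry.Spec
    (CommRingCat.of (SeparableClosure (Y.residueField y)))))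
  have huniv : (⇑p ⁻¹' {default}) = Set.univ := by
    ext z
    simp only [Set.mem_preimage, Set.mem_singleton_iff, Set.mem_univ, iff_true]
    exact Subsingleton.elim _ _
  rw [huniv] at hd
  exact isDiscrete_univ_iff.mp hd

/-- The number of geometric connected components of a fibre of a locally quasi-finite morphism
is the number of points of the geometric fibre. -/
theorem nGeomConnComp_eq_card {X Y : Scheme.{u}} (f : X ⟶ Y) [LocallyQuasiFinite f] (y : Y) :
    MoreMor.nGeomConnComp f y = ENat.card ↥(MoreMor.geomFiber f y) := by
  haveI := discreteTopology_geomFiber f y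
  unfold MoreMor.nGeomConnComp
  have hbij : Function.Bijective
      (_root_.ConnectedComponents.mk : ↥(MoreMor.geomFiber f y) → _root_.ConnectedComponents _) := by
    refine ⟨fun a b hab => ?_, ConnectedComponents.surjective_coe⟩
    have := ConnectedComponents.coe_eq_coe'.mp hab
    rw [connectedComponent_eq_singleton] at this
    exact this
  exact (ENat.card_congr (Equiv.ofBijective _ hbij)).symm

/-- The canonical map from a field `k` to the residue field of a point of `Spec k`. -/
noncomputable def baseMap (k : Type u) [Field k] (x : ↥(Spec (CommRingCat.of k))) :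
    k →+* (Spec (CommRingCat.of k)).residueField x :=
  ((Scheme.ΓSpecIso (CommRingCat.of k)).inv ≫
    (Spec (CommRingCat.of k)).presheaf.germ ⊤ x trivial ≫ (Spec (CommRingCat.of k)).residue x).hom

theorem baseMap_bijective (k : Type u) [Field k] (x : ↥(Spec (CommRingCat.of k))) :
    Function.Bijective (baseMap k x) := by
  unfold baseMap
  rw [← Scheme.Spec.algebraMap_residueFieldIso_inv]
  rw [CommRingCat.hom_comp, RingHom.coe_comp]
  refine Function.Bijective.comp
    (ConcreteCategory.bijective_of_isIso (Scheme.Spec.residueFieldIso (CommRingCat.of k) x).inv) ?_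
  exact (Ideal.algEquivResidueFieldOfField x.asIdeal).bijective

/-- Over a point of the spectrum of a separably closed field, separable degrees are one. -/
theorem finSepDegree_eq_one_of_sepClosed {Z : Scheme.{u}} (Ω : Type u) [Field Ω] [IsSepClosed Ω]
    (p : Z ⟶ Spec (CommRingCat.of Ω)) [LocallyQuasiFinite p] (z : Z) :
    (letI := (p.residueFieldMap z).hom.toAlgebra
     Field.finSepDegree ((Spec (CommRingCat.of Ω)).residueField (p z)) (Z.residueField z)) = 1 := by
  letI A2 : Algebra ((Spec (CommRingCat.of Ω)).residueField (p z)) (Z.residueField z) :=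
    (p.residueFieldMap z).hom.toAlgebra
  letI A1 : Algebra Ω ((Spec (CommRingCat.of Ω)).residueField (p z)) := (baseMap Ω (p z)).toAlgebra
  letI A3 : Algebra Ω (Z.residueField z) :=
    ((p.residueFieldMap z).hom.comp (baseMap Ω (p z))).toAlgebra
  haveI : IsScalarTower Ω ((Spec (CommRingCat.of Ω)).residueField (p z)) (Z.residueField z) :=
    IsScalarTower.of_algebraMap_eq (fun _ => rfl)
  haveI : Algebra.IsAlgebraic ((Spec (CommRingCat.of Ω)).residueField (p z)) (Z.residueField z) :=
    Wt.isAlgebraic_residueField p z
  haveI : Algebra.IsAlgebraic Ω ((Spec (CommRingCat.of Ω)).residueField (p z)) :=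
    ⟨fun x => by
      obtain ⟨y, rfl⟩ := (baseMap_bijective Ω (p z)).2 x
      exact isAlgebraic_algebraMap y⟩
  haveI : Algebra.IsAlgebraic Ω (Z.residueField z) :=
    Algebra.IsAlgebraic.trans Ω ((Spec (CommRingCat.of Ω)).residueField (p z)) (Z.residueField z)
  haveI : IsPurelyInseparable Ω (Z.residueField z) := inferInstance
  haveI : IsPurelyInseparable ((Spec (CommRingCat.of Ω)).residueField (p z)) (Z.residueField z) :=
    IsPurelyInseparable.tower_top Ω _ _
  exact IsPurelyInseparable.finSepDegree_eq_one _ _

/-- The fibre integral of the constant function `1` over the point of the spectrum of a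
separably closed field counts the points. -/
theorem fibreIntegral_one_of_sepClosed {Z : Scheme.{u}} (Ω : Type u) [Field Ω] [IsSepClosed Ω]
    (p : Z ⟶ Spec (CommRingCat.of Ω)) [LocallyQuasiFinite p]
    (z0 : ↥(Spec (CommRingCat.of Ω))) :
    MoreMor.fibreIntegral p (fun _ => 1) z0 = (Nat.card Z : ℤ) := by
  unfold MoreMor.fibreIntegral
  have h1 : ∀ u : {u : Z // p u = z0},
      (1 : ℤ) * (letI := (p.residueFieldMap u.1).hom.toAlgebra
        (Field.finSepDegree ((Spec (CommRingCat.of Ω)).residueField (p u.1))
          (Z.residueField u.1) : ℤ)) = 1 := by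
    intro u
    rw [one_mul]
    exact_mod_cast finSepDegree_eq_one_of_sepClosed Ω p u.1
  rw [finsum_congr h1]
  have hcard : Nat.card {u : Z // p u = z0} = Nat.card Z :=
    Nat.card_congr (Equiv.subtypeUnivEquiv (fun u => Subsingleton.elim _ _))
  rw [← hcard]
  rcases finite_or_infinite {u : Z // p u = z0} with hfin | hinf
  · haveI := Fintype.ofFinite {u : Z // p u = z0}
    rw [finsum_eq_sum_of_fintype, Finset.sum_const, Nat.card_eq_fintype_card]
    simp
  · rw [Nat.card_eq_zero_of_infinite, finsum_of_infinite_support]
    · simp
    · have : (Function.support fun _ : {u : Z // p u = z0} => (1 : ℤ)) = Set.univ := by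
        ext u
        simp
      rw [this]
      exact Set.infinite_univ

end Groth.Agent.Lib.Helper6.GeomCount
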