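import Mathlib
import Groth.Agent.Lib.Helper6.GeomCount1

/-!
# Geometric number of connected components of a finite scheme over a field
-/

set_option autoImplicit false
universe u

open CategoryTheory CategoryTheory.Limits AlgebraicGeometry
attribute [local instance] Curv2.resAlgebra

namespace Groth.Agent.Lib.Helper6.GeomCount

/-- The structure map `k → κ(s)` factors through the residue field of the image point. -/
theorem resMap_eq (k : Type u) [Field k] (S' : Scheme.{u}) [S'.Over (Spec (CommRingCat.of k))]
    (s : S') :
    Curv2.resMap k S' s = ((S' ↘ Spec (CommRingCat.of k)).residueFieldMap s).hom.comp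
      (baseMap k ((S' ↘ Spec (CommRingCat.of k)) s)) := by
  set f := S' ↘ Spec (CommRingCat.of k) with hf
  have key : (Scheme.ΓSpecIso (CommRingCat.of k)).inv ≫ f.appTop ≫
      S'.presheaf.germ ⊤ s trivial ≫ S'.residue s =
      ((Scheme.ΓSpecIso (CommRingCat.of k)).inv ≫
        (Spec (CommRingCat.of k)).presheaf.germ ⊤ (f s) trivial ≫
          (Spec (CommRingCat.of k)).residue (f s)) ≫ f.residueFieldMap s := by
    simp only [Category.assoc]
    rw [Scheme.residue_residueFieldMap, Scheme.Hom.germ_stalkMap_assoc]
    rfl
  apply RingHom.ext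
  intro r
  exact congrArg (fun g => g.hom r) key

theorem finSepDegree_eq (k : Type u) [Field k] (S' : Scheme.{u})
    [S'.Over (Spec (CommRingCat.of k))] [LocallyQuasiFinite (S' ↘ (Spec (CommRingCat.of k)))]
    (s : S') :
    (letI := ((S' ↘ Spec (CommRingCat.of k)).residueFieldMap s).hom.toAlgebra
     Field.finSepDegree ((Spec (CommRingCat.of k)).residueField ((S' ↘ Spec (CommRingCat.of k)) s))
      (S'.residueField s)) = Field.finSepDegree k (S'.residueField s) := by
  set f := S' ↘ Spec (CommRingCat.of k) with hf
  letI A2 : Algebra ((Spec (CommRingCat.of k)).residueField (f s)) (S'.residueField s) :=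
    (f.residueFieldMap s).hom.toAlgebra
  letI A1 : Algebra k ((Spec (CommRingCat.of k)).residueField (f s)) := (baseMap k (f s)).toAlgebra
  haveI : IsScalarTower k ((Spec (CommRingCat.of k)).residueField (f s)) (S'.residueField s) :=
    IsScalarTower.of_algebraMap_eq (fun r => congrArg (fun g => g r) (resMap_eq k S' s))
  haveI : Algebra.IsAlgebraic ((Spec (CommRingCat.of k)).residueField (f s)) (S'.residueField s) :=
    Wt.isAlgebraic_residueField f s
  haveI : IsPurelyInseparable k ((Spec (CommRingCat.of k)).residueField (f s)) := by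
    rw [isPurelyInseparable_iff]
    intro x
    obtain ⟨y, rfl⟩ := (baseMap_bijective k (f s)).2 x
    exact ⟨isIntegral_algebraMap, fun _ => ⟨y, rfl⟩⟩
  have h1 := Field.finSepDegree_mul_finSepDegree_of_isAlgebraic k
    ((Spec (CommRingCat.of k)).residueField (f s)) (S'.residueField s)
  rw [IsPurelyInseparable.finSepDegree_eq_one, one_mul] at h1
  exact h1

/-- **The geometric number of connected components of a finite `k`-scheme** is the sum of the
separable degrees of its residue fields. -/
theorem main (k : Type u) [Field k] (S' : Scheme.{u}) [S'.Over (Spec (CommRingCat.of k))]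
    [IsFinite (S' ↘ (Spec (CommRingCat.of k)))] (pt : ↥(Spec (CommRingCat.of k))) :
    MoreMor.nGeomConnComp (S' ↘ (Spec (CommRingCat.of k))) pt =
      ((∑ᶠ s' : S', Field.finSepDegree k (S'.residueField s') : ℕ) : ℕ∞) := by
  set f := S' ↘ Spec (CommRingCat.of k) with hf
  rw [nGeomConnComp_eq_card]
  let Ks := SeparableClosure ((Spec (CommRingCat.of k)).residueField pt)
  let q : Spec (CommRingCat.of Ks) ⟶ Spec ((Spec (CommRingCat.of k)).residueField pt) :=
    Spec.map (CommRingCat.ofHom (algebraMap ((Spec (CommRingCat.of k)).residueField pt) Ks))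
  let φ := f.fiberToSpecResidueField pt
  let p : MoreMor.geomFiber f pt ⟶ Spec (CommRingCat.of Ks) := pullback.snd φ q
  let h : MoreMor.geomFiber f pt ⟶ f.fiber pt := pullback.fst φ q
  haveI : IsFinite φ := MorphismProperty.pullback_snd _ _ inferInstance
  haveI : IsFinite p := MorphismProperty.pullback_snd _ _ inferInstance
  have hc : IsPullback (h ≫ f.fiberι pt) p f
      (q ≫ (Spec (CommRingCat.of k)).fromSpecResidueField pt) :=
    (IsPullback.of_hasPullback φ q).paste_horiz
      (show IsPullback (f.fiberι pt) (f.fiberToSpecResidueField pt) f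
        ((Spec (CommRingCat.of k)).fromSpecResidueField pt) from IsPullback.of_hasPullback _ _)
  have hfin : ∀ v : ↥(Spec (CommRingCat.of k)), (f ⁻¹' {v}).Finite :=
    fun v => f.finite_preimage_singleton v
  let z0 : ↥(Spec (CommRingCat.of Ks)) := IsLocalRing.closedPoint Ks
  have e1 : MoreMor.fibreIntegral p (fun _ => 1) z0 = MoreMor.fibreIntegral f (fun _ => 1)
      ((q ≫ (Spec (CommRingCat.of k)).fromSpecResidueField pt) z0) :=
    Wt.fibreIntegral_baseChange hc hfin (fun _ => 1) z0
  have e2 := fibreIntegral_one_of_sepClosed Ks p z0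
  -- the geometric fibre is finite
  haveI hZfin : Finite ↥(MoreMor.geomFiber f pt) := by
    have := p.finite_preimage_singleton z0
    have huniv : (⇑p ⁻¹' {z0}) = Set.univ := by
      ext z
      simp only [Set.mem_preimage, Set.mem_singleton_iff, Set.mem_univ, iff_true]
      exact Subsingleton.elim _ _
    rw [huniv] at this
    exact Set.finite_univ_iff.mp this
  haveI hSfin : Finite ↥S' := by
    have := hfin pt
    have huniv : (⇑f ⁻¹' {pt}) = Set.univ := by
      ext z
      simp only [Set.mem_preimage, Set.mem_singleton_iff, Set.mem_univ, iff_true]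
      exact Subsingleton.elim _ _
    rw [huniv] at this
    exact Set.finite_univ_iff.mp this
  -- the right-hand fibre integral
  have e3 : MoreMor.fibreIntegral f (fun _ => 1)
      ((q ≫ (Spec (CommRingCat.of k)).fromSpecResidueField pt) z0) =
      ((∑ᶠ s' : S', Field.finSepDegree k (S'.residueField s') : ℕ) : ℤ) := by
    unfold MoreMor.fibreIntegral
    have h1 : ∀ u : {u : S' // f u = (q ≫ (Spec (CommRingCat.of k)).fromSpecResidueField pt) z0},
        (1 : ℤ) * (letI := (f.residueFieldMap u.1).hom.toAlgebra
          (Field.finSepDegree ((Spec (CommRingCat.of k)).residueField (f u.1))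
            (S'.residueField u.1) : ℤ)) =
        ((Field.finSepDegree k (S'.residueField u.1) : ℕ) : ℤ) := by
      intro u
      rw [one_mul]
      exact_mod_cast finSepDegree_eq k S' u.1
    rw [finsum_congr h1]
    let e : {u : S' // f u = (q ≫ (Spec (CommRingCat.of k)).fromSpecResidueField pt) z0} ≃ S' :=
      Equiv.subtypeUnivEquiv (fun u => Subsingleton.elim _ _)
    have h2 := finsum_comp_equiv e
      (f := fun s' : S' => ((Field.finSepDegree k (S'.residueField s') : ℕ) : ℤ))
    exact h2.trans ((Nat.castAddMonoidHom ℤ).map_finsum (Set.toFinite _)).symm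
  rw [ENat.card_eq_coe_natCard]
  have e4 : (Nat.card ↥(MoreMor.geomFiber f pt) : ℤ) =
      ((∑ᶠ s' : S', Field.finSepDegree k (S'.residueField s') : ℕ) : ℤ) := by
    rw [← e2, e1, e3]
  exact_mod_cast e4

end Groth.Agent.Lib.Helper6.GeomCount
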