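import Mathlib
import Groth.Prelude.Def_MoreMor
import Groth.Prelude.Def_CurvBase
import Groth.Agent.Lib.Helper6.GeomCount2
import Groth.Agent.Lib.Helper6.BddFibBasic
import Groth.Agent.Lib.Helper12.PInsepLen

/-!
# The rank of a finite scheme over a field as a sum of lengths times residue degrees
-/

set_option autoImplicit false
universe u

open CategoryTheory CategoryTheory.Limits AlgebraicGeometry

namespace Groth.Agent.Lib.Helper6.FibRank

/-- The `K`-algebra structure on the global sections of a `K`-scheme. -/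
noncomputable abbrev gammaAlgebra (K : Type u) [Field K] (F : Scheme.{u})
    [F.Over (Spec (CommRingCat.of K))] : Algebra K Γ(F, ⊤) :=
  (Coh.toGlobal (F ↘ Spec (CommRingCat.of K))).toAlgebra

attribute [local instance] Curv2.resAlgebra Curv2.stalkAlgebra gammaAlgebra

theorem finite_Γ (K : Type u) [Field K] (F : Scheme.{u})
    [F.Over (Spec (CommRingCat.of K))] [IsFinite (F ↘ (Spec (CommRingCat.of K)))] :
    Module.Finite K Γ(F, ⊤) := by
  haveI : IsAffine F := isAffine_of_isAffineHom (F ↘ Spec (CommRingCat.of K))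
  have h1 := Groth.Agent.Lib.Helper6.BddFibLib.eq_isoSpec_hom_comp (F ↘ Spec (CommRingCat.of K))
  have hf : IsFinite (Spec.map ((Scheme.ΓSpecIso (CommRingCat.of K)).inv ≫
      (F ↘ Spec (CommRingCat.of K)).appTop)) := by
    have : IsFinite (F.isoSpec.hom ≫ Spec.map ((Scheme.ΓSpecIso (CommRingCat.of K)).inv ≫
      (F ↘ Spec (CommRingCat.of K)).appTop)) := by rw [← h1]; infer_instance
    exact (MorphismProperty.cancel_left_of_respectsIso @IsFinite F.isoSpec.hom _).mp this
  exact (IsFinite.SpecMap_iff _).mp hf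

/-- the rank of a finite scheme over a field is the dimension of its ring of global sections -/
theorem finrank_eq_finrank_Γ (K : Type u) [Field K] (F : Scheme.{u})
    [F.Over (Spec (CommRingCat.of K))] [IsFinite (F ↘ (Spec (CommRingCat.of K)))]
    (pt : ↥(Spec (CommRingCat.of K))) :
    (F ↘ Spec (CommRingCat.of K)).finrank pt = Module.finrank K Γ(F, ⊤) := by
  haveI : IsAffine F := isAffine_of_isAffineHom (F ↘ Spec (CommRingCat.of K))
  haveI : Flat (F ↘ Spec (CommRingCat.of K)) := inferInstance
  have h1 := Groth.Agent.Lib.Helper6.BddFibLib.eq_isoSpec_hom_comp (F ↘ Spec (CommRingCat.of K))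
  have hψalg : (Scheme.ΓSpecIso (CommRingCat.of K)).inv ≫ (F ↘ Spec (CommRingCat.of K)).appTop =
      CommRingCat.ofHom (algebraMap K Γ(F, ⊤)) := rfl
  rw [hψalg] at h1
  haveI : IsFinite (Spec.map (CommRingCat.ofHom (algebraMap K Γ(F, ⊤)))) := by
    have : IsFinite (F.isoSpec.hom ≫ Spec.map (CommRingCat.ofHom (algebraMap K Γ(F, ⊤)))) := by
      rw [← h1]; infer_instance
    exact (MorphismProperty.cancel_left_of_respectsIso @IsFinite F.isoSpec.hom _).mp this
  haveI : Flat (Spec.map (CommRingCat.ofHom (algebraMap K Γ(F, ⊤)))) := inferInstance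
  haveI : Module.Finite K Γ(F, ⊤) := finite_Γ K F
  rw [h1, Scheme.Hom.finrank_comp_left_of_isIso, Scheme.Hom.finrank_SpecMap_algebraMap]
  have h2 := congrFun (Module.rankAtStalk_eq_finrank_of_free (R := K) (M := Γ(F, ⊤))) pt
  rw [h2]
  rfl

theorem isScalarTower_stalk (K : Type u) [Field K] (F : Scheme.{u})
    [F.Over (Spec (CommRingCat.of K))] (y : F) :
    letI := F.presheaf.algebra_section_stalk (U := ⊤) ⟨y, trivial⟩
    IsScalarTower K Γ(F, ⊤) (F.presheaf.stalk y) := by
  letI := F.presheaf.algebra_section_stalk (U := ⊤) ⟨y, trivial⟩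
  exact IsScalarTower.of_algebraMap_eq (fun _ => rfl)

/-- the dimension of a local ring of a finite `K`-scheme -/
theorem finrank_stalk (K : Type u) [Field K] (F : Scheme.{u})
    [F.Over (Spec (CommRingCat.of K))] [IsFinite (F ↘ (Spec (CommRingCat.of K)))] [IsAffine F]
    (q : PrimeSpectrum Γ(F, ⊤)) (y : F) (hy : y = (isAffineOpen_top F).fromSpec q) :
    Module.finrank K (Localization.AtPrime q.asIdeal) =
      (Module.length (F.presheaf.stalk y) (F.presheaf.stalk y)).toNat *
        Module.finrank K (F.residueField y) := by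
  subst hy
  haveI : Module.Finite K Γ(F, ⊤) := finite_Γ K F
  haveI : IsArtinianRing Γ(F, ⊤) := IsArtinianRing.of_finite K _
  set y := (isAffineOpen_top F).fromSpec q with hy
  letI := F.presheaf.algebra_section_stalk (U := ⊤) ⟨y, trivial⟩
  haveI := isScalarTower_stalk K F y
  haveI hloc : IsLocalization.AtPrime (F.presheaf.stalk y) q.asIdeal :=
    (isAffineOpen_top F).isLocalization_stalk' q trivial
  let e : Localization.AtPrime q.asIdeal ≃ₐ[Γ(F, ⊤)] F.presheaf.stalk y :=
    IsLocalization.algEquiv q.asIdeal.primeCompl _ _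
  haveI : Module.Finite K (Localization.AtPrime q.asIdeal) :=
    Module.Finite.of_surjective (Algebra.algHom K Γ(F, ⊤) (Localization.AtPrime q.asIdeal)).toLinearMap
      (IsArtinianRing.localization_surjective q.asIdeal.primeCompl (Localization.AtPrime q.asIdeal))
  have h1 : Module.finrank K (Localization.AtPrime q.asIdeal) =
      Module.finrank K (F.presheaf.stalk y) :=
    (e.restrictScalars K).toLinearEquiv.finrank_eq
  haveI : Module.Finite K (F.presheaf.stalk y) :=
    Module.Finite.equiv (e.restrictScalars K).toLinearEquiv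
  rw [h1]
  exact Groth.Agent.Lib.Helper12.PInsepLen.finrank_eq_length_mul K (F.presheaf.stalk y) _
    (F.presheaf.stalk y) rfl

/-- **The rank of a finite scheme over a field** is the sum over its points of the lengths of
the local rings times the residue degrees. -/
theorem finrank_eq_finsum (K : Type u) [Field K] (F : Scheme.{u})
    [F.Over (Spec (CommRingCat.of K))] [IsFinite (F ↘ (Spec (CommRingCat.of K)))]
    (pt : ↥(Spec (CommRingCat.of K))) :
    (F ↘ Spec (CommRingCat.of K)).finrank pt =
      ∑ᶠ y : F, (Module.length (F.presheaf.stalk y) (F.presheaf.stalk y)).toNat *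
        Module.finrank K (F.residueField y) := by
  classical
  rw [finrank_eq_finrank_Γ]
  haveI : IsAffine F := isAffine_of_isAffineHom (F ↘ Spec (CommRingCat.of K))
  haveI : Module.Finite K Γ(F, ⊤) := finite_Γ K F
  haveI : IsArtinianRing Γ(F, ⊤) := IsArtinianRing.of_finite K _
  haveI : Fintype (PrimeSpectrum Γ(F, ⊤)) := Fintype.ofFinite _
  rw [IsArtinianRing.finrank_eq_sum_primeSpectrum Γ(F, ⊤) K]
  have hbij : Function.Bijective ((isAffineOpen_top F).fromSpec : PrimeSpectrum Γ(F, ⊤) → F) := by
    rw [IsAffineOpen.fromSpec_top]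
    exact ConcreteCategory.bijective_of_isIso (F.isoSpec.inv.base)
  let e : PrimeSpectrum Γ(F, ⊤) ≃ F := Equiv.ofBijective _ hbij
  rw [← finsum_comp_equiv e, finsum_eq_sum_of_fintype]
  refine Finset.sum_congr rfl fun q _ => ?_
  exact finrank_stalk K F q _ rfl

end Groth.Agent.Lib.Helper6.FibRank
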