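import Mathlib
import Groth.Agent.S9501
import Groth.Agent.Lib.Helper6.FibRank1

/-!
# Local rings and residue fields of a scheme-theoretic fibre
-/

set_option autoImplicit false
universe u

open CategoryTheory CategoryTheory.Limits AlgebraicGeometry IsLocalRing

namespace Groth.Agent.Lib.Helper6.FibRank

/-- length of a ring over itself transported along a surjection -/
theorem length_self_eq_length_quotient_ker {A B : Type u} [CommRing A] [CommRing B] (φ : A →+* B)
    (hφ : Function.Surjective φ) :
    Module.length B B = Module.length A (A ⧸ RingHom.ker φ) := by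
  letI := φ.toAlgebra
  rw [← Module.length_eq_of_surjective (S := A) (R := B) (M := B) hφ]
  let e1 : (A ⧸ RingHom.ker φ) ≃ₗ[A] B :=
    { (RingHom.quotientKerEquivOfSurjective hφ) with
      map_smul' := fun a b => by
        obtain ⟨b, rfl⟩ := Ideal.Quotient.mk_surjective b
        change φ (a * b) = φ a * φ b
        exact map_mul φ a b }
  exact e1.length_eq.symm

variable {U V : Scheme.{u}} (π : U ⟶ V) (v : V)

theorem length_stalk_fiber (y : π.fiber v) :
    Module.length ((π.fiber v).presheaf.stalk y) ((π.fiber v).presheaf.stalk y) =
    Module.length (U.presheaf.stalk (π.fiberι v y)) (U.presheaf.stalk (π.fiberι v y) ⧸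
      Ideal.map (π.stalkMap (π.fiberι v y)).hom
        (maximalIdeal (V.presheaf.stalk (π (π.fiberι v y))))) := by
  obtain ⟨h1, h2⟩ := Groth.Agent.S9501.result π v y
  rw [length_self_eq_length_quotient_ker _ h1, h2]

section deg

variable {A B C : Scheme.{u}}

theorem residueDegree_comp (m : A ⟶ B) (n : B ⟶ C) (a : A) :
    (m ≫ n).residueDegree a = n.residueDegree (m a) * m.residueDegree a := by
  unfold Scheme.Hom.residueDegree
  letI i1 : Algebra (C.residueField (n (m a))) (B.residueField (m a)) :=
    (n.residueFieldMap (m a)).hom.toAlgebra
  letI i2 : Algebra (B.residueField (m a)) (A.residueField a) := (m.residueFieldMap a).hom.toAlgebra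
  letI i3 : Algebra (C.residueField (n (m a))) (A.residueField a) :=
    ((m ≫ n).residueFieldMap a).hom.toAlgebra
  haveI : IsScalarTower (C.residueField (n (m a))) (B.residueField (m a)) (A.residueField a) :=
    IsScalarTower.of_algebraMap_eq (fun r => by
      change ((m ≫ n).residueFieldMap a).hom r = _
      rw [Scheme.residueFieldMap_comp]
      rfl)
  exact (Module.finrank_mul_finrank (C.residueField (n (m a))) (B.residueField (m a))
    (A.residueField a)).symm

theorem residueDegree_eq_one_of_surjective (m : A ⟶ B) (a : A)
    (h : Function.Surjective (m.stalkMap a).hom) : m.residueDegree a = 1 := by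
  unfold Scheme.Hom.residueDegree
  letI i2 : Algebra (B.residueField (m a)) (A.residueField a) := (m.residueFieldMap a).hom.toAlgebra
  have hbij : Function.Bijective (algebraMap (B.residueField (m a)) (A.residueField a)) := by
    refine ⟨RingHom.injective _, fun x => ?_⟩
    obtain ⟨x, rfl⟩ := IsLocalRing.residue_surjective x
    obtain ⟨z, rfl⟩ := h x
    exact ⟨IsLocalRing.residue _ z, rfl⟩
  exact (LinearEquiv.ofBijective (Algebra.linearMap (B.residueField (m a)) (A.residueField a))
    hbij).finrank_eq.symm.trans (Module.finrank_self _)

end deg

/-- The fibre as a scheme over the residue field. -/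
noncomputable abbrev fiberOver : (π.fiber v).Over (Spec (CommRingCat.of (V.residueField v))) :=
  ⟨π.fiberToSpecResidueField v⟩

attribute [local instance] fiberOver Curv2.resAlgebra

theorem finrank_base (K : Type u) [Field K] (x : ↥(Spec (CommRingCat.of K))) :
    letI := (GeomCount.baseMap K x).toAlgebra
    Module.finrank K ((Spec (CommRingCat.of K)).residueField x) = 1 := by
  letI := (GeomCount.baseMap K x).toAlgebra
  exact (LinearEquiv.ofBijective (Algebra.linearMap K ((Spec (CommRingCat.of K)).residueField x))
    (GeomCount.baseMap_bijective K x)).finrank_eq.symm.trans (Module.finrank_self _)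

/-- the residue degree over the base field is the residue degree of the structure morphism -/
theorem finrank_eq_residueDegree (K : Type u) [Field K] (F : Scheme.{u})
    [F.Over (Spec (CommRingCat.of K))] (y : F) :
    Module.finrank K (F.residueField y) = (F ↘ Spec (CommRingCat.of K)).residueDegree y := by
  unfold Scheme.Hom.residueDegree
  letI A2 : Algebra ((Spec (CommRingCat.of K)).residueField ((F ↘ Spec (CommRingCat.of K)) y))
      (F.residueField y) := ((F ↘ Spec (CommRingCat.of K)).residueFieldMap y).hom.toAlgebra
  letI A1 : Algebra K ((Spec (CommRingCat.of K)).residueField ((F ↘ Spec (CommRingCat.of K)) y)) :=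
    (GeomCount.baseMap K ((F ↘ Spec (CommRingCat.of K)) y)).toAlgebra
  haveI : IsScalarTower K ((Spec (CommRingCat.of K)).residueField ((F ↘ Spec (CommRingCat.of K)) y))
      (F.residueField y) :=
    IsScalarTower.of_algebraMap_eq (fun r => congrArg (fun g => g r) (GeomCount.resMap_eq K F y))
  have h1 := Module.finrank_mul_finrank K
    ((Spec (CommRingCat.of K)).residueField ((F ↘ Spec (CommRingCat.of K)) y)) (F.residueField y)
  rw [finrank_base, one_mul] at h1
  exact h1.symm

theorem finrank_residueField_fiber (y : π.fiber v) :
    Module.finrank (V.residueField v) ((π.fiber v).residueField y) =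
      π.residueDegree (π.fiberι v y) := by
  rw [finrank_eq_residueDegree]
  change (π.fiberToSpecResidueField v).residueDegree y = _
  have e1 := congrArg (fun m => m.residueDegree y) (π.fiber_fac v)
  simp only [residueDegree_comp] at e1
  rw [residueDegree_eq_one_of_surjective (π.fiberι v) y ((π.fiberι v).stalkMap_surjective y),
    residueDegree_eq_one_of_surjective (V.fromSpecResidueField v) _
      ((V.fromSpecResidueField v).stalkMap_surjective _), mul_one, one_mul] at e1
  exact e1.symm

end Groth.Agent.Lib.Helper6.FibRank
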