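import Mathlib
import Groth.Agent.Lib.Helper6.FibRank5

/-!
# The rank of a finite flat morphism as a sum over the fibre
-/

set_option autoImplicit false
universe u

open CategoryTheory CategoryTheory.Limits AlgebraicGeometry IsLocalRing

namespace Groth.Agent.Lib.Helper6.FibRank

attribute [local instance] fiberOver Curv2.resAlgebra

variable {U V : Scheme.{u}} (π : U ⟶ V)

/-- **The rank of a finite flat morphism at a point** is the sum over the points of the fibre of
the lengths of the local rings of the fibre times the residue degrees. -/
theorem finrank_eq_finsum_fibre [IsFinite π] [Flat π] (v : V) :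
    π.finrank v = ∑ᶠ u : {u : U // π u = v},
      (Module.length (U.presheaf.stalk u.1) (U.presheaf.stalk u.1 ⧸
        Ideal.map (π.stalkMap u.1).hom (maximalIdeal (V.presheaf.stalk (π u.1))))).toNat *
      π.residueDegree u.1 := by
  have hpb : IsPullback (π.fiberι v) (π.fiberToSpecResidueField v) π
      (V.fromSpecResidueField v) := IsPullback.of_hasPullback _ _
  let pt : ↥(Spec (CommRingCat.of (V.residueField v))) := IsLocalRing.closedPoint _
  have h1 := Scheme.Hom.finrank_of_isPullback _ _ _ _ hpb pt
  rw [Scheme.fromSpecResidueField_apply] at h1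
  haveI : IsFinite (π.fiber v ↘ Spec (CommRingCat.of (V.residueField v))) :=
    (MorphismProperty.pullback_snd _ _ inferInstance : IsFinite (π.fiberToSpecResidueField v))
  have h2 := finrank_eq_finsum (V.residueField v) (π.fiber v) pt
  rw [← h1]
  refine h2.trans ?_
  have h3 : ∀ y : π.fiber v,
      (Module.length ((π.fiber v).presheaf.stalk y) ((π.fiber v).presheaf.stalk y)).toNat *
        Module.finrank (V.residueField v) ((π.fiber v).residueField y) =
      (fun u : ↥(π ⁻¹' {v}) =>
        (Module.length (U.presheaf.stalk u.1) (U.presheaf.stalk u.1 ⧸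
          Ideal.map (π.stalkMap u.1).hom (maximalIdeal (V.presheaf.stalk (π u.1))))).toNat *
        π.residueDegree u.1) (π.fiberHomeo v y) := by
    intro y
    rw [length_stalk_fiber, finrank_residueField_fiber]
    rfl
  rw [finsum_congr h3]
  exact finsum_comp_equiv (π.fiberHomeo v).toEquiv
    (f := fun u : ↥(π ⁻¹' {v}) =>
        (Module.length (U.presheaf.stalk u.1) (U.presheaf.stalk u.1 ⧸
          Ideal.map (π.stalkMap u.1).hom (maximalIdeal (V.presheaf.stalk (π u.1))))).toNat *
        π.residueDegree u.1)

end Groth.Agent.Lib.Helper6.FibRank
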