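import Mathlib

/-!
# Positivity of the length of the fibre ring of a quasi-finite local homomorphism
-/

set_option autoImplicit false
universe u

open IsLocalRing

namespace Groth.Agent.Lib.Helper6.FibRank

theorem length_quotient_toNat_pos {R A : Type u} [CommRing R] [CommRing A] [IsLocalRing R]
    [IsLocalRing A] (φ : R →+* A) [IsLocalHom φ] (h : φ.QuasiFinite) :
    0 < (Module.length A (A ⧸ Ideal.map φ (maximalIdeal R))).toNat := by
  letI := φ.toAlgebra
  haveI : Algebra.QuasiFinite R A := h
  haveI : IsLocalHom (algebraMap R A) := ‹IsLocalHom φ›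
  have hmR : (maximalIdeal R).map (algebraMap R A) ≤ maximalIdeal A :=
    ((local_hom_TFAE (algebraMap R A)).out 0 2 rfl rfl).mp ‹_›
  change 0 < (Module.length A (A ⧸ (maximalIdeal R).map (algebraMap R A))).toNat
  letI : Field (R ⧸ maximalIdeal R) := Ideal.Quotient.field _
  haveI : Algebra.QuasiFinite R (A ⧸ (maximalIdeal R).map (algebraMap R A)) := inferInstance
  haveI : Algebra.QuasiFinite (R ⧸ maximalIdeal R) (A ⧸ (maximalIdeal R).map (algebraMap R A)) :=
    Algebra.QuasiFinite.of_restrictScalars R _ _
  haveI : Module.Finite (R ⧸ maximalIdeal R) (A ⧸ (maximalIdeal R).map (algebraMap R A)) :=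
    Module.Finite.of_quasiFinite
  haveI : IsArtinianRing (A ⧸ (maximalIdeal R).map (algebraMap R A)) :=
    IsArtinianRing.of_finite (R ⧸ maximalIdeal R) _
  haveI : Nontrivial (A ⧸ (maximalIdeal R).map (algebraMap R A)) :=
    Ideal.Quotient.nontrivial_iff.mpr <| ne_top_of_le_ne_top (maximalIdeal.isMaximal A).ne_top hmR
  have h1 : Module.length A (A ⧸ (maximalIdeal R).map (algebraMap R A)) =
      Module.length (A ⧸ (maximalIdeal R).map (algebraMap R A))
        (A ⧸ (maximalIdeal R).map (algebraMap R A)) :=
    Module.length_eq_of_surjective Ideal.Quotient.mk_surjective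
  have h2 : Module.length (A ⧸ (maximalIdeal R).map (algebraMap R A))
      (A ⧸ (maximalIdeal R).map (algebraMap R A)) ≠ ⊤ := by
    rw [Module.length_ne_top_iff, isFiniteLength_iff_isNoetherian_isArtinian]
    exact ⟨inferInstance, inferInstance⟩
  have h3 : Module.length (A ⧸ (maximalIdeal R).map (algebraMap R A))
      (A ⧸ (maximalIdeal R).map (algebraMap R A)) ≠ 0 := by
    rw [Ne, Module.length_eq_zero_iff]
    exact not_subsingleton _
  rw [h1]
  refine Nat.pos_of_ne_zero ?_
  rw [Ne, ENat.toNat_eq_zero]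
  push Not
  exact ⟨h3, h2⟩

end Groth.Agent.Lib.Helper6.FibRank
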