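import Mathlib
import Groth.Prelude.Def_MoreMor
import Groth.Agent.Lib.Helper6.FibRank4
import Groth.Agent.Lib.Helper6.FibRank6
import Groth.Agent.Lib.Helper6.FibRank7

/-!
# `length * insep degree` is a weighting for flat locally quasi-finite morphisms (Stacks 0F3E)
-/

set_option autoImplicit false
universe u

open CategoryTheory CategoryTheory.Limits AlgebraicGeometry IsLocalRing

namespace Groth.Agent.Lib.Helper6.FibRank

/-- the weight -/
noncomputable def wt {X Y : Scheme.{u}} (f : X ⟶ Y) (x : X) : ℤ :=
  (Module.length ↑(X.presheaf.stalk x) (↑(X.presheaf.stalk x) ⧸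
    Ideal.map (f.stalkMap x).hom (IsLocalRing.maximalIdeal ↑(Y.presheaf.stalk (f x))))).toNat *
  (letI := (f.residueFieldMap x).hom.toAlgebra
   (Field.finInsepDegree (Y.residueField (f x)) (X.residueField x) : ℤ))

theorem fibreIntegral_eq_finrank {X Y V : Scheme.{u}} (f : X ⟶ Y) [LocallyQuasiFinite f] [Flat f]
    (g : V ⟶ Y) [Etale g] (U : (pullback f g).Opens)
    (hfin : IsFinite (U.ι ≫ pullback.snd f g)) (v : V) :
    MoreMor.fibreIntegral (U.ι ≫ pullback.snd f g)
      (fun u => wt f (pullback.fst f g (U.ι u))) v =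
      ((U.ι ≫ pullback.snd f g).finrank v : ℤ) := by
  haveI := hfin
  haveI : Etale (U.ι ≫ pullback.fst f g) := inferInstance
  haveI : Flat (U.ι ≫ pullback.snd f g) := inferInstance
  have hsq : (U.ι ≫ pullback.fst f g) ≫ f = (U.ι ≫ pullback.snd f g) ≫ g := by
    rw [Category.assoc, Category.assoc, pullback.condition]
  rw [finrank_eq_finsum_fibre (U.ι ≫ pullback.snd f g) v]
  haveI : Finite {u : U // (U.ι ≫ pullback.snd f g) u = v} :=
    ((U.ι ≫ pullback.snd f g).finite_preimage_singleton v).to_subtype
  unfold MoreMor.fibreIntegral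
  refine Eq.trans ?_ ((Nat.castAddMonoidHom ℤ).map_finsum
    ((@Set.finite_univ _ ?_).subset (Set.subset_univ _))).symm
  swap
  · exact this
  refine finsum_congr (fun u => ?_)
  have hA := length_eq_of_etale f g (U.ι ≫ pullback.fst f g) (U.ι ≫ pullback.snd f g) hsq u.1
  have hB := finInsepDegree_eq_of_etale f g (U.ι ≫ pullback.fst f g) (U.ι ≫ pullback.snd f g)
    hsq u.1
  have hC := (letI := ((U.ι ≫ pullback.snd f g).residueFieldMap u.1).hom.toAlgebra
    Field.finSepDegree_mul_finInsepDegree (V.residueField ((U.ι ≫ pullback.snd f g) u.1))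
      ((↑U : Scheme).residueField u.1))
  change wt f ((U.ι ≫ pullback.fst f g) u.1) * _ =
    ((_ * (U.ι ≫ pullback.snd f g).residueDegree u.1 : ℕ) : ℤ)
  unfold wt Scheme.Hom.residueDegree
  rw [← hA, hB, ← hC]
  push_cast
  ring

theorem wt_pos {X Y : Scheme.{u}} (f : X ⟶ Y) [LocallyQuasiFinite f] (x : X) : 0 < wt f x := by
  unfold wt
  letI := (f.residueFieldMap x).hom.toAlgebra
  haveI : Module.Finite (Y.residueField (f x)) (X.residueField x) :=
    EtLoc.finite_residueField_of_quasiFiniteAt f x (f.quasiFiniteAt x)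
  have h1 := length_quotient_toNat_pos (f.stalkMap x).hom (f.quasiFiniteAt x)
  have h2 : 0 < Field.finInsepDegree (Y.residueField (f x)) (X.residueField x) := by
    have h3 := Field.finSepDegree_mul_finInsepDegree (Y.residueField (f x)) (X.residueField x)
    have h4 : 0 < Module.finrank (Y.residueField (f x)) (X.residueField x) := Module.finrank_pos
    refine Nat.pos_of_ne_zero (fun h => ?_)
    rw [h, mul_zero] at h3
    omega
  positivity

/-- **Stacks 0F3E**: `length * insep degree` is a positive weighting of a flat locally quasi-finite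
morphism locally of finite presentation. -/
theorem main {X Y : Scheme.{u}} (f : X ⟶ Y) [LocallyQuasiFinite f] [Flat f]
    [LocallyOfFinitePresentation f] :
    let w : ↑X → ℤ := fun x =>
      (Module.length ↑(X.presheaf.stalk x) (↑(X.presheaf.stalk x) ⧸ Ideal.map (f.stalkMap x).hom (IsLocalRing.maximalIdeal ↑(Y.presheaf.stalk (f x))))).toNat *
      (letI := (f.residueFieldMap x).hom.toAlgebra
       (Field.finInsepDegree (Y.residueField (f x)) (X.residueField x) : ℤ))
    MoreMor.IsWeighting f w ∧ ∀ x, 0 < w x := by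
  intro w
  have hw : w = wt f := rfl
  rw [hw]
  refine ⟨?_, wt_pos f⟩
  intro V g _ U hfin
  haveI := hfin
  haveI : Flat (U.ι ≫ pullback.snd f g) := inferInstance
  haveI : LocallyOfFinitePresentation (U.ι ≫ pullback.snd f g) := inferInstance
  have h1 : MoreMor.fibreIntegral (U.ι ≫ pullback.snd f g)
      (fun u => wt f (pullback.fst f g (U.ι u))) =
      (fun n : ℕ => (n : ℤ)) ∘ (U.ι ≫ pullback.snd f g).finrank :=
    funext (fibreIntegral_eq_finrank f g U hfin)
  rw [h1]
  exact (Scheme.Hom.isLocallyConstant_finrank (U.ι ≫ pullback.snd f g)).comp _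

end Groth.Agent.Lib.Helper6.FibRank
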