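import Mathlib
import Groth.Prelude.Def_MoreMor
import Groth.Agent.Lib.Helper6.FibRank8

/-!
# The constant function `1` is a weighting of an étale morphism
-/

set_option autoImplicit false
universe u

open CategoryTheory CategoryTheory.Limits AlgebraicGeometry IsLocalRing

namespace Groth.Agent.Lib.Helper6.BSB

/-- Étale morphisms are locally quasi-finite. -/
theorem locallyQuasiFinite_of_etale {X Y : Scheme.{u}} (f : X ⟶ Y) [Etale f] :
    LocallyQuasiFinite f := by
  refine ⟨fun {U} hU {V} hV e => ?_⟩
  have h : (f.appLE U V e).hom.Etale :=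
    HasRingHomProperty.appLE @Etale f inferInstance ⟨U, hU⟩ ⟨V, hV⟩ e
  algebraize [(f.appLE U V e).hom]
  haveI : Algebra.Etale Γ(Y, U) Γ(X, V) := h
  show Algebra.QuasiFinite Γ(Y, U) Γ(X, V)
  infer_instance

theorem wt_eq_one_of_etale {X Y : Scheme.{u}} (f : X ⟶ Y) [Etale f] (x : X) :
    FibRank.wt f x = 1 := by
  unfold FibRank.wt
  rw [FibRank.map_maximalIdeal_of_etale f x]
  haveI : IsSimpleModule (X.presheaf.stalk x)
      (X.presheaf.stalk x ⧸ maximalIdeal (X.presheaf.stalk x)) := by
    rw [isSimpleModule_iff_isCoatom]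
    exact Ideal.isMaximal_def.mp inferInstance
  rw [Module.length_eq_one]
  letI := (f.residueFieldMap x).hom.toAlgebra
  haveI := FibRank.isSeparable_residueField_of_etale f x
  rw [(isSeparable_iff_finInsepDegree_eq_one _ _).mp inferInstance]
  rfl

theorem isWeighting_one_of_etale {X Y : Scheme.{u}} (f : X ⟶ Y) [Etale f] :
    MoreMor.IsWeighting f (fun _ => 1) := by
  haveI := locallyQuasiFinite_of_etale f
  have h := (FibRank.main f).1
  have h2 : (fun x => FibRank.wt f x) = fun _ => (1 : ℤ) := funext (wt_eq_one_of_etale f)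
  change MoreMor.IsWeighting f (fun x => FibRank.wt f x) at h
  rwa [h2] at h

end Groth.Agent.Lib.Helper6.BSB
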