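import Mathlib
import Groth.Prelude.Def_MoreMor
import Groth.Prelude.Def_ega3
import Groth.Agent.Lib.Helper6.BSB1

/-!
# The dimension of the global functions of a fibre of an étale quasi-compact morphism
-/

set_option autoImplicit false
universe u

open CategoryTheory CategoryTheory.Limits AlgebraicGeometry IsLocalRing

namespace Groth.Agent.Lib.Helper6.BSB

attribute [local instance] FibRank.fiberOver Curv2.resAlgebra FibRank.gammaAlgebra

variable {U V : Scheme.{u}} (π : U ⟶ V)

theorem finrank_Γ_fiber_eq_finsum (v : V) [IsFinite (π.fiberToSpecResidueField v)] :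
    Module.finrank (V.residueField v) Γ(π.fiber v, ⊤) = ∑ᶠ u : {u : U // π u = v},
      (Module.length (U.presheaf.stalk u.1) (U.presheaf.stalk u.1 ⧸
        Ideal.map (π.stalkMap u.1).hom (maximalIdeal (V.presheaf.stalk (π u.1))))).toNat *
      π.residueDegree u.1 := by
  let pt : ↥(Spec (CommRingCat.of (V.residueField v))) := IsLocalRing.closedPoint _
  haveI : IsFinite (π.fiber v ↘ Spec (CommRingCat.of (V.residueField v))) :=
    ‹IsFinite (π.fiberToSpecResidueField v)›
  have h1 := FibRank.finrank_eq_finrank_Γ (V.residueField v) (π.fiber v) pt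
  have h2 := FibRank.finrank_eq_finsum (V.residueField v) (π.fiber v) pt
  have h1' : Module.finrank (V.residueField v) Γ(π.fiber v, ⊤) =
      (π.fiber v ↘ Spec (CommRingCat.of (V.residueField v))).finrank pt := h1.symm
  rw [h1']
  refine h2.trans ?_
  have h3 : ∀ y : π.fiber v,
      (Module.length ((π.fiber v).presheaf.stalk y) ((π.fiber v).presheaf.stalk y)).toNat *
        Module.finrank (V.residueField v) ((π.fiber v).residueField y) =
      (fun u : ↥(π ⁻¹' {v}) =>
        (Module.length (U.presheaf.stalk u.1) (U.presheaf.stalk u.1 ⧸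
          Ideal.map (π.stalkMap u.1).hom (maximalIdeal (V.presheaf.stalk (π u.1))))).toNat *
        π.residueDegree u.1) (π.fiberHomeo v y) := by
    intro y
    rw [FibRank.length_stalk_fiber, FibRank.finrank_residueField_fiber]
    rfl
  rw [finsum_congr h3]
  exact finsum_comp_equiv (π.fiberHomeo v).toEquiv
    (f := fun u : ↥(π ⁻¹' {v}) =>
        (Module.length (U.presheaf.stalk u.1) (U.presheaf.stalk u.1 ⧸
          Ideal.map (π.stalkMap u.1).hom (maximalIdeal (V.presheaf.stalk (π u.1))))).toNat *
        π.residueDegree u.1)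

theorem finrank_fiber_eq_fibreIntegral {T S : Scheme.{u}} (f : T ⟶ S) [Etale f] [QuasiCompact f]
    (s : S) :
    (Module.finrank (S.residueField s) Γ(f.fiber s, ⊤) : ℤ) =
      MoreMor.fibreIntegral f (fun _ => 1) s := by
  haveI := locallyQuasiFinite_of_etale f
  have hpb := IsPullback.of_hasPullback f (S.fromSpecResidueField s)
  haveI : LocallyQuasiFinite (f.fiberToSpecResidueField s) :=
    MorphismProperty.of_isPullback (P := @LocallyQuasiFinite) hpb inferInstance
  haveI : QuasiCompact (f.fiberToSpecResidueField s) :=
    MorphismProperty.of_isPullback (P := @QuasiCompact) hpb inferInstance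
  haveI : IsFinite (f.fiberToSpecResidueField s) := IsFinite.of_locallyQuasiFinite _
  rw [finrank_Γ_fiber_eq_finsum f s]
  haveI : Finite {u : T // f u = s} := (f.finite_preimage_singleton s).to_subtype
  unfold MoreMor.fibreIntegral
  refine ((Nat.castAddMonoidHom ℤ).map_finsum (Set.toFinite _)).trans ?_
  refine finsum_congr (fun u => ?_)
  have hlen : (Module.length (T.presheaf.stalk u.1) (T.presheaf.stalk u.1 ⧸
      Ideal.map (f.stalkMap u.1).hom (maximalIdeal (S.presheaf.stalk (f u.1))))).toNat = 1 := by
    rw [FibRank.map_maximalIdeal_of_etale f u.1]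
    haveI : IsSimpleModule (T.presheaf.stalk u.1)
        (T.presheaf.stalk u.1 ⧸ maximalIdeal (T.presheaf.stalk u.1)) := by
      rw [isSimpleModule_iff_isCoatom]
      exact Ideal.isMaximal_def.mp inferInstance
    rw [Module.length_eq_one]
    rfl
  have hdeg : f.residueDegree u.1 =
      (letI := (f.residueFieldMap u.1).hom.toAlgebra
       Field.finSepDegree (S.residueField (f u.1)) (T.residueField u.1)) := by
    unfold Scheme.Hom.residueDegree
    letI := (f.residueFieldMap u.1).hom.toAlgebra
    haveI := FibRank.isSeparable_residueField_of_etale f u.1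
    exact (Field.finSepDegree_eq_finrank_of_isSeparable _ _).symm
  change ((_ * f.residueDegree u.1 : ℕ) : ℤ) = _
  rw [hlen, hdeg]
  push_cast
  rfl

end Groth.Agent.Lib.Helper6.BSB
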