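import Mathlib
import Groth.Prelude.Def_MoreMor
import Groth.Agent.Lib.Helper6.Wt9

/-!
# Disjointness from counting
-/

set_option autoImplicit false
universe u

open CategoryTheory CategoryTheory.Limits AlgebraicGeometry IsLocalRing

namespace Groth.Agent.Lib.Helper6.BSB

open Groth.Agent.Lib.Helper6.Wt

/-- If sets `D k` cover a finite fibre and the sum of their point sums (with positive terms) is at
most the fibre integral, then the `D k` are pairwise disjoint on that fibre. -/
theorem disjoint_of_sum_ptSum_le {W T : Scheme.{u}} (p : W ⟶ T) (ω : W → ℤ) (t : T)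
    (hfin : (p ⁻¹' {t}).Finite) (hpos : ∀ x, p x = t → 0 < ω x * deg p x) {κ : Type*} [Fintype κ]
    (D : κ → Set W) (hcov : ∀ x, p x = t → ∃ k, x ∈ D k)
    (hle : ∑ k, ptSum p ω (D k) t ≤ MoreMor.fibreIntegral p ω t)
    (k l : κ) (hkl : k ≠ l) (x₀ : W) (hx₀ : p x₀ = t) (hk : x₀ ∈ D k) (hl : x₀ ∈ D l) : False := by
  classical
  set c : W → ℤ := fun x => ω x * deg p x with hc
  rw [fibreIntegral_eq_finsum_mem, finsum_mem_eq_finite_toFinset_sum _ hfin] at hle
  have hpt : ∀ m, ptSum p ω (D m) t = ∑ x ∈ hfin.toFinset, if x ∈ D m then c x else 0 := by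
    intro m
    unfold ptSum
    have hf' : (D m ∩ p ⁻¹' {t}).Finite := hfin.subset Set.inter_subset_right
    rw [finsum_mem_eq_finite_toFinset_sum _ hf', ← Finset.sum_filter]
    refine Finset.sum_congr ?_ (fun _ _ => rfl)
    ext x
    simp only [Set.Finite.mem_toFinset, Set.mem_inter_iff, Finset.mem_filter]
    tauto
  simp only [hpt] at hle
  rw [Finset.sum_comm] at hle
  have hx₀F : x₀ ∈ hfin.toFinset := hfin.mem_toFinset.mpr hx₀
  have hge : ∀ x ∈ hfin.toFinset, c x ≤ ∑ m, if x ∈ D m then c x else 0 := by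
    intro x hx
    have hxt : p x = t := hfin.mem_toFinset.mp hx
    obtain ⟨m, hm⟩ := hcov x hxt
    have h1 : (if x ∈ D m then c x else 0) ≤ ∑ m, if x ∈ D m then c x else 0 :=
      Finset.single_le_sum (f := fun m => if x ∈ D m then c x else 0)
        (fun i _ => by
          split_ifs
          · exact (hpos x hxt).le
          · exact le_rfl) (Finset.mem_univ m)
    rwa [if_pos hm] at h1
  have hgt : c x₀ < ∑ m, if x₀ ∈ D m then c x₀ else 0 := by
    have hsub : ({k, l} : Finset κ) ⊆ Finset.univ := Finset.subset_univ _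
    have h1 : ∑ m ∈ ({k, l} : Finset κ), (if x₀ ∈ D m then c x₀ else 0) ≤
        ∑ m, if x₀ ∈ D m then c x₀ else 0 :=
      Finset.sum_le_sum_of_subset_of_nonneg hsub (fun i _ _ => by
        split_ifs
        · exact (hpos x₀ hx₀).le
        · exact le_rfl)
    rw [Finset.sum_pair hkl, if_pos hk, if_pos hl] at h1
    have := hpos x₀ hx₀
    change 0 < c x₀ at this
    linarith
  have hlt : ∑ x ∈ hfin.toFinset, c x <
      ∑ x ∈ hfin.toFinset, ∑ m, if x ∈ D m then c x else 0 :=
    Finset.sum_lt_sum hge ⟨x₀, hx₀F, hgt⟩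
  exact absurd hle (not_le.mpr hlt)

end Groth.Agent.Lib.Helper6.BSB
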