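import Mathlib
import Groth.Prelude.Def_MoreMor
import Groth.Agent.Lib.Helper6.Wt10
import Groth.Agent.S0084

/-!
# Étale localization at a fibre without separatedness, and étale-local finiteness
-/

set_option autoImplicit false
universe u

open CategoryTheory CategoryTheory.Limits AlgebraicGeometry IsLocalRing

namespace Groth.Agent.Lib.Helper6.BSB

set_option maxHeartbeats 1600000 in
/-- Étale localization at a whole (finite) fibre of a locally quasi-finite morphism
(no separatedness). -/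
theorem exists_etale_nbhd_fibre' {X Y : Scheme.{u}} (f : X ⟶ Y) [LocallyQuasiFinite f]
    [LocallyOfFiniteType f] (hfin : ∀ y : Y, (f ⁻¹' {y}).Finite) (y : Y) :
    ∃ (V : Scheme.{u}) (a : V ⟶ Y) (v₀ : V), Etale a ∧ a v₀ = y ∧
      ∃ (κ : Type) (_ : Fintype κ) (D : κ → (pullback f a).Opens) (z : κ → ↑(pullback f a)),
        (∀ k, z k ∈ D k ∧ IsFinite ((D k).ι ≫ pullback.snd f a) ∧
          pullback.snd f a (z k) = v₀ ∧
          (∀ z' ∈ D k, pullback.snd f a z' = v₀ → z' = z k)) ∧
        Function.Injective z ∧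
        (∀ z', pullback.snd f a z' = v₀ → ∃ k, z' = z k) := by
  classical
  haveI : Finite (f ⁻¹' {y}) := (hfin y).to_subtype
  let n := Nat.card (f ⁻¹' {y})
  let eS : (f ⁻¹' {y}) ≃ Fin n := Finite.equivFin _
  let x : Fin n → X := fun i => (eS.symm i).1
  have hinj : Function.Injective x := fun i j hij => eS.symm.injective (Subtype.ext hij)
  have hs : ∀ i, f (x i) = y := fun i => (eS.symm i).2
  obtain ⟨V, a, v₀, hEt, hav₀, J, hJ, Vo, v, hV, hinjv, hallv, -⟩ :=
    EtLoc.exists_etale_nbhd_insep_family f y x hinj hs (fun i => f.quasiFiniteAt _)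
  haveI := hJ
  haveI : Finite (Σ i, J i) := inferInstance
  cases nonempty_fintype (Σ i, J i)
  refine ⟨V, a, v₀, hEt, hav₀, (Σ i, J i), inferInstance, fun k => Vo k.1 k.2,
    fun k => v k.1 k.2, fun k => ?_, ?_, ?_⟩
  · obtain ⟨h1, h2, h3, h4, -, -⟩ := hV k.1 k.2
    exact ⟨h1, h2, h3, h4⟩
  · intro k l hkl
    obtain ⟨hi, hj⟩ := hinjv k.1 k.2 l.1 l.2 hkl
    exact Sigma.ext hi hj
  · intro z' hz'
    have hfz : f (pullback.fst f a z') = y := by
      rw [← Scheme.Hom.comp_apply, pullback.condition, Scheme.Hom.comp_apply, hz', hav₀]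
    let i := eS ⟨pullback.fst f a z', hfz⟩
    have hxi : x i = pullback.fst f a z' := by
      change (eS.symm (eS ⟨pullback.fst f a z', hfz⟩)).1 = _
      rw [Equiv.symm_apply_apply]
    obtain ⟨j, hj⟩ := hallv z' i hz' hxi.symm
    exact ⟨⟨i, j⟩, hj⟩

/-- Finiteness can be checked on étale neighbourhoods of the points of the target. -/
theorem isFinite_of_etale_nbhds {X' Y' : Scheme.{u}} (g : X' ⟶ Y')
    (H : ∀ y' : Y', ∃ (N : Scheme.{u}) (e : N ⟶ Y'), Etale e ∧ y' ∈ Set.range e ∧
      IsFinite (pullback.snd g e)) : IsFinite g := by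
  haveI : MorphismProperty.DescendsAlong @IsFinite
      (@Surjective ⊓ @Flat ⊓ @QuasiCompact : MorphismProperty Scheme.{u}) :=
    Groth.Agent.S0084.result
  refine IsZariskiLocalAtTarget.of_forall_exists_morphismRestrict (P := @IsFinite)
    fun y' => ?_
  obtain ⟨N, e, hEt, hy', hfin⟩ := H y'
  haveI := hEt
  let B : Y'.Opens := ⟨Set.range e, e.isOpenMap.isOpen_range⟩
  refine ⟨B, hy', ?_⟩
  have hBr : Set.range e ⊆ Set.range B.ι := by
    rw [Scheme.Opens.range_ι]
    exact subset_rfl
  let eb : N ⟶ B.toScheme := IsOpenImmersion.lift B.ι e hBr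
  have heb : eb ≫ B.ι = e := IsOpenImmersion.lift_fac _ _ _
  haveI : Etale eb := by
    refine MorphismProperty.of_postcomp (W := @Etale) (W' := @IsOpenImmersion) eb B.ι
      inferInstance ?_
    rw [heb]; infer_instance
  haveI : Surjective eb := by
    refine ⟨fun b => ?_⟩
    have hb : B.ι b ∈ Set.range e := by
      have : B.ι b ∈ Set.range B.ι := ⟨_, rfl⟩
      rw [Scheme.Opens.range_ι] at this
      exact this
    obtain ⟨n, hn⟩ := hb
    refine ⟨n, B.ι.isOpenEmbedding.injective ?_⟩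
    rw [← Scheme.Hom.comp_apply, heb, hn]
  have hR := (isPullback_morphismRestrict g B).flip
  let σ : pullback g e ⟶ (g ⁻¹ᵁ B).toScheme :=
    hR.lift (pullback.fst g e) (pullback.snd g e ≫ eb) (by
      rw [Category.assoc, heb, pullback.condition])
  have hσ1 : σ ≫ (g ⁻¹ᵁ B).ι = pullback.fst g e := hR.lift_fst _ _ _
  have hσ2 : σ ≫ g ∣_ B = pullback.snd g e ≫ eb := hR.lift_snd _ _ _
  have hsq : IsPullback σ (pullback.snd g e) (g ∣_ B) eb := by
    refine IsPullback.of_right ?_ hσ2 hR
    rw [hσ1, heb]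
    exact IsPullback.of_hasPullback g e
  exact MorphismProperty.of_isPullback_of_descendsAlong (P := @IsFinite)
    (Q := @Surjective ⊓ @Flat ⊓ @LocallyOfFinitePresentation) hsq.flip
    ⟨⟨inferInstance, inferInstance⟩, inferInstance⟩ hfin

end Groth.Agent.Lib.Helper6.BSB
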