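import Mathlib
import Groth.Prelude.Def_MoreMor
import Groth.Prelude.Def_ega3
import Groth.Agent.Lib.Helper6.BSB2
import Groth.Agent.Lib.Helper6.BSB3
import Groth.Agent.Lib.Helper6.BSB4

/-!
# Étale + quasi-compact + universally closed + constant fibre rank ⇒ finite
-/

set_option autoImplicit false
universe u

open CategoryTheory CategoryTheory.Limits AlgebraicGeometry IsLocalRing

namespace Groth.Agent.Lib.Helper6.BSB

open Groth.Agent.Lib.Helper6.Wt

set_option maxHeartbeats 3200000 in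
/-- An étale, quasi-compact, universally closed morphism whose fibres have global functions of
constant dimension is finite. -/
theorem main {T S : Scheme.{u}} (f : T ⟶ S)
    [Etale f] [QuasiCompact f] [UniversallyClosed f] (d : ℕ)
    (hd : ∀ s : S, Module.finrank (S.residueField s) Γ(f.fiber s, ⊤) = d) :
    IsFinite f := by
  classical
  haveI := locallyQuasiFinite_of_etale f
  have hfin : ∀ y : S, (f ⁻¹' {y}).Finite := fun y => f.finite_preimage_singleton y
  have hw := isWeighting_one_of_etale f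
  have hint : ∀ s, MoreMor.fibreIntegral f (fun _ => 1) s = d := fun s => by
    rw [← finrank_fiber_eq_fibreIntegral f s, hd s]
  refine isFinite_of_etale_nbhds f fun y' => ?_
  obtain ⟨V, a, v₀, hEt, hav₀, κ, hκ, D, z, hD, hzinj, hcov⟩ :=
    exists_etale_nbhd_fibre' f hfin y'
  haveI := hEt
  haveI := hκ
  haveI : ∀ k, IsFinite ((D k).ι ≫ pullback.snd f a) := fun k => (hD k).2.1
  have hsq : IsPullback (pullback.fst f a) (pullback.snd f a) f a :=
    IsPullback.of_hasPullback f a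
  have hbc : ∀ v : V, MoreMor.fibreIntegral (pullback.snd f a)
      ((fun _ => (1 : ℤ)) ∘ ⇑(pullback.fst f a)) v = d := fun v => by
    rw [fibreIntegral_baseChange hsq hfin (fun _ => 1) v]
    exact hint _
  have hfin' : ∀ v : V, ((pullback.snd f a) ⁻¹' {v}).Finite := fun v =>
    finite_preimage_singleton_of_isPullback hsq hfin v
  have hF : ∀ k, IsLocallyConstant
      (ptSum (pullback.snd f a) ((fun _ => (1 : ℤ)) ∘ ⇑(pullback.fst f a)) (D k)) := fun k =>
    IsWeighting.locConst hw a (pullback.fst f a) (pullback.snd f a) hsq (D k)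
  have hM : ∀ k, ∃ M : Set V, IsOpen M ∧ v₀ ∈ M ∧ ∀ v ∈ M,
      ptSum (pullback.snd f a) ((fun _ => (1 : ℤ)) ∘ ⇑(pullback.fst f a)) (D k) v =
      ptSum (pullback.snd f a) ((fun _ => (1 : ℤ)) ∘ ⇑(pullback.fst f a)) (D k) v₀ := fun k =>
    (IsLocallyConstant.iff_exists_open _).mp (hF k) v₀
  choose M hMo hM0 hMc using hM
  have heq : ∑ k, ptSum (pullback.snd f a) ((fun _ => (1 : ℤ)) ∘ ⇑(pullback.fst f a))
      (D k) v₀ = d := by
    rw [← hbc v₀]
    have h1 : ∀ k, ptSum (pullback.snd f a) ((fun _ => (1 : ℤ)) ∘ ⇑(pullback.fst f a))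
        (D k) v₀ = ptSum (pullback.snd f a) ((fun _ => (1 : ℤ)) ∘ ⇑(pullback.fst f a))
        ((D k : Set ↑(pullback f a)) ∩ (pullback.snd f a) ⁻¹' {v₀}) v₀ := by
      intro k
      unfold ptSum
      rw [Set.inter_assoc, Set.inter_self]
    rw [Finset.sum_congr rfl (fun k _ => h1 k)]
    refine sum_ptSum_eq_fibreIntegral _ _ _ (hfin' v₀)
      (fun k => (D k : Set ↑(pullback f a)) ∩ (pullback.snd f a) ⁻¹' {v₀}) ?_ ?_
    · intro k l hkl
      refine Set.disjoint_left.mpr ?_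
      rintro x ⟨hxk, hx0⟩ ⟨hxl, -⟩
      have e1 := (hD k).2.2.2 x hxk hx0
      have e2 := (hD l).2.2.2 x hxl hx0
      exact hkl (hzinj (e1.symm.trans e2))
    · intro x hx
      obtain ⟨k, hk⟩ := hcov x hx
      exact ⟨k, hk ▸ (hD k).1, hx⟩
  -- the closed complement of the union of the pieces
  let Zc : Set ↑(pullback f a) := ((⨆ k, D k : (pullback f a).Opens) : Set ↑(pullback f a))ᶜ
  have hZc : IsClosed Zc := (⨆ k, D k : (pullback f a).Opens).isOpen.isClosed_compl
  have hZimg : IsClosed ((pullback.snd f a) '' Zc) := (pullback.snd f a).isClosedMap _ hZc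
  have hv₀Z : v₀ ∉ (pullback.snd f a) '' Zc := by
    rintro ⟨x, hxZ, hxv⟩
    obtain ⟨k, hk⟩ := hcov x hxv
    exact hxZ ((le_iSup D k) (hk ▸ (hD k).1))
  let NV : V.Opens := ⟨(⋂ k, M k) ∩ ((pullback.snd f a) '' Zc)ᶜ,
    (isOpen_iInter_of_finite hMo).inter hZimg.isOpen_compl⟩
  have hv₀N : v₀ ∈ NV := ⟨Set.mem_iInter.mpr hM0, hv₀Z⟩
  have hcover : ∀ x : ↑(pullback f a), pullback.snd f a x ∈ NV → ∃ k, x ∈ D k := by
    intro x hx
    by_contra hcon
    push Not at hcon
    refine hx.2 ⟨x, ?_, rfl⟩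
    intro hmem
    obtain ⟨k, hk⟩ := TopologicalSpace.Opens.mem_iSup.mp hmem
    exact hcon k hk
  have hdisjN : ∀ k l, k ≠ l → ∀ x : ↑(pullback f a), pullback.snd f a x ∈ NV →
      x ∈ D k → x ∈ D l → False := by
    intro k l hkl x hx hxk hxl
    refine disjoint_of_sum_ptSum_le (pullback.snd f a)
      ((fun _ => (1 : ℤ)) ∘ ⇑(pullback.fst f a)) (pullback.snd f a x) (hfin' _)
      (fun x' _ => ?_) (fun k => (D k : Set ↑(pullback f a)))
      (fun x' hx' => hcover x' (hx' ▸ hx)) ?_ k l hkl x rfl hxk hxl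
    · have := deg_pos_of_locallyQuasiFinite (pullback.snd f a) x'
      simpa using this
    · rw [hbc, ← heq]
      exact le_of_eq (Finset.sum_congr rfl fun k _ => hMc k _ (Set.mem_iInter.mp hx.1 k))
  -- the restriction over `NV` is finite
  have hres : IsPullback (pullback.snd f a ⁻¹ᵁ NV).ι (pullback.snd f a ∣_ NV)
      (pullback.snd f a) NV.ι := (isPullback_morphismRestrict (pullback.snd f a) NV).flip
  have hmemN : ∀ x : ↥(pullback.snd f a ⁻¹ᵁ NV),
      pullback.snd f a ((pullback.snd f a ⁻¹ᵁ NV).ι x) ∈ NV := by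
    intro x
    have : (pullback.snd f a ⁻¹ᵁ NV).ι x ∈ Set.range (pullback.snd f a ⁻¹ᵁ NV).ι := ⟨_, rfl⟩
    rw [Scheme.Opens.range_ι] at this
    exact this
  let E : κ → (pullback.snd f a ⁻¹ᵁ NV).toScheme.Opens := fun k =>
    (pullback.snd f a ⁻¹ᵁ NV).ι ⁻¹ᵁ (D k)
  have hEfin : ∀ k, IsFinite ((E k).ι ≫ pullback.snd f a ∣_ NV) := fun k =>
    isFinite_preimage hres (D k)
  have hEdisj : Pairwise fun k l => Disjoint (E k) (E l) := by
    intro k l hkl
    refine disjoint_iff.mpr ?_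
    ext x
    simp only [TopologicalSpace.Opens.coe_inf, Set.mem_inter_iff, SetLike.mem_coe,
      TopologicalSpace.Opens.coe_bot, Set.mem_empty_iff_false, iff_false, not_and]
    intro h1 h2
    exact hdisjN k l hkl _ (hmemN x) h1 h2
  have hUfin : IsFinite ((⨆ k, E k).ι ≫ pullback.snd f a ∣_ NV) :=
    EtLoc.isFinite_iSup_of_pairwise_disjoint _ E hEdisj hEfin
  have htop : (⨆ k, E k) = ⊤ := by
    ext x
    simp only [TopologicalSpace.Opens.coe_top, Set.mem_univ, iff_true]
    obtain ⟨k, hk⟩ := hcover _ (hmemN x)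
    change x ∈ (⨆ k, E k : (pullback.snd f a ⁻¹ᵁ NV).toScheme.Opens)
    exact (le_iSup E k) hk
  have hfinN : IsFinite (pullback.snd f a ∣_ NV) := by
    rw [htop] at hUfin
    exact (MorphismProperty.cancel_left_of_respectsIso @IsFinite
      (Scheme.topIso _).hom (pullback.snd f a ∣_ NV)).mp hUfin
  refine ⟨NV.toScheme, NV.ι ≫ a, inferInstance, ?_, ?_⟩
  · obtain ⟨n₀, hn₀⟩ : v₀ ∈ Set.range NV.ι := by rw [Scheme.Opens.range_ι]; exact hv₀N
    exact ⟨n₀, by rw [Scheme.Hom.comp_apply, hn₀, hav₀]⟩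
  · have hA : IsPullback ((pullback.snd f a ⁻¹ᵁ NV).ι ≫ pullback.fst f a)
        (pullback.snd f a ∣_ NV) f (NV.ι ≫ a) := hres.paste_horiz hsq
    have hiso := (IsPullback.of_hasPullback f (NV.ι ≫ a)).isoIsPullback_hom_snd _ _ hA
    rw [← hiso]
    haveI := hfinN
    infer_instance

end Groth.Agent.Lib.Helper6.BSB
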