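import Groth.Agent.Lib.Helper6.BddFibCount

set_option autoImplicit false
universe u

open CategoryTheory AlgebraicGeometry Limits TensorProduct

namespace Groth.Agent.Lib.Helper6.BddFibLib

/-- A scheme finite over a field is a finite discrete space. -/
theorem discreteTopology_of_finiteOfDegLE {K : CommRingCat.{u}} (hK : IsField K)
    {T : Scheme.{u}} (p : T ⟶ Spec K) (n : ℕ) (h : BddFib.FiniteOfDegLE K p n) :
    DiscreteTopology T := by
  let _ := hK.toField
  rw [finiteOfDegLE_iff] at h
  obtain ⟨hT, hD⟩ := h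
  let _ : Algebra K Γ(T, ⊤) := ((Scheme.ΓSpecIso K).inv ≫ p.appTop).hom.toAlgebra
  obtain ⟨hfin, -⟩ := hD
  have : IsArtinianRing Γ(T, ⊤) := IsArtinianRing.of_finite K Γ(T, ⊤)
  have hd : DiscreteTopology (PrimeSpectrum Γ(T, ⊤)) := inferInstance
  let e := TopCat.homeoOfIso (asIso T.isoSpec.hom.base)
  exact DiscreteTopology.of_continuous_injective e.continuous e.injective

theorem finDeg_of_injective {K R S : Type u} [Field K] [CommRing R] [CommRing S]
    (φ : K →+* S) (ρ : S →+* R) (hρ : Function.Injective ρ) (n : ℕ)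
    (h : FinDeg (ρ.comp φ) n) : FinDeg φ n := by
  let _ : Algebra K S := φ.toAlgebra
  let _ : Algebra K R := (ρ.comp φ).toAlgebra
  let ρ' : S →ₗ[K] R :=
    { toFun := ρ
      map_add' := map_add ρ
      map_smul' := by
        intro k s
        simp only [Algebra.smul_def, RingHom.id_apply, map_mul]
        rfl }
  obtain ⟨h1, h2⟩ := h
  have hinj : Function.Injective ρ' := hρ
  exact ⟨Module.Finite.of_injective ρ' hinj,
    (LinearMap.finrank_le_finrank_of_injective hinj).trans h2⟩

theorem finiteOfDegLE_of_flat_surjective {K : CommRingCat.{u}} (hK : IsField K)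
    {W V : Scheme.{u}} (r : W ⟶ V) [Flat r] [Surjective r] (s : V ⟶ Spec K) (n : ℕ)
    (h : BddFib.FiniteOfDegLE K (r ≫ s) n) : BddFib.FiniteOfDegLE K s n := by
  let _ := hK.toField
  have hW : IsAffine W := h.1
  have hWd : DiscreteTopology W := discreteTopology_of_finiteOfDegLE hK _ n h
  have hWf : Finite W := (finite_and_card_le_of_finiteOfDegLE hK _ n h).1
  have hVf : Finite V := Finite.of_surjective r r.surjective
  have hVt : T1Space V := by
    rw [t1Space_iff_specializes_imp_eq]
    intro v' v hv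
    obtain ⟨w, rfl⟩ := r.surjective v
    obtain ⟨w', hw', rfl⟩ := (Flat.generalizingMap r) hv
    rw [hw'.eq]
  have hVd : DiscreteTopology V := inferInstance
  have hV : IsAffine V := inferInstance
  have hff : r.appTop.hom.FaithfullyFlat :=
    (Flat.flat_and_surjective_iff_faithfullyFlat_of_isAffine r).mp ⟨inferInstance, inferInstance⟩
  rw [finiteOfDegLE_iff] at h ⊢
  refine ⟨hV, finDeg_of_injective _ r.appTop.hom hff.injective n ?_⟩
  have : r.appTop.hom.comp ((Scheme.ΓSpecIso K).inv ≫ s.appTop).hom =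
      ((Scheme.ΓSpecIso K).inv ≫ (r ≫ s).appTop).hom := by
    have e : (r ≫ s).appTop = s.appTop ≫ r.appTop := by simp [Scheme.Hom.appTop]
    rw [e]
    rfl
  rw [this]
  exact h.2

end Groth.Agent.Lib.Helper6.BddFibLib
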