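import Groth.Agent.Lib.Helper6.BddFibFlat

set_option autoImplicit false
universe u

open CategoryTheory AlgebraicGeometry Limits TensorProduct

namespace Groth.Agent.Lib.Helper6.BddFibLib

/-- On an affine scheme with artinian ring of global sections, evaluation at a point is
surjective onto the residue field. -/
theorem Γevaluation_surjective {T : Scheme.{u}} [IsAffine T] [IsArtinianRing Γ(T, ⊤)] (x : T) :
    Function.Surjective (T.Γevaluation x).hom := by
  have hT : IsAffineOpen (⊤ : T.Opens) := isAffineOpen_top T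
  let _ := T.presheaf.algebra_section_stalk (⟨x, trivial⟩ : (⊤ : T.Opens))
  have hloc := hT.isLocalization_stalk ⟨x, trivial⟩
  have hprime : (RingHom.ker (T.Γevaluation x).hom).IsPrime := RingHom.ker_isPrime _
  have hmax : (RingHom.ker (T.Γevaluation x).hom).IsMaximal :=
    IsArtinianRing.isMaximal_of_isPrime _
  intro y
  obtain ⟨s, rfl⟩ : ∃ s, (T.residue x).hom s = y := IsLocalRing.residue_surjective y
  obtain ⟨a, b, rfl⟩ := IsLocalization.exists_mk'_eq
    (hT.primeIdealOf ⟨x, trivial⟩).asIdeal.primeCompl s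
  have hev : ∀ r : Γ(T, ⊤), (T.Γevaluation x).hom r =
      (T.residue x).hom (algebraMap Γ(T, ⊤) (T.presheaf.stalk x) r) := fun r => rfl
  have h1 : (T.Γevaluation x).hom b.1 *
      (T.residue x).hom (IsLocalization.mk' (T.presheaf.stalk x) a b) =
      (T.Γevaluation x).hom a := by
    rw [hev, hev, ← map_mul, mul_comm, IsLocalization.mk'_spec]
  have hb : b.1 ∉ RingHom.ker (T.Γevaluation x).hom := by
    rw [RingHom.mem_ker, hev]
    have hu : IsUnit (algebraMap Γ(T, ⊤) (T.presheaf.stalk x) b.1) :=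
      IsLocalization.map_units _ b
    exact (hu.map (T.residue x).hom).ne_zero
  obtain ⟨c, i, hi, hci⟩ := hmax.exists_inv hb
  refine ⟨c * a, ?_⟩
  have h2 : (T.Γevaluation x).hom c * (T.Γevaluation x).hom b.1 = 1 := by
    have := congrArg (T.Γevaluation x).hom hci
    rw [map_add, map_mul, map_one, (RingHom.mem_ker).mp hi, add_zero] at this
    exact this
  rw [map_mul, ← h1, ← mul_assoc, h2, one_mul]

/-- The sum of the residue degrees of a scheme finite over a field is bounded by its degree. -/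
theorem finsum_residueDegree_le {K : CommRingCat.{u}} (hK : IsField K) {T : Scheme.{u}}
    (p : T ⟶ Spec K) (n : ℕ) (h : BddFib.FiniteOfDegLE K p n) :
    Finite T ∧ ∑ᶠ x : T, p.residueDegree x ≤ n := by
  let _ := hK.toField
  have hTf : Finite T := (finite_and_card_le_of_finiteOfDegLE hK p n h).1
  have hTd : DiscreteTopology T := discreteTopology_of_finiteOfDegLE hK p n h
  refine ⟨hTf, ?_⟩
  rw [finiteOfDegLE_iff] at h
  obtain ⟨hT, hD⟩ := h
  set ψ : K ⟶ Γ(T, ⊤) := (Scheme.ΓSpecIso K).inv ≫ p.appTop with hψ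
  let _ : Algebra K Γ(T, ⊤) := ψ.hom.toAlgebra
  obtain ⟨hfin, hrank⟩ := hD
  have hfin' : Module.Finite K Γ(T, ⊤) := hfin
  have hart : IsArtinianRing Γ(T, ⊤) := IsArtinianRing.of_finite K Γ(T, ⊤)
  let 𝔭 : T → Ideal Γ(T, ⊤) := fun x => RingHom.ker (T.Γevaluation x).hom
  have hprime : ∀ x, (𝔭 x).IsPrime := fun x => RingHom.ker_isPrime _
  have hmax : ∀ x, (𝔭 x).IsMaximal := fun x => IsArtinianRing.isMaximal_of_isPrime _
  have hinj : ∀ x y : T, x ≠ y → 𝔭 x ≠ 𝔭 y := by
    intro x y hne heq
    have hopen : IsOpen ({x} : Set T) := isOpen_discrete _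
    obtain ⟨V, ⟨U, ⟨f, rfl⟩, rfl⟩, hxV, hVx⟩ := (isBasis_basicOpen T).exists_subset_of_mem_open
      (Set.mem_singleton x) hopen
    have h1 : f ∉ 𝔭 x := by
      rw [RingHom.mem_ker]
      exact (T.evaluation_ne_zero_iff_mem_basicOpen (U := ⊤) x trivial f).mpr hxV
    have h2 : f ∈ 𝔭 y := by
      rw [RingHom.mem_ker]
      by_contra hcon
      have := (T.evaluation_ne_zero_iff_mem_basicOpen (U := ⊤) y trivial f).mp hcon
      exact hne (hVx this).symm
    exact h1 (heq ▸ h2)
  have hcop : Pairwise (Function.onFun IsCoprime 𝔭) := by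
    intro x y hxy
    have := hmax x
    have := hmax y
    exact Ideal.isCoprime_of_isMaximal (hinj x y hxy)
  cases nonempty_fintype T
  let L : Γ(T, ⊤) →ₗ[K] (∀ x : T, Γ(T, ⊤) ⧸ 𝔭 x) :=
    LinearMap.pi (fun x => (Ideal.Quotient.mkₐ K (𝔭 x)).toLinearMap)
  have hL : Function.Surjective L := by
    intro z
    obtain ⟨r, hr⟩ := Ideal.pi_quotient_surjective hcop z
    exact ⟨r, funext hr⟩
  have hsum : ∑ x : T, Module.finrank K (Γ(T, ⊤) ⧸ 𝔭 x) ≤ n := by
    rw [← Module.finrank_pi_fintype]
    exact (LinearMap.finrank_le_finrank_of_surjective hL).trans hrank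
  rw [finsum_eq_sum_of_fintype]
  refine le_trans (le_of_eq ?_) hsum
  refine Finset.sum_congr rfl (fun x _ => ?_)
  -- residue degree at `x`
  have hartK : IsArtinianRing Γ(Spec K, ⊤) :=
    (Scheme.ΓSpecIso K).commRingCatIsoToRingEquiv.symm.surjective.isArtinianRing
  let i0 : K →+* (Spec K).residueField (p x) :=
    ((Scheme.ΓSpecIso K).inv ≫ (Spec K).Γevaluation (p x)).hom
  have hi0 : Function.Bijective i0 := by
    refine ⟨i0.injective, ?_⟩
    exact (Γevaluation_surjective (T := Spec K) (p x)).comp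
      (Scheme.ΓSpecIso K).commRingCatIsoToRingEquiv.symm.surjective
  let i : K ≃+* (Spec K).residueField (p x) := RingEquiv.ofBijective i0 hi0
  let j : (Γ(T, ⊤) ⧸ 𝔭 x) ≃+* T.residueField x :=
    RingHom.quotientKerEquivOfSurjective (Γevaluation_surjective x)
  let _ : Algebra ((Spec K).residueField (p x)) (T.residueField x) :=
    (p.residueFieldMap x).hom.toAlgebra
  change Module.finrank ((Spec K).residueField (p x)) (T.residueField x) = _
  symm
  refine Algebra.finrank_eq_of_equiv_equiv i j ?_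
  ext c
  change (p.residueFieldMap x).hom ((Spec K).Γevaluation (p x) ((Scheme.ΓSpecIso K).inv c)) =
    (T.Γevaluation x).hom (ψ.hom c)
  rw [Scheme.Γevaluation_naturality_apply]
  rfl

end Groth.Agent.Lib.Helper6.BddFibLib
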