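import Mathlib
import Groth.Agent.Lib.Helper6.CMChart4
import Groth.Agent.Lib.Helper12.ConstrTop
import Groth.Agent.Lib.Helper14.LocConstr
import Groth.Agent.Lib.Helper16.ReducedSub
import Groth.Agent.Lib.Helper25.GFScheme
import Groth.Agent.S1460
import Groth.Agent.S4961

/-!
# Constructibility of the Cohen–Macaulay locus of the fibres (EGA IV 9.9.2 style), I
-/

set_option autoImplicit false
set_option linter.style.haveILetI false
universe u
open AlgebraicGeometry CategoryTheory Limits TopologicalSpace Topology Set.Notation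

namespace Groth.Agent.Lib.Helper6.CMConstr

open Groth.Agent.Lib.Helper23.CMMor Groth.Agent.Lib.Helper16.GorMor Groth.Agent.Lib.Helper14.AS

variable {X S : Scheme.{u}}

/-- the locus of points at which the fibre through the point is Cohen–Macaulay -/
def Ecm (f : X ⟶ S) : Set X :=
  {x : X | LocCoh.IsCohenMacaulayLocalRing ((f.fiber (f.base x)).presheaf.stalk (f.asFiber x))}

theorem mem_Ecm_iff (f : X ⟶ S) (x : X) :
    x ∈ Ecm f ↔ LocCoh.IsCohenMacaulayLocalRing (CF f x) :=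
  cm_fiber_stalk_iff f x

/-- base change -/
theorem Ecm_of_isPullback {X' S' : Scheme.{u}} (f' : X' ⟶ S') (f : X ⟶ S) (g' : X' ⟶ X)
    (g : S' ⟶ S) (hc : IsPullback g' f' f g) [LocallyOfFiniteType f] :
    Ecm f' = g' ⁻¹' Ecm f := by
  ext x'
  rw [Set.mem_preimage, mem_Ecm_iff, mem_Ecm_iff]
  haveI : IsLocallyNoetherian (f.fiber (f (g' x'))) := isLocallyNoetherian_fiber_of_lft f _
  haveI := isNoetherianRing_CF f (g' x')
  exact (cm_CF_baseChange_iff' hc x').symm

/-- for a flat morphism, `Ecm` is the Cohen–Macaulay locus -/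
theorem Ecm_eq_of_flat (f : X ⟶ S) [Flat f] : Ecm f = {x : X | MoreMor.IsCMAt f x} := by
  ext x
  exact ⟨fun h => ⟨(Flat.iff_flat_stalkMap f).mp inferInstance x, h⟩, fun h => h.2⟩

theorem isOpen_Ecm_of_flat (f : X ⟶ S) [Flat f] [LocallyOfFinitePresentation f] :
    IsOpen (Ecm f) := by
  rw [Ecm_eq_of_flat]
  exact Groth.Agent.S4961.result f

/-- a topological lemma: constancy of membership near the generic point -/
theorem exists_open_const {W T : Type*} [TopologicalSpace W] [TopologicalSpace T] (q : W → T)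
    (hq : IsInducing q) (A : Set T) (hA : IsOpen (q ⁻¹' A)) (Y : Set T) (η : T)
    (hη : ∀ a ∈ Y, η ⤳ a) (hηY : η ∈ Y) (V' : Set T) (hV' : IsOpen V') (hηV' : η ∈ V')
    (hsub : V' ∩ Y ⊆ Set.range q) :
    ∃ U : Set T, IsOpen U ∧ (U ∩ Y).Nonempty ∧ ∀ a ∈ U ∩ Y, ∀ b ∈ U ∩ Y, (a ∈ A) = (b ∈ A) := by
  obtain ⟨O', hO', hO'eq⟩ := hq.isOpen_iff.mp hA
  obtain ⟨w₀, hw₀⟩ := hsub ⟨hηV', hηY⟩
  by_cases hηA : η ∈ A
  · have hηO' : η ∈ O' := by
      have : w₀ ∈ q ⁻¹' O' := by
        rw [hO'eq, Set.mem_preimage, hw₀]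
        exact hηA
      rw [Set.mem_preimage, hw₀] at this
      exact this
    have hall : ∀ a ∈ (V' ∩ O') ∩ Y, a ∈ A := by
      rintro a ⟨⟨haV', haO'⟩, haY⟩
      obtain ⟨w, rfl⟩ := hsub ⟨haV', haY⟩
      have : w ∈ q ⁻¹' O' := haO'
      rw [hO'eq] at this
      exact this
    refine ⟨V' ∩ O', hV'.inter hO', ⟨η, ⟨hηV', hηO'⟩, hηY⟩, fun a ha b hb => ?_⟩
    exact propext ⟨fun _ => hall b hb, fun _ => hall a ha⟩
  · have hall : ∀ a ∈ V' ∩ Y, a ∉ A := by
      rintro a ⟨haV', haY⟩ haA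
      obtain ⟨w, rfl⟩ := hsub ⟨haV', haY⟩
      have h1 : w ∈ q ⁻¹' O' := by
        rw [hO'eq]
        exact haA
      have h2 : η ∈ O' := (hη _ haY).mem_open hO' h1
      apply hηA
      have : w₀ ∈ q ⁻¹' O' := by
        rw [Set.mem_preimage, hw₀]
        exact h2
      rw [hO'eq, Set.mem_preimage, hw₀] at this
      exact this
    refine ⟨V', hV', ⟨η, hηV', hηY⟩, fun a ha b hb => ?_⟩
    exact propext ⟨fun h => absurd h (hall a ha), fun h => absurd h (hall b hb)⟩

end Groth.Agent.Lib.Helper6.CMConstr
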