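import Mathlib
import Groth.Agent.Lib.Helper6.CMConstr1

/-!
# Constructibility of the Cohen–Macaulay locus of the fibres, II: the Noetherian case
-/

set_option autoImplicit false
set_option linter.style.haveILetI false
universe u
open AlgebraicGeometry CategoryTheory Limits TopologicalSpace Topology Set.Notation

namespace Groth.Agent.Lib.Helper6.CMConstr

open Groth.Agent.Lib.Helper23.CMMor Groth.Agent.Lib.Helper16.GorMor Groth.Agent.Lib.Helper14.AS

variable {X S : Scheme.{u}}

set_option maxHeartbeats 1000000 in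
/-- **Noetherian case** -/
theorem isConstructible_Ecm_of_noetherianSpace [NoetherianSpace X] (f : X ⟶ S)
    [LocallyOfFiniteType f] [QuasiCompact f] : IsConstructible (Ecm f) := by
  have key := (Groth.Agent.Lib.Helper12.constructible_function_of_locally_constant
    (fun x : X => x ∈ Ecm f) ?_).1 True
  · convert key using 1
    ext x
    simp
  intro Y hY hYirr
  obtain ⟨η, hη⟩ := QuasiSober.sober hYirr hY
  have hηY : η ∈ Y := hη.mem
  have hηsp : ∀ a ∈ Y, η ⤳ a := fun a ha => hη.specializes ha
  -- the reduced closed subscheme of the base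
  set T : Closeds S := ⟨closure {f η}, isClosed_closure⟩ with hT
  set I := Scheme.IdealSheafData.vanishingIdeal T with hI
  have hrange : Set.range I.subschemeι = closure {f η} := by
    rw [Scheme.IdealSheafData.range_subschemeι, Scheme.IdealSheafData.coe_support_vanishingIdeal]
    rfl
  set i := I.subschemeι with hi
  haveI : IsReduced I.subscheme := Groth.Agent.Lib.Helper16.isReduced_subscheme_vanishingIdeal T
  -- base change and generic flatness
  obtain ⟨V, hVd, hVfl, hVfp⟩ :=
    Groth.Agent.Lib.Helper25.GFScheme.generic_flatness (pullback.snd f i)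
  haveI := hVfl
  haveI := hVfp
  have hE1 : Ecm (pullback.snd f i ∣_ V) =
      (((pullback.snd f i) ⁻¹ᵁ V).ι ≫ pullback.fst f i) ⁻¹' Ecm f := by
    rw [Ecm_of_isPullback (pullback.snd f i ∣_ V) (pullback.snd f i)
      ((pullback.snd f i) ⁻¹ᵁ V).ι V.ι (isPullback_morphismRestrict (pullback.snd f i) V).flip,
      Ecm_of_isPullback (pullback.snd f i) f (pullback.fst f i) i (IsPullback.of_hasPullback f i)]
    rfl
  have hopen : IsOpen ((((pullback.snd f i) ⁻¹ᵁ V).ι ≫ pullback.fst f i) ⁻¹' Ecm f) := by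
    rw [← hE1]
    exact isOpen_Ecm_of_flat _
  -- the generic point of the subscheme lies in `V`
  obtain ⟨z₀, hz₀⟩ : f η ∈ Set.range i := by
    rw [hrange]
    exact subset_closure rfl
  have hz₀gen : ∀ z : I.subscheme, z₀ ⤳ z := by
    intro z
    rw [← i.isEmbedding.isInducing.specializes_iff, hz₀, specializes_iff_mem_closure, ← hrange]
    exact ⟨z, rfl⟩
  have hz₀V : z₀ ∈ V := by
    obtain ⟨z, hz⟩ := hVd.nonempty_iff.mpr ⟨z₀⟩
    exact (hz₀gen z).mem_open V.2 hz
  obtain ⟨V'', hV'', hV''eq⟩ := i.isEmbedding.isInducing.isOpen_iff.mp V.2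
  have hηV'' : η ∈ f ⁻¹' V'' := by
    show f η ∈ V''
    rw [← hz₀]
    have : z₀ ∈ i ⁻¹' V'' := by rw [hV''eq]; exact hz₀V
    exact this
  have hsub : (f ⁻¹' V'') ∩ Y ⊆
      Set.range (((pullback.snd f i) ⁻¹ᵁ V).ι ≫ pullback.fst f i) := by
    rintro a ⟨haV'', haY⟩
    have hfa : f a ∈ Set.range i := by
      rw [hrange, ← specializes_iff_mem_closure]
      exact (hηsp a haY).map f.continuous
    obtain ⟨z, hz⟩ := hfa
    have hzV : z ∈ V := by
      have : z ∈ i ⁻¹' V'' := by
        show i z ∈ V''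
        rw [hz]
        exact haV''
      rw [hV''eq] at this
      exact this
    obtain ⟨p, hp1, hp2⟩ := Scheme.Pullback.exists_preimage_pullback a z hz.symm
    have hpW : p ∈ (pullback.snd f i) ⁻¹ᵁ V := by
      show (pullback.snd f i) p ∈ V
      rw [hp2]
      exact hzV
    exact ⟨⟨p, hpW⟩, hp1⟩
  have hind : IsInducing (((pullback.snd f i) ⁻¹ᵁ V).ι ≫ pullback.fst f i) := by
    rw [Scheme.Hom.comp_base]
    exact (pullback.fst f i).isEmbedding.isInducing.comp
      ((pullback.snd f i) ⁻¹ᵁ V).ι.isEmbedding.isInducing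
  exact exists_open_const _ hind (Ecm f) hopen Y η hηsp hηY (f ⁻¹' V'')
    (hV''.preimage f.continuous) hηV'' hsub

end Groth.Agent.Lib.Helper6.CMConstr
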