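import Mathlib
import Groth.Agent.Lib.Helper6.CMConstr2

/-!
# Constructibility of the Cohen–Macaulay locus of the fibres, III: the general case
-/

set_option autoImplicit false
set_option linter.style.haveILetI false
universe u
open AlgebraicGeometry CategoryTheory Limits TopologicalSpace Topology Set.Notation

namespace Groth.Agent.Lib.Helper6.CMConstr

open Groth.Agent.Lib.Helper23.CMMor Groth.Agent.Lib.Helper16.GorMor Groth.Agent.Lib.Helper14.AS

variable {X S : Scheme.{u}}

/-- **Affine finitely presented case**, by Noetherian approximation. -/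
theorem isLocallyConstructible_Ecm_of_isAffine (f : X ⟶ S) [IsAffine X] [IsAffine S]
    [LocallyOfFinitePresentation f] : IsLocallyConstructible (Ecm f) := by
  obtain ⟨X₀, S₀, f₀, g, g', hX₀, hS₀, hpb, hft, hf₀⟩ := Groth.Agent.S1460.result f
  have h1 : IsNoetherianRing Γ(S₀, ⊤) := Algebra.FiniteType.isNoetherianRing ℤ Γ(S₀, ⊤)
  have h2 : (f₀.appTop).hom.FiniteType :=
    (HasRingHomProperty.iff_of_isAffine (P := @LocallyOfFiniteType)).1 hf₀
  haveI h3 : IsNoetherianRing Γ(X₀, ⊤) := by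
    algebraize [(f₀.appTop).hom]
    exact Algebra.FiniteType.isNoetherianRing Γ(S₀, ⊤) Γ(X₀, ⊤)
  haveI hN : NoetherianSpace X₀ := noetherianSpace_of_isAffine
  haveI : QuasiCompact f₀ := inferInstance
  have hc := isConstructible_Ecm_of_noetherianSpace f₀
  rw [Ecm_of_isPullback f f₀ g' g hpb]
  exact isLocallyConstructible_preimage g' hc.isLocallyConstructible

/-- restriction to an open subscheme of the source -/
theorem Ecm_ι_comp (f : X ⟶ S) [LocallyOfFiniteType f] (U : X.Opens) :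
    Ecm (U.ι ≫ f) = U.ι ⁻¹' Ecm f := by
  ext u
  rw [Set.mem_preimage, mem_Ecm_iff, mem_Ecm_iff]
  haveI : IsLocallyNoetherian (f.fiber (f (U.ι u))) := isLocallyNoetherian_fiber_of_lft f _
  haveI : IsLocallyNoetherian (U.ι.fiber (U.ι u)) := isLocallyNoetherian_fiber_of_lft U.ι _
  haveI : IsLocallyNoetherian ((U.ι ≫ f).fiber ((U.ι ≫ f) u)) :=
    isLocallyNoetherian_fiber_of_lft (U.ι ≫ f) _
  haveI h1 : IsNoetherianRing (CF U.ι u) := isNoetherianRing_CF U.ι u
  haveI h2 : IsNoetherianRing (CF f (U.ι u)) := isNoetherianRing_CF f (U.ι u)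
  haveI h3 : IsNoetherianRing (CF (U.ι ≫ f) u) := isNoetherianRing_CF (U.ι ≫ f) u
  have hfl := Groth.Agent.Lib.Helper6.CMChart.flat_stalkMap_of_isOpenImmersion U.ι u
  rw [cm_CF_comp_iff U.ι f u hfl]
  have hι : LocCoh.IsCohenMacaulayLocalRing (CF U.ι u) :=
    ((isCMAt_iff U.ι u).mp
      (Groth.Agent.Lib.Helper6.CMChart.isCMAt_of_locallyQuasiFinite U.ι u hfl)).2
  exact ⟨fun h => h.1, fun h => ⟨h, hι⟩⟩

/-- postcomposition with an open immersion -/
theorem Ecm_comp_ι {U : Scheme.{u}} (V : S.Opens) (h : U ⟶ V) [LocallyOfFiniteType h] :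
    Ecm (h ≫ V.ι) = Ecm h := by
  have sq1 : IsPullback (𝟙 U) h h (𝟙 (V : Scheme.{u})) := IsPullback.of_horiz_isIso ⟨by simp⟩
  have sq2 : IsPullback (𝟙 (V : Scheme.{u})) (𝟙 (V : Scheme.{u})) V.ι V.ι :=
    (IsKernelPair.id_of_mono V.ι)
  have sq := sq1.paste_vert sq2
  rw [Category.comp_id] at sq
  have := Ecm_of_isPullback h (h ≫ V.ι) (𝟙 U) V.ι sq
  rw [this]
  rfl

/-- **The locus where the fibres are Cohen–Macaulay is locally constructible** -/
theorem isLocallyConstructible_Ecm (f : X ⟶ S) [LocallyOfFinitePresentation f] :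
    IsLocallyConstructible (Ecm f) := by
  haveI : LocallyOfFiniteType f := inferInstance
  have hex : ∀ x : X, ∃ (V : S.Opens) (U : X.Opens), IsAffineOpen V ∧ IsAffineOpen U ∧ x ∈ U ∧
      U ≤ f ⁻¹ᵁ V := by
    intro x
    obtain ⟨_, ⟨V, hV : IsAffineOpen V, rfl⟩, hxV, -⟩ :=
      S.isBasis_affineOpens.exists_subset_of_mem_open (Set.mem_univ (f x)) isOpen_univ
    obtain ⟨_, ⟨U, hU : IsAffineOpen U, rfl⟩, hxU, hsub⟩ :=
      X.isBasis_affineOpens.exists_subset_of_mem_open
        (show x ∈ ((f ⁻¹ᵁ V : X.Opens) : Set X) from hxV) (f ⁻¹ᵁ V).2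
    exact ⟨V, U, hV, hU, hxU, hsub⟩
  choose V U hV hU hxU hUV using hex
  refine IsLocallyConstructible.of_isOpenCover (U := U) ?_ ?_
  · rw [TopologicalSpace.IsOpenCover, eq_top_iff]
    intro x _
    exact TopologicalSpace.Opens.mem_iSup.mpr ⟨x, hxU x⟩
  · intro x
    haveI : IsAffine ((U x : X.Opens) : Scheme.{u}) := hU x
    haveI : IsAffine ((V x : S.Opens) : Scheme.{u}) := hV x
    have hcomp : f.resLE (V x) (U x) (hUV x) ≫ (V x).ι = (U x).ι ≫ f :=
      Scheme.Hom.resLE_comp_ι f (hUV x)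
    haveI : LocallyOfFinitePresentation (f.resLE (V x) (U x) (hUV x)) := by
      haveI : LocallyOfFinitePresentation (f.resLE (V x) (U x) (hUV x) ≫ (V x).ι) := by
        rw [hcomp]; infer_instance
      exact locallyOfFinitePresentation_of_comp (f.resLE (V x) (U x) (hUV x)) (V x).ι
        inferInstance inferInstance
    have h1 := isLocallyConstructible_Ecm_of_isAffine (f.resLE (V x) (U x) (hUV x))
    rw [← Ecm_comp_ι (V x) (f.resLE (V x) (U x) (hUV x)), hcomp, Ecm_ι_comp f (U x)] at h1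
    exact h1

end Groth.Agent.Lib.Helper6.CMConstr
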