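import Groth.Agent.Lib.Helper6.AWNRing2

set_option autoImplicit false
universe u

open CategoryTheory AlgebraicGeometry Limits

namespace Groth.Agent.Lib.Helper6.CharPUH

open Groth.Agent.Lib.Helper6.AWN Groth.Agent.Lib.Helper6.SqCube Groth.Agent.Lib.Helper12
open Groth.Agent.Lib.Helper6.UnivHomeoRing

section

variable {A B : Type u} [CommRing A] [CommRing B] [Algebra A B]

/-- The elements of `B` with a `p`-power power in the image of `A`, in characteristic `p`. -/
def pRadSub (p : ℕ) (hpp : p.Prime) (hp : (p : B) = 0) : Subalgebra A B where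
  carrier := {t | ∃ n : ℕ, t ^ (p ^ n) ∈ (algebraMap A B).range}
  mul_mem' := by
    rintro s t ⟨n, hn⟩ ⟨m, hm⟩
    refine ⟨n + m, ?_⟩
    rw [mul_pow, pow_add, pow_mul, mul_comm (p ^ n) (p ^ m), pow_mul t]
    exact mul_mem (pow_mem hn _) (pow_mem hm _)
  add_mem' := by
    rintro s t ⟨n, hn⟩ ⟨m, hm⟩
    refine ⟨n + m, ?_⟩
    rcases subsingleton_or_nontrivial B with hB | hB
    · rw [Subsingleton.elim ((s + t) ^ p ^ (n + m)) 0]; exact zero_mem _
    · have : CharP B p := (CharP.charP_iff_prime_eq_zero hpp).2 hp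
      have : Fact p.Prime := ⟨hpp⟩
      rw [add_pow_char_pow, pow_add, pow_mul, mul_comm (p ^ n) (p ^ m), pow_mul t]
      exact add_mem (pow_mem hn _) (pow_mem hm _)
  algebraMap_mem' := by
    intro a
    exact ⟨0, by rw [pow_zero, pow_one]; exact ⟨a, rfl⟩⟩

theorem mem_pRadSub (p : ℕ) (hpp : p.Prime) (hp : (p : B) = 0) (t : B) :
    t ∈ pRadSub (A := A) p hpp hp ↔ ∃ n : ℕ, t ^ (p ^ n) ∈ (algebraMap A B).range := Iff.rfl

theorem pow_mem_pRadSub (p : ℕ) (hpp : p.Prime) (hp : (p : B) = 0) (t : B)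
    (h : t ^ p ∈ pRadSub (A := A) p hpp hp) : t ∈ pRadSub (A := A) p hpp hp := by
  obtain ⟨n, hn⟩ := h
  refine ⟨n + 1, ?_⟩
  rw [pow_succ', pow_mul]
  exact hn

/-- In characteristic `p`, every element of a universally homeomorphic extension has a `p`-power
power in the base. -/
theorem pRadSub_eq_top (p : ℕ) (hpp : p.Prime) (hp : (p : B) = 0)
    (hU : FlatMor.IsUnivHomeo (Spec.map (CommRingCat.ofHom (algebraMap A B)))) :
    pRadSub (A := A) p hpp hp = ⊤ := by
  set S := pRadSub (A := A) p hpp hp with hS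
  have h1 : FlatMor.IsUnivHomeo (Spec.map (CommRingCat.ofHom (algebraMap A S))) :=
    isUnivHomeo_subalgebra S hU
  have h2 : FlatMor.IsUnivHomeo (Spec.map (CommRingCat.ofHom (algebraMap S B))) := by
    apply IsUnivHomeo.of_comp_left (h := Spec.map (CommRingCat.ofHom (algebraMap A S))) _ h1
    rw [SpecMap_subalgebra_comp]
    exact hU
  by_contra hne
  have hns : ¬ Function.Surjective (algebraMap S B) := by
    intro hsurj
    apply hne
    rw [eq_top_iff]
    intro b _
    obtain ⟨s, rfl⟩ := hsurj b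
    exact s.2
  have hrange : ∀ b : B, b ∈ (algebraMap S B).range ↔ b ∈ S := by
    intro b
    constructor
    · rintro ⟨s, rfl⟩; exact s.2
    · intro hb; exact ⟨⟨b, hb⟩, rfl⟩
  rcases exists_sq_cube_or_p hns h2 with ⟨b, hb, hb2, hb3⟩ | ⟨ℓ, b, hℓ, hb, hℓb, hbℓ⟩
  · rw [hrange] at hb hb2 hb3
    apply hb
    apply pow_mem_pRadSub p hpp hp
    obtain ⟨m, n, hmn⟩ : ∃ m n : ℕ, 2 * m + 3 * n = p := by
      rcases hpp.eq_two_or_odd' with h2 | hodd
      · exact ⟨1, 0, by omega⟩
      · obtain ⟨k, hk⟩ := hodd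
        have : 2 ≤ p := hpp.two_le
        exact ⟨k - 1, 1, by omega⟩
    have e : b ^ p = (b ^ 2) ^ m * (b ^ 3) ^ n := by
      rw [← pow_mul, ← pow_mul, ← pow_add, hmn]
    rw [e]
    exact mul_mem (pow_mem hb2 _) (pow_mem hb3 _)
  · rw [hrange] at hb hℓb hbℓ
    apply hb
    by_cases hℓp : ℓ = p
    · subst hℓp
      exact pow_mem_pRadSub ℓ hpp hp b hbℓ
    · have hcop : IsCoprime (ℓ : ℤ) (p : ℤ) := by
        rw [Nat.isCoprime_iff_coprime]
        exact (Nat.coprime_primes hℓ hpp).mpr hℓp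
      obtain ⟨u, v, huv⟩ := hcop
      have hu : (u : B) * (ℓ : B) = 1 := by
        have := congrArg (fun z : ℤ => (z : B)) huv
        simp only [Int.cast_add, Int.cast_mul, Int.cast_natCast, Int.cast_one] at this
        rw [hp, mul_zero, add_zero] at this
        exact this
      have : b = (u : B) * ((ℓ : B) * b) := by rw [← mul_assoc, hu, one_mul]
      rw [this]
      exact mul_mem (intCast_mem S u) hℓb

end

/-- In characteristic `p`, every element of the target of a ring map inducing a universal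
homeomorphism has a `p`-power power in the image. -/
theorem exists_pow_mem_range_of_uh {B B' : Type u} [CommRing B] [CommRing B'] (p : ℕ)
    (hpp : p.Prime) (hp : (p : B') = 0) (ψ : B →+* B') (hψ : UH ψ) (t : B') :
    ∃ n : ℕ, t ^ (p ^ n) ∈ ψ.range := by
  let _ : Algebra B B' := ψ.toAlgebra
  have hU : FlatMor.IsUnivHomeo (Spec.map (CommRingCat.ofHom (algebraMap B B'))) :=
    (uh_iff ψ).mpr hψ
  have h := pRadSub_eq_top (A := B) p hpp hp hU
  have ht : t ∈ pRadSub (A := B) p hpp hp := by rw [h]; trivial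
  exact ht

end Groth.Agent.Lib.Helper6.CharPUH
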