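import Mathlib
import Groth.Agent.Lib.Helper21.FibDimR2

/-!
# Ring-level core for EGA IV 14.5.? (closed points of the generic fibre between a specialisation)
-/

set_option autoImplicit false
set_option linter.style.haveILetI false
universe u

namespace Groth.Agent.Lib.Helper6.ClPt

open IsLocalRing

/-- the residue field of a valuation subring of an algebraically closed field is algebraically
closed -/
theorem isAlgClosed_residueField_valuationSubring (M : Type u) [Field M] [IsAlgClosed M]
    (A : ValuationSubring M) : IsAlgClosed (IsLocalRing.ResidueField A) := by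
  refine IsAlgClosed.of_exists_root _ fun p hpm hpirr => ?_
  obtain ⟨P, hP, hPdeg, hPm⟩ := Polynomial.lifts_and_degree_eq_and_monic
    ((Polynomial.mem_lifts p).mpr
      (Polynomial.map_surjective _ (IsLocalRing.residue_surjective (R := A)) p)) hpm
  have hdeg : (P.map (algebraMap A M)).degree ≠ 0 := by
    rw [Polynomial.degree_map_eq_of_injective (FaithfulSMul.algebraMap_injective A M), hPdeg]
    exact (Polynomial.degree_pos_of_irreducible hpirr).ne'
  obtain ⟨r, hr⟩ := IsAlgClosed.exists_root _ hdeg
  have hint : IsIntegral A r := ⟨P, hPm, by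
    rwa [Polynomial.IsRoot.def, Polynomial.eval_map] at hr⟩
  obtain ⟨r', rfl⟩ := IsIntegrallyClosed.isIntegral_iff.mp hint
  refine ⟨IsLocalRing.residue A r', ?_⟩
  have h0 : Polynomial.eval r' P = 0 := by
    apply FaithfulSMul.algebraMap_injective A M
    rw [map_zero, ← Polynomial.eval₂_at_apply, ← Polynomial.eval_map]
    exact hr
  rw [← hP, Polynomial.eval_map, Polynomial.eval₂_at_apply, h0, map_zero]

/-- a local domain which is not a field has infinite maximal ideal -/
theorem infinite_maximalIdeal (A : Type u) [CommRing A] [IsDomain A] [IsLocalRing A]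
    (hA : ¬ IsField A) : (maximalIdeal A : Set A).Infinite := by
  haveI : Infinite A := by
    by_contra hfin
    rw [not_infinite_iff_finite] at hfin
    exact hA (Finite.isField_of_domain A)
  obtain ⟨π, hπ, hπ0⟩ : ∃ π ∈ maximalIdeal A, π ≠ 0 := by
    by_contra hcon
    push Not at hcon
    apply hA
    rw [IsLocalRing.isField_iff_maximalIdeal_eq]
    exact (Submodule.eq_bot_iff _).mpr hcon
  exact Set.infinite_of_injective_forall_mem (f := fun x : A => π * x)
    (mul_right_injective₀ hπ0) (fun x => Ideal.mul_mem_right x _ hπ)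

/-- **Ring-level core.** -/
theorem ring_core (A : Type u) [CommRing A] [IsDomain A] [IsLocalRing A]
    [IsAlgClosed (IsLocalRing.ResidueField A)] (hA : ¬ IsField A)
    (σ : Type u) [Finite σ] (R : Type u) [CommRing R] [IsDomain R]
    (φ : MvPolynomial σ A →+* R) (hinj : Function.Injective φ) (hqf : φ.QuasiFinite)
    (hft : (φ.comp MvPolynomial.C).FiniteType)
    (q' : Ideal R) [hq'max : q'.IsMaximal]
    (hq' : maximalIdeal A ≤ q'.comap (φ.comp MvPolynomial.C))
    (hgl : ∀ P₁ : Ideal (MvPolynomial σ A), P₁.IsPrime → P₁ ≤ q'.comap φ →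
      ∃ q₀ : Ideal R, q₀.IsPrime ∧ q₀ ≤ q' ∧ q₀.comap φ = P₁)
    (e : R) (he : e ≠ 0) :
    ∃ (a : σ → A) (q₀ : Ideal R), q₀.IsPrime ∧ q₀ ≤ q' ∧ e ∉ q₀ ∧
      q₀.comap φ = RingHom.ker (MvPolynomial.eval a) := by
  classical
  -- Step 1: `A → R ⧸ q'` is surjective
  have hsurj : ∀ r : R, ∃ c : A, r - φ (MvPolynomial.C c) ∈ q' := by
    letI : Field (R ⧸ q') := Ideal.Quotient.field q'
    let θ : A →+* R ⧸ q' := (Ideal.Quotient.mk q').comp (φ.comp MvPolynomial.C)
    have hker : ∀ a ∈ maximalIdeal A, θ a = 0 := fun a ha =>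
      Ideal.Quotient.eq_zero_iff_mem.mpr (hq' ha)
    let θ' : IsLocalRing.ResidueField A →+* R ⧸ q' :=
      Ideal.Quotient.lift (maximalIdeal A) θ hker
    have hθ : θ.FiniteType :=
      (RingHom.FiniteType.of_surjective _ Ideal.Quotient.mk_surjective).comp hft
    have hcomp : θ'.comp (IsLocalRing.residue A) = θ := by
      ext x
      rfl
    have hθ' : θ'.FiniteType := by
      rw [← hcomp] at hθ
      exact RingHom.FiniteType.of_comp_finiteType hθ
    have hfin : θ'.Finite := RingHom.finite_iff_finiteType_of_isJacobsonRing.mpr hθ'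
    have hs := (IsAlgClosed.ringHom_bijective_of_isIntegral θ'
      (RingHom.IsIntegral.of_finite hfin)).2
    intro r
    obtain ⟨cbar, hc⟩ := hs (Ideal.Quotient.mk q' r)
    obtain ⟨c, rfl⟩ := IsLocalRing.residue_surjective cbar
    refine ⟨c, ?_⟩
    rw [← Ideal.Quotient.eq_zero_iff_mem, map_sub, sub_eq_zero, ← hc]
    rfl
  choose cfun hcfun using fun i : σ => hsurj (φ (MvPolynomial.X i))
  -- Step 2: algebraic dependence
  obtain ⟨t, ht0, r, hr⟩ : ∃ t : MvPolynomial σ A, t ≠ 0 ∧ ∃ r : R, φ t = e * r := by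
    letI : Algebra (MvPolynomial σ A) R := φ.toAlgebra
    haveI : FaithfulSMul (MvPolynomial σ A) R :=
      (faithfulSMul_iff_algebraMap_injective _ _).mpr hinj
    haveI : Algebra.QuasiFinite (MvPolynomial σ A) R := hqf
    have halg := Groth.Agent.Lib.Helper21.FibDim.isAlgebraic_of_quasiFinite (MvPolynomial σ A) R
    obtain ⟨t, ht0, r, hr⟩ := (halg.isAlgebraic e).exists_nonzero_dvd
      (mem_nonZeroDivisors_of_ne_zero he)
    exact ⟨t, ht0, r, hr⟩
  -- Step 3: choose the point
  have hminf := infinite_maximalIdeal A hA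
  obtain ⟨a, ha, hta⟩ : ∃ a : σ → A, (∀ i, a i - cfun i ∈ maximalIdeal A) ∧
      MvPolynomial.eval a t ≠ 0 := by
    by_contra hcon
    push Not at hcon
    apply ht0
    refine MvPolynomial.funext_set (fun i => (fun x => cfun i + x) '' (maximalIdeal A : Set A))
      (fun i => hminf.image (add_right_injective (cfun i)).injOn) fun x hx => ?_
    rw [map_zero]
    refine hcon x fun i => ?_
    obtain ⟨m, hm, hxm⟩ := hx i (Set.mem_univ i)
    rw [← hxm]
    simpa using hm
  -- Step 4: the kernel of evaluation lies in the preimage of `q'`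
  have hcongr : ∀ h : MvPolynomial σ A,
      φ h - φ (MvPolynomial.C (MvPolynomial.eval a h)) ∈ q' := by
    intro h
    have hhom : (Ideal.Quotient.mk q').comp φ =
        ((Ideal.Quotient.mk q').comp (φ.comp MvPolynomial.C)).comp (MvPolynomial.eval a) := by
      refine MvPolynomial.ringHom_ext (fun x => ?_) (fun i => ?_)
      · simp
      · simp only [RingHom.comp_apply, MvPolynomial.eval_X]
        rw [← sub_eq_zero, ← map_sub, Ideal.Quotient.eq_zero_iff_mem]
        have h1 := hcfun i
        have h2 : φ (MvPolynomial.C (a i - cfun i)) ∈ q' := hq' (ha i)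
        have : φ (MvPolynomial.X i) - φ (MvPolynomial.C (a i)) =
            (φ (MvPolynomial.X i) - φ (MvPolynomial.C (cfun i))) -
              φ (MvPolynomial.C (a i - cfun i)) := by
          rw [map_sub, map_sub]; ring
        rw [this]
        exact q'.sub_mem h1 h2
    have := congrArg (fun ψ => ψ h) hhom
    simp only [RingHom.comp_apply] at this
    rw [← Ideal.Quotient.eq_zero_iff_mem, map_sub, sub_eq_zero]
    exact this
  have hP₁ : (RingHom.ker (MvPolynomial.eval a : MvPolynomial σ A →+* A)).IsPrime :=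
    RingHom.ker_isPrime _
  have hle : RingHom.ker (MvPolynomial.eval a : MvPolynomial σ A →+* A) ≤ q'.comap φ := by
    intro h hh
    rw [RingHom.mem_ker] at hh
    have := hcongr h
    rw [hh, map_zero, map_zero, sub_zero] at this
    exact this
  obtain ⟨q₀, hq₀p, hq₀le, hq₀⟩ := hgl _ hP₁ hle
  refine ⟨a, q₀, hq₀p, hq₀le, fun heq₀ => ?_, hq₀⟩
  have : t ∈ q₀.comap φ := by
    rw [Ideal.mem_comap, hr]
    exact Ideal.mul_mem_right _ _ heq₀
  rw [hq₀, RingHom.mem_ker] at this
  exact hta this

end Groth.Agent.Lib.Helper6.ClPt
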