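import Mathlib
import Groth.Agent.Lib.Helper6.QFac5
import Groth.Agent.Lib.Helper6.EtaleSq

/-!
# Formal lemmas on residue transcendence degrees
-/

set_option autoImplicit false
set_option linter.style.haveILetI false
universe u
open AlgebraicGeometry CategoryTheory Limits TopologicalSpace

namespace Groth.Agent.Lib.Helper6.ClPt

open Groth.Agent.Lib.Helper6.QFac Groth.Agent.Lib.Helper21.FibDim

/-- additivity of residue transcendence degrees along a composition (cardinal version) -/
theorem rtd_comp {X Y Z : Scheme.{u}} (f : X ⟶ Y) (g : Y ⟶ Z) (x : X) :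
    rtd g (f x) + rtd f x = rtd (f ≫ g) x := by
  letI a1 : Algebra (Z.residueField (g (f x))) (Y.residueField (f x)) :=
    (g.residueFieldMap (f x)).hom.toAlgebra
  letI a2 : Algebra (Y.residueField (f x)) (X.residueField x) :=
    (f.residueFieldMap x).hom.toAlgebra
  letI a3 : Algebra (Z.residueField (g (f x))) (X.residueField x) :=
    ((f ≫ g).residueFieldMap x).hom.toAlgebra
  haveI : IsScalarTower (Z.residueField (g (f x))) (Y.residueField (f x)) (X.residueField x) :=
    IsScalarTower.of_algebraMap_eq (fun z => by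
      change ((f ≫ g).residueFieldMap x).hom z = _
      rw [Scheme.residueFieldMap_comp]
      rfl)
  exact trdeg_add_eq (Z.residueField (g (f x))) (Y.residueField (f x)) (A := X.residueField x)

theorem rtd_eq_zero_of_surjective {X Y : Scheme.{u}} (f : X ⟶ Y) (x : X)
    (h : Function.Surjective (f.residueFieldMap x).hom) : rtd f x = 0 := by
  letI := (f.residueFieldMap x).hom.toAlgebra
  have := isAlgebraic_of_surjective (f.residueFieldMap x).hom h
  exact trdeg_eq_zero

theorem rtd_of_surjectiveOnStalks {X Y : Scheme.{u}} (f : X ⟶ Y) [SurjectiveOnStalks f] (x : X) :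
    rtd f x = 0 :=
  rtd_eq_zero_of_surjective f x (residueFieldMap_surjective f x)

theorem rtd_id (X : Scheme.{u}) (x : X) : rtd (𝟙 X) x = 0 :=
  rtd_of_surjectiveOnStalks (𝟙 X) x

theorem rtd_congr_hom {X Y : Scheme.{u}} {f g : X ⟶ Y} (h : f = g) (x : X) :
    rtd f x = rtd g x := by
  subst h
  rfl

theorem rtd_congr_pt {X Y : Scheme.{u}} (f : X ⟶ Y) {x x' : X} (h : x = x') :
    rtd f x = rtd f x' := by
  subst h
  rfl

/-- the residue transcendence degree at a point in the image of a section vanishes -/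
theorem rtd_section {X Y : Scheme.{u}} (π : X ⟶ Y) (σ : Y ⟶ X) (h : σ ≫ π = 𝟙 Y) (t : Y) :
    rtd π (σ t) = 0 := by
  have h1 := rtd_comp σ π t
  rw [rtd_congr_hom h t, rtd_id] at h1
  exact (add_eq_zero.mp h1).1

/-- if the composite has residue transcendence degree zero, so has the second morphism -/
theorem rtd_right_of_comp {X Y Z : Scheme.{u}} (f : X ⟶ Y) (g : Y ⟶ Z) (x : X)
    (h : rtd (f ≫ g) x = 0) : rtd g (f x) = 0 := by
  have h1 := rtd_comp f g x
  rw [h] at h1
  exact (add_eq_zero.mp h1).1

theorem rtd_comp_eq_zero {X Y Z : Scheme.{u}} (f : X ⟶ Y) (g : Y ⟶ Z) (x : X)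
    (h1 : rtd f x = 0) (h2 : rtd g (f x) = 0) : rtd (f ≫ g) x = 0 := by
  rw [← rtd_comp, h1, h2, add_zero]

/-- `Spec` of an algebraic field extension has residue transcendence degree zero -/
theorem rtd_SpecMap_field {K M : Type u} [Field K] [Field M] (φ : K →+* M)
    (halg : letI := φ.toAlgebra; Algebra.IsAlgebraic K M) (pt : Spec (CommRingCat.of M)) :
    rtd (Spec.map (CommRingCat.ofHom φ)) pt = 0 := by
  have hsq := Groth.Agent.Lib.Helper6.EtaleSq.trdeg_eq_of_square φ (cMap M pt)
    ((Spec.map (CommRingCat.ofHom φ)).residueFieldMap pt).hom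
    (cMap K ((Spec.map (CommRingCat.ofHom φ)) pt)) ?_ (cMap_isAlgebraic M pt)
    (cMap_isAlgebraic K _)
  · unfold rtd
    rw [← hsq]
    letI := φ.toAlgebra
    exact trdeg_eq_zero
  · ext k
    simp only [RingHom.comp_apply]
    unfold cMap
    simp only [RingHom.comp_apply]
    have h1 := Scheme.evaluation_naturality_apply (Spec.map (CommRingCat.ofHom φ)) pt
      (show (Spec.map (CommRingCat.ofHom φ)) pt ∈ (⊤ : (Spec (CommRingCat.of K)).Opens)
        from trivial)
      ((Scheme.ΓSpecIso (CommRingCat.of K)).inv.hom k)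
    rw [h1]
    have h3 := Scheme.ΓSpecIso_inv_naturality (CommRingCat.ofHom φ)
    have h4 := congrArg (fun ψ => ψ.hom k) h3
    simp only [CommRingCat.hom_comp, RingHom.comp_apply, CommRingCat.hom_ofHom] at h4
    rw [h4]
    rfl

end Groth.Agent.Lib.Helper6.ClPt
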