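import Mathlib
import Groth.Agent.Lib.Helper6.ClPt1
import Groth.Agent.Lib.Helper6.ClPt2
import Groth.Agent.Lib.Helper10.ValSpec

/-!
# The valuative square attached to a specialisation
-/

set_option autoImplicit false
set_option linter.style.haveILetI false
universe u
open AlgebraicGeometry CategoryTheory Limits TopologicalSpace IsLocalRing

namespace Groth.Agent.Lib.Helper6.ClPt

open Groth.Agent.Lib.Helper6.QFac Groth.Agent.Lib.Helper10.ValSpec

theorem exists_valuation_square {X S : Scheme.{u}} (f : X ⟶ S) {x x' : X} (hsp : x ⤳ x') :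
    ∃ (V' V₀ : CommRingCat.{u}) (_ : IsDomain V') (_ : ValuationRing V') (_ : IsDomain V₀)
      (_ : ValuationRing V₀) (a : Spec V' ⟶ X) (b : Spec V₀ ⟶ S) (c : Spec V' ⟶ Spec V₀),
      a ≫ f = c ≫ b ∧ a (genericPt V') = x ∧ a (closedPoint V') = x' ∧
      c (genericPt V') = genericPt V₀ ∧ c (closedPoint V') = closedPoint V₀ ∧
      IsAlgClosed (IsLocalRing.ResidueField V₀) ∧ rtd b (genericPt V₀) = 0 := by
  have hspS : f x ⤳ f x' := hsp.map f.continuous
  let L := X.residueField x
  let Ω := AlgebraicClosure L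
  let K := S.residueField (f x)
  let ρ : K →+* Ω := (algebraMap L Ω).comp (f.residueFieldMap x).hom
  letI algKΩ : Algebra K Ω := ρ.toAlgebra
  let M : IntermediateField K Ω := algebraicClosure K Ω
  haveI : IsAlgClosed M := IsAlgClosure.isAlgClosed K
  let rL : X.presheaf.stalk x' →+* L := (X.presheaf.stalkSpecializes hsp ≫ X.residue x).hom
  let rK : S.presheaf.stalk (f x') →+* K :=
    (S.presheaf.stalkSpecializes hspS ≫ S.residue (f x)).hom
  let ψ : X.presheaf.stalk x' →+* Ω := (algebraMap L Ω).comp rL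
  -- naturality
  have hnat : ∀ r : S.presheaf.stalk (f x'), ρ (rK r) = ψ ((f.stalkMap x').hom r) := by
    intro r
    change (algebraMap L Ω) ((f.residueFieldMap x).hom ((S.residue (f x)).hom
      ((S.presheaf.stalkSpecializes hspS).hom r))) =
      (algebraMap L Ω) ((X.residue x).hom ((X.presheaf.stalkSpecializes hsp).hom
        ((f.stalkMap x').hom r)))
    congr 1
    have h1 := congrArg (fun φ => φ.hom ((S.presheaf.stalkSpecializes hspS).hom r))
      (Scheme.residue_residueFieldMap f x)
    simp only [CommRingCat.hom_comp, RingHom.comp_apply] at h1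
    rw [h1]
    congr 1
    exact Scheme.Hom.stalkSpecializes_stalkMap_apply f x x' hsp r
  obtain ⟨V'sub, hV', hV'loc⟩ := exists_factor_valuationRing ψ
  let V₀sub : ValuationSubring M := V'sub.comap (algebraMap M Ω)
  let αr : X.presheaf.stalk x' →+* V'sub := ψ.codRestrict V'sub.toSubring hV'
  let β₀ : S.presheaf.stalk (f x') →+* M := (algebraMap K M).comp rK
  have hβ₀ : ∀ r, β₀ r ∈ V₀sub.toSubring := by
    intro r
    change algebraMap M Ω (algebraMap K M (rK r)) ∈ V'sub
    rw [← IsScalarTower.algebraMap_apply K M Ω]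
    change ρ (rK r) ∈ V'sub
    rw [hnat]
    exact hV' _
  let βr : S.presheaf.stalk (f x') →+* V₀sub := β₀.codRestrict V₀sub.toSubring hβ₀
  let γr : V₀sub →+* V'sub :=
    ((algebraMap M Ω).comp V₀sub.subtype).codRestrict V'sub.toSubring (fun v => v.2)
  let V' : CommRingCat.{u} := CommRingCat.of V'sub
  let V₀ : CommRingCat.{u} := CommRingCat.of V₀sub
  let α : X.presheaf.stalk x' ⟶ V' := CommRingCat.ofHom αr
  let β : S.presheaf.stalk (f x') ⟶ V₀ := CommRingCat.ofHom βr
  let γ : V₀ ⟶ V' := CommRingCat.ofHom γr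
  have hsq : f.stalkMap x' ≫ α = β ≫ γ := by
    ext r
    change ψ ((f.stalkMap x').hom r) = algebraMap M Ω (algebraMap K M (rK r))
    rw [← IsScalarTower.algebraMap_apply K M Ω]
    exact (hnat r).symm
  have hγinj : Function.Injective γr := by
    intro v w hvw
    have h1 : algebraMap M Ω v.1 = algebraMap M Ω w.1 :=
      congrArg (fun z : V'sub => (z : Ω)) hvw
    exact Subtype.ext ((algebraMap M Ω).injective h1)
  haveI hγloc : IsLocalHom γr := by
    constructor
    intro v hv
    obtain ⟨w, hw⟩ := isUnit_iff_exists_inv.mp hv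
    have h1 : algebraMap M Ω v.1 * w.1 = 1 := congrArg (fun z : V'sub => (z : Ω)) hw
    have hv0 : v.1 ≠ 0 := by
      intro h0
      rw [h0, map_zero, zero_mul] at h1
      exact zero_ne_one h1
    have h2 : algebraMap M Ω (v.1)⁻¹ = w.1 := by
      rw [map_inv₀]
      exact inv_eq_of_mul_eq_one_right h1
    have hmem : (v.1)⁻¹ ∈ V₀sub := by
      change algebraMap M Ω (v.1)⁻¹ ∈ V'sub
      rw [h2]
      exact w.2
    refine isUnit_iff_exists_inv.mpr ⟨⟨(v.1)⁻¹, hmem⟩, ?_⟩
    apply Subtype.ext
    change v.1 * (v.1)⁻¹ = 1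
    exact mul_inv_cancel₀ hv0
  refine ⟨V', V₀, inferInstance, inferInstance, inferInstance, inferInstance,
    Spec.map α ≫ X.fromSpecStalk x', Spec.map β ≫ S.fromSpecStalk (f x'), Spec.map γ,
    ?_, ?_, ?_, ?_, ?_, ?_, ?_⟩
  · rw [Category.assoc, ← Scheme.SpecMap_stalkMap_fromSpecStalk, ← Spec.map_comp_assoc,
      ← Spec.map_comp_assoc, hsq]
  · -- generic point
    let iΩ : V' ⟶ CommRingCat.of Ω := CommRingCat.ofHom V'sub.subtype
    have h1 : Spec.map iΩ (genericPt (CommRingCat.of Ω)) = genericPt V' :=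
      SpecMap_genericPt iΩ Subtype.val_injective
    have h2 : Spec.map iΩ ≫ Spec.map α ≫ X.fromSpecStalk x' =
        Spec.map (CommRingCat.ofHom (algebraMap L Ω)) ≫ X.fromSpecResidueField x := by
      rw [Scheme.fromSpecResidueField, ← Scheme.SpecMap_stalkSpecializes_fromSpecStalk hsp]
      simp_rw [← Spec.map_comp_assoc]
      rfl
    rw [← h1, ← Scheme.Hom.comp_apply, h2, Scheme.Hom.comp_apply,
      Scheme.fromSpecResidueField_apply]
  · have : Spec.map α (closedPoint V') = closedPoint (X.presheaf.stalk x') :=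
      comap_closedPoint (S := V'sub) αr
    rw [Scheme.Hom.comp_apply, this]
    exact X.fromSpecStalk_closedPoint
  · exact SpecMap_genericPt γ hγinj
  · exact comap_closedPoint (S := V'sub) γr
  · exact isAlgClosed_residueField_valuationSubring M V₀sub
  · let i₀ : V₀ ⟶ CommRingCat.of M := CommRingCat.ofHom V₀sub.subtype
    have h1 : Spec.map i₀ (genericPt (CommRingCat.of M)) = genericPt V₀ :=
      SpecMap_genericPt i₀ Subtype.val_injective
    have h2 : Spec.map i₀ ≫ Spec.map β ≫ S.fromSpecStalk (f x') =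
        Spec.map (CommRingCat.ofHom (algebraMap K M)) ≫ S.fromSpecResidueField (f x) := by
      rw [Scheme.fromSpecResidueField, ← Scheme.SpecMap_stalkSpecializes_fromSpecStalk hspS]
      simp_rw [← Spec.map_comp_assoc]
      rfl
    have e : (algebraMap K M).toAlgebra = (inferInstance : Algebra K M) :=
      Algebra.algebra_ext _ _ (fun r => rfl)
    have halg : @Algebra.IsAlgebraic K M _ _ (algebraMap K M).toAlgebra := by
      rw [e]
      infer_instance
    have h3 : rtd (Spec.map i₀ ≫ Spec.map β ≫ S.fromSpecStalk (f x'))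
        (genericPt (CommRingCat.of M)) = 0 := by
      rw [rtd_congr_hom h2]
      exact rtd_comp_eq_zero _ _ _ (rtd_SpecMap_field (algebraMap K M) halg _)
        (rtd_of_surjectiveOnStalks _ _)
    have h4 := rtd_right_of_comp _ _ _ h3
    rw [rtd_congr_pt _ h1] at h4
    exact h4

end Groth.Agent.Lib.Helper6.ClPt
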