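import Mathlib
import Groth.Agent.Lib.Helper6.CMChart4
import Groth.Agent.Lib.Helper21.BaseChg4
import Groth.Agent.Lib.Helper10.ValSpec
import Groth.Agent.Lib.Helper9.ValSat

/-!
# Bounds for fibre dimensions of a flat morphism propagate from a dense open of the base
-/

set_option autoImplicit false
set_option linter.style.haveILetI false
universe u
open AlgebraicGeometry CategoryTheory Limits TopologicalSpace

namespace Groth.Agent.Lib.Helper6.FibDimDense

/-- the finitely presented case -/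
theorem fibreDimAt_le_of_dense_lfp {X S : Scheme.{u}} (f : X ⟶ S) [Flat f]
    [LocallyOfFinitePresentation f] (U : Set S) (hU : Dense U) (e : ℕ)
    (hle : ∀ x : X, f x ∈ U → FlatMor.fibreDimAt f x ≤ e) (x : X) :
    FlatMor.fibreDimAt f x ≤ e := by
  haveI : LocallyOfFiniteType f := inferInstance
  obtain ⟨ζ, N, hζx, hfζ, hζmax, htr, hN⟩ :=
    Groth.Agent.Lib.Helper21.OpenAt.exists_maximal_generization_fibreDimAt f x
  have hCM : MoreMor.IsCMAt f ζ := Groth.Agent.Lib.Helper6.CMChart.isCMAt_of_maximal f ζ hζmax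
    ((Flat.iff_flat_stalkMap f).mp inferInstance ζ)
  have hζN : FlatMor.fibreDimAt f ζ = N :=
    Groth.Agent.Lib.Helper21.OpenAt.fibreDimAt_eq_trdeg_of_maximal f ζ hζmax N htr
  obtain ⟨W, hζW, hW⟩ :=
    Groth.Agent.Lib.Helper6.CMChart.exists_open_fibreDimAt_eq_of_isCMAt f ζ hCM
  have hfW : IsOpen (f '' (W : Set X)) := f.isOpenMap _ W.2
  obtain ⟨s, ⟨z, hzW, rfl⟩, hsU⟩ := hU.inter_open_nonempty _ hfW ⟨f ζ, ζ, hζW, rfl⟩
  rw [hN, ← hζN, ← hW z hzW]
  exact hle z hsU

/-- a ring-theoretic dichotomy -/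
theorem ring_aux {A : Type*} [CommRing A] (p : Ideal A) [p.IsPrime] (t : Finset A) :
    (∃ q : Ideal A, q.IsPrime ∧ q ≤ p ∧ ∃ f ∈ t, f ∉ q) ∨
    (∃ c ∉ p, ∀ q : Ideal A, q.IsPrime → c ∉ q → ∀ f ∈ t, f ∈ q) := by
  by_cases h : ∀ f ∈ t, ∃ c ∉ p, ∃ n : ℕ, c * f ^ n = 0
  · right
    choose c hc n hn using h
    refine ⟨∏ f ∈ t.attach, c f.1 f.2, ?_, ?_⟩
    · intro hmem
      obtain ⟨f, -, hf⟩ := (Ideal.IsPrime.prod_mem_iff).mp hmem
      exact hc _ _ hf
    · intro q hq hcq f hf
      have h1 : c f hf ∉ q := fun h' => hcq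
        (Ideal.mem_of_dvd _ (Finset.dvd_prod_of_mem (fun g : {x // x ∈ t} => c g.1 g.2)
          (Finset.mem_attach t ⟨f, hf⟩)) h')
      have h0 : c f hf * f ^ n f hf ∈ q := by rw [hn]; exact q.zero_mem
      exact hq.mem_of_pow_mem _ ((hq.mem_or_mem h0).resolve_left h1)
  · left
    push Not at h
    obtain ⟨f, hft, hf⟩ := h
    have hdisj : Disjoint ((⊥ : Ideal A) : Set A)
        ((p.primeCompl ⊔ Submonoid.powers f : Submonoid A) : Set A) := by
      rw [Set.disjoint_left]
      intro x hx hxM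
      rw [SetLike.mem_coe, Ideal.mem_bot] at hx
      subst hx
      obtain ⟨y, hy, z, ⟨n, rfl⟩, hyz⟩ := Submonoid.mem_sup.mp hxM
      exact hf y hy n hyz
    obtain ⟨q, hq, -, hqd⟩ := Ideal.exists_le_prime_disjoint ⊥ _ hdisj
    refine ⟨q, hq, ?_, f, hft, ?_⟩
    · intro x hx
      by_contra hxp
      exact Set.disjoint_left.mp hqd hx (Submonoid.mem_sup_left hxp)
    · intro hfq
      exact Set.disjoint_left.mp hqd hfq (Submonoid.mem_sup_right (Submonoid.mem_powers f))

/-- every point of a scheme is a specialization of a point of a given dense retrocompact open -/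
theorem exists_specializes_of_dense_retrocompact {S : Scheme.{u}} (U : S.Opens)
    (hU : Dense (U : Set S)) (hrc : IsRetrocompact (U : Set S)) (s : S) :
    ∃ s' ∈ U, s' ⤳ s := by
  obtain ⟨_, ⟨V, hV : IsAffineOpen V, rfl⟩, hsV, -⟩ :=
    S.isBasis_affineOpens.exists_subset_of_mem_open (Set.mem_univ s) isOpen_univ
  -- work in the affine open `V`
  have hqc : IsCompact ((U : Set S) ∩ V) := hrc hV.isCompact V.2
  have hrange : Set.range hV.fromSpec = (V : Set S) := hV.range_fromSpec
  have hpre : hV.fromSpec ⁻¹' ((U : Set S) ∩ V) = hV.fromSpec ⁻¹' (U : Set S) := by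
    ext z
    simp only [Set.mem_preimage, Set.mem_inter_iff, and_iff_left_iff_imp]
    intro _
    rw [← hrange]
    exact ⟨z, rfl⟩
  have hO : IsCompact (hV.fromSpec ⁻¹' (U : Set S)) ∧ IsOpen (hV.fromSpec ⁻¹' (U : Set S)) := by
    refine ⟨?_, U.2.preimage hV.fromSpec.continuous⟩
    rw [← hpre]
    exact (hV.fromSpec.isOpenEmbedding.isInducing.isCompact_preimage_iff
      (by rw [hrange]; exact Set.inter_subset_right)).mpr hqc
  obtain ⟨t, ht⟩ := PrimeSpectrum.isCompact_isOpen_iff.mp hO
  obtain ⟨z, hz⟩ : s ∈ Set.range hV.fromSpec := by rw [hrange]; exact hsV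
  rcases ring_aux z.asIdeal t with ⟨q, hq, hqz, f, hft, hfq⟩ | ⟨c, hcz, hc⟩
  · refine ⟨hV.fromSpec ⟨q, hq⟩, ?_, ?_⟩
    · show (⟨q, hq⟩ : PrimeSpectrum _) ∈ hV.fromSpec ⁻¹' (U : Set S)
      rw [← ht]
      intro hmem
      exact hfq (hmem hft)
    · rw [← hz]
      apply Specializes.map _ hV.fromSpec.continuous
      exact (PrimeSpectrum.le_iff_specializes ⟨q, hq⟩ z).mp hqz
  · exfalso
    have hopen : IsOpen (hV.fromSpec '' (PrimeSpectrum.basicOpen c : Set (PrimeSpectrum _))) :=
      hV.fromSpec.isOpenEmbedding.isOpenMap _ (PrimeSpectrum.basicOpen c).2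
    obtain ⟨_, ⟨w, hw, rfl⟩, hwU⟩ := hU.inter_open_nonempty _ hopen ⟨_, z, hcz, rfl⟩
    have hwO : w ∈ hV.fromSpec ⁻¹' (U : Set S) := hwU
    rw [← ht] at hwO
    apply hwO
    intro f hf
    exact hc w.asIdeal w.2 hw f hf

/-- a flat algebra of finite type over a valuation ring is of finite presentation -/
theorem finitePresentation_of_flat_finiteType_valuationRing (V R : Type u) [CommRing V] [IsDomain V]
    [ValuationRing V] [CommRing R] [Algebra V R] [Algebra.FiniteType V R] [Module.Flat V R] :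
    Algebra.FinitePresentation V R := by
  obtain ⟨n, φ, hφ⟩ := Algebra.FiniteType.iff_quotient_mvPolynomial''.mp
    (inferInstance : Algebra.FiniteType V R)
  letI : Algebra (MvPolynomial (Fin n) V) R := φ.toRingHom.toAlgebra
  haveI : IsScalarTower V (MvPolynomial (Fin n) V) R :=
    IsScalarTower.of_algebraMap_eq (fun r => (φ.commutes r).symm)
  haveI : Module.Finite (MvPolynomial (Fin n) V) R :=
    Module.Finite.of_surjective (Algebra.linearMap (MvPolynomial (Fin n) V) R) hφ
  haveI hfp : Module.FinitePresentation (MvPolynomial (Fin n) V) R :=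
    Groth.Agent.Lib.Helper9.ValSat.finitePresentation_of_flat V (MvPolynomial (Fin n) V) R
  have hker : (RingHom.ker φ.toRingHom).FG :=
    Module.FinitePresentation.fg_ker (Algebra.linearMap (MvPolynomial (Fin n) V) R) hφ
  exact Algebra.FinitePresentation.of_surjective hφ hker

/-- a flat morphism locally of finite type to the spectrum of a valuation ring is locally of
finite presentation -/
theorem lfp_of_flat_valuationRing (V : CommRingCat.{u}) [IsDomain V] [ValuationRing V]
    {Y : Scheme.{u}} (g : Y ⟶ Spec V) [Flat g] [LocallyOfFiniteType g] :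
    LocallyOfFinitePresentation g := by
  rw [IsZariskiLocalAtSource.iff_of_openCover (P := @LocallyOfFinitePresentation)
    Y.affineOpenCover.openCover]
  intro i
  obtain ⟨ψ, hψ⟩ : ∃ ψ, Spec.map ψ = Y.affineOpenCover.f i ≫ g := ⟨_, Spec.map_preimage _⟩
  have h1 : Flat (Spec.map ψ) := hψ ▸ inferInstance
  have h2 : LocallyOfFiniteType (Spec.map ψ) := hψ ▸ inferInstance
  rw [HasRingHomProperty.Spec_iff (P := @Flat)] at h1
  rw [HasRingHomProperty.Spec_iff (P := @LocallyOfFiniteType)] at h2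
  show LocallyOfFinitePresentation (Y.affineOpenCover.f i ≫ g)
  rw [← hψ, HasRingHomProperty.Spec_iff (P := @LocallyOfFinitePresentation)]
  letI := ψ.hom.toAlgebra
  haveI : Algebra.FiniteType V (Y.affineOpenCover.X i) := h2
  haveI : Module.Flat V (Y.affineOpenCover.X i) := h1
  exact finitePresentation_of_flat_finiteType_valuationRing V (Y.affineOpenCover.X i)

/-- the retrocompact case -/
theorem fibreDimAt_le_of_dense_retrocompact {X S : Scheme.{u}} (f : X ⟶ S) [Flat f]
    [LocallyOfFiniteType f] (U : S.Opens) (hU : Dense (U : Set S))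
    (hrc : IsRetrocompact (U : Set S)) (e : ℕ)
    (hle : ∀ x : X, f x ∈ U → FlatMor.fibreDimAt f x ≤ e) (x : X) :
    FlatMor.fibreDimAt f x ≤ e := by
  obtain ⟨s', hs'U, hs's⟩ := exists_specializes_of_dense_retrocompact U hU hrc (f x)
  obtain ⟨A, hdom, hval, a, hagen, hacl⟩ :=
    Groth.Agent.Lib.Helper10.ValSpec.exists_valuationRing_of_specializes hs's
  haveI := hdom
  haveI := hval
  haveI : Flat (pullback.snd f a) := MorphismProperty.pullback_snd (P := @Flat) _ _ inferInstance
  haveI : LocallyOfFiniteType (pullback.snd f a) :=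
    MorphismProperty.pullback_snd (P := @LocallyOfFiniteType) _ _ inferInstance
  haveI : LocallyOfFinitePresentation (pullback.snd f a) := lfp_of_flat_valuationRing A _
  obtain ⟨x', hx'1, hx'2⟩ :=
    Scheme.Pullback.exists_preimage_pullback (f := f) (g := a) x (IsLocalRing.closedPoint A) hacl.symm
  have key := fibreDimAt_le_of_dense_lfp (pullback.snd f a) (a ⁻¹' (U : Set S)) ?_ e ?_ x'
  · rw [Groth.Agent.Lib.Helper21.BaseChg.fibreDimAt_eq_of_isPullback
      (IsPullback.of_hasPullback f a) x', hx'1] at key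
    exact key
  · have hopen : IsOpen (a ⁻¹' (U : Set S)) := U.2.preimage a.continuous
    refine hopen.dense ⟨Groth.Agent.Lib.Helper10.ValSpec.genericPt A, ?_⟩
    show a (Groth.Agent.Lib.Helper10.ValSpec.genericPt A) ∈ U
    rw [hagen]
    exact hs'U
  · intro y' hy'
    rw [Groth.Agent.Lib.Helper21.BaseChg.fibreDimAt_eq_of_isPullback
      (IsPullback.of_hasPullback f a) y']
    apply hle
    have : f (pullback.fst f a y') = a (pullback.snd f a y') := by
      rw [← Scheme.Hom.comp_apply, ← Scheme.Hom.comp_apply, pullback.condition]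
    rw [this]
    exact hy'

end Groth.Agent.Lib.Helper6.FibDimDense
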