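import Mathlib
import Groth.Agent.Lib.Helper6.ClPt1
import Groth.Agent.Lib.Helper6.ClPt2
import Groth.Agent.Lib.Helper6.PUO15
import Groth.Agent.Lib.Helper6.PUO7
import Groth.Agent.Lib.Helper6.QFac4
import Groth.Agent.Lib.Helper6.FibDimDense
import Groth.Agent.Lib.Helper6.CMChart3
import Groth.Agent.Lib.Helper17.ProCons

/-!
# Closed points of the generic fibre specialising to a given closed point: integral case over a
valuation ring
-/

set_option autoImplicit false
set_option linter.style.haveILetI false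
universe u
open AlgebraicGeometry CategoryTheory Limits TopologicalSpace IsLocalRing

namespace Groth.Agent.Lib.Helper6.ClPt

open Groth.Agent.Lib.Helper6.QFac Groth.Agent.Lib.Helper10.ValSpec EGA43
  Groth.Agent.Lib.Helper21.FibDim Groth.Agent.Lib.Helper21.OpenAt

/-- an injective map from a valuation ring to a domain is flat -/
theorem flat_SpecMap_of_injective (A R : CommRingCat.{u}) [IsDomain A] [ValuationRing A]
    [IsDomain R] (ψ : A ⟶ R) (hψ : Function.Injective ψ.hom) : Flat (Spec.map ψ) := by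
  rw [HasRingHomProperty.Spec_iff (P := @Flat)]
  letI := ψ.hom.toAlgebra
  change Module.Flat A R
  rw [Module.Flat.flat_iff_torsion_eq_bot_of_isBezout]
  rw [Submodule.eq_bot_iff]
  intro m hm
  obtain ⟨a, ha⟩ := (Submodule.mem_torsion_iff m).mp hm
  have h1 : ψ.hom a.1 * m = 0 := ha
  have h2 : ψ.hom a.1 ≠ 0 := by
    intro h0
    rw [← map_zero ψ.hom] at h0
    exact nonZeroDivisors.ne_zero a.2 (hψ h0)
  exact (mul_eq_zero.mp h1).resolve_left h2

/-- **Core over a valuation ring, integral case.** -/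
theorem core_integral (A : CommRingCat.{u}) [IsDomain A] [ValuationRing A]
    [IsAlgClosed (IsLocalRing.ResidueField A)]
    (hne : genericPt A ≠ closedPoint A)
    {Z : Scheme.{u}} [IsIntegral Z] (g : Z ⟶ Spec A) [LocallyOfFiniteType g]
    (w : Z) (hw : ∀ u : Z, w ⤳ u) (hgw : g w = genericPt A)
    (w' : Z) (hgw' : g w' = closedPoint A) (hrtd : rtd g w' = 0)
    (O : Z.Opens) (hO : (O : Set Z).Nonempty) :
    ∃ z₁ : Z, z₁ ∈ O ∧ g z₁ = genericPt A ∧ z₁ ⤳ w' ∧ rtd g z₁ = 0 := by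
  obtain ⟨d, hd⟩ := Groth.Agent.Lib.Helper6.CMChart.exists_nat_fibreDimAt g w'
  obtain ⟨U, k, hw'U, -, hU, hk, hklqf⟩ :=
    exists_quasiFinite_affineSpace g w' ⊤ trivial d hd.le
  haveI : Nonempty U := ⟨⟨w', hw'U⟩⟩
  let R : CommRingCat.{u} := Γ(Z, U)
  haveI : IsDomain R := inferInstance
  let j : Spec R ⟶ Z := hU.fromSpec
  have hjrange : Set.range j = (U : Set Z) := hU.range_fromSpec
  -- the generic point
  have hwO : w ∈ O := by
    obtain ⟨u, hu⟩ := hO
    exact (hw u).mem_open O.2 hu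
  have hwU : w ∈ U := (hw w').mem_open U.2 hw'U
  obtain ⟨qw, hqw⟩ : ∃ qw : Spec R, j qw = w := by
    have : w ∈ Set.range j := by rw [hjrange]; exact hwU
    exact this
  obtain ⟨q', hq'⟩ : ∃ q' : Spec R, j q' = w' := by
    have : w' ∈ Set.range j := by rw [hjrange]; exact hw'U
    exact this
  -- ring maps
  obtain ⟨ψ, hψ⟩ : ∃ ψ : A ⟶ R, Spec.map ψ = j ≫ g := ⟨_, Spec.map_preimage _⟩
  let kR : Spec R ⟶ 𝔸(ULift.{u} (Fin d); Spec A) := hU.isoSpec.inv ≫ k
  have hkR : kR ≫ (𝔸(ULift.{u} (Fin d); Spec A) ↘ Spec A) = Spec.map ψ := by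
    rw [hψ]
    simp only [kR, Category.assoc, hk]
    rw [← Category.assoc]
    rfl
  haveI : LocallyOfFiniteType (k ≫ (𝔸(ULift.{u} (Fin d); Spec A) ↘ Spec A)) := by
    rw [hk]; infer_instance
  haveI : LocallyOfFiniteType k :=
    locallyOfFiniteType_of_comp k (𝔸(ULift.{u} (Fin d); Spec A) ↘ Spec A)
  haveI : LocallyQuasiFinite kR := inferInstance
  haveI : LocallyOfFiniteType kR := inferInstance
  obtain ⟨φ, hφ⟩ : ∃ φ : CommRingCat.of (MvPolynomial (ULift.{u} (Fin d)) A) ⟶ R,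
      Spec.map φ = kR ≫ (AffineSpace.SpecIso (ULift.{u} (Fin d)) A).hom :=
    ⟨_, Spec.map_preimage _⟩
  have hφC : CommRingCat.ofHom (MvPolynomial.C (σ := ULift.{u} (Fin d))) ≫ φ = ψ := by
    apply Spec.map_injective
    rw [Spec.map_comp, hφ, Category.assoc, ← hkR, ← AffineSpace.SpecIso_inv_over,
      Iso.hom_inv_id_assoc]
  -- the generic point of `Spec R`
  have hjg : ∀ t : Spec R, g (j t) = Spec.map ψ t := fun t => by
    rw [hψ]; rfl
  have hψgen : Spec.map ψ (genericPt R) = genericPt A := by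
    have h1 : Spec.map ψ (genericPt R) ⤳ Spec.map ψ qw :=
      (genericPt_specializes R qw).map (Spec.map ψ).continuous
    rw [← hjg qw, hqw, hgw] at h1
    exact (h1.antisymm (genericPt_specializes A _)).eq
  have hψinj : Function.Injective ψ.hom := by
    rw [RingHom.injective_iff_ker_eq_bot, RingHom.ker_eq_comap_bot]
    exact congrArg PrimeSpectrum.asIdeal hψgen
  haveI hflat : Flat (Spec.map ψ) := flat_SpecMap_of_injective A R ψ hψinj
  haveI hlft : LocallyOfFiniteType (Spec.map ψ) := by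
    rw [hψ]; infer_instance
  haveI hlfp : LocallyOfFinitePresentation (Spec.map ψ) :=
    Groth.Agent.Lib.Helper6.FibDimDense.lfp_of_flat_valuationRing A (Spec.map ψ)
  haveI huo : UniversallyOpen (Spec.map ψ) := inferInstance
  -- universal openness of the chart at `q'`
  have hFq' : FlatMor.fibreDimAt (kR ≫ (𝔸(ULift.{u} (Fin d); Spec A) ↘ Spec A)) q' = d := by
    rw [hkR, hψ, ← Groth.Agent.Lib.Helper6.EtaleSq.fibreDimAt_etale_square g (j ≫ g) j (𝟙 _)
      (Category.comp_id _) q', hq', hd]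
  obtain ⟨ζ, N, hζq', hfζ, hζmax, hζrtd, hN⟩ :=
    exists_maximal_generization_fibreDimAt
      (kR ≫ (𝔸(ULift.{u} (Fin d); Spec A) ↘ Spec A)) q'
  have hNd : N = d := by
    rw [hFq'] at hN
    exact_mod_cast hN.symm
  subst hNd
  have hcard : Nat.card (ULift.{u} (Fin N)) = N := by simp
  have hopζ : IsUnivOpenAt (kR ≫ (𝔸(ULift.{u} (Fin N); Spec A) ↘ Spec A)) ζ := by
    rw [hkR]
    exact isUnivOpenAt_of_universallyOpen (Spec.map ψ) ζ
  have huoq' : IsUnivOpenAt kR q' :=
    Groth.Agent.Lib.Helper6.PUO.isUnivOpenAt_of_lqf_affineSpace_valuationRing A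
      (ULift.{u} (Fin N)) kR q' ζ hζq' hζmax (by rw [hcard]; exact hζrtd) hopζ
  have hopq' : IsOpenAt kR.base q' :=
    Groth.Agent.Lib.Helper6.PUO.isOpenAt_of_isUnivOpenAt kR q' huoq'
  have hopφ : ∀ W ∈ nhds q', (Spec.map φ).base '' W ∈ nhds ((Spec.map φ).base q') := by
    intro W hW
    have h1 := hopq' W hW
    have h2 := (AffineSpace.SpecIso (ULift.{u} (Fin N)) A).hom.isOpenEmbedding.isOpenMap.image_mem_nhds h1
    rw [hφ, Scheme.Hom.comp_base, TopCat.coe_comp, Set.image_comp]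
    exact h2
  -- generisation lifting in ideal form
  have hgl : ∀ P₁ : Ideal (MvPolynomial (ULift.{u} (Fin N)) A), P₁.IsPrime →
      P₁ ≤ (q'.asIdeal).comap φ.hom →
      ∃ q₀ : Ideal R, q₀.IsPrime ∧ q₀ ≤ q'.asIdeal ∧ q₀.comap φ.hom = P₁ := by
    intro P₁ hP₁ hle
    let y' : Spec (CommRingCat.of (MvPolynomial (ULift.{u} (Fin N)) A)) := ⟨P₁, hP₁⟩
    have hy' : y' ⤳ (Spec.map φ).base q' :=
      (PrimeSpectrum.le_iff_specializes y' (PrimeSpectrum.comap φ.hom q')).mp hle
    obtain ⟨x₀, hx₀, hx₀y⟩ :=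
      Groth.Agent.Lib.Helper17.ProConsLib.exists_generization_lift (Spec.map φ) q' hopφ y' hy'
    refine ⟨x₀.asIdeal, x₀.2, (PrimeSpectrum.le_iff_specializes x₀ q').mpr hx₀, ?_⟩
    exact congrArg PrimeSpectrum.asIdeal hx₀y
  -- dominance
  have hφinj : Function.Injective φ.hom := by
    obtain ⟨q₀, hq₀p, -, hq₀⟩ := hgl ⊥ Ideal.isPrime_bot bot_le
    rw [RingHom.injective_iff_ker_eq_bot, RingHom.ker_eq_comap_bot]
    refine le_antisymm ?_ bot_le
    rw [← hq₀]
    exact Ideal.comap_mono bot_le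
  -- `q'` is a closed point
  have hrtdq' : rtd (Spec.map ψ) q' = 0 := by
    rw [rtd_congr_hom hψ]
    refine rtd_comp_eq_zero j g q' (rtd_of_surjectiveOnStalks j q') ?_
    rw [rtd_congr_pt g hq']
    exact hrtd
  have hψq' : Spec.map ψ q' = closedPoint A := by
    rw [← hjg, hq', hgw']
  haveI hq'max : q'.asIdeal.IsMaximal := by
    obtain ⟨m, hm, hle⟩ := Ideal.exists_le_maximal q'.asIdeal q'.2.ne_top
    let pm : Spec R := ⟨m, hm.isPrime⟩
    have hsp : q' ⤳ pm := (PrimeSpectrum.le_iff_specializes q' pm).mp hle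
    have hfib : Spec.map ψ q' = Spec.map ψ pm := by
      have h1 : Spec.map ψ q' ⤳ Spec.map ψ pm := hsp.map (Spec.map ψ).continuous
      rw [hψq'] at h1 ⊢
      have h2 : Spec.map ψ pm ∈ closure {closedPoint A} := h1.mem_closure
      rw [(IsLocalRing.isClosed_singleton_closedPoint A).closure_eq] at h2
      exact h2.symm
    by_cases heq : q' = pm
    · rw [heq]
      exact hm
    · exfalso
      have hlt := trdeg_lt_of_specializes_of_ne (Spec.map ψ) hsp heq hfib
      change rtd (Spec.map ψ) pm < rtd (Spec.map ψ) q' at hlt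
      rw [hrtdq'] at hlt
      exact not_lt_bot hlt
  have hq'm : maximalIdeal A ≤ (q'.asIdeal).comap (φ.hom.comp MvPolynomial.C) := by
    have h1 : (q'.asIdeal).comap ψ.hom = maximalIdeal A :=
      congrArg PrimeSpectrum.asIdeal hψq'
    rw [← h1, ← hφC]
    rfl
  have hqf : φ.hom.QuasiFinite := by
    have : LocallyQuasiFinite (Spec.map φ) := by rw [hφ]; infer_instance
    exact (HasRingHomProperty.Spec_iff (P := @LocallyQuasiFinite)).mp this
  have hft : (φ.hom.comp MvPolynomial.C).FiniteType := by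
    have h1 : ψ.hom.FiniteType := (HasRingHomProperty.Spec_iff (P := @LocallyOfFiniteType)).mp hlft
    rw [← hφC] at h1
    exact h1
  have hA : ¬ IsField A := by
    intro hF
    apply hne
    apply PrimeSpectrum.ext
    change (⊥ : Ideal A) = maximalIdeal A
    exact ((IsLocalRing.isField_iff_maximalIdeal_eq).mp hF).symm
  -- a basic open inside the preimage of `O`
  have hgenO : genericPt R ∈ j ⁻¹' (O : Set Z) := by
    have h1 : j (genericPt R) ⤳ j qw := (genericPt_specializes R qw).map j.continuous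
    rw [hqw] at h1
    exact h1.mem_open O.2 hwO
  obtain ⟨_, ⟨e, rfl⟩, hgene, heO⟩ :=
    (PrimeSpectrum.isTopologicalBasis_basic_opens (R := R)).exists_subset_of_mem_open
    hgenO (O.2.preimage j.continuous)
  have he0 : e ≠ 0 := by
    rintro rfl
    simp at hgene
  obtain ⟨a, q₀, hq₀p, hq₀le, heq₀, hq₀⟩ := ring_core A hA (ULift.{u} (Fin N)) R φ.hom hφinj hqf
    hft q'.asIdeal hq'm hgl e he0
  let p₀ : Spec R := ⟨q₀, hq₀p⟩
  have hp₀q' : p₀ ⤳ q' := (PrimeSpectrum.le_iff_specializes p₀ q').mp hq₀le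
  -- the section
  let ev : CommRingCat.of (MvPolynomial (ULift.{u} (Fin N)) A) ⟶ A :=
    CommRingCat.ofHom (MvPolynomial.eval a)
  have hev : CommRingCat.ofHom (MvPolynomial.C (σ := ULift.{u} (Fin N))) ≫ ev = 𝟙 A := by
    ext r
    simp [ev]
    rfl
  have hφp₀ : Spec.map φ p₀ = Spec.map ev (genericPt A) := by
    apply PrimeSpectrum.ext
    change q₀.comap φ.hom = Ideal.comap (MvPolynomial.eval a) ⊥
    rw [hq₀, RingHom.ker_eq_comap_bot]
  have hψp₀ : Spec.map ψ p₀ = genericPt A := by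
    rw [← hφC, Spec.map_comp, Scheme.Hom.comp_apply, hφp₀, ← Scheme.Hom.comp_apply,
      ← Spec.map_comp, hev, Spec.map_id]
    rfl
  refine ⟨j p₀, heO heq₀, ?_, ?_, ?_⟩
  · rw [hjg, hψp₀]
  · rw [← hq']
    exact hp₀q'.map j.continuous
  · have h1 : rtd (Spec.map ψ) p₀ = 0 := by
      rw [← hφC, Spec.map_comp]
      refine rtd_comp_eq_zero _ _ _ ?_ ?_
      · haveI : LocallyQuasiFinite (Spec.map φ) := by rw [hφ]; infer_instance
        haveI : LocallyOfFiniteType (Spec.map φ) := by rw [hφ]; infer_instance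
        have := rtd_eq_zero_of_locallyQuasiFinite (Spec.map φ) p₀
        rw [this, Nat.cast_zero]
      · rw [rtd_congr_pt _ hφp₀]
        refine rtd_section _ _ ?_ _
        rw [← Spec.map_comp, hev, Spec.map_id]
    rw [rtd_congr_hom hψ] at h1
    exact rtd_right_of_comp j g p₀ h1

end Groth.Agent.Lib.Helper6.ClPt
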