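import Mathlib
import Groth.Agent.Lib.Helper6.ClPt3
import Groth.Agent.Lib.Helper6.ClPt4
import Groth.Agent.Lib.Helper6.PUO11
import Groth.Agent.Lib.Helper16.ReducedSub
import Groth.Agent.Lib.Helper21.CondT2
import Groth.Agent.Lib.Helper21.ImgDim2
import Groth.Agent.Lib.Helper21.EquiSub9

/-!
# Closed points of the fibre between a specialisation (EGA IV 14.5.?)
-/

set_option autoImplicit false
set_option linter.style.haveILetI false
universe u
open AlgebraicGeometry CategoryTheory Limits TopologicalSpace IsLocalRing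

namespace Groth.Agent.Lib.Helper6.ClPt

open Groth.Agent.Lib.Helper6.QFac Groth.Agent.Lib.Helper10.ValSpec EGA43
  Groth.Agent.Lib.Helper21.FibDim

/-- **Core over a valuation ring.** -/
theorem core_valuationRing (A : CommRingCat.{u}) [IsDomain A] [ValuationRing A]
    [IsAlgClosed (IsLocalRing.ResidueField A)]
    (hne : genericPt A ≠ closedPoint A)
    {Y : Scheme.{u}} (g : Y ⟶ Spec A) [LocallyOfFiniteType g]
    (y y' : Y) (hyy' : y ⤳ y') (hgy : g y = genericPt A)
    (hgy' : g y' = closedPoint A) (hrtd : rtd g y' = 0)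
    (O : Y.Opens) (hyO : y ∈ O) :
    ∃ y₁ : Y, y₁ ∈ O ∧ g y₁ = genericPt A ∧ y ⤳ y₁ ∧ y₁ ⤳ y' ∧ rtd g y₁ = 0 := by
  let C : TopologicalSpace.Closeds Y := ⟨closure {y}, isClosed_closure⟩
  have hCirr : IsIrreducible (C : Set Y) := isIrreducible_singleton.closure
  haveI : IrreducibleSpace (Scheme.IdealSheafData.vanishingIdeal C).subscheme :=
    Groth.Agent.Lib.Helper6.PUO.irreducibleSpace_subscheme_vanishingIdeal C hCirr
  haveI : IsReduced (Scheme.IdealSheafData.vanishingIdeal C).subscheme :=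
    Groth.Agent.Lib.Helper16.isReduced_subscheme_vanishingIdeal C
  haveI : IsIntegral (Scheme.IdealSheafData.vanishingIdeal C).subscheme :=
    isIntegral_of_irreducibleSpace_of_isReduced _
  let ι := (Scheme.IdealSheafData.vanishingIdeal C).subschemeι
  have hr : Set.range ι.base = closure {y} :=
    Groth.Agent.Lib.Helper21.CondT.range_subschemeι_vanishingIdeal C
  have hemb : Topology.IsEmbedding ι.base := ι.isEmbedding
  obtain ⟨w, hw⟩ : y ∈ Set.range ι.base := by rw [hr]; exact subset_closure rfl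
  obtain ⟨w', hw'⟩ : y' ∈ Set.range ι.base := by rw [hr]; exact hyy'.mem_closure
  have hgen : ∀ u, w ⤳ u := by
    intro u
    rw [← hemb.isInducing.specializes_iff, specializes_iff_mem_closure, hw, ← hr]
    exact ⟨u, rfl⟩
  have h0 : rtd (ι ≫ g) w' = 0 := by
    refine rtd_comp_eq_zero ι g w' (rtd_of_surjectiveOnStalks ι w') ?_
    rw [rtd_congr_pt g hw']
    exact hrtd
  obtain ⟨z₁, hz₁O, hgz₁, hz₁w', hz₁rtd⟩ := core_integral A hne (ι ≫ g) w hgen
    (by rw [Scheme.Hom.comp_apply]; erw [hw]; exact hgy) w'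
    (by rw [Scheme.Hom.comp_apply]; erw [hw']; exact hgy') h0 (ι ⁻¹ᵁ O)
    ⟨w, by change ι.base w ∈ O; rw [hw]; exact hyO⟩
  refine ⟨ι z₁, hz₁O, hgz₁, ?_, ?_, rtd_right_of_comp ι g z₁ hz₁rtd⟩
  · have := (hgen z₁).map ι.continuous
    erw [hw] at this
    exact this
  · have := hz₁w'.map ι.continuous
    erw [hw'] at this
    exact this

/-- **Core**: between a point `x` and a specialisation `x'` in another fibre with residue field
algebraic over the base, there are points of the fibre of `x` with algebraic residue field in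
every neighbourhood of `x`. -/
theorem core {X S : Scheme.{u}} (f : X ⟶ S) [LocallyOfFiniteType f] (x x' : X) (hsp : x ⤳ x')
    (hne : f x ≠ f x') (hrtd : rtd f x' = 0) (O : X.Opens) (hxO : x ∈ O) :
    ∃ x₁ : X, x₁ ∈ O ∧ f x₁ = f x ∧ x ⤳ x₁ ∧ x₁ ⤳ x' ∧ rtd f x₁ = 0 := by
  obtain ⟨V', V₀, hV'd, hV'v, hV₀d, hV₀v, a, b, c, hcomm, hagen, hacl, hcgen, hccl, hκ, hb⟩ :=
    exists_valuation_square f hsp
  haveI := hV'd
  haveI := hV'v
  haveI := hV₀d
  haveI := hV₀v
  haveI := hκ
  let ℓ : Spec V' ⟶ pullback f b := pullback.lift a c hcomm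
  have hℓ1 : ℓ ≫ pullback.fst f b = a := pullback.lift_fst _ _ _
  have hℓ2 : ℓ ≫ pullback.snd f b = c := pullback.lift_snd _ _ _
  let y := ℓ (genericPt V')
  let y' := ℓ (closedPoint V')
  have hyy' : y ⤳ y' := (genericPt_specializes V' _).map ℓ.continuous
  have hpy : pullback.fst f b y = x := by
    rw [← hagen, ← hℓ1]; rfl
  have hpy' : pullback.fst f b y' = x' := by
    rw [← hacl, ← hℓ1]; rfl
  have hgy : pullback.snd f b y = genericPt V₀ := by
    rw [← hcgen, ← hℓ2]; rfl
  have hgy' : pullback.snd f b y' = closedPoint V₀ := by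
    rw [← hccl, ← hℓ2]; rfl
  have hcond : ∀ t, f (pullback.fst f b t) = b (pullback.snd f b t) := fun t => by
    rw [← Scheme.Hom.comp_apply, ← Scheme.Hom.comp_apply, pullback.condition]
  have hbgen : b (genericPt V₀) = f x := by
    rw [← hgy, ← hcond, hpy]
  have hne' : genericPt V₀ ≠ closedPoint V₀ := by
    intro h
    apply hne
    rw [← hbgen, h, ← hgy', ← hcond, hpy']
  haveI : LocallyOfFiniteType (pullback.snd f b) :=
    MorphismProperty.pullback_snd (P := @LocallyOfFiniteType) _ _ inferInstance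
  have hrtd' : rtd (pullback.snd f b) y' = 0 := by
    obtain ⟨n, hn⟩ := exists_nat_trdeg_residueFieldMap (pullback.snd f b) y'
    have hm : rtd f (pullback.fst f b y') = (0 : ℕ) := by
      rw [rtd_congr_pt f hpy', hrtd, Nat.cast_zero]
    have hle := Groth.Agent.Lib.Helper21.ImgDim.trdeg_pullback_le f b y' n 0 hn hm
    have hn0 : n = 0 := by omega
    change rtd (pullback.snd f b) y' = n at hn
    rw [hn, hn0, Nat.cast_zero]
  obtain ⟨y₁, hy₁O, hgy₁, hyy₁, hy₁y', hy₁rtd⟩ :=
    core_valuationRing V₀ hne' (pullback.snd f b) y y' hyy' hgy hgy' hrtd'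
      ((pullback.fst f b) ⁻¹ᵁ O) (by change pullback.fst f b y ∈ O; rw [hpy]; exact hxO)
  refine ⟨pullback.fst f b y₁, hy₁O, ?_, ?_, ?_, ?_⟩
  · rw [hcond, hgy₁, hbgen]
  · rw [← hpy]
    exact hyy₁.map (pullback.fst f b).continuous
  · rw [← hpy']
    exact hy₁y'.map (pullback.fst f b).continuous
  · have h1 : rtd (pullback.snd f b ≫ b) y₁ = 0 := by
      refine rtd_comp_eq_zero _ _ _ hy₁rtd ?_
      rw [rtd_congr_pt b hgy₁]
      exact hb
    rw [← rtd_congr_hom pullback.condition] at h1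
    exact rtd_right_of_comp _ _ _ h1

end Groth.Agent.Lib.Helper6.ClPt
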