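import Mathlib
import Groth.Prelude.Def_RelProj
import Groth.Agent.Lib.Helper1.ChowTop
import Groth.Agent.Lib.Helper29.RelAmple

/-!
# Dense quasi-projective affine open covers of separated finite type schemes over Noetherian bases
-/
set_option autoImplicit false
universe u
open CategoryTheory CategoryTheory.Limits AlgebraicGeometry TopologicalSpace

namespace Groth.Agent.Lib.Helper6.DenseQP

open Groth.Agent.Lib.Helper29.QCoh Groth.Agent.Lib.Helper1.Chow

/-- An affine open of a Noetherian scheme of finite type over a Noetherian base is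
quasi-projective over the base (the structure sheaf is relatively ample). -/
theorem isQuasiProjective_of_isAffineOpen {S X : Scheme.{u}} (f : X ⟶ S) [IsNoetherian S]
    [IsNoetherian X] [LocallyOfFiniteType f] (U : X.Opens) (hU : IsAffineOpen U) :
    RelProj.IsQuasiProjective (U.ι ≫ f) := by
  haveI : IsAffine (U : Scheme.{u}) := hU
  haveI : QuasiCompact (U.ι ≫ f) := inferInstance
  haveI : NoetherianSpace (U : Scheme.{u}) := U.ι.isOpenEmbedding.isInducing.noetherianSpace
  refine ⟨inferInstance, inferInstance, unitM (U : Scheme.{u}), inferInstance, fun V => ?_⟩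
  have hL : CohB1.IsAmple (unitM (U : Scheme.{u})) :=
    isAmple_of_isQuasiAffine (isInvertible_unit (U : Scheme.{u}))
  exact isAmple_restrict_of_isCompact hL _ (NoetherianSpace.isCompact _)

theorem main {S X : Scheme.{u}} (f : X ⟶ S)
    [IsNoetherian S] [IsSeparated f] [QuasiCompact f] [LocallyOfFiniteType f] :
    ∃ (n : ℕ) (U : Fin n → X.Opens), (⨆ i, U i) = ⊤ ∧
      ∀ i, IsAffineOpen (U i) ∧ Dense ((U i : Set X)) ∧
        RelProj.IsQuasiProjective ((U i).ι ≫ f) := by
  haveI : IsLocallyNoetherian X := LocallyOfFiniteType.isLocallyNoetherian f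
  haveI : CompactSpace X := QuasiCompact.compactSpace_of_compactSpace f
  haveI : IsNoetherian X := {}
  have hirr : (irreducibleComponents (X : Type u)).Finite :=
    NoetherianSpace.finite_irreducibleComponents
  obtain ⟨m, U, U₀, hUaff, hcov, hle, hdense, -⟩ := exists_affine_cover_dense hirr
  refine ⟨m + 1, U, hcov, fun i => ⟨hUaff i, hdense.mono (hle i), ?_⟩⟩
  exact isQuasiProjective_of_isAffineOpen f (U i) (hUaff i)

end Groth.Agent.Lib.Helper6.DenseQP
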