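import Mathlib
import Groth.Agent.Lib.Helper6.EtLocCI
import Groth.Agent.Lib.Helper6.EtLocScheme3
import Groth.Agent.Lib.Helper6.ResDegBound

set_option autoImplicit false
universe u

open CategoryTheory AlgebraicGeometry Limits

namespace Groth.Agent.Lib.Helper6.EtLoc

theorem evaluation_eq_zero_iff_mem_primeIdealOf {X : Scheme.{u}} {W : X.Opens}
    (hW : IsAffineOpen W) (x : X) (hx : x ∈ W) (t : Γ(X, W)) :
    (X.evaluation W x hx).hom t = 0 ↔ t ∈ (hW.primeIdealOf ⟨x, hx⟩).asIdeal := by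
  let _ := X.presheaf.algebra_section_stalk (⟨x, hx⟩ : W)
  have hloc := hW.isLocalization_stalk ⟨x, hx⟩
  change (X.residue x).hom (algebraMap Γ(X, W) (X.presheaf.stalk x) t) = 0 ↔ _
  rw [← IsLocalization.AtPrime.to_map_mem_maximal_iff (X.presheaf.stalk x)
    (hW.primeIdealOf ⟨x, hx⟩).asIdeal t]
  exact IsLocalRing.residue_eq_zero_iff _

/-- Surjectivity on sections over a basic open, from the elementwise statement. -/
theorem app_basicOpen_surjective {V U : Scheme.{u}} (h : V ⟶ U) {U₁ : U.Opens}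
    (hV₁ : IsAffineOpen (h ⁻¹ᵁ U₁)) (r : Γ(U, U₁))
    (hr : ∀ c : Γ(V, h ⁻¹ᵁ U₁), ∃ a : Γ(U, U₁), (h.app U₁).hom r * c = (h.app U₁).hom a)
    (D : U.Opens) (hD : D = U.basicOpen r) : Function.Surjective (h.app D).hom := by
  subst hD
  intro t
  have hle : U.basicOpen r ≤ U₁ := U.basicOpen_le r
  have e : h ⁻¹ᵁ U.basicOpen r = V.basicOpen ((h.app U₁).hom r) := Scheme.preimage_basicOpen h r
  let i : h ⁻¹ᵁ U.basicOpen r ⟶ h ⁻¹ᵁ U₁ := homOfLE (h.preimage_mono hle)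
  letI := (V.presheaf.map i.op).hom.toAlgebra
  haveI := hV₁.isLocalization_of_eq_basicOpen ((h.app U₁).hom r) i e
  obtain ⟨n, c, hc⟩ := IsLocalization.Away.surj ((h.app U₁).hom r) t
  obtain ⟨a, ha⟩ := hr c
  have hnat : ∀ b : Γ(U, U₁), (V.presheaf.map i.op).hom ((h.app U₁).hom b) =
      (h.app (U.basicOpen r)).hom ((U.presheaf.map (homOfLE hle).op).hom b) := by
    intro b
    have := congr(($(h.naturality (homOfLE hle).op)).hom b)
    exact this.symm
  have hunit : IsUnit ((U.presheaf.map (homOfLE hle).op).hom r) :=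
    U.toRingedSpace.isUnit_res_basicOpen r
  obtain ⟨w, hw⟩ := hunit
  refine ⟨(U.presheaf.map (homOfLE hle).op).hom a * ((w⁻¹ : (Γ(U, U.basicOpen r))ˣ) : _) ^ (n + 1),
    ?_⟩
  have h1 : (h.app (U.basicOpen r)).hom (w : Γ(U, U.basicOpen r)) =
      algebraMap Γ(V, h ⁻¹ᵁ U₁) Γ(V, h ⁻¹ᵁ U.basicOpen r) ((h.app U₁).hom r) := by
    rw [hw, ← hnat]; rfl
  have h2 : (h.app (U.basicOpen r)).hom ((U.presheaf.map (homOfLE hle).op).hom a) =
      t * algebraMap Γ(V, h ⁻¹ᵁ U₁) Γ(V, h ⁻¹ᵁ U.basicOpen r) ((h.app U₁).hom r) ^ (n + 1) := by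
    rw [← hnat, ← ha, map_mul, pow_succ, ← mul_assoc, hc]
    change _ = algebraMap _ _ c * algebraMap _ _ _
    rw [mul_comm]
    rfl
  rw [map_mul, map_pow, h2, ← h1, mul_assoc, ← mul_pow, ← map_mul]
  simp

/-- Stacks 04HG-style: a finite unramified morphism with a single point `v` over `u` and trivial
residue field extension there is a closed immersion over a neighbourhood of `u`. -/
theorem exists_opens_isClosedImmersion {V U : Scheme.{u}} (h : V ⟶ U) [IsFinite h]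
    [FormallyUnramified h] (u : U) (v : V) (hv : h v = u) (huniq : ∀ w, h w = u → w = v)
    (hres : Function.Surjective (h.residueFieldMap v).hom) :
    ∃ U₀ : U.Opens, u ∈ U₀ ∧ IsClosedImmersion (h ∣_ U₀) := by
  obtain ⟨_, ⟨U₁, hU₁, rfl⟩, huU₁, -⟩ :=
    U.isBasis_affineOpens.exists_subset_of_mem_open (Set.mem_univ u) isOpen_univ
  have hV₁ : IsAffineOpen (h ⁻¹ᵁ U₁) := hU₁.preimage h
  have hvV₁ : v ∈ h ⁻¹ᵁ U₁ := by
    change h v ∈ U₁
    rw [hv]; exact huU₁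
  letI alg : Algebra Γ(U, U₁) Γ(V, h ⁻¹ᵁ U₁) := (h.appLE U₁ (h ⁻¹ᵁ U₁) le_rfl).hom.toAlgebra
  have halg : ∀ b, algebraMap Γ(U, U₁) Γ(V, h ⁻¹ᵁ U₁) b = (h.app U₁).hom b := fun b => by
    rw [RingHom.algebraMap_toAlgebra, Scheme.Hom.appLE_eq_app]
  haveI : Module.Finite Γ(U, U₁) Γ(V, h ⁻¹ᵁ U₁) := by
    have := h.finite_app U₁ hU₁
    rw [← Scheme.Hom.appLE_eq_app] at this
    exact this
  haveI : Algebra.FormallyUnramified Γ(U, U₁) Γ(V, h ⁻¹ᵁ U₁) :=
    HasRingHomProperty.appLE (P := @FormallyUnramified) h inferInstance ⟨U₁, hU₁⟩ ⟨_, hV₁⟩ le_rfl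
  let p := (hU₁.primeIdealOf ⟨u, huU₁⟩).asIdeal
  let q := (hV₁.primeIdealOf ⟨v, hvV₁⟩).asIdeal
  haveI : q.LiesOver p := liesOver_primeIdealOf h hU₁ hV₁ le_rfl v hvV₁ u huU₁ hv
  haveI := hV₁.isOpenImmersion_fromSpec
  have hq : p.primesOver Γ(V, h ⁻¹ᵁ U₁) = {q} := by
    ext q'
    simp only [Set.mem_singleton_iff]
    constructor
    · rintro ⟨hq'prime, hq'over⟩
      let Q' : Spec Γ(V, h ⁻¹ᵁ U₁) := ⟨q', hq'prime⟩
      have h1 : h (hV₁.fromSpec Q') = u := by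
        rw [← Scheme.Hom.comp_apply, ← IsAffineOpen.SpecMap_appLE_fromSpec h hU₁ hV₁ le_rfl,
          Scheme.Hom.comp_apply]
        have h2 : Spec.map (h.appLE U₁ (h ⁻¹ᵁ U₁) le_rfl) Q' = hU₁.primeIdealOf ⟨u, huU₁⟩ := by
          apply PrimeSpectrum.ext
          exact (hq'over.over).symm
        rw [h2]
        exact hU₁.fromSpec_primeIdealOf ⟨u, huU₁⟩
      have h3 : hV₁.fromSpec Q' = v := huniq _ h1
      have h4 : hV₁.fromSpec Q' = hV₁.fromSpec (hV₁.primeIdealOf ⟨v, hvV₁⟩) := by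
        rw [h3]; exact (hV₁.fromSpec_primeIdealOf ⟨v, hvV₁⟩).symm
      have h5 := hV₁.fromSpec.isOpenEmbedding.injective h4
      exact congr(($h5).asIdeal)
    · rintro rfl
      exact ⟨inferInstance, inferInstance⟩
  have H : TrivRes Γ(U, U₁) q := by
    intro c
    obtain ⟨z, hz⟩ := hres ((V.evaluation (h ⁻¹ᵁ U₁) v hvV₁).hom c)
    have hhv : h v ∈ U₁ := hvV₁
    obtain ⟨b, c', hc', hbc⟩ := ResDeg.exists_evaluation_div hU₁ (h v) hhv z
    have hnat : ∀ a, (h.residueFieldMap v).hom ((U.evaluation U₁ (h v) hhv).hom a) =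
        (V.evaluation (h ⁻¹ᵁ U₁) v hvV₁).hom ((h.app U₁).hom a) :=
      fun a => Scheme.evaluation_naturality_apply h v hhv a
    refine ⟨c', b, ?_, ?_⟩
    · rw [halg, ← evaluation_eq_zero_iff_mem_primeIdealOf hV₁ v hvV₁, ← hnat]
      exact fun h0 => hc' ((map_eq_zero _).mp h0)
    · rw [halg, halg, ← evaluation_eq_zero_iff_mem_primeIdealOf hV₁ v hvV₁, map_sub, map_mul,
        ← hnat, ← hnat, ← hz, ← map_mul, ← map_sub, mul_comm, hbc, sub_self, map_zero]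
  obtain ⟨r, hrp, hr⟩ := exists_mul_mem_range_of_unramified p q hq H
  refine ⟨U.basicOpen r, ?_, ?_⟩
  · rw [← U.evaluation_ne_zero_iff_mem_basicOpen u huU₁ r, Ne,
      evaluation_eq_zero_iff_mem_primeIdealOf hU₁ u huU₁]
    exact hrp
  · haveI : IsAffine (U.basicOpen r) := hU₁.basicOpen r
    haveI : IsAffine (h ⁻¹ᵁ U.basicOpen r) := (hU₁.basicOpen r).preimage h
    apply IsClosedImmersion.of_surjective_of_isAffine
    rw [morphismRestrict_appTop]
    have hr' : ∀ c : Γ(V, h ⁻¹ᵁ U₁), ∃ a : Γ(U, U₁),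
        (h.app U₁).hom r * c = (h.app U₁).hom a := fun c => by
      obtain ⟨a, ha⟩ := hr c
      exact ⟨a, by rw [← halg, ← halg]; exact ha⟩
    have hs := app_basicOpen_surjective h hV₁ r hr' ((U.basicOpen r).ι ''ᵁ ⊤)
      (Scheme.Opens.ι_image_top _)
    exact (ConcreteCategory.bijective_of_isIso (V.presheaf.map (eqToHom
      (image_morphismRestrict_preimage h (U.basicOpen r) ⊤)).op)).2.comp hs

end Groth.Agent.Lib.Helper6.EtLoc
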