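import Mathlib
import Groth.Agent.Lib.Helper6.EtLocUnr1
import Groth.Agent.Lib.Helper6.EtLocCIScheme
import Groth.Agent.Lib.Helper6.EtLocInsepMain

set_option autoImplicit false
universe u

open CategoryTheory AlgebraicGeometry Limits

namespace Groth.Agent.Lib.Helper6.EtLoc


theorem quasiFiniteAt_of_unramified {X Y : Scheme.{u}} (f : X ⟶ Y) [LocallyOfFiniteType f]
    [FormallyUnramified f] (x : X) : f.QuasiFiniteAt x := by
  algebraize [(f.stalkMap x).hom]
  have : Algebra.EssFiniteType (Y.presheaf.stalk (f x)) (X.presheaf.stalk x) := by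
    rw [← RingHom.essFiniteType_algebraMap, RingHom.algebraMap_toAlgebra]
    exact LocallyOfFiniteType.stalkMap f x
  have : Algebra.FormallyUnramified (Y.presheaf.stalk (f x)) (X.presheaf.stalk x) := by
    rw [← RingHom.formallyUnramified_algebraMap, RingHom.algebraMap_toAlgebra]
    exact FormallyUnramified.stalkMap f x
  change (f.stalkMap x).hom.QuasiFinite
  rw [RingHom.QuasiFinite]
  infer_instance

theorem exists_opens_isClosedImmersion_of_insep {P U : Scheme.{u}} (π : P ⟶ U)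
    [LocallyOfFiniteType π] [FormallyUnramified π]
    (V : P.Opens) (v : P) (hvV : v ∈ V) [IsFinite (V.ι ≫ π)] (u : U) (hv : π v = u)
    (huniq : ∀ w, w ∈ V → π w = u → w = v)
    (hres : letI := (π.residueFieldMap v).hom.toAlgebra
      IsPurelyInseparable (U.residueField (π v)) (P.residueField v)) :
    ∃ U₀ : U.Opens, u ∈ U₀ ∧ IsClosedImmersion ((V.ι ≫ π) ∣_ U₀) ∧
      (Etale π → IsIso ((V.ι ≫ π) ∣_ U₀)) := by
  have hsurj : Function.Surjective (π.residueFieldMap v).hom := by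
    letI := (π.residueFieldMap v).hom.toAlgebra
    exact IsPurelyInseparable.surjective_algebraMap_of_isSeparable
      (U.residueField (π v)) (P.residueField v)
  let v' : V.toScheme := ⟨v, hvV⟩
  have hres' : Function.Surjective ((V.ι ≫ π).residueFieldMap v').hom := by
    rw [Scheme.residueFieldMap_comp]
    change Function.Surjective ((V.ι.residueFieldMap v').hom ∘ (π.residueFieldMap v).hom)
    exact (ConcreteCategory.bijective_of_isIso (V.ι.residueFieldMap v')).surjective.comp hsurj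
  haveI : FormallyUnramified (V.ι ≫ π) :=
    MorphismProperty.comp_mem @FormallyUnramified _ _ inferInstance inferInstance
  obtain ⟨U₁, huU₁, hCI⟩ := exists_opens_isClosedImmersion (V.ι ≫ π) u v' hv
    (fun w hw => Subtype.ext (huniq w.1 w.2 hw)) hres'
  by_cases hE : Etale π
  · haveI : Etale (V.ι ≫ π) := inferInstance
    let O : U.Opens := U₁ ⊓ ⟨Set.range (V.ι ≫ π), (V.ι ≫ π).isOpenMap.isOpen_range⟩
    have huO : u ∈ O := ⟨huU₁, v', hv⟩
    have hCI' : IsClosedImmersion ((V.ι ≫ π) ∣_ O) :=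
      restrict_of_le @IsClosedImmersion _ inf_le_left hCI
    refine ⟨O, huO, hCI', fun _ => ?_⟩
    haveI : Surjective ((V.ι ≫ π) ∣_ O) := by
      refine ⟨fun y => ?_⟩
      obtain ⟨p, hp⟩ := y.2.2
      have hpO : p ∈ (V.ι ≫ π) ⁻¹ᵁ O := by
        change (V.ι ≫ π) p ∈ O
        rw [hp]; exact y.2
      refine ⟨⟨p, hpO⟩, Subtype.ext ?_⟩
      exact (morphismRestrict_base_coe (V.ι ≫ π) O ⟨p, hpO⟩).trans hp
    haveI : Flat ((V.ι ≫ π) ∣_ O) := inferInstance
    exact Flat.isIso_of_surjective_of_mono _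
  · exact ⟨U₁, huU₁, hCI, fun h => absurd h hE⟩


/-- Core étale localization of unramified morphisms: after an étale base change, the points over
`(x i, u)` lie in opens which become closed immersions over an open neighbourhood `U₀` of `u`
(isomorphisms when `f` is étale). -/
theorem exists_etale_nbhd_unramified_core {X S : Scheme.{u}} (f : X ⟶ S) [LocallyOfFiniteType f]
    [FormallyUnramified f] (s : S) {ι : Type} [Finite ι] (x : ι → ↑X)
    (hinj : Function.Injective x) (hs : ∀ i, f (x i) = s) :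
    ∃ (U : Scheme.{u}) (g : U ⟶ S) (u : U), Etale g ∧ g u = s ∧
      ∃ (K : Type) (_ : Finite K) (lab : K → ι) (V : K → (pullback f g).Opens)
        (v : K → ↑(pullback f g)) (U₀ : U.Opens), u ∈ U₀ ∧
        (∀ k, v k ∈ V k ∧ IsClosedImmersion (((V k).ι ≫ pullback.snd f g) ∣_ U₀) ∧
          (Etale f → IsIso (((V k).ι ≫ pullback.snd f g) ∣_ U₀)) ∧
          pullback.snd f g (v k) = u ∧
          (∀ w, w ∈ V k → pullback.snd f g w = u → w = v k) ∧
          pullback.fst f g (v k) = x (lab k)) ∧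
        Function.Injective v ∧
        (∀ (w : ↑(pullback f g)) (i : ι), pullback.snd f g w = u → pullback.fst f g w = x i →
          ∃ k, lab k = i ∧ w = v k) ∧
        (IsSeparated f → ∀ k k', ((V k : Set ↑(pullback f g)) ∩ V k').Nonempty → k = k') := by
  obtain ⟨U, g, u, hg, hu, J, hJ, V, v, hV, hinjv, hex, hsep⟩ :=
    exists_etale_nbhd_insep_family f s x hinj hs (fun i => quasiFiniteAt_of_unramified f (x i))
  haveI : FormallyUnramified (pullback.snd f g) :=
    MorphismProperty.of_isPullback (P := @FormallyUnramified) (IsPullback.of_hasPullback f g)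
      inferInstance
  have hpiece : ∀ k : Σ i, J i, ∃ U₀ : U.Opens, u ∈ U₀ ∧
      IsClosedImmersion (((V k.1 k.2).ι ≫ pullback.snd f g) ∣_ U₀) ∧
      (Etale (pullback.snd f g) → IsIso (((V k.1 k.2).ι ≫ pullback.snd f g) ∣_ U₀)) := by
    rintro ⟨i, j⟩
    obtain ⟨hmem, hfin, hsnd, huniq, ⟨-, hpi⟩, -⟩ := hV i j
    haveI := hfin
    exact exists_opens_isClosedImmersion_of_insep (pullback.snd f g) (V i j) (v i j) hmem u hsnd
      huniq hpi
  choose U₀k hU₀k hCI hIso using hpiece
  haveI : Finite (Σ i, J i) := inferInstance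
  let U₀ : U.Opens := ⨅ k, U₀k k
  have huU₀ : u ∈ U₀ := by
    change u ∈ ((⨅ k, U₀k k : U.Opens) : Set U)
    rw [TopologicalSpace.Opens.coe_iInf]
    exact Set.mem_iInter.mpr fun k => hU₀k k
  refine ⟨U, g, u, hg, hu, Σ i, J i, inferInstance, Sigma.fst, fun k => V k.1 k.2,
    fun k => v k.1 k.2, U₀, huU₀, ?_, ?_, ?_, ?_⟩
  · rintro ⟨i, j⟩
    obtain ⟨hmem, -, hsnd, huniq, -, hfst⟩ := hV i j
    refine ⟨hmem, restrict_of_le @IsClosedImmersion _ (iInf_le U₀k ⟨i, j⟩) (hCI ⟨i, j⟩),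
      fun hE => ?_, hsnd, huniq, hfst⟩
    haveI := hE
    have h1 := hIso ⟨i, j⟩ inferInstance
    exact restrict_of_le (MorphismProperty.isomorphisms Scheme.{u}) _ (iInf_le U₀k ⟨i, j⟩) h1
  · rintro ⟨i, j⟩ ⟨i', j'⟩ h
    obtain ⟨rfl, h2⟩ := hinjv i j i' j' h
    rw [eq_of_heq h2]
  · intro w i hw1 hw2
    obtain ⟨j, hj⟩ := hex w i hw1 hw2
    exact ⟨⟨i, j⟩, rfl, hj⟩
  · rintro hf ⟨i, j⟩ ⟨i', j'⟩ hne
    obtain ⟨rfl, h2⟩ := (hsep hf).2 i j i' j' hne
    rw [eq_of_heq h2]

end Groth.Agent.Lib.Helper6.EtLoc
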