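import Mathlib
import Groth.Agent.Lib.Helper6.EtLocUnr2

set_option autoImplicit false
universe u

open CategoryTheory AlgebraicGeometry Limits

namespace Groth.Agent.Lib.Helper6.EtLoc

/-- Purely inseparable residue field extensions pass to the top of a tower. -/
theorem isPurelyInseparable_residueField_of_comp {A B C : Scheme.{u}} (α : A ⟶ B) (β : B ⟶ C)
    (γ : A ⟶ C) (hγ : α ≫ β = γ) (x : A)
    (h : letI := (γ.residueFieldMap x).hom.toAlgebra
      IsPurelyInseparable (C.residueField (γ x)) (A.residueField x)) :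
    letI := (α.residueFieldMap x).hom.toAlgebra
    IsPurelyInseparable (B.residueField (α x)) (A.residueField x) := by
  subst hγ
  letI i1 : Algebra (C.residueField (β (α x))) (A.residueField x) :=
    ((α ≫ β).residueFieldMap x).hom.toAlgebra
  letI i2 := (α.residueFieldMap x).hom.toAlgebra
  letI i3 : Algebra (C.residueField (β (α x))) (B.residueField (α x)) :=
    (β.residueFieldMap (α x)).hom.toAlgebra
  haveI : IsScalarTower (C.residueField (β (α x))) (B.residueField (α x)) (A.residueField x) :=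
    IsScalarTower.of_algebraMap_eq' (by
      change ((α ≫ β).residueFieldMap x).hom = _
      rw [Scheme.residueFieldMap_comp]
      rfl)
  haveI : IsPurelyInseparable (C.residueField (β (α x))) (A.residueField x) := h
  exact IsPurelyInseparable.tower_top (C.residueField (β (α x))) (B.residueField (α x))
    (A.residueField x)

/-- Condition (A) for separated locally quasi-finite morphisms (Stacks 04DS-style): for `g : U ⟶ X`
étale and `u : U` there are an étale `v : V ⟶ Y`, a clopen `W` of `X ×_Y V` and an `X`-morphism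
`W ⟶ U` whose image contains `u`. -/
theorem exists_clopen_lift_of_separated_locallyQuasiFinite {X Y : Scheme.{u}} (f : X ⟶ Y)
    [IsSeparated f] [LocallyQuasiFinite f] [LocallyOfFiniteType f]
    (U : Scheme.{u}) (g : U ⟶ X) [Etale g] (u : U) :
    ∃ (V : Scheme.{u}) (v : V ⟶ Y) (_ : Etale v) (W : (pullback f v).Opens)
      (_ : IsClosed (W : Set ↥(pullback f v))) (h : (W : Scheme.{u}) ⟶ U),
      h ≫ g = W.ι ≫ pullback.fst f v ∧ u ∈ Set.range h := by
  classical
  have hqf : (g ≫ f).QuasiFiniteAt u :=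
    Scheme.Hom.quasiFiniteAt_comp_iff.mpr (quasiFiniteAt_of_unramified g u)
  obtain ⟨V, v, p, hv, hp, J, hJ, W₁, w₁, hW, -, hex, -⟩ :=
    exists_etale_nbhd_insep_family (g ≫ f) ((g ≫ f) u) (fun _ : Unit => u)
      (fun _ _ _ => rfl) (fun _ => rfl) (fun _ => hqf)
  -- a point over `(u, p)`
  obtain ⟨z, hz1, hz2⟩ := Scheme.Pullback.exists_preimage_pullback (f := g ≫ f) (g := v) u p hp.symm
  obtain ⟨j, rfl⟩ := hex z () hz2 hz1
  obtain ⟨hmem, hfin, hsnd, huniq, ⟨-, hpi⟩, hfst⟩ := hW () j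
  -- the étale map `U ×_Y V ⟶ X ×_Y V`
  let G : pullback (g ≫ f) v ⟶ pullback f v :=
    pullback.lift (pullback.fst (g ≫ f) v ≫ g) (pullback.snd (g ≫ f) v)
      (by rw [Category.assoc, pullback.condition])
  have hG1 : G ≫ pullback.fst f v = pullback.fst (g ≫ f) v ≫ g := pullback.lift_fst _ _ _
  have hG2 : G ≫ pullback.snd f v = pullback.snd (g ≫ f) v := pullback.lift_snd _ _ _
  have hGpb : IsPullback G (pullback.fst (g ≫ f) v) (pullback.fst f v) g := by
    refine IsPullback.of_right ?_ hG1 (IsPullback.of_hasPullback f v).flip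
    rw [hG2]
    exact (IsPullback.of_hasPullback (g ≫ f) v).flip
  haveI : Etale G := MorphismProperty.of_isPullback hGpb.flip inferInstance
  have hsndG : ∀ q, pullback.snd f v (G q) = pullback.snd (g ≫ f) v q := fun q =>
    congr($hG2 q)
  haveI : IsFinite (((W₁ () j).ι ≫ G) ≫ pullback.snd f v) := by
    rw [Category.assoc, hG2]; exact hfin
  haveI : IsFinite ((W₁ () j).ι ≫ G) := IsFinite.of_comp _ (pullback.snd f v)
  have hpi' := isPurelyInseparable_residueField_of_comp G (pullback.snd f v)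
    (pullback.snd (g ≫ f) v) hG2 (w₁ () j) hpi
  obtain ⟨N, hN, -, hNiso⟩ := exists_opens_isClosedImmersion_of_insep G (W₁ () j) (w₁ () j) hmem
    (G (w₁ () j)) rfl (fun w hw hw' => huniq w hw (by rw [← hsndG, hw', hsndG, hsnd])) hpi'
  replace hNiso := hNiso inferInstance
  set h := (W₁ () j).ι ≫ G with hh
  haveI : Etale h := inferInstance
  -- shrink `V`
  have hT : IsClosed ((h ≫ pullback.snd f v) '' ((h ⁻¹ᵁ N : Set ↥(W₁ () j).toScheme))ᶜ) :=
    (h ≫ pullback.snd f v).isClosedMap _ (h ⁻¹ᵁ N).2.isClosed_compl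
  let w₁' : (W₁ () j).toScheme := ⟨w₁ () j, hmem⟩
  have hw₁' : h w₁' = G (w₁ () j) := rfl
  have hpT : p ∉ (h ≫ pullback.snd f v) '' ((h ⁻¹ᵁ N : Set ↥(W₁ () j).toScheme))ᶜ := by
    rintro ⟨w, hw, hwp⟩
    have h1 : pullback.snd (g ≫ f) v w.1 = p := by rw [← hsndG]; exact hwp
    have h2 := huniq w.1 w.2 h1
    apply hw
    change h w ∈ N
    have : w = w₁' := Subtype.ext h2
    rw [this, hw₁']
    exact hN
  let V' : V.Opens := ⟨((h ≫ pullback.snd f v) '' ((h ⁻¹ᵁ N : Set ↥(W₁ () j).toScheme))ᶜ)ᶜ,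
    hT.isOpen_compl⟩
  have hpV' : p ∈ V' := hpT
  let O : (pullback f v).Opens := N ⊓ (pullback.snd f v) ⁻¹ᵁ V'
  haveI hOiso : IsIso (h ∣_ O) :=
    restrict_of_le (MorphismProperty.isomorphisms Scheme.{u}) h inf_le_left hNiso
  let a := shrinkMap f v V'
  let Z : (pullback f v).Opens := ⟨Set.range h, h.isOpenMap.isOpen_range⟩
  have hZcl : IsClosed (Z : Set ↥(pullback f v)) := h.isClosedMap.isClosed_range
  have haO : ∀ m : ↥(pullback f (V'.ι ≫ v)), a m ∈ Z → a m ∈ O := by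
    rintro m ⟨w, hw⟩
    have h1 : pullback.snd f v (a m) ∈ V' := by
      rw [snd_shrinkMap_apply]
      exact (pullback.snd f (V'.ι ≫ v) m).2
    refine ⟨?_, h1⟩
    by_contra hcon
    refine h1 ⟨w, ?_, by rw [← hw]; rfl⟩
    intro hwN
    apply hcon
    rw [← hw]
    exact hwN
  let W : (pullback f (V'.ι ≫ v)).Opens := a ⁻¹ᵁ Z
  have hWcl : IsClosed (W : Set ↥(pullback f (V'.ι ≫ v))) := hZcl.preimage a.continuous
  have hrange : Set.range (W.ι ≫ a) ⊆ Set.range O.ι := by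
    rintro _ ⟨m, rfl⟩
    rw [Scheme.Opens.range_ι]
    exact haO m.1 m.2
  let l₁ : W.toScheme ⟶ O.toScheme := IsOpenImmersion.lift O.ι (W.ι ≫ a) hrange
  have hl₁ : l₁ ≫ O.ι = W.ι ≫ a := IsOpenImmersion.lift_fac _ _ _
  let hh' : W.toScheme ⟶ U :=
    l₁ ≫ inv (h ∣_ O) ≫ (h ⁻¹ᵁ O).ι ≫ (W₁ () j).ι ≫ pullback.fst (g ≫ f) v
  refine ⟨V'.toScheme, V'.ι ≫ v, inferInstance, W, hWcl, hh', ?_, ?_⟩
  · have e1 : (h ⁻¹ᵁ O).ι ≫ (W₁ () j).ι ≫ pullback.fst (g ≫ f) v ≫ g =
        (h ∣_ O) ≫ O.ι ≫ pullback.fst f v := by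
      rw [← hG1, morphismRestrict_ι_assoc, hh, Category.assoc]
    calc hh' ≫ g = l₁ ≫ inv (h ∣_ O) ≫ ((h ⁻¹ᵁ O).ι ≫ (W₁ () j).ι ≫
          pullback.fst (g ≫ f) v ≫ g) := by simp only [hh', Category.assoc]
      _ = l₁ ≫ O.ι ≫ pullback.fst f v := by rw [e1, IsIso.inv_hom_id_assoc]
      _ = W.ι ≫ pullback.fst f (V'.ι ≫ v) := by
        rw [← Category.assoc, hl₁, Category.assoc, shrinkMap_fst]
  · obtain ⟨m, hm⟩ := exists_shrinkMap_eq f v V' (G (w₁ () j)) (by rw [hsndG, hsnd]; exact hpV')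
    have hmW : m ∈ W := by
      change a m ∈ Z
      rw [hm]
      exact ⟨w₁', rfl⟩
    let m' : W.toScheme := ⟨m, hmW⟩
    refine ⟨m', ?_⟩
    let q := inv (h ∣_ O) (l₁ m')
    have hq1 : (h ∣_ O) q = l₁ m' := by
      change (inv (h ∣_ O) ≫ (h ∣_ O)) (l₁ m') = _
      rw [IsIso.inv_hom_id]; rfl
    have hq2 : h q.1 = G (w₁ () j) := by
      rw [← morphismRestrict_base_coe, hq1]
      have := congr($hl₁ m')
      exact this.trans hm
    have hq3 : pullback.snd (g ≫ f) v q.1.1 = p := by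
      rw [← hsndG]
      change pullback.snd f v (h q.1) = p
      rw [hq2, hsndG, hsnd]
    have hq4 := huniq q.1.1 q.1.2 hq3
    change pullback.fst (g ≫ f) v q.1.1 = u
    rw [hq4, hfst]

end Groth.Agent.Lib.Helper6.EtLoc
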