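import Mathlib
import Groth.Agent.Lib.Helper13.QuasiFiniteBaseChange
import Groth.Agent.Lib.Helper6.EtLocRing3

/-!
# Quasi-finiteness at a prime: Spec dictionary and descent along residually trivial base change
-/

set_option autoImplicit false
universe u

open CategoryTheory Limits AlgebraicGeometry TensorProduct

namespace Groth.Agent.Lib.Helper6.EtLoc

set_option backward.isDefEq.respectTransparency false in
theorem quasiFiniteAt_SpecMap_iff {R S : Type u} [CommRing R] [CommRing S] [Algebra R S]
    (x : Spec (.of S)) :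
    (Spec.map (CommRingCat.ofHom (algebraMap R S))).QuasiFiniteAt x ↔
      Algebra.QuasiFiniteAt R x.asIdeal := by
  let := Localization.AtPrime.algebraOfLiesOver (x.asIdeal.under R) x.asIdeal
  trans Algebra.QuasiFinite (Localization.AtPrime (x.asIdeal.under R))
    (Localization.AtPrime x.asIdeal)
  · rw [← RingHom.quasiFinite_algebraMap]
    exact RingHom.QuasiFinite.respectsIso.arrow_mk_iso_iff (Scheme.arrowStalkMapSpecIso ..)
  exact ⟨fun _ ↦ .trans _ (Localization.AtPrime (x.asIdeal.under R)) _,
    fun _ ↦ .of_restrictScalars R _ _⟩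

/-- Quasi-finiteness at a prime descends along an arbitrary base change. -/
theorem quasiFiniteAt_of_baseChange {R S R' : Type u} [CommRing R] [CommRing S] [CommRing R']
    [Algebra R S] [Algebra R R'] [Algebra.FiniteType R S] (Q : Ideal (R' ⊗[R] S)) [Q.IsPrime]
    [Algebra.QuasiFiniteAt R' Q] :
    Algebra.QuasiFiniteAt R
      (Q.comap (Algebra.TensorProduct.includeRight (R := R) (A := R') (B := S)).toRingHom) := by
  let x : Spec (.of (R' ⊗[R] S)) := (⟨Q, ‹_›⟩ : PrimeSpectrum (R' ⊗[R] S))
  have h1 : (Spec.map (CommRingCat.ofHom (algebraMap R' (R' ⊗[R] S)))).QuasiFiniteAt x :=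
    (quasiFiniteAt_SpecMap_iff x).mpr ‹_›
  have hpo := CommRingCat.isPushout_tensorProduct R R' S
  have hX := (isPullback_SpecMap_of_isPushout _ _ _ _ hpo).flip
  haveI : LocallyOfFiniteType (Spec.map (CommRingCat.ofHom (algebraMap R S))) :=
    (HasRingHomProperty.Spec_iff (P := @LocallyOfFiniteType)).mpr
      (RingHom.finiteType_algebraMap.mpr inferInstance)
  have h2 := Groth.Agent.Lib.Helper13.quasiFiniteAt_of_isPullback hX x h1
  exact (quasiFiniteAt_SpecMap_iff _).mp h2

end Groth.Agent.Lib.Helper6.EtLoc
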