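import Mathlib
import Groth.Agent.Lib.Helper6.EtLocQF
import Groth.Agent.Lib.Helper6.QuasiFiniteFiber

/-!
# Stacks 00UL for finite type algebras: ring-level assembly
-/

set_option autoImplicit false
universe u

open CategoryTheory Limits AlgebraicGeometry TensorProduct

namespace Groth.Agent.Lib.Helper6.EtLoc

/-- Only finitely many primes over `p` are quasi-finite primes of a finite type algebra. -/
theorem finite_setOf_quasiFiniteAt_primes {R S : Type u} [CommRing R] [CommRing S] [Algebra R S]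
    [Algebra.FiniteType R S] (p : Ideal R) [p.IsPrime] :
    {q : PrimeSpectrum S | q.asIdeal.comap (algebraMap R S) = p ∧
      Algebra.QuasiFiniteAt R q.asIdeal}.Finite := by
  haveI : LocallyOfFiniteType (Spec.map (CommRingCat.ofHom (algebraMap R S))) :=
    (HasRingHomProperty.Spec_iff (P := @LocallyOfFiniteType)).mpr
      (RingHom.finiteType_algebraMap.mpr inferInstance)
  have h := Groth.Agent.Lib.Helper6.finite_setOf_quasiFiniteAt
    (Spec.map (CommRingCat.ofHom (algebraMap R S))) (⟨p, ‹_›⟩ : PrimeSpectrum R)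
  refine h.subset ?_
  rintro q ⟨hq1, hq2⟩
  refine ⟨PrimeSpectrum.ext hq1, ?_⟩
  exact (quasiFiniteAt_SpecMap_iff (R := R) (S := S) q).mpr hq2

section Orth

variable {T : Type*} [CommRing T] {ι : Type*} [Fintype ι] [DecidableEq ι]

/-- Orthogonalization of a finite family of idempotents. -/
def orth (e : ι → T) (k : ι) : T := e k * ∏ j ∈ Finset.univ.erase k, (1 - e j)

theorem orth_idem {e : ι → T} (he : ∀ k, IsIdempotentElem (e k)) (k : ι) :
    IsIdempotentElem (orth e k) := by
  unfold orth IsIdempotentElem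
  rw [mul_mul_mul_comm, (he k).eq, ← Finset.prod_mul_distrib]
  congr 1
  exact Finset.prod_congr rfl fun j _ => (he j).one_sub.eq

theorem orth_mul_orth {e : ι → T} (he : ∀ k, IsIdempotentElem (e k)) {k l : ι} (hkl : k ≠ l) :
    orth e k * orth e l = 0 := by
  unfold orth
  have hk : k ∈ Finset.univ.erase l := Finset.mem_erase.mpr ⟨hkl, Finset.mem_univ _⟩
  rw [← Finset.mul_prod_erase _ _ hk]
  have : e k * (1 - e k) = 0 := by rw [mul_sub, mul_one, (he k).eq, sub_self]
  calc (e k * ∏ j ∈ Finset.univ.erase k, (1 - e j)) *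
        (e l * ((1 - e k) * ∏ x ∈ (Finset.univ.erase l).erase k, (1 - e x)))
      = (e k * (1 - e k)) * ((∏ j ∈ Finset.univ.erase k, (1 - e j)) *
        (e l * ∏ x ∈ (Finset.univ.erase l).erase k, (1 - e x))) := by ring
    _ = 0 := by rw [this, zero_mul]

theorem orth_notMem {e : ι → T} (P : Ideal T) [P.IsPrime] (k : ι) (hk : e k ∉ P)
    (hj : ∀ j, j ≠ k → 1 - e j ∉ P) : orth e k ∉ P := by
  unfold orth
  intro hmem
  rcases Ideal.IsPrime.mem_or_mem ‹_› hmem with h | h
  · exact hk h
  · obtain ⟨j, hj1, hj2⟩ := (Ideal.IsPrime.prod_mem_iff (hp := ‹P.IsPrime›)).mp h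
    exact hj j (Finset.mem_erase.mp hj1).1 hj2

theorem mem_of_orth_mem {e : ι → T} (P : Ideal T) (k : ι) (hk : e k ∈ P) : orth e k ∈ P :=
  P.mul_mem_right _ hk

end Orth

section PieceOrth

variable {R₀ A R' : Type*} [CommRing R₀] [CommRing A] [Algebra R₀ A] [CommRing R']
  [Algebra R₀ R'] {ι : Type*} [Fintype ι] [DecidableEq ι]
  {q : ι → Ideal A} (hq : Function.Injective q) {P : Ideal R'} {e : ι → R' ⊗[R₀] A}
  {P' : ι → Ideal (R' ⊗[R₀] A)} (h : ∀ k, IsPiece (q k) P (e k) (P' k))

include hq h in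
theorem one_sub_notMem_of_ne {j k : ι} (hjk : j ≠ k) : 1 - e j ∉ P' k := by
  intro hmem
  have hprime := (h k).prime
  have hej : e j ∉ P' k := fun hej =>
    hprime.ne_top ((Ideal.eq_top_iff_one _).mpr (by simpa using add_mem hmem hej))
  have h1 : P' k = P' j := (h j).unique (P' k) (h k).prime (h k).liesOver hej
  have h2 : q k = q j := by rw [← (h k).comap_eq, ← (h j).comap_eq, h1]
  exact hjk (hq h2).symm

include hq h in
theorem orth_notMem_piece (k : ι) : orth e k ∉ P' k := by
  haveI := (h k).prime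
  exact orth_notMem (P' k) k (h k).notMem (fun j hj => one_sub_notMem_of_ne hq h hj)

include h in
theorem orth_unique (k : ι) (P'' : Ideal (R' ⊗[R₀] A)) (h1 : P''.IsPrime) (h2 : P''.LiesOver P)
    (hne : orth e k ∉ P'') : P'' = P' k :=
  (h k).unique P'' h1 h2 (fun hmem => hne (mem_of_orth_mem P'' k hmem))

include h in
theorem orth_finite (k : ι) :
    Module.Finite R' ((R' ⊗[R₀] A) ⧸ Ideal.span {1 - orth e k}) := by
  haveI := (h k).finite
  let I : Ideal (R' ⊗[R₀] A) := Ideal.span {1 - orth e k}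
  let f : (R' ⊗[R₀] A) →ₐ[R'] (R' ⊗[R₀] A) ⧸ I := Ideal.Quotient.mkₐ R' I
  have hf1 : f (orth e k) = 1 := by
    have : f (1 - orth e k) = 0 :=
      Ideal.Quotient.eq_zero_iff_mem.mpr (Ideal.mem_span_singleton_self _)
    rw [map_sub, map_one, sub_eq_zero] at this
    exact this.symm
  have hunit : IsUnit (f (e k)) := by
    refine IsUnit.of_mul_eq_one (f (∏ j ∈ Finset.univ.erase k, (1 - e j))) ?_
    rw [← map_mul]
    exact hf1
  have hf : ∀ y : Submonoid.powers (e k), IsUnit (f y) := by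
    rintro ⟨_, n, rfl⟩
    rw [map_pow]
    exact hunit.pow n
  let L : Localization.Away (e k) →ₐ[R'] (R' ⊗[R₀] A) ⧸ I :=
    IsLocalization.liftAlgHom (M := Submonoid.powers (e k)) (f := f) hf
  refine Module.Finite.of_surjective L.toLinearMap ?_
  intro z
  obtain ⟨t, rfl⟩ := Ideal.Quotient.mk_surjective z
  refine ⟨algebraMap _ _ t, ?_⟩
  change L (algebraMap _ _ t) = f t
  simp [L, IsLocalization.liftAlgHom_apply]

end PieceOrth

end Groth.Agent.Lib.Helper6.EtLoc
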