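import Mathlib
import Groth.Agent.Lib.Helper6.EtLocRing4

/-!
# Stacks 00UL for finite type algebras
-/

set_option autoImplicit false
universe u

open TensorProduct

namespace Groth.Agent.Lib.Helper6.EtLoc

theorem quasiFiniteAt_comap_of_isLocalization {R T B : Type*} [CommRing R] [CommRing T]
    [CommRing B] [Algebra R T] [Algebra T B] [Algebra R B] [IsScalarTower R T B]
    (M : Submonoid T) [IsLocalization M B] (q : Ideal B) [q.IsPrime]
    [Algebra.QuasiFiniteAt R q] :
    Algebra.QuasiFiniteAt R (q.comap (algebraMap T B)) := by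
  haveI : IsLocalization.AtPrime (Localization.AtPrime q) (q.comap (algebraMap T B)) :=
    IsLocalization.isLocalization_isLocalization_atPrime_isLocalization M _ q
  let eqv : Localization.AtPrime (q.comap (algebraMap T B)) ≃ₐ[T] Localization.AtPrime q :=
    IsLocalization.algEquiv (q.comap (algebraMap T B)).primeCompl _ _
  let g : Localization.AtPrime q →ₐ[R] Localization.AtPrime (q.comap (algebraMap T B)) :=
    (eqv.symm.restrictScalars R).toAlgHom
  have hg : Function.Surjective g := eqv.symm.surjective
  exact Algebra.QuasiFinite.of_surjective_algHom g hg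

/-- `TrivRes` gives that the residue field is generated by the base ring. -/
theorem TrivRes.closure_eq_top {R R' : Type*} [CommRing R] [CommRing R'] [Algebra R R']
    (P : Ideal R') [P.IsPrime] (hP : TrivRes R P) :
    Subfield.closure (Set.range (algebraMap R P.ResidueField)) = ⊤ := by
  rw [eq_top_iff]
  intro z _
  obtain ⟨d, hd, c, hdc⟩ := Groth.Agent.Lib.Helper6.exists_denominator P z
  obtain ⟨s, a, hs, hsa⟩ := hP c
  obtain ⟨s', a', hs', hsa'⟩ := hP d
  rw [← Ideal.algebraMap_residueField_eq_zero, map_sub, map_mul, sub_eq_zero] at hsa hsa'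
  have hd0 : algebraMap R' P.ResidueField d ≠ 0 := fun h0 =>
    hd (Ideal.algebraMap_residueField_eq_zero.mp h0)
  have hs0 : algebraMap R' P.ResidueField (algebraMap R R' s) ≠ 0 := fun h0 =>
    hs (Ideal.algebraMap_residueField_eq_zero.mp h0)
  have hs0' : algebraMap R' P.ResidueField (algebraMap R R' s') ≠ 0 := fun h0 =>
    hs' (Ideal.algebraMap_residueField_eq_zero.mp h0)
  have hmem : ∀ r : R, algebraMap R' P.ResidueField (algebraMap R R' r) ∈
      Subfield.closure (Set.range (algebraMap R P.ResidueField)) := fun r =>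
    Subfield.subset_closure ⟨r, IsScalarTower.algebraMap_apply R R' P.ResidueField r⟩
  have hz : z = (algebraMap R' P.ResidueField (algebraMap R R' a) /
      algebraMap R' P.ResidueField (algebraMap R R' s)) /
      (algebraMap R' P.ResidueField (algebraMap R R' a') /
      algebraMap R' P.ResidueField (algebraMap R R' s')) := by
    rw [← hsa, ← hsa']
    field_simp
    rw [← hdc]
  rw [hz]
  exact div_mem (div_mem (hmem _) (hmem _)) (div_mem (hmem _) (hmem _))

/-- The unique prime over `P` of the factor cut out by an idempotent. -/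
theorem existsUnique_prime_quotient {R' T : Type*} [CommRing R'] [CommRing T] [Algebra R' T]
    (P : Ideal R') (x : T) (P' : Ideal T) (hP'prime : P'.IsPrime)
    (hP'over : P'.LiesOver P) (hxP : x ∉ P') (hx : IsIdempotentElem x)
    (huniq : ∀ P'' : Ideal T, P''.IsPrime → P''.LiesOver P → x ∉ P'' → P'' = P') :
    ∃! r : Ideal (T ⧸ Ideal.span {1 - x}), r.IsPrime ∧
      r.comap (algebraMap R' (T ⧸ Ideal.span {1 - x})) = P := by
  set I : Ideal T := Ideal.span {1 - x} with hI
  have hsurj : Function.Surjective (Ideal.Quotient.mk I) := Ideal.Quotient.mk_surjective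
  have hmem : ∀ P'' : Ideal T, P''.IsPrime → x ∉ P'' → I ≤ P'' := by
    intro P'' hprime hx''
    rw [hI, Ideal.span_le, Set.singleton_subset_iff]
    have h0 : x * (1 - x) ∈ P'' := by
      rw [mul_sub, mul_one, hx.eq, sub_self]; exact zero_mem _
    exact (hprime.mem_or_mem h0).resolve_left hx''
  have hnotmem : ∀ P'' : Ideal T, P''.IsPrime → I ≤ P'' → x ∉ P'' := by
    intro P'' hprime hle hx''
    apply hprime.ne_top
    rw [Ideal.eq_top_iff_one]
    have : 1 - x ∈ P'' := hle (Ideal.mem_span_singleton_self _)
    simpa using add_mem this hx''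
  have hcomap : ∀ r : Ideal (T ⧸ I), r.comap (algebraMap R' (T ⧸ I)) =
      (r.comap (Ideal.Quotient.mk I)).comap (algebraMap R' T) := by
    intro r
    rw [Ideal.comap_comap]
    rfl
  have hIP' : I ≤ P' := hmem P' hP'prime hxP
  refine ⟨P'.map (Ideal.Quotient.mk I), ⟨?_, ?_⟩, ?_⟩
  · exact Ideal.map_isPrime_of_surjective hsurj (by rwa [Ideal.mk_ker])
  · rw [hcomap, Ideal.comap_map_of_surjective _ hsurj, ← RingHom.ker_eq_comap_bot, Ideal.mk_ker,
      sup_eq_left.mpr hIP']
    exact (hP'over.over).symm
  · rintro r ⟨hr1, hr2⟩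
    have h1 : (r.comap (Ideal.Quotient.mk I)).IsPrime := Ideal.comap_isPrime _ _
    have h2 : (r.comap (Ideal.Quotient.mk I)).LiesOver P := ⟨by rw [Ideal.under, ← hcomap, hr2]⟩
    have h3 : I ≤ r.comap (Ideal.Quotient.mk I) := by
      intro t ht
      rw [Ideal.mem_comap, Ideal.Quotient.eq_zero_iff_mem.mpr ht]
      exact zero_mem _
    have h4 := huniq _ h1 h2 (hnotmem _ h1 h3)
    rw [← h4, Ideal.map_comap_of_surjective _ hsurj]

/-- Stacks 00UL for finite type algebras. -/
theorem exists_etale_prod_decomposition (R : Type u) [CommRing R] (S : Type u) [CommRing S]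
    [Algebra R S] [Algebra.FiniteType R S] (p : Ideal R) [p.IsPrime] :
    ∃ (R' : Type u) (_ : CommRing R') (_ : Algebra R R') (_ : Algebra.Etale R R') (p' : Ideal R')
      (_ : p'.IsPrime) (_ : p'.LiesOver p) (n : ℕ) (A : Fin n → Type u) (_ : ∀ i, CommRing (A i))
      (_ : ∀ i, Algebra R' (A i)) (B : Type u) (_ : CommRing B) (_ : Algebra R' B),
      Subfield.closure (Set.range (algebraMap R p'.ResidueField)) = ⊤ ∧
      Nonempty ((R' ⊗[R] S) ≃ₐ[R'] ((∀ i, A i) × B)) ∧
        (∀ i, Module.Finite R' (A i) ∧
          ∃! r : Ideal (A i), r.IsPrime ∧ r.comap (algebraMap R' (A i)) = p') ∧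
        ∀ (q : Ideal B) [q.IsPrime], q.comap (algebraMap R' B) = p' →
          ¬ Algebra.QuasiFiniteAt R' q := by
  classical
  let Qset : Set (PrimeSpectrum S) := {q | q.asIdeal.comap (algebraMap R S) = p ∧
    Algebra.QuasiFiniteAt R q.asIdeal}
  have hQfin : Qset.Finite := finite_setOf_quasiFiniteAt_primes p
  haveI : Fintype Qset := hQfin.fintype
  let qfam : Qset → Ideal S := fun i => i.1.asIdeal
  haveI : ∀ i, (qfam i).IsPrime := fun i => i.1.isPrime
  haveI : ∀ i, (qfam i).LiesOver p := fun i => ⟨i.2.1.symm⟩
  haveI : ∀ i, Algebra.QuasiFiniteAt R (qfam i) := fun i => i.2.2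
  have hqinj : Function.Injective qfam := fun i j h => Subtype.ext (PrimeSpectrum.ext h)
  obtain ⟨R', _, _, _, P, _, _, hP, hpieces⟩ :=
    exists_family p (fun _ : Qset => S) qfam Finset.univ
  have hpieces' : ∀ i, ∃ (e : R' ⊗[R] S) (P' : Ideal (R' ⊗[R] S)), IsPiece (qfam i) P e P' :=
    fun i => hpieces i (Finset.mem_univ i)
  choose e P' h using hpieces'
  let n := Fintype.card Qset
  let σ : Fin n ≃ Qset := (Fintype.equivFin Qset).symm
  let e' : Fin n → R' ⊗[R] S := fun k => orth e (σ k)
  have hOrth : OrthogonalIdempotents e' :=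
    ⟨fun k => orth_idem (fun i => (h i).idem) (σ k),
      fun k l hkl => orth_mul_orth (fun i => (h i).idem) (σ.injective.ne hkl)⟩
  have hC := CompleteOrthogonalIdempotents.option hOrth
  let E : Option (Fin n) → R' ⊗[R] S := (Option.elim · (1 - ∑ i, e' i) e')
  let Qt : Option (Fin n) → Type u := fun o => (R' ⊗[R] S) ⧸ Ideal.span {1 - E o}
  refine ⟨R', inferInstance, inferInstance, inferInstance, P, inferInstance, inferInstance, n,
    fun k => Qt (some k), fun k => inferInstance, fun k => inferInstance, Qt none, inferInstance,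
    inferInstance, hP.closure_eq_top P, ?_, ?_, ?_⟩
  · -- the product decomposition
    let F : (R' ⊗[R] S) →ₐ[R'] ((∀ k, Qt (some k)) × Qt none) :=
      AlgHom.prod (Pi.algHom R' _ (fun k => Ideal.Quotient.mkₐ R' _)) (Ideal.Quotient.mkₐ R' _)
    have hbij := hC.bijective_pi
    refine ⟨AlgEquiv.ofBijective F ⟨?_, ?_⟩⟩
    · intro x y hxy
      apply hbij.1
      funext o
      cases o with
      | none => exact congrArg Prod.snd hxy
      | some k => exact congrFun (congrArg Prod.fst hxy) k
    · rintro ⟨a, b⟩
      obtain ⟨x, hx⟩ := hbij.2 (fun o => Option.rec (motive := Qt) b a o)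
      refine ⟨x, ?_⟩
      refine Prod.ext ?_ ?_
      · funext k
        exact congrFun hx (some k)
      · exact congrFun hx none
  · intro k
    refine ⟨orth_finite h (σ k), ?_⟩
    exact existsUnique_prime_quotient P (orth e (σ k)) (P' (σ k)) (h (σ k)).prime
      (h (σ k)).liesOver (orth_notMem_piece hqinj h (σ k)) (orth_idem (fun i => (h i).idem) (σ k))
      (fun P'' h1 h2 h3 => orth_unique h (σ k) P'' h1 h2 h3)
  · intro q _ hqP hqf
    have hEidem : IsIdempotentElem (E none) := hC.idem none
    haveI : IsLocalization.Away (E none) (Qt none) :=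
      IsLocalization.Away.quotient_of_isIdempotentElem hEidem
    haveI : Algebra.QuasiFiniteAt R' (q.comap (algebraMap (R' ⊗[R] S) (Qt none))) :=
      quasiFiniteAt_comap_of_isLocalization (Submonoid.powers (E none)) q
    set Q'' : Ideal (R' ⊗[R] S) := q.comap (algebraMap (R' ⊗[R] S) (Qt none)) with hQ''
    haveI hQP : Q''.LiesOver P := ⟨by
      rw [Ideal.under, hQ'', Ideal.comap_comap, ← IsScalarTower.algebraMap_eq]
      exact hqP.symm⟩
    have hqS : Algebra.QuasiFiniteAt R (Q''.comap
        (Algebra.TensorProduct.includeRight (R := R) (A := R') (B := S)).toRingHom) :=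
      quasiFiniteAt_of_baseChange Q''
    let qS : PrimeSpectrum S := ⟨Q''.comap
      (Algebra.TensorProduct.includeRight (R := R) (A := R') (B := S)).toRingHom, inferInstance⟩
    have hqS_p : qS.asIdeal.comap (algebraMap R S) = p := by
      change (Q''.comap _).comap (algebraMap R S) = p
      rw [Ideal.comap_comap]
      have : (Algebra.TensorProduct.includeRight (R := R) (A := R') (B := S)).toRingHom.comp
          (algebraMap R S) = (algebraMap R' (R' ⊗[R] S)).comp (algebraMap R R') := by
        ext r
        simp [Algebra.TensorProduct.algebraMap_apply, Algebra.algebraMap_eq_smul_one,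
          TensorProduct.smul_tmul]
      rw [this, ← Ideal.comap_comap]
      have h1 : Q''.comap (algebraMap R' (R' ⊗[R] S)) = P := (Q''.over_def P).symm
      rw [h1]
      exact (P.over_def p).symm
    let i : Qset := ⟨qS, hqS_p, hqS⟩
    have hQi : Q'' = P' i := by
      haveI := (h i).prime
      haveI := (h i).liesOver
      apply Ideal.eq_of_comap_eq_comap_of_bijective_residueFieldMap (hP.bijective p P)
      rw [(h i).comap_eq]
    have hEnone : E none ∉ Q'' := by
      intro hmem
      have h1 : 1 - E none ∈ Q'' := by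
        rw [hQ'', Ideal.mem_comap]
        have : algebraMap (R' ⊗[R] S) (Qt none) (1 - E none) = 0 :=
          Ideal.Quotient.eq_zero_iff_mem.mpr (Ideal.mem_span_singleton_self _)
        rw [this]
        exact zero_mem _
      have hprime : Q''.IsPrime := inferInstance
      apply hprime.ne_top
      rw [Ideal.eq_top_iff_one]
      simpa using add_mem h1 hmem
    have hmem : orth e i ∈ Q'' := by
      have h0 : E (some (σ.symm i)) * E none = 0 := hC.ortho (by simp)
      have h1 : E (some (σ.symm i)) * E none ∈ Q'' := by rw [h0]; exact zero_mem _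
      have hprime : Q''.IsPrime := inferInstance
      have h2 : E (some (σ.symm i)) ∈ Q'' := (hprime.mem_or_mem h1).resolve_right hEnone
      have h3 : E (some (σ.symm i)) = orth e i := by
        change orth e (σ (σ.symm i)) = orth e i
        rw [σ.apply_symm_apply]
      rwa [h3] at h2
    exact orth_notMem_piece hqinj h i (hQi ▸ hmem)

end Groth.Agent.Lib.Helper6.EtLoc
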