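import Mathlib
import Groth.Agent.Lib.Helper6.EtLocUnr2

set_option autoImplicit false
universe u

open CategoryTheory AlgebraicGeometry Limits

namespace Groth.Agent.Lib.Helper6.EtLoc

set_option backward.isDefEq.respectTransparency.types false in
/-- Étale localization of morphisms which are unramified at finitely many points of a fibre
(Stacks 04HH / 04HM style): after an étale base change, the points over `(x i, u)` lie in opens
`V k` which are closed immersions into `U` (isomorphisms when `f` is étale at the `x i`). -/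
theorem exists_etale_nbhd_unramified_at_points {X S : Scheme.{u}} (f : X ⟶ S) (s : S)
    {ι : Type} [Finite ι] (x : ι → ↑X) (hinj : Function.Injective x) (hs : ∀ i, f (x i) = s)
    (W : ι → X.Opens) (hxW : ∀ i, x i ∈ W i) (hlft : ∀ i, LocallyOfFiniteType ((W i).ι ≫ f))
    (hunr : ∀ i, FormallyUnramified ((W i).ι ≫ f)) :
    ∃ (U : Scheme.{u}) (g : U ⟶ S) (u : U), Etale g ∧ g u = s ∧
      ∃ (K : Type) (_ : Finite K) (lab : K → ι) (V : K → (pullback f g).Opens)
        (v : K → ↑(pullback f g)),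
        (∀ k, v k ∈ V k ∧ IsClosedImmersion ((V k).ι ≫ pullback.snd f g) ∧
          ((∀ i, Etale ((W i).ι ≫ f)) → IsIso ((V k).ι ≫ pullback.snd f g)) ∧
          pullback.snd f g (v k) = u ∧
          (∀ w, w ∈ V k → pullback.snd f g w = u → w = v k) ∧
          pullback.fst f g (v k) = x (lab k)) ∧
        Function.Injective v ∧
        (∀ (w : ↑(pullback f g)) (i : ι), pullback.snd f g w = u → pullback.fst f g w = x i →
          ∃ k, lab k = i ∧ w = v k) ∧
        (IsSeparated f → (∀ k, IsClosed (V k : Set ↑(pullback f g))) ∧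
          ∀ k k', ((V k : Set ↑(pullback f g)) ∩ V k').Nonempty → k = k') := by
  let X₀ : X.Opens := ⨆ i, W i
  haveI : LocallyOfFiniteType (X₀.ι ≫ f) := of_iSup_opens @LocallyOfFiniteType f W hlft
  haveI : FormallyUnramified (X₀.ι ≫ f) := of_iSup_opens @FormallyUnramified f W hunr
  have hxX₀ : ∀ i, x i ∈ X₀ := fun i => (le_iSup W i) (hxW i)
  let x₀ : ι → X₀.toScheme := fun i => ⟨x i, hxX₀ i⟩
  have hinj₀ : Function.Injective x₀ := fun i i' h => hinj (congrArg Subtype.val h)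
  have hs₀ : ∀ i, (X₀.ι ≫ f) (x₀ i) = s := fun i => hs i
  obtain ⟨U, g, u, hg, hu, K, hK, lab, V', v', U₀, huU₀, hV', hinjv', hex', hsep'⟩ :=
    exists_etale_nbhd_unramified_core (X₀.ι ≫ f) s x₀ hinj₀ hs₀
  let a := shrinkMap (X₀.ι ≫ f) g U₀
  let b := enlargeMap f (U₀.ι ≫ g) X₀
  have hm : ∀ k, ∃ m, a m = v' k := fun k =>
    exists_shrinkMap_eq (X₀.ι ≫ f) g U₀ (v' k) (by rw [(hV' k).2.2.2.1]; exact huU₀)
  choose m hm using hm
  haveI : Etale (U₀.ι ≫ g) := inferInstance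
  let u₀ : U₀.toScheme := ⟨u, huU₀⟩
  -- pointwise compatibilities
  have hsnd : ∀ p, pullback.snd (X₀.ι ≫ f) g (a p) = (pullback.snd f (U₀.ι ≫ g) (b p)).1 :=
    fun p => by
      rw [snd_enlargeMap_apply]
      exact snd_shrinkMap_apply (X₀.ι ≫ f) g U₀ p
  have hfst : ∀ p, (pullback.fst (X₀.ι ≫ f) g (a p)).1 = pullback.fst f (U₀.ι ≫ g) (b p) :=
    fun p => by
      rw [fst_enlargeMap_apply]
      exact congrArg Subtype.val (fst_shrinkMap_apply (X₀.ι ≫ f) g U₀ p)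
  have ha : Function.Injective a := shrinkMap_injective (X₀.ι ≫ f) g U₀
  have hb : Function.Injective b := enlargeMap_injective f (U₀.ι ≫ g) X₀
  have hmemV : ∀ k (w : ↑(pullback f (U₀.ι ≫ g))), w ∈ b ''ᵁ (a ⁻¹ᵁ V' k) ↔
      ∃ p, a p ∈ V' k ∧ b p = w := fun k w => Iff.rfl
  refine ⟨U₀.toScheme, U₀.ι ≫ g, u₀, inferInstance, hu, K, hK, lab,
    fun k => b ''ᵁ (a ⁻¹ᵁ V' k), fun k => b (m k), ?_, ?_, ?_, ?_⟩
  · intro k
    obtain ⟨hmem, hCI, hIso, hsndv, huniq, hfstv⟩ := hV' k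
    refine ⟨(hmemV k _).mpr ⟨m k, by rw [hm k]; exact hmem, rfl⟩, ?_, ?_, ?_, ?_, ?_⟩
    · exact enlarge_prop f (U₀.ι ≫ g) @IsClosedImmersion X₀ _
        (shrink_prop (X₀.ι ≫ f) g @IsClosedImmersion U₀ (V' k) hCI)
    · intro hE
      haveI : Etale (X₀.ι ≫ f) := of_iSup_opens @Etale f W hE
      have h1 := hIso inferInstance
      exact enlarge_prop f (U₀.ι ≫ g) (MorphismProperty.isomorphisms Scheme.{u}) X₀ _
        (shrink_prop (X₀.ι ≫ f) g (MorphismProperty.isomorphisms Scheme.{u}) U₀ (V' k) h1)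
    · refine Subtype.ext ?_
      rw [← hsnd, hm k, hsndv]
    · intro w hw hwu
      obtain ⟨p, hp, rfl⟩ := (hmemV k w).mp hw
      have h1 : pullback.snd (X₀.ι ≫ f) g (a p) = u := by rw [hsnd, hwu]
      have h2 := huniq (a p) hp h1
      rw [← hm k] at h2
      rw [ha h2]
    · rw [← hfst, hm k, hfstv]
  · intro k k' h
    have h1 := hb h
    exact hinjv' (by rw [← hm k, ← hm k', h1])
  · intro w i hw1 hw2
    obtain ⟨p, rfl⟩ := exists_enlargeMap_eq f (U₀.ι ≫ g) X₀ w (by rw [hw2]; exact hxX₀ i)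
    have h1 : pullback.snd (X₀.ι ≫ f) g (a p) = u := by rw [hsnd, hw1]
    have h2 : pullback.fst (X₀.ι ≫ f) g (a p) = x₀ i := Subtype.ext (by rw [hfst, hw2])
    obtain ⟨k, hk, hk'⟩ := hex' (a p) i h1 h2
    refine ⟨k, hk, ?_⟩
    rw [← hm k] at hk'
    rw [ha hk']
  · intro hf
    haveI : IsSeparated (X₀.ι ≫ f) := inferInstance
    refine ⟨fun k => ?_, fun k k' hne => ?_⟩
    · haveI : IsClosedImmersion ((b ''ᵁ (a ⁻¹ᵁ V' k)).ι ≫ pullback.snd f (U₀.ι ≫ g)) :=
        enlarge_prop f (U₀.ι ≫ g) @IsClosedImmersion X₀ _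
          (shrink_prop (X₀.ι ≫ f) g @IsClosedImmersion U₀ (V' k) (hV' k).2.1)
      haveI : IsClosedImmersion (b ''ᵁ (a ⁻¹ᵁ V' k)).ι :=
        IsClosedImmersion.of_comp _ (pullback.snd f (U₀.ι ≫ g))
      have := (b ''ᵁ (a ⁻¹ᵁ V' k)).ι.isClosedEmbedding.isClosed_range
      rwa [Scheme.Opens.range_ι] at this
    · obtain ⟨w, hw1, hw2⟩ := hne
      obtain ⟨p, hp, rfl⟩ := (hmemV k w).mp hw1
      obtain ⟨p', hp', hpp'⟩ := (hmemV k' _).mp hw2
      have := hb hpp'
      subst this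
      exact hsep' inferInstance k k' ⟨a p', hp, hp'⟩

end Groth.Agent.Lib.Helper6.EtLoc
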