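import Mathlib
import Groth.Agent.Lib.Helper6.FD7
import Groth.Agent.Lib.Helper6.BddFibCount

/-!
# Bounded rank of the ring of functions forces finiteness of a quasi-finite scheme over a field
-/

set_option autoImplicit false
universe u

open CategoryTheory AlgebraicGeometry Limits IsLocalRing Topology Opposite

namespace Groth.Agent.Lib.Helper6.FD

/-- Sections over a clopen subset extend to global sections. -/
theorem restrict_surjective_of_isClosed {X : Scheme.{u}} (W : X.Opens)
    (hW : IsClosed (W : Set X)) :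
    Function.Surjective (X.presheaf.map (homOfLE (le_top : W ≤ ⊤)).op) := by
  intro s
  let W' : X.Opens := ⟨(W : Set X)ᶜ, hW.isOpen_compl⟩
  have hinf : W ⊓ W' = ⊥ := by
    ext x
    simp [W']
  have hsup : W ⊔ W' = ⊤ := by
    ext x
    simp only [TopologicalSpace.Opens.coe_sup, TopologicalSpace.Opens.coe_top, W',
      TopologicalSpace.Opens.coe_mk, Set.union_compl_self]
  haveI : Subsingleton Γ(X, W ⊓ W') := by rw [hinf]; infer_instance
  have this : X.presheaf.map (homOfLE (inf_le_left : W ⊓ W' ≤ W)).op s =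
      X.presheaf.map (homOfLE (inf_le_right : W ⊓ W' ≤ W')).op (0 : Γ(X, W')) :=
    Subsingleton.elim _ _
  let t : Γ(X, W ⊔ W') := (X.sheaf.objSupIsoProdEqLocus W W').inv ⟨⟨s, 0⟩, this⟩
  have ht : X.presheaf.map (homOfLE (le_sup_left : W ≤ W ⊔ W')).op t = s :=
    X.sheaf.objSupIsoProdEqLocus_inv_fst W W' _
  refine ⟨X.presheaf.map (homOfLE (le_of_eq hsup.symm : ⊤ ≤ W ⊔ W')).op t, ?_⟩
  rw [← ht, ← CommRingCat.comp_apply, ← Functor.map_comp]
  rfl

theorem ι_appTop_surjective {X : Scheme.{u}} (U : X.Opens) (hU : IsClosed (U : Set X)) :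
    Function.Surjective U.ι.appTop := by
  rw [Scheme.Opens.ι_appTop]
  refine restrict_surjective_of_isClosed (U.ι ''ᵁ ⊤) ?_
  rw [Scheme.Opens.ι_image_top]
  exact hU

/-- A locally quasi-finite scheme over a field whose ring of functions has rank `≤ n` has at most
`n` points; in particular it is finite. -/
theorem finite_of_rank_le {Q : Scheme.{u}} {K : Type u} [Field K]
    (q : Q ⟶ Spec (CommRingCat.of K)) [LocallyQuasiFinite q] (n : ℕ)
    (hn : (letI := (strMap q).hom.toAlgebra; Module.rank K Γ(Q, ⊤)) ≤ (n : Cardinal.{u})) :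
    Finite Q := by
  classical
  haveI : IsLocallyArtinian Q := IsLocallyArtinian.of_locallyQuasiFinite q
  by_contra hinf
  rw [not_finite_iff_infinite] at hinf
  obtain ⟨F, hF⟩ := Infinite.exists_subset_card_eq Q (n + 1)
  let U : Q.Opens := ⟨(F : Set Q), isOpen_discrete _⟩
  have hUc : IsClosed (U : Set Q) := isClosed_discrete _
  haveI hUfin : Finite U.toScheme := F.finite_toSet.to_subtype
  haveI : CompactSpace U.toScheme := Finite.compactSpace
  haveI : QuasiCompact (U.ι ≫ q) :=
    (HasAffineProperty.iff_of_isAffine (P := @QuasiCompact)).mpr ‹CompactSpace U.toScheme›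
  haveI : IsFinite (U.ι ≫ q) := IsFinite.of_locallyQuasiFinite _
  letI A : Algebra K Γ(Q, ⊤) := (strMap q).hom.toAlgebra
  letI A₁ : Algebra K Γ(U, ⊤) := (strMap (U.ι ≫ q)).hom.toAlgebra
  have hcomp : ∀ k : K, U.ι.appTop.hom (algebraMap K Γ(Q, ⊤) k) = algebraMap K Γ(U, ⊤) k := by
    intro k
    change U.ι.appTop.hom ((strMap q).hom k) = (strMap (U.ι ≫ q)).hom k
    unfold strMap
    rw [Scheme.Hom.comp_appTop]
    rfl
  let ρ : Γ(Q, ⊤) →ₗ[K] Γ(U, ⊤) :=
    { toFun := U.ι.appTop.hom
      map_add' := map_add _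
      map_smul' := fun k x => by
        rw [Algebra.smul_def, map_mul, hcomp, ← Algebra.smul_def]
        rfl }
  have hρ : Function.Surjective ρ := ι_appTop_surjective U hUc
  have h1 : Module.rank K Γ(U, ⊤) ≤ (n : Cardinal.{u}) :=
    (LinearMap.rank_le_of_surjective ρ hρ).trans hn
  have h2 : Module.finrank K Γ(U, ⊤) ≤ n := Module.finrank_le_of_rank_le h1
  haveI : Module.Finite K Γ(U, ⊤) := module_finite_Γ (U.ι ≫ q)
  obtain ⟨h3, h4⟩ := BddFibLib.card_primeSpectrum_le_finrank K Γ(U, ⊤)
  haveI : IsAffine U.toScheme := isAffine_of_isAffineHom (U.ι ≫ q)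
  let e : U.toScheme ≃ PrimeSpectrum Γ(U, ⊤) := (Scheme.homeoOfIso U.toScheme.isoSpec).toEquiv
  have h5 : Nat.card U.toScheme = n + 1 := by
    change Nat.card ((F : Set Q)) = n + 1
    rw [Nat.card_coe_set_eq, Set.ncard_coe_finset, hF]
  rw [Nat.card_congr e] at h5
  omega

theorem of_rank_le {X S : Scheme.{u}} (f : X ⟶ S) [LocallyQuasiFinite f] (n : ℕ)
    (hn : ∀ (K : Type u) [Field K] (g : Spec (CommRingCat.of K) ⟶ S),
      (letI := ((Scheme.ΓSpecIso (CommRingCat.of K)).inv ≫ (pullback.snd f g).appTop).hom.toAlgebra;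
        Module.rank K (Γ(pullback f g, ⊤) : Type u)) ≤ (n : Cardinal.{u})) :
    (∀ s : S, (f ⁻¹' {s}).Finite) ∧ FinFib f ∧ ∀ s, fdeg f s ≤ n := by
  have key : ∀ s : S, Finite (f.fiber s) ∧ IsFinite (f.fiberToSpecResidueField s) ∧
      fdeg f s ≤ n := by
    intro s
    have h0 := hn (S.residueField s) (S.fromSpecResidueField s)
    haveI hQ : Finite ↑(pullback f (S.fromSpecResidueField s)) :=
      finite_of_rank_le (K := S.residueField s) (pullback.snd f (S.fromSpecResidueField s)) n h0
    haveI : CompactSpace ↑(pullback f (S.fromSpecResidueField s)) := Finite.compactSpace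
    haveI : QuasiCompact (pullback.snd f (S.fromSpecResidueField s)) :=
      (HasAffineProperty.iff_of_isAffine (P := @QuasiCompact)).mpr
        ‹CompactSpace ↑(pullback f (S.fromSpecResidueField s))›
    haveI hfinite : IsFinite (pullback.snd f (S.fromSpecResidueField s)) :=
      IsFinite.of_locallyQuasiFinite _
    refine ⟨hQ, hfinite, ?_⟩
    unfold fdeg
    change (pullback.snd f (S.fromSpecResidueField s)).finrank _ ≤ n
    rw [finrank_eq_finrank_Γ (K := S.residueField s)]
    letI : Algebra (S.residueField s) Γ(pullback f (S.fromSpecResidueField s), ⊤) :=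
      (strMap (K := S.residueField s) (pullback.snd f (S.fromSpecResidueField s))).hom.toAlgebra
    exact Module.finrank_le_of_rank_le h0
  refine ⟨fun s => ?_, fun s => (key s).2.1, fun s => (key s).2.2⟩
  haveI := (key s).1
  haveI : Finite (f ⁻¹' {s}) := Finite.of_equiv _ (f.fiberHomeo s).toEquiv
  exact Set.toFinite _

end Groth.Agent.Lib.Helper6.FD
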