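import Mathlib
import Groth.Agent.Lib.Helper6.FD8

/-!
# Finite open subschemes of a locally quasi-finite scheme over a field
-/

set_option autoImplicit false
universe u

open CategoryTheory AlgebraicGeometry Limits IsLocalRing Topology Opposite

namespace Groth.Agent.Lib.Helper6.FD

/-- Finite open subschemes of a locally quasi-finite scheme over a field. -/
theorem finiteOpen {Q : Scheme.{u}} {K : Type u} [Field K]
    (q : Q ⟶ Spec (CommRingCat.of K)) [LocallyQuasiFinite q] (U : Q.Opens) [hU : Finite U]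
    (pt : Spec (CommRingCat.of K)) :
    IsFinite (U.ι ≫ q) ∧
      ((U.ι ≫ q).finrank pt : Cardinal.{u}) ≤
        (letI := (strMap q).hom.toAlgebra; Module.rank K Γ(Q, ⊤)) ∧
      Nat.card U ≤ (U.ι ≫ q).finrank pt := by
  classical
  haveI : IsLocallyArtinian Q := IsLocallyArtinian.of_locallyQuasiFinite q
  have hUc : IsClosed (U : Set Q) := isClosed_discrete _
  haveI hUfin : Finite U.toScheme := hU
  haveI : CompactSpace U.toScheme := Finite.compactSpace
  haveI : QuasiCompact (U.ι ≫ q) :=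
    (HasAffineProperty.iff_of_isAffine (P := @QuasiCompact)).mpr ‹CompactSpace U.toScheme›
  haveI hfinite : IsFinite (U.ι ≫ q) := IsFinite.of_locallyQuasiFinite _
  letI A : Algebra K Γ(Q, ⊤) := (strMap q).hom.toAlgebra
  letI A₁ : Algebra K Γ(U, ⊤) := (strMap (U.ι ≫ q)).hom.toAlgebra
  have hcomp : ∀ k : K, U.ι.appTop.hom (algebraMap K Γ(Q, ⊤) k) = algebraMap K Γ(U, ⊤) k := by
    intro k
    change U.ι.appTop.hom ((strMap q).hom k) = (strMap (U.ι ≫ q)).hom k
    unfold strMap
    rw [Scheme.Hom.comp_appTop]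
    rfl
  let ρ : Γ(Q, ⊤) →ₗ[K] Γ(U, ⊤) :=
    { toFun := U.ι.appTop.hom
      map_add' := map_add _
      map_smul' := fun k x => by
        rw [Algebra.smul_def, map_mul, hcomp, ← Algebra.smul_def]
        rfl }
  have hρ : Function.Surjective ρ := ι_appTop_surjective U hUc
  have h1 : Module.rank K Γ(U, ⊤) ≤ Module.rank K Γ(Q, ⊤) :=
    LinearMap.rank_le_of_surjective ρ hρ
  haveI : Module.Finite K Γ(U, ⊤) := module_finite_Γ (U.ι ≫ q)
  refine ⟨hfinite, ?_, ?_⟩
  · rw [finrank_eq_finrank_Γ (U.ι ≫ q) pt]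
    change (Module.finrank K Γ(U, ⊤) : Cardinal.{u}) ≤ Module.rank K Γ(Q, ⊤)
    rw [Module.finrank_eq_rank]
    exact h1
  · rw [finrank_eq_finrank_Γ (U.ι ≫ q) pt]
    change Nat.card U ≤ Module.finrank K Γ(U, ⊤)
    obtain ⟨h3, h4⟩ := BddFibLib.card_primeSpectrum_le_finrank K Γ(U, ⊤)
    haveI : IsAffine U.toScheme := isAffine_of_isAffineHom (U.ι ≫ q)
    let e : U.toScheme ≃ PrimeSpectrum Γ(U, ⊤) := (Scheme.homeoOfIso U.toScheme.isoSpec).toEquiv
    have h5 : Nat.card U = Nat.card (PrimeSpectrum Γ(U, ⊤)) := Nat.card_congr e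
    rw [h5]
    exact h4

/-- The same for finite open immersions. -/
theorem finiteOpenImm {Q U : Scheme.{u}} {K : Type u} [Field K]
    (q : Q ⟶ Spec (CommRingCat.of K)) [LocallyQuasiFinite q] (j : U ⟶ Q) [IsOpenImmersion j]
    [Finite U] (pt : Spec (CommRingCat.of K)) :
    IsFinite (j ≫ q) ∧
      ((j ≫ q).finrank pt : Cardinal.{u}) ≤
        (letI := (strMap q).hom.toAlgebra; Module.rank K Γ(Q, ⊤)) := by
  haveI : Finite j.opensRange := by
    change Finite (Set.range j)
    exact (Set.finite_range _).to_subtype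
  obtain ⟨h1, h2, -⟩ := finiteOpen q j.opensRange pt
  have hj : j ≫ q = j.isoOpensRange.hom ≫ (j.opensRange.ι ≫ q) := by
    rw [← Category.assoc, Scheme.Hom.isoOpensRange_hom_ι]
  haveI := h1
  constructor
  · rw [hj]; infer_instance
  · rw [hj, Scheme.Hom.finrank_comp_left_of_isIso]
    exact h2

/-- Monotonicity of the rank of finite opens. -/
theorem finrank_mono {Q : Scheme.{u}} {K : Type u} [Field K]
    (q : Q ⟶ Spec (CommRingCat.of K)) [LocallyQuasiFinite q] {U U' : Q.Opens} (h : U ≤ U')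
    [hU' : Finite U'] (pt : Spec (CommRingCat.of K)) :
    (U.ι ≫ q).finrank pt ≤ (U'.ι ≫ q).finrank pt := by
  haveI : Finite U := by
    have h1 : (U' : Set Q).Finite := Set.finite_coe_iff.mp hU'
    have h2 : (U : Set Q).Finite := h1.subset h
    exact Set.finite_coe_iff.mpr h2
  obtain ⟨hfin', -, -⟩ := finiteOpen q U' pt
  haveI := hfin'
  haveI : Finite U.toScheme := ‹Finite U›
  obtain ⟨-, h2⟩ := finiteOpenImm (U'.ι ≫ q) (Q.homOfLE h) pt
  have h3 : Q.homOfLE h ≫ U'.ι ≫ q = U.ι ≫ q := by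
    rw [← Category.assoc, Scheme.homOfLE_ι]
  rw [h3] at h2
  letI A₁ : Algebra K Γ(U', ⊤) := (strMap (U'.ι ≫ q)).hom.toAlgebra
  haveI : Module.Finite K Γ(U', ⊤) := module_finite_Γ (U'.ι ≫ q)
  have h4 : ((U.ι ≫ q).finrank pt : Cardinal.{u}) ≤ Module.rank K Γ(U', ⊤) := h2
  rw [← Module.finrank_eq_rank] at h4
  rw [finrank_eq_finrank_Γ (U'.ι ≫ q) pt]
  exact_mod_cast h4

/-- The rank of the ring of functions is at least `d` iff some finite open has rank at
least `d`. -/
theorem le_rank_iff {Q : Scheme.{u}} {K : Type u} [Field K]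
    (q : Q ⟶ Spec (CommRingCat.of K)) [LocallyQuasiFinite q] (d : ℕ)
    (pt : Spec (CommRingCat.of K)) :
    (d : Cardinal.{u}) ≤ (letI := (strMap q).hom.toAlgebra; Module.rank K Γ(Q, ⊤)) ↔
      ∃ U : Q.Opens, Finite U ∧ d ≤ (U.ι ≫ q).finrank pt := by
  classical
  haveI : IsLocallyArtinian Q := IsLocallyArtinian.of_locallyQuasiFinite q
  constructor
  · intro hd
    by_cases hQ : Finite Q
    · haveI : Finite (⊤ : Q.Opens) := Finite.of_injective (fun x : (⊤ : Q.Opens) => x.1)
        Subtype.val_injective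
      refine ⟨⊤, inferInstance, ?_⟩
      haveI : CompactSpace Q := Finite.compactSpace
      haveI : QuasiCompact q :=
        (HasAffineProperty.iff_of_isAffine (P := @QuasiCompact)).mpr ‹CompactSpace Q›
      haveI : IsFinite q := IsFinite.of_locallyQuasiFinite _
      have h1 : ((⊤ : Q.Opens).ι ≫ q).finrank pt = q.finrank pt := by
        haveI : IsIso (⊤ : Q.Opens).ι := inferInstanceAs (IsIso Q.topIso.hom)
        rw [Scheme.Hom.finrank_comp_left_of_isIso]
      rw [h1, finrank_eq_finrank_Γ q pt]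
      letI A : Algebra K Γ(Q, ⊤) := (strMap q).hom.toAlgebra
      haveI : Module.Finite K Γ(Q, ⊤) := module_finite_Γ q
      have h2 : (d : Cardinal.{u}) ≤ Module.rank K Γ(Q, ⊤) := hd
      rw [← Module.finrank_eq_rank] at h2
      exact_mod_cast h2
    · rw [not_finite_iff_infinite] at hQ
      obtain ⟨F, hF⟩ := Infinite.exists_subset_card_eq Q d
      let U : Q.Opens := ⟨(F : Set Q), isOpen_discrete _⟩
      haveI hUfin : Finite U := F.finite_toSet.to_subtype
      refine ⟨U, hUfin, ?_⟩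
      obtain ⟨-, -, h3⟩ := finiteOpen q U pt
      have h5 : Nat.card U = d := by
        change Nat.card ((F : Set Q)) = d
        rw [Nat.card_coe_set_eq, Set.ncard_coe_finset, hF]
      rw [h5] at h3
      exact h3
  · rintro ⟨U, hU, hd⟩
    haveI := hU
    obtain ⟨-, h2, -⟩ := finiteOpen q U pt
    refine le_trans ?_ h2
    exact_mod_cast hd

end Groth.Agent.Lib.Helper6.FD
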