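import Mathlib
import Groth.Agent.Lib.Helper6.FD9

/-!
# The fibre degree of a non-quasi-compact flat quasi-finite morphism via quasi-compact opens
-/

set_option autoImplicit false
universe u

open CategoryTheory AlgebraicGeometry Limits IsLocalRing Topology Opposite

namespace Groth.Agent.Lib.Helper6.FD

theorem FinFib.of_finite_fibres {X S : Scheme.{u}} (f : X ⟶ S) [LocallyQuasiFinite f]
    (hfin : ∀ s : S, (f ⁻¹' {s}).Finite) : FinFib f := by
  intro s
  haveI : Finite (f.fiber s) := by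
    haveI : Finite (f ⁻¹' {s}) := (hfin s).to_subtype
    exact Finite.of_equiv _ (f.fiberHomeo s).toEquiv.symm
  haveI : CompactSpace (f.fiber s) := Finite.compactSpace
  haveI : QuasiCompact (f.fiberToSpecResidueField s) :=
    (HasAffineProperty.iff_of_isAffine (P := @QuasiCompact)).mpr ‹CompactSpace (f.fiber s)›
  haveI : LocallyQuasiFinite (f.fiberToSpecResidueField s) :=
    inferInstanceAs (LocallyQuasiFinite (pullback.snd f (S.fromSpecResidueField s)))
  exact IsFinite.of_locallyQuasiFinite _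

/-- An affine open mapping into an affine open has finite fibres. -/
theorem finite_inter_of_affine {X S : Scheme.{u}} (f : X ⟶ S) [LocallyQuasiFinite f]
    (A : X.Opens) (hA : IsAffineOpen A) (S₀ : S.Opens) (hS₀ : IsAffineOpen S₀)
    (hle : A ≤ f ⁻¹ᵁ S₀) (s : S) : ((A : Set X) ∩ f ⁻¹' {s}).Finite := by
  haveI : IsAffine A.toScheme := hA
  haveI : IsAffine S₀.toScheme := hS₀
  haveI : QuasiCompact (f.resLE S₀ A hle) :=
    (HasAffineProperty.iff_of_isAffine (P := @QuasiCompact)).mpr inferInstance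
  have hcomp : f.resLE S₀ A hle ≫ S₀.ι = A.ι ≫ f := Scheme.Hom.resLE_comp_ι f hle
  by_cases hs : s ∈ S₀
  · have h1 := (f.resLE S₀ A hle).finite_preimage_singleton ⟨s, hs⟩
    refine (h1.image A.ι).subset ?_
    rintro x ⟨hxA, hxs⟩
    refine ⟨⟨x, hxA⟩, ?_, rfl⟩
    apply S₀.ι.isOpenEmbedding.injective
    change (f.resLE S₀ A hle ≫ S₀.ι) ⟨x, hxA⟩ = s
    rw [hcomp]
    exact hxs
  · convert Set.finite_empty
    rw [Set.eq_empty_iff_forall_notMem]
    rintro x ⟨hxA, hxs⟩
    apply hs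
    have := hle hxA
    change f x ∈ S₀ at this
    rwa [hxs] at this

/-- A finite set of points lies in an open whose map to the base has finite fibres. -/
theorem exists_opens_finite_fibres {X S : Scheme.{u}} (f : X ⟶ S) [LocallyQuasiFinite f]
    (F : Set X) (hF : F.Finite) :
    ∃ X' : X.Opens, F ⊆ X' ∧ ∀ s : S, ((X'.ι ≫ f) ⁻¹' {s}).Finite := by
  classical
  have H : ∀ x : X, ∃ A : X.Opens, x ∈ A ∧ ∀ s : S, ((A : Set X) ∩ f ⁻¹' {s}).Finite := by
    intro x
    obtain ⟨S₀, hS₀, hxS₀, -⟩ := Wt.exists_isAffineOpen_mem_and_subset' (v := f x) isOpen_univ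
      (Set.mem_univ _)
    obtain ⟨A, hA, hxA, hAsub⟩ := Wt.exists_isAffineOpen_mem_and_subset' (v := x)
      (f ⁻¹ᵁ S₀).isOpen hxS₀
    exact ⟨A, hxA, fun s => finite_inter_of_affine f A hA S₀ hS₀ hAsub s⟩
  choose A hxA hAfin using H
  haveI : Finite F := hF.to_subtype
  refine ⟨⨆ x : F, A x.1, ?_, fun s => ?_⟩
  · intro x hx
    exact (le_iSup (fun x : F => A x.1) ⟨x, hx⟩) (hxA x)
  · have h1 : (((⨆ x : F, A x.1 : X.Opens) : Set X) ∩ f ⁻¹' {s}).Finite := by
      have : ((⨆ x : F, A x.1 : X.Opens) : Set X) ∩ f ⁻¹' {s} =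
          ⋃ x : F, ((A x.1 : Set X) ∩ f ⁻¹' {s}) := by
        rw [TopologicalSpace.Opens.coe_iSup, Set.iUnion_inter]
      rw [this]
      exact Set.finite_iUnion fun x => hAfin x.1 s
    have h2 : ((⨆ x : F, A x.1 : X.Opens).ι ≫ f) ⁻¹' {s} =
        (⨆ x : F, A x.1 : X.Opens).ι ⁻¹'
          (((⨆ x : F, A x.1 : X.Opens) : Set X) ∩ f ⁻¹' {s}) := by
      ext a
      simp only [Set.mem_preimage, Set.mem_singleton_iff, Set.mem_inter_iff, SetLike.mem_coe,
        Scheme.Hom.comp_apply]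
      constructor
      · intro h
        exact ⟨a.2, h⟩
      · exact fun h => h.2
    rw [h2]
    exact h1.preimage (Scheme.Hom.isOpenEmbedding _).injective.injOn

/-- The part of the fibre over a field point lying in an open with finite fibres. -/
theorem fieldPt_opens {X S : Scheme.{u}} (f : X ⟶ S) [Flat f] [LocallyQuasiFinite f]
    {K : Type u} [Field K] (g : Spec (CommRingCat.of K) ⟶ S) (X' : X.Opens)
    (hFib' : FinFib (X'.ι ≫ f)) (pt : Spec (CommRingCat.of K)) :
    IsFinite (((pullback.fst f g) ⁻¹ᵁ X').ι ≫ pullback.snd f g) ∧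
      Finite ((pullback.fst f g) ⁻¹ᵁ X' : (pullback f g).Opens) ∧
      (((pullback.fst f g) ⁻¹ᵁ X').ι ≫ pullback.snd f g).finrank pt =
        fdeg (X'.ι ≫ f) (g pt) := by
  have hsq := Wt.isPullback_opens (IsPullback.of_hasPullback f g) X'
  haveI h0 : IsFinite (pullback.snd (X'.ι ≫ f) g) := hFib'.isFinite_snd g
  have h1 : ((pullback.fst f g) ⁻¹ᵁ X').ι ≫ pullback.snd f g =
      hsq.isoPullback.hom ≫ pullback.snd (X'.ι ≫ f) g := by
    rw [IsPullback.isoPullback_hom_snd]
  haveI hfinite : IsFinite (((pullback.fst f g) ⁻¹ᵁ X').ι ≫ pullback.snd f g) := by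
    rw [h1]; infer_instance
  refine ⟨hfinite, ?_, ?_⟩
  · have h2 := (((pullback.fst f g) ⁻¹ᵁ X').ι ≫ pullback.snd f g).finite_preimage_singleton pt
    have h3 : ((((pullback.fst f g) ⁻¹ᵁ X').ι ≫ pullback.snd f g) ⁻¹' {pt}) = Set.univ := by
      rw [Set.eq_univ_iff_forall]
      intro x
      exact Subsingleton.elim _ _
    rw [h3] at h2
    exact Set.finite_univ_iff.mp h2
  · rw [← fdeg_of_isPullback hFib' hsq pt, fdeg_eq_finrank]

/-- The set of points over which some open with finite fibres has degree `≥ d`. -/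
def Udeg {X S : Scheme.{u}} (f : X ⟶ S) (d : ℕ) : Set S :=
  {s | ∃ X' : X.Opens, (∀ s' : S, ((X'.ι ≫ f) ⁻¹' {s'}).Finite) ∧ d ≤ fdeg (X'.ι ≫ f) s}

theorem isOpen_Udeg {X S : Scheme.{u}} (f : X ⟶ S) [Flat f] [LocallyOfFinitePresentation f]
    [IsSeparated f] [LocallyQuasiFinite f] (d : ℕ) : IsOpen (Udeg f d) := by
  have : Udeg f d = ⋃ (X' : X.Opens) (_ : ∀ s' : S, ((X'.ι ≫ f) ⁻¹' {s'}).Finite),
      {s | d ≤ fdeg (X'.ι ≫ f) s} := by
    ext s
    simp only [Udeg, Set.mem_ofPred_eq, Set.mem_iUnion, exists_prop]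
  rw [this]
  refine isOpen_iUnion fun X' => isOpen_iUnion fun hfin' => ?_
  cases d with
  | zero =>
    convert isOpen_univ
    rw [Set.eq_univ_iff_forall]
    intro s
    exact Nat.zero_le _
  | succ d' =>
    have hcl := isClosed_fdeg_le (X'.ι ≫ f) hfin' (FinFib.of_finite_fibres _ hfin') d'
    convert hcl.isOpen_compl using 1
    ext s
    simp only [Set.mem_ofPred_eq, Set.mem_compl_iff, not_le]
    exact Nat.succ_le_iff

theorem mem_Udeg_iff {X S : Scheme.{u}} (f : X ⟶ S) [Flat f] [LocallyQuasiFinite f]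
    {K : Type u} [Field K] (g : Spec (CommRingCat.of K) ⟶ S) (d : ℕ)
    (pt : Spec (CommRingCat.of K)) :
    g pt ∈ Udeg f d ↔ (d : Cardinal.{u}) ≤
      (letI := (strMap (pullback.snd f g)).hom.toAlgebra; Module.rank K Γ(pullback f g, ⊤)) := by
  constructor
  · rintro ⟨X', hfin', hd⟩
    have hFib' := FinFib.of_finite_fibres _ hfin'
    obtain ⟨h1, h2, h3⟩ := fieldPt_opens f g X' hFib' pt
    rw [le_rank_iff (pullback.snd f g) d pt]
    exact ⟨_, h2, by rw [h3]; exact hd⟩
  · intro hd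
    rw [le_rank_iff (pullback.snd f g) d pt] at hd
    obtain ⟨U, hU, hdU⟩ := hd
    have hF : ((pullback.fst f g) '' (U : Set ↑(pullback f g))).Finite :=
      (Set.finite_coe_iff.mp hU).image _
    obtain ⟨X', hFX', hfin'⟩ := exists_opens_finite_fibres f _ hF
    have hFib' := FinFib.of_finite_fibres _ hfin'
    obtain ⟨h1, h2, h3⟩ := fieldPt_opens f g X' hFib' pt
    have hle : U ≤ (pullback.fst f g) ⁻¹ᵁ X' := fun x hx => hFX' ⟨x, hx, rfl⟩
    haveI := h2
    have h4 := finrank_mono (pullback.snd f g) hle pt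
    refine ⟨X', hfin', ?_⟩
    rw [← h3]
    exact hdU.trans h4

end Groth.Agent.Lib.Helper6.FD
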