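import Groth.Agent.Lib.Helper6.FTPointsMap
import Groth.Agent.Lib.Helper6.ArtinianFiniteType

set_option autoImplicit false
universe u

open AlgebraicGeometry CategoryTheory

namespace Groth.Agent.Lib.Helper6

theorem locallyOfFiniteType_from_artinian_local_iff (S : Scheme.{u}) (A : Type u) [CommRing A]
    [IsArtinianRing A] [IsLocalRing A] (f : Spec (CommRingCat.of A) ⟶ S) :
    LocallyOfFiniteType f ↔
      LocallyOfFiniteType (Spec.map (CommRingCat.ofHom (IsLocalRing.residue A)) ≫ f) := by
  have hres : LocallyOfFiniteType (Spec.map (CommRingCat.ofHom (IsLocalRing.residue A))) := by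
    rw [HasRingHomProperty.Spec_iff (P := @LocallyOfFiniteType)]
    exact RingHom.FiniteType.of_surjective _ IsLocalRing.residue_surjective
  constructor
  · intro hf
    infer_instance
  · intro hg
    let z : Spec (CommRingCat.of A) := IsLocalRing.closedPoint A
    have hz : ∀ z' : Spec (CommRingCat.of A), z' = z := by
      intro z'
      apply PrimeSpectrum.ext
      have : z'.asIdeal.IsMaximal := IsArtinianRing.isMaximal_of_isPrime z'.asIdeal
      exact IsLocalRing.eq_maximalIdeal this
    obtain ⟨V, hV, hzV, -⟩ := exists_isAffineOpen_mem_and_subset (x := f z) (U := ⊤) trivial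
    have hrange : Set.range f ⊆ Set.range hV.fromSpec := by
      rintro _ ⟨z', rfl⟩
      rw [hV.range_fromSpec, hz z']
      exact hzV
    let f' : Spec (CommRingCat.of A) ⟶ Spec Γ(S, V) := IsOpenImmersion.lift hV.fromSpec f hrange
    have hf' : f' ≫ hV.fromSpec = f := IsOpenImmersion.lift_fac _ _ _
    obtain ⟨ψ, hψ⟩ := Spec.map_surjective f'
    have h1 : LocallyOfFiniteType
        (Spec.map (ψ ≫ CommRingCat.ofHom (IsLocalRing.residue A)) ≫ hV.fromSpec) := by
      rw [Spec.map_comp, Category.assoc, hψ, hf']
      exact hg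
    have h2 : LocallyOfFiniteType (Spec.map (ψ ≫ CommRingCat.ofHom (IsLocalRing.residue A))) :=
      locallyOfFiniteType_of_comp _ hV.fromSpec
    have h3 : (ψ ≫ CommRingCat.ofHom (IsLocalRing.residue A)).hom.FiniteType :=
      (HasRingHomProperty.Spec_iff (P := @LocallyOfFiniteType)).mp h2
    have h4 : ψ.hom.FiniteType := finiteType_of_residue_comp ψ.hom h3
    have h5 : LocallyOfFiniteType (Spec.map ψ) :=
      (HasRingHomProperty.Spec_iff (P := @LocallyOfFiniteType)).mpr h4
    rw [← hf', ← hψ]
    infer_instance

end Groth.Agent.Lib.Helper6
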