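import Mathlib.RingTheory.Jacobson.Ring
import Mathlib.RingTheory.Localization.Integral
import Mathlib.RingTheory.Localization.Away.Basic
import Mathlib.RingTheory.IntegralClosure.IsIntegralClosure.Basic
import Mathlib.RingTheory.FiniteType
import Mathlib.RingTheory.LocalRing.ResidueField.Ideal
import Mathlib.RingTheory.RingHom.FiniteType
import Mathlib.Tactic.FieldSimp

/-!
# Ring lemmas for finite type points

* `exists_ne_zero_forall_exists_mul_eq_pow` (Stacks 00FY-type): a domain `A` inside a field `k`
  of finite type over `A`: some `A[1/g]` is a field.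
* `finiteType_residueField_of_ker`: `φ : R → k` finite type, `k` a field, `p = ker φ`
  ⇒ `κ(p)` finite type over `R`.
-/

set_option autoImplicit false
set_option linter.unusedSectionVars false

namespace Groth.Agent.Lib.Helper6

section LemmaZ
variable {A F k : Type*} [CommRing A] [IsDomain A] [Field F] [Algebra A F] [IsFractionRing A F]
  [Field k] [Algebra A k] [Algebra F k] [IsScalarTower A F k]

theorem finite_of_finiteType_fractionRing [Algebra.FiniteType A k] : Module.Finite F k := by
  have : Algebra.FiniteType F k := Algebra.FiniteType.of_restrictScalars_finiteType A F k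
  exact finite_of_finite_type_of_isJacobsonRing F k

theorem exists_common_multiple_integral [Algebra.IsIntegral F k] (s : Finset k) :
    ∃ g : A, g ≠ 0 ∧ ∀ x ∈ s, IsIntegral A (g • x) := by
  classical
  induction s using Finset.induction_on with
  | empty => exact ⟨1, one_ne_zero, by simp⟩
  | insert x s _ ih =>
    obtain ⟨g, hg, hs⟩ := ih
    obtain ⟨m, hm⟩ := IsIntegral.exists_multiple_integral_of_isLocalization (nonZeroDivisors A)
      (Rₘ := F) x (Algebra.IsIntegral.isIntegral x)
    refine ⟨m.1 * g, mul_ne_zero (nonZeroDivisors.coe_ne_zero m) hg, ?_⟩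
    intro y hy
    rcases Finset.mem_insert.mp hy with rfl | hy
    · have : (m.1 * g) • y = g • (m • y) := by
        rw [mul_comm, mul_smul]; rfl
      rw [this]
      exact IsIntegral.smul g hm
    · rw [mul_smul]
      exact IsIntegral.smul m.1 (hs y hy)

/-- Stacks 00FY-type lemma: a domain `A` inside a field `k` of finite type over `A`:
some `A[1/g]` is a field. -/
theorem exists_ne_zero_forall_exists_mul_eq_pow (A F k : Type*) [CommRing A] [IsDomain A]
    [Field F] [Algebra A F] [IsFractionRing A F] [Field k] [Algebra A k] [Algebra F k]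
    [IsScalarTower A F k] [Algebra.FiniteType A k] :
    ∃ g : A, g ≠ 0 ∧ ∀ y : A, y ≠ 0 → ∃ (a : A) (m : ℕ), y * a = g ^ m := by
  have hfin : Module.Finite F k := finite_of_finiteType_fractionRing (A := A)
  have hint : Algebra.IsIntegral F k := inferInstance
  obtain ⟨s, hs⟩ := (‹Algebra.FiniteType A k›).out
  obtain ⟨g, hg0, hg⟩ := exists_common_multiple_integral (A := A) (F := F) s
  refine ⟨g, hg0, ?_⟩
  have hinjAk : Function.Injective (algebraMap A k) := by
    rw [IsScalarTower.algebraMap_eq A F k]
    exact (algebraMap F k).injective.comp (IsFractionRing.injective A F)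
  have hgk : IsUnit (algebraMap A k g) :=
    isUnit_iff_ne_zero.mpr ((map_ne_zero_iff _ hinjAk).mpr hg0)
  let Ag := Localization.Away g
  let φ : Ag →+* k := IsLocalization.Away.lift g hgk
  let _ : Algebra Ag k := φ.toAlgebra
  have : IsScalarTower A Ag k := IsScalarTower.of_algebraMap_eq (fun x => by
    change _ = φ (algebraMap A Ag x)
    rw [IsLocalization.Away.lift_eq])
  have hpow : Submonoid.powers g ≤ nonZeroDivisors A :=
    Submonoid.powers_le.mpr (mem_nonZeroDivisors_of_ne_zero hg0)
  have hinjAg : Function.Injective (algebraMap A Ag) := IsLocalization.injective Ag hpow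
  have : IsDomain Ag := IsLocalization.isDomain_localization hpow
  have hinjφ : Function.Injective (algebraMap Ag k) := by
    change Function.Injective φ
    rw [injective_iff_map_eq_zero]
    intro z hz
    obtain ⟨a, b, rfl⟩ := IsLocalization.exists_mk'_eq (Submonoid.powers g) z
    have h1 := congrArg φ (IsLocalization.mk'_spec Ag a b)
    rw [map_mul, hz, zero_mul] at h1
    have h2 : φ (algebraMap A Ag a) = algebraMap A k a := IsLocalization.Away.lift_eq g hgk a
    rw [h2] at h1
    have h3 : a = 0 := hinjAk (by rw [← h1, map_zero])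
    rw [h3, IsLocalization.mk'_zero]
  -- `k` is integral over `Ag`
  have hintAg : Algebra.IsIntegral Ag k := by
    have h1 : ∀ x ∈ (s : Set k), IsIntegral Ag x := by
      intro x hx
      have h2 : IsIntegral Ag (g • x) := (hg x hx).tower_top
      have h3 : x = algebraMap Ag k (IsLocalization.Away.invSelf g) * (g • x) := by
        rw [Algebra.smul_def, IsScalarTower.algebraMap_apply A Ag k, ← mul_assoc, ← map_mul,
          mul_comm (IsLocalization.Away.invSelf g), IsLocalization.Away.mul_invSelf, map_one,
          one_mul]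
      rw [h3]
      exact IsIntegral.mul isIntegral_algebraMap h2
    have h4 : Algebra.adjoin Ag (s : Set k) = ⊤ := by
      apply top_unique
      have : (Algebra.adjoin A (s : Set k)) ≤ (Algebra.adjoin Ag (s : Set k)).restrictScalars A :=
        Algebra.adjoin_le (fun x hx => Algebra.subset_adjoin hx)
      rw [hs] at this
      intro x _
      exact this (Algebra.mem_top)
    have h5 := Algebra.IsIntegral.adjoin h1
    rw [h4] at h5
    exact (Subalgebra.topEquiv (R := Ag) (A := k)).isIntegral_iff.mp h5
  have hfield : IsField Ag := isField_of_isIntegral_of_isField hinjφ (Field.toIsField k)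
  intro y hy
  have hy' : algebraMap A Ag y ≠ 0 := (map_ne_zero_iff _ hinjAg).mpr hy
  obtain ⟨z, hz⟩ := hfield.mul_inv_cancel hy'
  obtain ⟨a, b, rfl⟩ := IsLocalization.exists_mk'_eq (Submonoid.powers g) z
  obtain ⟨m, hm⟩ := b.2
  refine ⟨a, m, ?_⟩
  apply hinjAg
  have h6 : algebraMap A Ag y * IsLocalization.mk' Ag a b = 1 := hz
  rw [IsLocalization.mul_mk'_eq_mk'_of_mul, IsLocalization.mk'_eq_iff_eq_mul, one_mul] at h6
  rw [h6, ← hm]

end LemmaZ

end Groth.Agent.Lib.Helper6

namespace Groth.Agent.Lib.Helper6

/-- abstract form. -/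
theorem finiteType_residueField_aux {R k : Type*} [CommRing R] [Field k] (p : Ideal R) [p.IsPrime]
    [Algebra R k] [Algebra (R ⧸ p) k] [Algebra p.ResidueField k] [IsScalarTower R (R ⧸ p) k]
    [IsScalarTower (R ⧸ p) p.ResidueField k] [Algebra.FiniteType R k] :
    (algebraMap R p.ResidueField).FiniteType := by
  have hAk : Algebra.FiniteType (R ⧸ p) k :=
    Algebra.FiniteType.of_restrictScalars_finiteType R (R ⧸ p) k
  obtain ⟨g, hg0, hg⟩ := exists_ne_zero_forall_exists_mul_eq_pow (R ⧸ p) p.ResidueField k
  have hinj : Function.Injective (algebraMap (R ⧸ p) p.ResidueField) :=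
    IsFractionRing.injective _ _
  have hgF : algebraMap (R ⧸ p) p.ResidueField g ≠ 0 := (map_ne_zero_iff _ hinj).mpr hg0
  rw [RingHom.finiteType_algebraMap]
  refine ⟨⟨{(algebraMap (R ⧸ p) p.ResidueField g)⁻¹}, ?_⟩⟩
  rw [Finset.coe_singleton]
  apply top_unique
  intro z _
  obtain ⟨a, b, hb, rfl⟩ := IsFractionRing.div_surjective (A := R ⧸ p) z
  obtain ⟨c, m, hc⟩ := hg b (nonZeroDivisors.ne_zero hb)
  have hbF : algebraMap (R ⧸ p) p.ResidueField b ≠ 0 :=
    (map_ne_zero_iff _ hinj).mpr (nonZeroDivisors.ne_zero hb)
  have h1 : algebraMap (R ⧸ p) p.ResidueField a / algebraMap (R ⧸ p) p.ResidueField b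
      = algebraMap (R ⧸ p) p.ResidueField (a * c) *
        ((algebraMap (R ⧸ p) p.ResidueField g)⁻¹) ^ m := by
    have h2 := congrArg (algebraMap (R ⧸ p) p.ResidueField) hc
    rw [map_mul, map_pow] at h2
    have hcF : algebraMap (R ⧸ p) p.ResidueField c ≠ 0 := by
      intro h
      rw [h, mul_zero] at h2
      exact pow_ne_zero m hgF h2.symm
    rw [map_mul, inv_pow, ← h2, ← div_eq_mul_inv, mul_div_mul_right _ _ hcF]
  rw [h1]
  obtain ⟨r, hr⟩ := Ideal.Quotient.mk_surjective (a * c)
  have h3 : algebraMap (R ⧸ p) p.ResidueField (a * c) = algebraMap R p.ResidueField r := by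
    rw [← hr]; rfl
  rw [h3]
  have hmem : (algebraMap (R ⧸ p) p.ResidueField g)⁻¹ ∈
      Algebra.adjoin R ({(algebraMap (R ⧸ p) p.ResidueField g)⁻¹} : Set p.ResidueField) :=
    Algebra.subset_adjoin (Set.mem_singleton _)
  exact mul_mem (Subalgebra.algebraMap_mem _ r) (pow_mem hmem m)

/-- If `φ : R → k` is of finite type with `k` a field and kernel `p`, then `κ(p)` is of finite
type over `R`. -/
theorem finiteType_residueField_of_ker {R k : Type*} [CommRing R] [Field k] (φ : R →+* k)
    (hφ : φ.FiniteType) (p : Ideal R) [p.IsPrime] (hp : p = RingHom.ker φ) :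
    (algebraMap R p.ResidueField).FiniteType := by
  let _ : Algebra R k := φ.toAlgebra
  have hRk : Algebra.FiniteType R k := hφ
  have hle : ∀ a ∈ p, φ a = 0 := fun a ha => by rw [hp] at ha; exact ha
  let _ : Algebra (R ⧸ p) k := (Ideal.Quotient.lift p φ hle).toAlgebra
  have : IsScalarTower R (R ⧸ p) k := IsScalarTower.of_algebraMap_eq (fun x => by
    rw [RingHom.algebraMap_toAlgebra, RingHom.algebraMap_toAlgebra]
    exact (Ideal.Quotient.lift_mk p φ hle).symm)
  have hunits : p.primeCompl ≤ (IsUnit.submonoid k).comap φ := by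
    intro r hr
    change IsUnit (φ r)
    rw [isUnit_iff_ne_zero]
    intro h0
    apply hr
    change r ∈ p
    rw [hp]
    exact h0
  let _ : Algebra p.ResidueField k := (Ideal.ResidueField.lift p φ hp.le hunits).toAlgebra
  have : IsScalarTower (R ⧸ p) p.ResidueField k := IsScalarTower.of_algebraMap_eq (fun x => by
    obtain ⟨r, rfl⟩ := Ideal.Quotient.mk_surjective x
    rw [RingHom.algebraMap_toAlgebra, RingHom.algebraMap_toAlgebra, Ideal.Quotient.lift_mk]
    have : algebraMap (R ⧸ p) p.ResidueField (Ideal.Quotient.mk p r)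
        = algebraMap R p.ResidueField r := rfl
    rw [this, Ideal.ResidueField.lift_algebraMap])
  exact finiteType_residueField_aux (k := k) p

end Groth.Agent.Lib.Helper6
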