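import Groth.Agent.Lib.Helper6.FTPoints
import Groth.Agent.Lib.Helper6.FTPointsRing
import Mathlib.AlgebraicGeometry.Fiber

set_option autoImplicit false
universe u

open AlgebraicGeometry CategoryTheory

namespace Groth.Agent.Lib.Helper6

/-- Stacks 01TA (one direction): if `f : Spec K → S` is locally of finite type for a field `K`, then
the image point is a finite type point of `S`. -/
theorem ftPoint_of_locallyOfFiniteType_field {S : Scheme.{u}} {K : Type u} [Field K]
    (f : Spec (CommRingCat.of K) ⟶ S) [LocallyOfFiniteType f] (z : Spec (CommRingCat.of K)) :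
    LocallyOfFiniteType (S.fromSpecResidueField (f z)) := by
  obtain ⟨V, hV, hzV, -⟩ := exists_isAffineOpen_mem_and_subset (x := f z) (U := ⊤) trivial
  have hrange : Set.range f ⊆ Set.range hV.fromSpec := by
    rintro _ ⟨z', rfl⟩
    rw [hV.range_fromSpec]
    have : z' = z := @Subsingleton.elim (PrimeSpectrum K) inferInstance z' z
    rw [this]
    exact hzV
  let f' : Spec (CommRingCat.of K) ⟶ Spec Γ(S, V) := IsOpenImmersion.lift hV.fromSpec f hrange
  have hf' : f' ≫ hV.fromSpec = f := IsOpenImmersion.lift_fac _ _ _
  obtain ⟨ψ, hψ⟩ := Spec.map_surjective f'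
  have hlft : LocallyOfFiniteType (Spec.map ψ) := by
    rw [hψ]
    have : LocallyOfFiniteType (f' ≫ hV.fromSpec) := by rw [hf']; infer_instance
    exact locallyOfFiniteType_of_comp f' hV.fromSpec
  have hψft : ψ.hom.FiniteType := (HasRingHomProperty.Spec_iff (P := @LocallyOfFiniteType)).mp hlft
  have hfz : f z = hV.fromSpec (f' z) := by
    rw [← hf']; rfl
  rw [hfz, locallyOfFiniteType_fromSpecResidueField_iff]
  apply finiteType_residueField_of_ker ψ.hom hψft
  rw [← hψ]
  change Ideal.comap ψ.hom z.asIdeal = RingHom.ker ψ.hom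
  have : z.asIdeal = ⊥ := Ideal.eq_bot_of_prime z.asIdeal
  rw [this]
  rfl

end Groth.Agent.Lib.Helper6

namespace Groth.Agent.Lib.Helper6

/-- Stacks 01TB: morphisms locally of finite type preserve finite type points. -/
theorem ftPoint_map {T S : Scheme.{u}} (f : T ⟶ S) [LocallyOfFiniteType f] (t : T)
    (ht : LocallyOfFiniteType (T.fromSpecResidueField t)) :
    LocallyOfFiniteType (S.fromSpecResidueField (f t)) := by
  let h : Spec (CommRingCat.of (T.residueField t)) ⟶ S := T.fromSpecResidueField t ≫ f
  have hlft : LocallyOfFiniteType h := by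
    change LocallyOfFiniteType (T.fromSpecResidueField t ≫ f)
    infer_instance
  let z : Spec (CommRingCat.of (T.residueField t)) := IsLocalRing.closedPoint _
  have := ftPoint_of_locallyOfFiniteType_field h z
  have hz : h z = f t := by
    change f (T.fromSpecResidueField t z) = f t
    rw [Scheme.fromSpecResidueField_apply]
  rw [hz] at this
  exact this

end Groth.Agent.Lib.Helper6

namespace Groth.Agent.Lib.Helper6

/-- Stacks 01TB/01TC: a surjective morphism locally of finite type is surjective on finite type
points. -/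
theorem exists_ftPoint_map_eq {T S : Scheme.{u}} (f : T ⟶ S) [LocallyOfFiniteType f]
    [Surjective f] (s : S) (hs : LocallyOfFiniteType (S.fromSpecResidueField s)) :
    ∃ t : T, LocallyOfFiniteType (T.fromSpecResidueField t) ∧ f t = s := by
  obtain ⟨t0, ht0⟩ := f.surjective s
  have h0 : t0 ∈ Set.range (f.fiberι s) := by
    rw [f.range_fiberι]; exact ht0
  obtain ⟨x0, -⟩ := h0
  obtain ⟨x, -, hx⟩ := exists_ftPoint_of_isLocallyClosed (S := f.fiber s) Set.univ
    isClosed_univ.isLocallyClosed ⟨x0, trivial⟩
  have hlft : LocallyOfFiniteType (f.fiberι s) := by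
    have : LocallyOfFiniteType (Limits.pullback.fst f (S.fromSpecResidueField s)) :=
      MorphismProperty.pullback_fst _ _ hs
    exact this
  refine ⟨f.fiberι s x, ftPoint_map (f.fiberι s) x hx, ?_⟩
  have : f.fiberι s x ∈ Set.range (f.fiberι s) := ⟨x, rfl⟩
  rw [f.range_fiberι] at this
  exact this

end Groth.Agent.Lib.Helper6
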