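import Mathlib
import Groth.Agent.Lib.Helper6.FibCrit7

/-!
# The fibrewise criterion for universally schematically dominant families (helper6)
-/

set_option autoImplicit false
set_option linter.style.haveILetI false
set_option linter.unusedSectionVars false
universe u

open CategoryTheory CategoryTheory.Limits AlgebraicGeometry TopologicalSpace Opposite TensorProduct
open Groth.Agent.Lib.Helper29.QCoh Groth.Agent.Lib.Helper18

namespace Groth.Agent.Lib.Helper6.SepFam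

/-- the kernel of a map to a residue field, in terms of `fromSpec` -/
theorem ker_eq_of_forall_basicOpen {S : Scheme.{u}} {S₀ : S.Opens} (hS₀ : IsAffineOpen S₀)
    (𝔭 : PrimeSpectrum Γ(S, S₀)) {k : Type*} [Field k] (φ : Γ(S, S₀) →+* k)
    (h : ∀ a : Γ(S, S₀), φ a = 0 ↔ hS₀.fromSpec 𝔭 ∉ S.basicOpen a) :
    RingHom.ker φ = 𝔭.asIdeal := by
  ext a
  rw [RingHom.mem_ker, h a]
  have h1 : hS₀.fromSpec 𝔭 ∈ S.basicOpen a ↔ 𝔭 ∈ hS₀.fromSpec ⁻¹ᵁ S.basicOpen a := Iff.rfl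
  rw [h1, hS₀.fromSpec_preimage_basicOpen a]
  change ¬ (𝔭 ∈ PrimeSpectrum.basicOpen a) ↔ _
  rw [PrimeSpectrum.mem_basicOpen, not_not]

variable {X S : Scheme.{u}} {ι : Type u} (Z : ι → Scheme.{u}) (f : ∀ i, Z i ⟶ X)

set_option maxHeartbeats 1600000 in
theorem schDominant_univ_of_fibrewise [IsLocallyNoetherian X] (p : X ⟶ S)
    [∀ i, Flat (f i ≫ p)]
    (hfib : ∀ s : S, ∀ (V : (pullback p (S.fromSpecResidueField s)).Opens)
      (t : Γ(pullback p (S.fromSpecResidueField s), V)),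
      (∀ i, (pullback.map (f i ≫ p) (S.fromSpecResidueField s) p (S.fromSpecResidueField s)
        (f i) (𝟙 _) (𝟙 _) (Category.comp_id _)
        ((Category.comp_id _).trans (Category.id_comp _).symm)).app V t = 0) → t = 0)
    (S' : Scheme.{u}) (g : S' ⟶ S) :
    ∀ (V : (pullback p g).Opens) (t : Γ(pullback p g, V)),
      (∀ i, (pullback.map (f i ≫ p) g p g (f i) (𝟙 S') (𝟙 S) (Category.comp_id _)
        ((Category.comp_id _).trans (Category.id_comp _).symm)).app V t = 0) → t = 0 := by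
  refine schDominant_of_isPullback_of_affSep Z f (pullback.fst p g)
    (fun i => pullback (f i ≫ p) g) (fun i => pullback.fst (f i ≫ p) g)
    (fun i => pullback.map (f i ≫ p) g p g (f i) (𝟙 S') (𝟙 _) (Category.comp_id _)
        ((Category.comp_id _).trans (Category.id_comp _).symm))
    (fun i => isPullback_map_fst p g (f i)) ?_
  intro z
  obtain ⟨S₀, hS₀, hsS₀, -⟩ := exists_isAffineOpen_mem_and_subset
    (x := p (pullback.fst p g z)) (U := ⊤) trivial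
  have hxpre : pullback.fst p g z ∈ p ⁻¹ᵁ S₀ := hsS₀
  obtain ⟨W, hW, hxW, hWS₀⟩ := exists_isAffineOpen_mem_and_subset
    (x := pullback.fst p g z) (U := p ⁻¹ᵁ S₀) hxpre
  have hgz : pullback.snd p g z ∈ g ⁻¹ᵁ S₀ := by
    change g (pullback.snd p g z) ∈ S₀
    have h1 : g (pullback.snd p g z) = p (pullback.fst p g z) := by
      rw [← Scheme.Hom.comp_apply, ← Scheme.Hom.comp_apply, pullback.condition]
    rw [h1]
    exact hsS₀
  obtain ⟨T, hT, hxT, hTS₀⟩ := exists_isAffineOpen_mem_and_subset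
    (x := pullback.snd p g z) (U := g ⁻¹ᵁ S₀) hgz
  have hWS : W ≤ p ⁻¹ᵁ S₀ := hWS₀
  have hTS : T ≤ g ⁻¹ᵁ S₀ := hTS₀
  have H : IsPullback (pullback.fst p g) (pullback.snd p g) p g := IsPullback.of_hasPullback p g
  have hUaff := GFl.isAffineOpen_of_isPullback H hS₀ hT hW hTS hWS rfl
  have hpo := (GFl.isPushout_appLE_of_isPullback H hS₀ hT hW hTS hWS rfl).flip
  have hpW : pullback.fst p g ⁻¹ᵁ W ⊓ pullback.snd p g ⁻¹ᵁ T ≤ pullback.fst p g ⁻¹ᵁ W :=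
    inf_le_left
  have hqT : pullback.fst p g ⁻¹ᵁ W ⊓ pullback.snd p g ⁻¹ᵁ T ≤ pullback.snd p g ⁻¹ᵁ T :=
    inf_le_right
  refine ⟨_, hUaff, W, hW, hpW, ⟨hxW, hxT⟩, ?_⟩
  -- algebra structures
  letI algAC : Algebra Γ(S, S₀) Γ(X, W) := (p.appLE S₀ W hWS).hom.toAlgebra
  letI algAA' : Algebra Γ(S, S₀) Γ(S', T) := (g.appLE S₀ T hTS).hom.toAlgebra
  letI algA'C' : Algebra Γ(S', T)
      Γ(pullback p g, pullback.fst p g ⁻¹ᵁ W ⊓ pullback.snd p g ⁻¹ᵁ T) :=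
    ((pullback.snd p g).appLE T _ hqT).hom.toAlgebra
  letI algCC' : Algebra Γ(X, W)
      Γ(pullback p g, pullback.fst p g ⁻¹ᵁ W ⊓ pullback.snd p g ⁻¹ᵁ T) :=
    ((pullback.fst p g).appLE W _ hpW).hom.toAlgebra
  letI algAC' : Algebra Γ(S, S₀)
      Γ(pullback p g, pullback.fst p g ⁻¹ᵁ W ⊓ pullback.snd p g ⁻¹ᵁ T) :=
    (((pullback.fst p g).appLE W _ hpW).hom.comp (p.appLE S₀ W hWS).hom).toAlgebra
  haveI tw1 : IsScalarTower Γ(S, S₀) Γ(X, W)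
      Γ(pullback p g, pullback.fst p g ⁻¹ᵁ W ⊓ pullback.snd p g ⁻¹ᵁ T) :=
    IsScalarTower.of_algebraMap_eq (fun _ => rfl)
  haveI tw2 : IsScalarTower Γ(S, S₀) Γ(S', T)
      Γ(pullback p g, pullback.fst p g ⁻¹ᵁ W ⊓ pullback.snd p g ⁻¹ᵁ T) :=
    IsScalarTower.of_algebraMap_eq (fun r => by
      have hw := hpo.w
      exact (congr($(hw).hom r)).symm)
  haveI hpo' : Algebra.IsPushout Γ(S, S₀) Γ(S', T) Γ(X, W)
      Γ(pullback p g, pullback.fst p g ⁻¹ᵁ W ⊓ pullback.snd p g ⁻¹ᵁ T) :=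
    CommRingCat.isPushout_iff_isPushout.mp hpo
  haveI hnoeth : IsNoetherianRing Γ(X, W) := IsLocallyNoetherian.component_noetherian ⟨W, hW⟩
  letI modAG : ∀ j : AffOver Z f W, Module Γ(S, S₀) (AffOver.ring Z f j) :=
    fun j => Module.compHom _ (p.appLE S₀ W hWS).hom
  haveI twG : ∀ j : AffOver Z f W, IsScalarTower Γ(S, S₀) Γ(X, W) (AffOver.ring Z f j) :=
    fun j => IsScalarTower.of_algebraMap_smul (fun _ _ => rfl)
  haveI hflat : ∀ j : AffOver Z f W, Module.Flat Γ(S, S₀) (AffOver.ring Z f j) := by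
    rintro ⟨i, Z', hZ', hZ'W⟩
    have e' : Z' ≤ (f i ≫ p) ⁻¹ᵁ S₀ := fun y hy => hWS (hZ'W hy)
    have hfl : ((f i ≫ p).appLE S₀ Z' e').hom.Flat :=
      HasRingHomProperty.appLE (P := @Flat) (f i ≫ p) inferInstance ⟨S₀, hS₀⟩ ⟨Z', hZ'⟩ e'
    have h1 : (f i ≫ p).appLE S₀ Z' e' = p.appLE S₀ W hWS ≫ (f i).appLE W Z' hZ'W :=
      (Scheme.Hom.appLE_comp_appLE _ _ _ _ _ _ _).symm
    rw [h1] at hfl
    exact hfl
  refine affSep_of_fibrewise (A := Γ(S, S₀)) (C := Γ(X, W)) (N := Γ(X, W))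
    (fun j : AffOver Z f W => Algebra.linearMap Γ(X, W) (AffOver.ring Z f j)) ?_
    (A' := Γ(S', T))
    (C' := Γ(pullback p g, pullback.fst p g ⁻¹ᵁ W ⊓ pullback.snd p g ⁻¹ᵁ T))
  intro 𝔭 h𝔭
  have hs : hS₀.fromSpec ⟨𝔭, h𝔭⟩ ∈ S₀ := by
    have h1 : hS₀.fromSpec ⟨𝔭, h𝔭⟩ ∈ Set.range hS₀.fromSpec := ⟨_, rfl⟩
    rw [hS₀.range_fromSpec] at h1
    exact h1
  obtain ⟨algAk, hker0, hAffk⟩ := affSep_fibre Z f p hS₀ hW hWS _ hs
    (hfib (hS₀.fromSpec ⟨𝔭, h𝔭⟩))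
  refine ⟨S.residueField (hS₀.fromSpec ⟨𝔭, h𝔭⟩), inferInstance, algAk, ?_, hAffk⟩
  exact ker_eq_of_forall_basicOpen hS₀ ⟨𝔭, h𝔭⟩ _ hker0

end Groth.Agent.Lib.Helper6.SepFam
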