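import Mathlib
import Groth.Agent.Lib.Helper6.FibCrit8
import Groth.Agent.Lib.Helper6.SepFam9
import Groth.Agent.Lib.Helper29.QCohFinite

/-!
# The fibrewise criterion for universally separating families of module homomorphisms (helper6)
-/

set_option autoImplicit false
set_option linter.style.haveILetI false
set_option linter.unusedSectionVars false
universe u

open CategoryTheory CategoryTheory.Limits AlgebraicGeometry TopologicalSpace Opposite TensorProduct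
open Groth.Agent.Lib.Helper29.QCoh Groth.Agent.Lib.Helper18

namespace Groth.Agent.Lib.Helper6.SepFam

variable {X S : Scheme.{u}}

set_option maxHeartbeats 1600000 in
/-- from the affine separating condition on sections of the fibre to the canonical form over the
residue field -/
theorem affSep_fibre_of_affSep_sections (p : X ⟶ S) {S₀ : S.Opens} (hS₀ : IsAffineOpen S₀)
    {W : X.Opens} (hW : IsAffineOpen W) (hWS : W ≤ p ⁻¹ᵁ S₀) (s : S) (hs : s ∈ S₀)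
    {N : Type u} [AddCommGroup N] [Module Γ(X, W) N] {κ : Type*} {G' : κ → Type u}
    [∀ j, AddCommGroup (G' j)] [∀ j, Module Γ(X, W) (G' j)] (v : ∀ j, N →ₗ[Γ(X, W)] G' j)
    (hAff : letI := ((pullback.fst p (S.fromSpecResidueField s)).appLE W
        (pullback.fst p (S.fromSpecResidueField s) ⁻¹ᵁ W ⊓
          pullback.snd p (S.fromSpecResidueField s) ⁻¹ᵁ ⊤) inf_le_left).hom.toAlgebra
      AffSep Γ(X, W) Γ(pullback p (S.fromSpecResidueField s),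
        pullback.fst p (S.fromSpecResidueField s) ⁻¹ᵁ W ⊓
          pullback.snd p (S.fromSpecResidueField s) ⁻¹ᵁ ⊤) v) :
    letI := (p.appLE S₀ W hWS).hom.toAlgebra
    ∃ (_ : Algebra Γ(S, S₀) (S.residueField s)),
      (∀ a : Γ(S, S₀), algebraMap Γ(S, S₀) (S.residueField s) a = 0 ↔ s ∉ S.basicOpen a) ∧
      AffSep Γ(X, W) (Γ(X, W) ⊗[Γ(S, S₀)] (S.residueField s)) v := by
  letI algAC : Algebra Γ(S, S₀) Γ(X, W) := (p.appLE S₀ W hWS).hom.toAlgebra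
  obtain ⟨q, hq⟩ : ∃ q : Spec (S.residueField s) ⟶ S, q = S.fromSpecResidueField s := ⟨_, rfl⟩
  rw [← hq] at hAff
  have hT : (⊤ : (Spec (S.residueField s)).Opens) ≤ q ⁻¹ᵁ S₀ := by
    rw [hq]
    exact top_le_preimage_fromSpecResidueField s hs
  have H : IsPullback (pullback.fst p q) (pullback.snd p q) p q := IsPullback.of_hasPullback p q
  have hpo := GFl.isPushout_appLE_of_isPullback H hS₀ (isAffineOpen_top _) hW hT hWS rfl
  have hpW : pullback.fst p q ⁻¹ᵁ W ⊓ pullback.snd p q ⁻¹ᵁ ⊤ ≤ pullback.fst p q ⁻¹ᵁ W :=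
    inf_le_left
  have hqT : pullback.fst p q ⁻¹ᵁ W ⊓ pullback.snd p q ⁻¹ᵁ ⊤ ≤ pullback.snd p q ⁻¹ᵁ ⊤ :=
    inf_le_right
  let φAk : Γ(S, S₀) ⟶ S.residueField s :=
    q.appLE S₀ ⊤ hT ≫ (Scheme.ΓSpecIso (S.residueField s)).hom
  let φkD : S.residueField s ⟶
      Γ(pullback p q, pullback.fst p q ⁻¹ᵁ W ⊓ pullback.snd p q ⁻¹ᵁ ⊤) :=
    (Scheme.ΓSpecIso (S.residueField s)).inv ≫ (pullback.snd p q).appLE ⊤ _ hqT
  have hpo2 : IsPushout (p.appLE S₀ W hWS) φAk ((pullback.fst p q).appLE W _ hpW) φkD := by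
    refine hpo.of_iso (Iso.refl _) (Iso.refl _) (Scheme.ΓSpecIso (S.residueField s))
      (Iso.refl _) ?_ ?_ ?_ ?_
    · simp only [Iso.refl_hom, Category.comp_id, Category.id_comp]
    · simp only [Iso.refl_hom, Category.id_comp, φAk]
    · simp only [Iso.refl_hom, Category.comp_id, Category.id_comp]
    · simp only [Iso.refl_hom, Category.comp_id, φkD, Iso.hom_inv_id_assoc]
  letI algAk : Algebra Γ(S, S₀) (S.residueField s) := φAk.hom.toAlgebra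
  letI algkD : Algebra (S.residueField s)
      Γ(pullback p q, pullback.fst p q ⁻¹ᵁ W ⊓ pullback.snd p q ⁻¹ᵁ ⊤) := φkD.hom.toAlgebra
  letI algCD : Algebra Γ(X, W)
      Γ(pullback p q, pullback.fst p q ⁻¹ᵁ W ⊓ pullback.snd p q ⁻¹ᵁ ⊤) :=
    ((pullback.fst p q).appLE W _ hpW).hom.toAlgebra
  letI algAD : Algebra Γ(S, S₀)
      Γ(pullback p q, pullback.fst p q ⁻¹ᵁ W ⊓ pullback.snd p q ⁻¹ᵁ ⊤) :=
    (((pullback.fst p q).appLE W _ hpW).hom.comp (p.appLE S₀ W hWS).hom).toAlgebra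
  haveI tw1 : IsScalarTower Γ(S, S₀) Γ(X, W)
      Γ(pullback p q, pullback.fst p q ⁻¹ᵁ W ⊓ pullback.snd p q ⁻¹ᵁ ⊤) :=
    IsScalarTower.of_algebraMap_eq (fun _ => rfl)
  haveI tw2 : IsScalarTower Γ(S, S₀) (S.residueField s)
      Γ(pullback p q, pullback.fst p q ⁻¹ᵁ W ⊓ pullback.snd p q ⁻¹ᵁ ⊤) :=
    IsScalarTower.of_algebraMap_eq (fun r => by
      have hw := hpo2.w
      exact congr($(hw).hom r))
  haveI hpo' : Algebra.IsPushout Γ(S, S₀) Γ(X, W) (S.residueField s)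
      Γ(pullback p q, pullback.fst p q ⁻¹ᵁ W ⊓ pullback.snd p q ⁻¹ᵁ ⊤) :=
    CommRingCat.isPushout_iff_isPushout.mp hpo2
  refine ⟨algAk, ?_, ?_⟩
  · intro a
    change (Scheme.ΓSpecIso (S.residueField s)).hom.hom ((q.appLE S₀ ⊤ hT).hom a) = 0 ↔ _
    have hinj : Function.Injective (Scheme.ΓSpecIso (S.residueField s)).hom.hom :=
      (Scheme.ΓSpecIso (S.residueField s)).commRingCatIsoToRingEquiv.injective
    rw [map_eq_zero_iff _ hinj]
    subst hq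
    exact appLE_fromSpecResidueField_eq_zero_iff s hs a
  · exact affSep_of_algEquiv _
      (Algebra.IsPushout.equiv Γ(S, S₀) Γ(X, W) (S.residueField s)
        Γ(pullback p q, pullback.fst p q ⁻¹ᵁ W ⊓ pullback.snd p q ⁻¹ᵁ ⊤)).symm hAff

set_option maxHeartbeats 1600000 in
theorem separating_univ_of_fibrewise [IsLocallyNoetherian X] (p : X ⟶ S) (F : X.Modules)
    [F.IsQuasicoherent] [F.IsFiniteType] {ι : Type u} (G : ι → X.Modules)
    [∀ i, (G i).IsQuasicoherent] (hG : ∀ i, FlatMod.IsFlatOver p (G i)) (u : ∀ i, F ⟶ G i)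
    (hfib : ∀ s : S, Separating
      (fun i => (Scheme.Modules.pullback (pullback.fst p (S.fromSpecResidueField s))).obj (G i))
      (fun i => (Scheme.Modules.pullback (pullback.fst p (S.fromSpecResidueField s))).map (u i)))
    (S' : Scheme.{u}) (g : S' ⟶ S) :
    Separating (fun i => (Scheme.Modules.pullback (pullback.fst p g)).obj (G i))
      (fun i => (Scheme.Modules.pullback (pullback.fst p g)).map (u i)) := by
  refine separating_pullback_of_affSep (pullback.fst p g) G u ?_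
  intro z
  obtain ⟨S₀, hS₀, hsS₀, -⟩ := exists_isAffineOpen_mem_and_subset
    (x := p (pullback.fst p g z)) (U := ⊤) trivial
  have hxpre : pullback.fst p g z ∈ p ⁻¹ᵁ S₀ := hsS₀
  obtain ⟨W, hW, hxW, hWS₀⟩ := exists_isAffineOpen_mem_and_subset
    (x := pullback.fst p g z) (U := p ⁻¹ᵁ S₀) hxpre
  have hgz : pullback.snd p g z ∈ g ⁻¹ᵁ S₀ := by
    change g (pullback.snd p g z) ∈ S₀
    have h1 : g (pullback.snd p g z) = p (pullback.fst p g z) := by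
      rw [← Scheme.Hom.comp_apply, ← Scheme.Hom.comp_apply, pullback.condition]
    rw [h1]
    exact hsS₀
  obtain ⟨T, hT, hxT, hTS₀⟩ := exists_isAffineOpen_mem_and_subset
    (x := pullback.snd p g z) (U := g ⁻¹ᵁ S₀) hgz
  have hWS : W ≤ p ⁻¹ᵁ S₀ := hWS₀
  have hTS : T ≤ g ⁻¹ᵁ S₀ := hTS₀
  have H : IsPullback (pullback.fst p g) (pullback.snd p g) p g := IsPullback.of_hasPullback p g
  have hUaff := GFl.isAffineOpen_of_isPullback H hS₀ hT hW hTS hWS rfl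
  have hpo := (GFl.isPushout_appLE_of_isPullback H hS₀ hT hW hTS hWS rfl).flip
  have hpW : pullback.fst p g ⁻¹ᵁ W ⊓ pullback.snd p g ⁻¹ᵁ T ≤ pullback.fst p g ⁻¹ᵁ W :=
    inf_le_left
  have hqT : pullback.fst p g ⁻¹ᵁ W ⊓ pullback.snd p g ⁻¹ᵁ T ≤ pullback.snd p g ⁻¹ᵁ T :=
    inf_le_right
  refine ⟨_, hUaff, W, hW, hpW, ⟨hxW, hxT⟩, ?_⟩
  -- algebra structures
  letI algAC : Algebra Γ(S, S₀) Γ(X, W) := (p.appLE S₀ W hWS).hom.toAlgebra
  letI algAA' : Algebra Γ(S, S₀) Γ(S', T) := (g.appLE S₀ T hTS).hom.toAlgebra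
  letI algA'C' : Algebra Γ(S', T)
      Γ(pullback p g, pullback.fst p g ⁻¹ᵁ W ⊓ pullback.snd p g ⁻¹ᵁ T) :=
    ((pullback.snd p g).appLE T _ hqT).hom.toAlgebra
  letI algCC' : Algebra Γ(X, W)
      Γ(pullback p g, pullback.fst p g ⁻¹ᵁ W ⊓ pullback.snd p g ⁻¹ᵁ T) :=
    ((pullback.fst p g).appLE W _ hpW).hom.toAlgebra
  letI algAC' : Algebra Γ(S, S₀)
      Γ(pullback p g, pullback.fst p g ⁻¹ᵁ W ⊓ pullback.snd p g ⁻¹ᵁ T) :=
    (((pullback.fst p g).appLE W _ hpW).hom.comp (p.appLE S₀ W hWS).hom).toAlgebra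
  haveI tw1 : IsScalarTower Γ(S, S₀) Γ(X, W)
      Γ(pullback p g, pullback.fst p g ⁻¹ᵁ W ⊓ pullback.snd p g ⁻¹ᵁ T) :=
    IsScalarTower.of_algebraMap_eq (fun _ => rfl)
  haveI tw2 : IsScalarTower Γ(S, S₀) Γ(S', T)
      Γ(pullback p g, pullback.fst p g ⁻¹ᵁ W ⊓ pullback.snd p g ⁻¹ᵁ T) :=
    IsScalarTower.of_algebraMap_eq (fun r => by
      have hw := hpo.w
      exact (congr($(hw).hom r)).symm)
  haveI hpo' : Algebra.IsPushout Γ(S, S₀) Γ(S', T) Γ(X, W)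
      Γ(pullback p g, pullback.fst p g ⁻¹ᵁ W ⊓ pullback.snd p g ⁻¹ᵁ T) :=
    CommRingCat.isPushout_iff_isPushout.mp hpo
  haveI hnoeth : IsNoetherianRing Γ(X, W) := IsLocallyNoetherian.component_noetherian ⟨W, hW⟩
  letI modAF : Module Γ(S, S₀) Γ(F, W) := Module.compHom _ (p.appLE S₀ W hWS).hom
  haveI twF : IsScalarTower Γ(S, S₀) Γ(X, W) Γ(F, W) :=
    IsScalarTower.of_algebraMap_smul (fun _ _ => rfl)
  letI modAG : ∀ i, Module Γ(S, S₀) Γ(G i, W) :=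
    fun i => Module.compHom _ (p.appLE S₀ W hWS).hom
  haveI twG : ∀ i, IsScalarTower Γ(S, S₀) Γ(X, W) Γ(G i, W) :=
    fun i => IsScalarTower.of_algebraMap_smul (fun _ _ => rfl)
  haveI hflat : ∀ i, Module.Flat Γ(S, S₀) Γ(G i, W) := fun i =>
    Groth.Agent.Lib.Helper8.FlatAffine.flat_sections_of_isFlatOverAt p (G i) hW hS₀ hWS
      (fun x _ => hG i x)
  haveI hfin : Module.Finite Γ(X, W) Γ(F, W) := module_finite_of_isFiniteType F hW
  refine affSep_of_fibrewise (A := Γ(S, S₀)) (C := Γ(X, W)) (N := Γ(F, W))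
    (fun i => appₗ (u i) W) ?_
    (A' := Γ(S', T))
    (C' := Γ(pullback p g, pullback.fst p g ⁻¹ᵁ W ⊓ pullback.snd p g ⁻¹ᵁ T))
  intro 𝔭 h𝔭
  have hs : hS₀.fromSpec ⟨𝔭, h𝔭⟩ ∈ S₀ := by
    have h1 : hS₀.fromSpec ⟨𝔭, h𝔭⟩ ∈ Set.range hS₀.fromSpec := ⟨_, rfl⟩
    rw [hS₀.range_fromSpec] at h1
    exact h1
  have hT' : (⊤ : (Spec (S.residueField (hS₀.fromSpec ⟨𝔭, h𝔭⟩))).Opens) ≤
      S.fromSpecResidueField (hS₀.fromSpec ⟨𝔭, h𝔭⟩) ⁻¹ᵁ S₀ :=
    top_le_preimage_fromSpecResidueField _ hs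
  have hUsaff := GFl.isAffineOpen_of_isPullback
    (IsPullback.of_hasPullback p (S.fromSpecResidueField (hS₀.fromSpec ⟨𝔭, h𝔭⟩)))
    hS₀ (isAffineOpen_top _) hW hT' hWS rfl
  have hAff := affSep_of_separating_pullback
    (pullback.fst p (S.fromSpecResidueField (hS₀.fromSpec ⟨𝔭, h𝔭⟩))) G u
    (hfib (hS₀.fromSpec ⟨𝔭, h𝔭⟩)) hUsaff hW inf_le_left
  obtain ⟨algAk, hker0, hAffk⟩ := affSep_fibre_of_affSep_sections p hS₀ hW hWS _ hs
    (fun i => appₗ (u i) W) hAff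
  refine ⟨S.residueField (hS₀.fromSpec ⟨𝔭, h𝔭⟩), inferInstance, algAk, ?_, hAffk⟩
  exact ker_eq_of_forall_basicOpen hS₀ ⟨𝔭, h𝔭⟩ _ hker0

end Groth.Agent.Lib.Helper6.SepFam
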