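import Mathlib
import Groth.Prelude.Def_MoreMor
import Groth.Agent.Lib.Helper6.FibCrit8

/-!
# S4876: the fibrewise criterion for universally schematically dominant families (helper6)
-/

set_option autoImplicit false
set_option linter.style.haveILetI false
set_option linter.unusedSectionVars false
universe u

open CategoryTheory CategoryTheory.Limits AlgebraicGeometry TopologicalSpace Opposite TensorProduct

namespace Groth.Agent.Lib.Helper6.SepFam

theorem fiberMap_eq_map {X Y S : Scheme.{u}} (f : X ⟶ Y) (p : Y ⟶ S) (s : S) :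
    MoreMor.fiberMap f p s = pullback.map (f ≫ p) (S.fromSpecResidueField s) p
      (S.fromSpecResidueField s) f (𝟙 _) (𝟙 S) (Category.comp_id _)
      ((Category.comp_id _).trans (Category.id_comp _).symm) := by
  change pullback.lift (pullback.fst (f ≫ p) (S.fromSpecResidueField s) ≫ f)
    (pullback.snd (f ≫ p) (S.fromSpecResidueField s))
    (by rw [Category.assoc]; exact pullback.condition) = _
  apply pullback.hom_ext
  · rw [pullback.lift_fst, pullback.map, pullback.lift_fst]
  · rw [pullback.lift_snd, pullback.map, pullback.lift_snd, Category.comp_id]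

theorem app_eq_zero_congr {Y' X' : Scheme.{u}} {φ ψ : Y' ⟶ X'} (h : φ = ψ) (V : X'.Opens)
    (t : Γ(X', V)) : φ.app V t = 0 ↔ ψ.app V t = 0 := by
  subst h
  exact Iff.rfl

theorem univ_schDominant_iff_fibrewise {X S : Scheme.{u}} [IsLocallyNoetherian X]
    (p : X ⟶ S) {ι : Type u} (Z : ι → Scheme.{u}) (f : ∀ i, Z i ⟶ X) [∀ i, Flat (f i ≫ p)] :
    (∀ (S' : Scheme.{u}) (g : S' ⟶ S),
      (∀ (V : (Limits.pullback p g).Opens) (t : Γ(Limits.pullback p g, V)), (∀ i, (Limits.pullback.map (f i ≫ p) g p g (f i) (𝟙 S') (𝟙 S) (Category.comp_id _) ((Category.comp_id _).trans (Category.id_comp _).symm)).app V t = 0) → t = 0)) ↔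
    ∀ s : S, (∀ (V : (p.fiber s).Opens) (t : Γ(p.fiber s, V)), (∀ i, (MoreMor.fiberMap (f i) p s).app V t = 0) → t = 0) := by
  constructor
  · intro h s V t ht
    refine h (Spec (S.residueField s)) (S.fromSpecResidueField s) V t ?_
    intro i
    exact (app_eq_zero_congr (fiberMap_eq_map (f i) p s) V t).mp (ht i)
  · intro h S' g
    refine schDominant_univ_of_fibrewise Z f p ?_ S' g
    intro s V t ht
    refine h s V t ?_
    intro i
    exact (app_eq_zero_congr (fiberMap_eq_map (f i) p s) V t).mpr (ht i)

end Groth.Agent.Lib.Helper6.SepFam
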