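import Mathlib
import Groth.Agent.Lib.Helper6.FibDense7
import Groth.Agent.Lib.Helper29.QCohPullback
import Groth.Agent.Lib.Helper18.FlH

/-!
# Injectivity of `F → j_* j^* F` is fibrewise, for flat finitely presented modules (helper6)
-/

set_option autoImplicit false
set_option linter.style.haveILetI false
set_option linter.unusedSectionVars false
universe u

open CategoryTheory CategoryTheory.Limits AlgebraicGeometry TopologicalSpace Opposite TensorProduct
open Groth.Agent.Lib.Helper29.QCoh Groth.Agent.Lib.Helper18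

namespace Groth.Agent.Lib.Helper6.FibDense

/-- change of field for modules: regularity of `h` on `M ⊗ L` implies regularity on `M ⊗ κ(p)` -/
theorem regular_tensor_residueField {A B : Type u} [CommRing A] [CommRing B] [Algebra A B]
    {M : Type u} [AddCommGroup M] [Module B M] [Module A M] [IsScalarTower A B M]
    (h : B) (L : Type u) [Field L] [Algebra A L] (p : Ideal A) [p.IsPrime]
    (hp : ∀ a, algebraMap A L a = 0 ↔ a ∈ p)
    (hL : ∀ w : M ⊗[A] L, h • w = 0 → w = 0) :
    ∀ w : M ⊗[A] p.ResidueField, h • w = 0 → w = 0 := by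
  let φ : p.ResidueField →+* L := Ideal.ResidueField.lift p (algebraMap A L)
    (fun a ha => (hp a).mpr ha) (fun a ha => by
      change IsUnit (algebraMap A L a)
      rw [isUnit_iff_ne_zero]
      exact fun h0 => ha ((hp a).mp h0))
  letI algkL : Algebra p.ResidueField L := φ.toAlgebra
  haveI tw : IsScalarTower A p.ResidueField L := IsScalarTower.of_algebraMap_eq (fun a =>
    (Ideal.ResidueField.lift_algebraMap p (algebraMap A L) _ _ a).symm)
  let i : p.ResidueField →ₗ[A] L := (IsScalarTower.toAlgHom A p.ResidueField L).toLinearMap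
  obtain ⟨r, hr⟩ := LinearMap.exists_leftInverse_of_injective
    (Algebra.linearMap p.ResidueField L) (LinearMap.ker_eq_bot.mpr φ.injective)
  let r' : L →ₗ[A] p.ResidueField := r.restrictScalars A
  have hri : r'.comp i = LinearMap.id := by
    ext c
    exact LinearMap.congr_fun hr c
  have hιinj : Function.Injective (LinearMap.lTensor M i) := by
    have h1 : (LinearMap.lTensor M r').comp (LinearMap.lTensor M i) = LinearMap.id := by
      rw [← LinearMap.lTensor_comp, hri, LinearMap.lTensor_id]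
    exact Function.LeftInverse.injective (g := LinearMap.lTensor M r')
      (fun z => LinearMap.congr_fun h1 z)
  have hcomm : ∀ w : M ⊗[A] p.ResidueField,
      LinearMap.lTensor M i (h • w) = h • LinearMap.lTensor M i w := by
    intro w
    induction w using TensorProduct.induction_on with
    | zero => simp
    | add a b ha hb => simp only [smul_add, map_add, ha, hb]
    | tmul m c =>
      rw [TensorProduct.smul_tmul', LinearMap.lTensor_tmul, LinearMap.lTensor_tmul,
        TensorProduct.smul_tmul']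
  intro w hw
  apply hιinj
  rw [map_zero]
  apply hL
  rw [← hcomm, hw, map_zero]

open Groth.Agent.Lib.Helper6.SepFam in
set_option maxHeartbeats 1600000 in
set_option maxRecDepth 4000 in
/-- the affine chart `(f.fiberι y)⁻¹ W` of the fibre at `y`, for a quasi-coherent module -/
theorem fibre_chart_module {X Y : Scheme.{u}} (f : X ⟶ Y) (F : X.Modules) [F.IsQuasicoherent]
    {Y₀ : Y.Opens} (hY₀ : IsAffineOpen Y₀)
    {W : X.Opens} (hW : IsAffineOpen W) (hWY : W ≤ f ⁻¹ᵁ Y₀) (y : Y) (hy : y ∈ Y₀) :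
    letI := (f.appLE Y₀ W hWY).hom.toAlgebra
    letI : Module Γ(Y, Y₀) Γ(F, W) := Module.compHom _ (f.appLE Y₀ W hWY).hom
    haveI : IsScalarTower Γ(Y, Y₀) Γ(X, W) Γ(F, W) :=
      IsScalarTower.of_algebraMap_smul (fun r m => rfl)
    IsAffineOpen (f.fiberι y ⁻¹ᵁ W) ∧
    ∃ (_ : Algebra Γ(Y, Y₀) (Y.residueField y)),
      (∀ a : Γ(Y, Y₀), algebraMap Γ(Y, Y₀) (Y.residueField y) a = 0 ↔ y ∉ Y.basicOpen a) ∧
      ∀ h : Γ(X, W),
        (∀ n : Γ((Scheme.Modules.pullback (f.fiberι y)).obj F, f.fiberι y ⁻¹ᵁ W),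
          ((f.fiberι y).appLE W (f.fiberι y ⁻¹ᵁ W) le_rfl).hom h • n = 0 → n = 0) →
        ∀ w : Γ(F, W) ⊗[Γ(Y, Y₀)] (Y.residueField y), h • w = 0 → w = 0 := by
  letI algAC : Algebra Γ(Y, Y₀) Γ(X, W) := (f.appLE Y₀ W hWY).hom.toAlgebra
  letI mAM : Module Γ(Y, Y₀) Γ(F, W) := Module.compHom _ (f.appLE Y₀ W hWY).hom
  haveI twM : IsScalarTower Γ(Y, Y₀) Γ(X, W) Γ(F, W) :=
    IsScalarTower.of_algebraMap_smul (fun r m => rfl)
  obtain ⟨q, hq⟩ : ∃ q : Spec (Y.residueField y) ⟶ Y, q = Y.fromSpecResidueField y := ⟨_, rfl⟩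
  have hT : (⊤ : (Spec (Y.residueField y)).Opens) ≤ q ⁻¹ᵁ Y₀ := by
    rw [hq]
    exact top_le_preimage_fromSpecResidueField y hy
  have H : IsPullback (f.fiberι y) (f.fiberToSpecResidueField y) f q := by
    rw [hq]
    exact IsPullback.of_hasPullback f (Y.fromSpecResidueField y)
  have hUY : f.fiberι y ⁻¹ᵁ W = f.fiberι y ⁻¹ᵁ W ⊓ f.fiberToSpecResidueField y ⁻¹ᵁ ⊤ := by
    rw [Scheme.Hom.preimage_top, inf_top_eq]
  have hUaff := GFl.isAffineOpen_of_isPullback H hY₀ (isAffineOpen_top _) hW hT hWY hUY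
  have hpo := GFl.isPushout_appLE_of_isPullback H hY₀ (isAffineOpen_top _) hW hT hWY hUY
  refine ⟨hUaff, ?_⟩
  set U := f.fiberι y ⁻¹ᵁ W with hU
  have hqT : U ≤ f.fiberToSpecResidueField y ⁻¹ᵁ ⊤ := by
    rw [Scheme.Hom.preimage_top]; exact le_top
  let φAk : Γ(Y, Y₀) ⟶ Y.residueField y :=
    q.appLE Y₀ ⊤ hT ≫ (Scheme.ΓSpecIso (Y.residueField y)).hom
  let φkD : Y.residueField y ⟶ Γ(f.fiber y, U) :=
    (Scheme.ΓSpecIso (Y.residueField y)).inv ≫ (f.fiberToSpecResidueField y).appLE ⊤ U hqT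
  have hpo2 : IsPushout (f.appLE Y₀ W hWY) φAk ((f.fiberι y).appLE W U le_rfl) φkD := by
    refine hpo.of_iso (Iso.refl _) (Iso.refl _) (Scheme.ΓSpecIso (Y.residueField y))
      (Iso.refl _) ?_ ?_ ?_ ?_
    · simp only [Iso.refl_hom, Category.comp_id, Category.id_comp]
    · simp only [Iso.refl_hom, Category.id_comp, φAk]
    · simp only [Iso.refl_hom, Category.comp_id, Category.id_comp]
      rfl
    · simp only [Iso.refl_hom, Category.comp_id, φkD, Iso.hom_inv_id_assoc]
      rfl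
  letI algAk : Algebra Γ(Y, Y₀) (Y.residueField y) := φAk.hom.toAlgebra
  letI algkD : Algebra (Y.residueField y) Γ(f.fiber y, U) := φkD.hom.toAlgebra
  letI algCD : Algebra Γ(X, W) Γ(f.fiber y, U) :=
    ((f.fiberι y).appLE W U le_rfl).hom.toAlgebra
  letI algAD : Algebra Γ(Y, Y₀) Γ(f.fiber y, U) :=
    (((f.fiberι y).appLE W U le_rfl).hom.comp (f.appLE Y₀ W hWY).hom).toAlgebra
  haveI tw1 : IsScalarTower Γ(Y, Y₀) Γ(X, W) Γ(f.fiber y, U) :=
    IsScalarTower.of_algebraMap_eq (fun _ => rfl)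
  haveI tw2 : IsScalarTower Γ(Y, Y₀) (Y.residueField y) Γ(f.fiber y, U) :=
    IsScalarTower.of_algebraMap_eq (fun r => by
      have hw := hpo2.w
      exact congr($(hw).hom r))
  haveI hpo' : Algebra.IsPushout Γ(Y, Y₀) Γ(X, W) (Y.residueField y) Γ(f.fiber y, U) :=
    CommRingCat.isPushout_iff_isPushout.mp hpo2
  refine ⟨algAk, ?_, ?_⟩
  · intro a
    change (Scheme.ΓSpecIso (Y.residueField y)).hom.hom ((q.appLE Y₀ ⊤ hT).hom a) = 0 ↔ _
    have hinj : Function.Injective (Scheme.ΓSpecIso (Y.residueField y)).hom.hom :=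
      (Scheme.ΓSpecIso (Y.residueField y)).commRingCatIsoToRingEquiv.injective
    rw [map_eq_zero_iff _ hinj]
    subst hq
    exact appLE_fromSpecResidueField_eq_zero_iff y hy a
  · intro h hreg w hw
    have eN : Γ((Scheme.Modules.pullback (f.fiberι y)).obj F, U) ≃ₗ[Γ(f.fiber y, U)]
        Γ(f.fiber y, U) ⊗[Γ(X, W)] Γ(F, W) :=
      pullbackSectionsEquiv (f.fiberι y) F hUaff hW le_rfl
    let t2 := IsBaseChange.tensorEquiv (R := Γ(Y, Y₀)) (S := Γ(X, W)) (M := Y.residueField y)
      (N := Γ(f.fiber y, U)) hpo'.out Γ(F, W)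
    let t1 := TensorProduct.comm Γ(X, W) Γ(F, W) Γ(f.fiber y, U)
    have h1 : h • t2.symm w = 0 := by rw [← map_smul, hw, map_zero]
    have h2 : h • t1 (t2.symm w) = 0 := by rw [← map_smul, h1, map_zero]
    have h3 : ((f.fiberι y).appLE W U le_rfl).hom h • eN.symm (t1 (t2.symm w)) = 0 := by
      rw [← map_smul]
      have h4 : ((f.fiberι y).appLE W U le_rfl).hom h • t1 (t2.symm w) = h • t1 (t2.symm w) :=
        algebraMap_smul Γ(f.fiber y, U) h (t1 (t2.symm w))
      rw [h4, h2, map_zero]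
    have h5 := hreg _ h3
    have h6 : t1 (t2.symm w) = 0 := by
      have := congrArg eN h5
      rwa [LinearEquiv.apply_symm_apply, map_zero] at this
    have h7 : t2.symm w = 0 := t1.injective (h6.trans (map_zero _).symm)
    exact t2.symm.injective (h7.trans (map_zero _).symm)

end Groth.Agent.Lib.Helper6.FibDense
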