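import Mathlib
import Groth.Agent.Lib.Helper6.FibDense8
import Groth.Agent.Lib.Lead.SchDense

/-!
# Injectivity of `F → j_* j^* F` from the fibres, for flat finitely presented modules (helper6)
-/

set_option autoImplicit false
set_option linter.style.haveILetI false
set_option linter.unusedSectionVars false
universe u

open CategoryTheory CategoryTheory.Limits AlgebraicGeometry TopologicalSpace Opposite TensorProduct
open Groth.Agent.Lib.Helper29.QCoh Groth.Agent.Lib.Helper18

namespace Groth.Agent.Lib.Helper6.FibDense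

open Groth.Agent.Lib.Lead.SchDense in
set_option maxHeartbeats 1600000 in
set_option maxRecDepth 4000 in
theorem restrInj_of_fibrewise {X S : Scheme.{u}} (f : X ⟶ S) [LocallyOfFinitePresentation f]
    (F : X.Modules) [F.IsQuasicoherent] [F.IsFinitePresentation]
    (hflat : FlatMod.IsFlatOver f F) (U : X.Opens)
    (hfib : ∀ s : S, RestrInj ((Scheme.Modules.pullback (f.fiberι s)).obj F)
      (f.fiberι s ⁻¹ᵁ U)) : RestrInj F U := by
  apply restrInj_of_forall_exists_regular
  intro x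
  obtain ⟨S₀, hS₀, hs, -⟩ := exists_isAffineOpen_mem_and_subset (x := f x) (U := ⊤) trivial
  obtain ⟨W, hW, hxW, hWS⟩ := exists_isAffineOpen_mem_and_subset (x := x) (U := f ⁻¹ᵁ S₀) hs
  letI algAB : Algebra Γ(S, S₀) Γ(X, W) := (f.appLE S₀ W hWS).hom.toAlgebra
  letI mAM : Module Γ(S, S₀) Γ(F, W) := Module.compHom _ (f.appLE S₀ W hWS).hom
  haveI twM : IsScalarTower Γ(S, S₀) Γ(X, W) Γ(F, W) :=
    IsScalarTower.of_algebraMap_smul (fun r m => rfl)
  haveI hfp : Algebra.FinitePresentation Γ(S, S₀) Γ(X, W) :=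
    HasRingHomProperty.appLE (P := @LocallyOfFinitePresentation) f inferInstance ⟨S₀, hS₀⟩
      ⟨W, hW⟩ hWS
  haveI hMfp : Module.FinitePresentation Γ(X, W) Γ(F, W) :=
    module_finitePresentation_of_isFinitePresentation F hW
  obtain ⟨hWsaff, algκ, hkerκ, hregκ⟩ := fibre_chart_module f F hS₀ hW hWS (f x) hs
  haveI hlft : LocallyOfFiniteType (f.fiberToSpecResidueField (f x)) :=
    MorphismProperty.pullback_snd (P := @LocallyOfFiniteType) f (S.fromSpecResidueField (f x))
      inferInstance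
  haveI : IsLocallyNoetherian (f.fiber (f x)) :=
    LocallyOfFiniteType.isLocallyNoetherian (f.fiberToSpecResidueField (f x))
  haveI : IsNoetherianRing Γ(f.fiber (f x), f.fiberι (f x) ⁻¹ᵁ W) :=
    IsLocallyNoetherian.component_noetherian ⟨_, hWsaff⟩
  haveI hFsfp : ((Scheme.Modules.pullback (f.fiberι (f x))).obj F).IsFinitePresentation :=
    isFinitePresentation_pullback _ _
  haveI : Module.FinitePresentation Γ(f.fiber (f x), f.fiberι (f x) ⁻¹ᵁ W)
      Γ((Scheme.Modules.pullback (f.fiberι (f x))).obj F, f.fiberι (f x) ⁻¹ᵁ W) :=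
    module_finitePresentation_of_isFinitePresentation _ hWsaff
  obtain ⟨h, hhJ, hhreg⟩ := exists_mem_regular_of_restrInj
    ((Scheme.Modules.pullback (f.fiberι (f x))).obj F) (f.fiberι (f x) ⁻¹ᵁ U) (hfib (f x))
    hWsaff ((f.fiberι (f x)).appLE W (f.fiberι (f x) ⁻¹ᵁ W) le_rfl).hom (idealOf W U) (by
      intro x' hx'
      obtain ⟨g, hgU, hxg⟩ := hW.exists_basicOpen_le (V := U) ⟨f.fiberι (f x) x', hx'.2⟩ hx'.1
      refine ⟨g, hgU, ?_⟩
      rw [Scheme.basicOpen_appLE]
      exact ⟨hx'.1, hxg⟩)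
  have hregL := hregκ h hhreg
  obtain ⟨q, hq⟩ : ∃ q : Ideal Γ(X, W), q = (hW.primeIdealOf ⟨x, hxW⟩).asIdeal := ⟨_, rfl⟩
  haveI hqp : q.IsPrime := by rw [hq]; infer_instance
  have hp : ∀ a, algebraMap Γ(S, S₀) (S.residueField (f x)) a = 0 ↔
      a ∈ q.comap (algebraMap Γ(S, S₀) Γ(X, W)) := by
    intro a
    rw [hkerκ a, Ideal.mem_comap, hq, mem_primeIdealOf_iff hW x hxW]
    have h0 : X.basicOpen (algebraMap Γ(S, S₀) Γ(X, W) a) = W ⊓ f ⁻¹ᵁ S.basicOpen a :=
      Scheme.basicOpen_appLE f W S₀ hWS a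
    rw [h0]
    constructor
    · intro h1 h2; exact h1 h2.2
    · intro h1 h2; exact h1 ⟨hxW, h2⟩
  have hregk := regular_tensor_residueField h (S.residueField (f x))
    (q.comap (algebraMap Γ(S, S₀) Γ(X, W))) hp hregL
  have hreg := isSMulRegular_localizedModule q.primeCompl h hregk
  haveI hflq : Module.Flat Γ(S, S₀) (LocalizedModule q.primeCompl Γ(F, W)) := by
    subst hq
    exact (Fl.isFlatOverAt_iff_flat_localizedModule f F hW hS₀ hWS x hxW).mp (hflat x)
  obtain ⟨hregM, -⟩ := Groth.Agent.Lib27.FibInj.step q Γ(F, W) h hreg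
  subst hq
  exact ⟨W, hxW, h, hhJ, stalk_regular_of_localizedModule_regular F hW x hxW h hregM⟩

end Groth.Agent.Lib.Helper6.FibDense
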