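import Mathlib
import Groth.Agent.Lib.Helper6.FibDense9
import Groth.Agent.Lib.Helper10.FibreProductStalk

/-!
# Universal injectivity of `F → j_* j^* F` is fibrewise (EGA IV 11.10.10, module form) (helper6)
-/

set_option autoImplicit false
set_option linter.style.haveILetI false
set_option linter.unusedSectionVars false
universe u

open CategoryTheory CategoryTheory.Limits AlgebraicGeometry TopologicalSpace Opposite TensorProduct
open Groth.Agent.Lib.Helper29.QCoh Groth.Agent.Lib.Helper18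

namespace Groth.Agent.Lib.Helper6.FibDense

/-- transport along an isomorphism of modules -/
theorem restrInj_of_iso {X : Scheme.{u}} {F G : X.Modules} (e : F ≅ G) (U : X.Opens)
    (h : RestrInj F U) : RestrInj G U := by
  intro V a b hab
  let ε : F.presheaf ≅ G.presheaf := (Scheme.Modules.toPresheaf X).mapIso e
  have hnat : ∀ c : G.presheaf.obj (op V),
      F.presheaf.map (homOfLE (inf_le_left : V ⊓ U ≤ V)).op (ε.inv.app (op V) c) =
        ε.inv.app (op (V ⊓ U)) (G.presheaf.map (homOfLE (inf_le_left : V ⊓ U ≤ V)).op c) := by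
    intro c
    have := congr($(ε.inv.naturality (homOfLE (inf_le_left : V ⊓ U ≤ V)).op) c)
    exact this.symm
  have h1 : ε.inv.app (op V) a = ε.inv.app (op V) b := by
    apply h V
    rw [hnat, hnat, hab]
  have h2 := congrArg (ε.hom.app (op V)) h1
  simpa using h2

open Groth.Agent.Lib.Lead.SchDense in
set_option maxHeartbeats 1600000 in
set_option maxRecDepth 4000 in
/-- flat pullback over a locally Noetherian scheme preserves injectivity of `F → j_* j^* F` for
finitely presented quasi-coherent `F` -/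
theorem restrInj_pullback_of_flat {X₁ X₂ : Scheme.{u}} (φ : X₂ ⟶ X₁) [Flat φ]
    [IsLocallyNoetherian X₁] (F₁ : X₁.Modules) [F₁.IsQuasicoherent] [F₁.IsFinitePresentation]
    (U₁ : X₁.Opens) (hInj : RestrInj F₁ U₁) :
    RestrInj ((Scheme.Modules.pullback φ).obj F₁) (φ ⁻¹ᵁ U₁) := by
  apply restrInj_of_forall_exists_regular
  intro x₂
  obtain ⟨W₁, hW₁, hx₁, -⟩ := exists_isAffineOpen_mem_and_subset (x := φ x₂) (U := ⊤) trivial
  obtain ⟨W₂, hW₂, hx₂, hW₂W₁⟩ := exists_isAffineOpen_mem_and_subset (x := x₂)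
    (U := φ ⁻¹ᵁ W₁) hx₁
  haveI : IsNoetherianRing Γ(X₁, W₁) := IsLocallyNoetherian.component_noetherian ⟨W₁, hW₁⟩
  haveI : Module.FinitePresentation Γ(X₁, W₁) Γ(F₁, W₁) :=
    module_finitePresentation_of_isFinitePresentation F₁ hW₁
  obtain ⟨h, hhJ, hhreg⟩ := exists_mem_regular_of_restrInj F₁ U₁ hInj hW₁
    (RingHom.id Γ(X₁, W₁)) (idealOf W₁ U₁) (by
      intro x' hx'
      obtain ⟨g, hgU, hxg⟩ := hW₁.exists_basicOpen_le (V := U₁) ⟨x', hx'.2⟩ hx'.1
      exact ⟨g, hgU, hxg⟩)
  letI alg12 : Algebra Γ(X₁, W₁) Γ(X₂, W₂) := (φ.appLE W₁ W₂ hW₂W₁).hom.toAlgebra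
  haveI hfl : Module.Flat Γ(X₁, W₁) Γ(X₂, W₂) :=
    HasRingHomProperty.appLE (P := @Flat) φ inferInstance ⟨W₁, hW₁⟩ ⟨W₂, hW₂⟩ hW₂W₁
  have eN : Γ((Scheme.Modules.pullback φ).obj F₁, W₂) ≃ₗ[Γ(X₂, W₂)]
      Γ(X₂, W₂) ⊗[Γ(X₁, W₁)] Γ(F₁, W₁) := pullbackSectionsEquiv φ F₁ hW₂ hW₁ hW₂W₁
  have hinj0 : Function.Injective (LinearMap.lsmul Γ(X₁, W₁) Γ(F₁, W₁) h) := by
    intro a b hab
    have hab' : h • a = h • b := hab
    exact sub_eq_zero.mp (hhreg _ (by
      rw [RingHom.id_apply, smul_sub]; exact sub_eq_zero.mpr hab'))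
  have hinj : Function.Injective
      (LinearMap.lTensor Γ(X₂, W₂) (LinearMap.lsmul Γ(X₁, W₁) Γ(F₁, W₁) h)) :=
    Module.Flat.lTensor_preserves_injective_linearMap _ hinj0
  have key : ∀ z : Γ(X₂, W₂) ⊗[Γ(X₁, W₁)] Γ(F₁, W₁),
      (φ.appLE W₁ W₂ hW₂W₁).hom h • z =
        LinearMap.lTensor Γ(X₂, W₂) (LinearMap.lsmul Γ(X₁, W₁) Γ(F₁, W₁) h) z := by
    intro z
    induction z using TensorProduct.induction_on with
    | zero => simp
    | add a b ha hb => simp only [smul_add, map_add, ha, hb]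
    | tmul r n =>
      rw [LinearMap.lTensor_tmul, LinearMap.lsmul_apply, TensorProduct.smul_tmul', smul_eq_mul,
        ← TensorProduct.smul_tmul, Algebra.smul_def]
      rfl
  have hreg2 : ∀ n : Γ((Scheme.Modules.pullback φ).obj F₁, W₂),
      (φ.appLE W₁ W₂ hW₂W₁).hom h • n = 0 → n = 0 := by
    intro n hn
    have h1 : (φ.appLE W₁ W₂ hW₂W₁).hom h • eN n = 0 := by rw [← map_smul, hn, map_zero]
    rw [key] at h1
    have h2 := hinj (h1.trans (map_zero _).symm)
    exact eN.injective (h2.trans (map_zero _).symm)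
  refine ⟨W₂, hx₂, (φ.appLE W₁ W₂ hW₂W₁).hom h, ?_, ?_⟩
  · rw [Scheme.basicOpen_appLE]
    exact inf_le_right.trans (Scheme.Hom.preimage_mono _ hhJ)
  · exact stalk_regular_of_localizedModule_regular _ hW₂ x₂ hx₂ _
      (isSMulRegular_localizedModule _ _ hreg2)

set_option maxHeartbeats 1600000 in
/-- EGA IV 11.10.10 for the canonical map `F → j_* j^* F` -/
theorem restrict_injective_univ_iff_fibrewise {X S : Scheme.{u}} (f : X ⟶ S)
    [LocallyOfFinitePresentation f] (F : X.Modules) [F.IsQuasicoherent]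
    [F.IsFinitePresentation] (hflat : FlatMod.IsFlatOver f F) (U : X.Opens) :
    (∀ (S' : Scheme.{u}) (g : S' ⟶ S) (V : (↑(pullback f g) : Scheme.{u}).Opens),
      Function.Injective (((Scheme.Modules.pullback (pullback.fst f g)).obj F).presheaf.map
        (homOfLE (inf_le_left : V ⊓ (pullback.fst f g) ⁻¹ᵁ U ≤ V)).op)) ↔
    ∀ (s : S) (V : (↑(f.fiber s) : Scheme.{u}).Opens),
      Function.Injective (((Scheme.Modules.pullback (f.fiberι s)).obj F).presheaf.map
        (homOfLE (inf_le_left : V ⊓ (f.fiberι s) ⁻¹ᵁ U ≤ V)).op) := by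
  constructor
  · intro h s V
    exact h _ (S.fromSpecResidueField s) V
  · intro h S' g
    haveI : LocallyOfFinitePresentation (pullback.snd f g) :=
      MorphismProperty.pullback_snd (P := @LocallyOfFinitePresentation) f g inferInstance
    have H : IsPullback (pullback.fst f g) (pullback.snd f g) f g := IsPullback.of_hasPullback f g
    haveI hF'fp : ((Scheme.Modules.pullback (pullback.fst f g)).obj F).IsFinitePresentation :=
      isFinitePresentation_pullback _ _
    have hflat' : FlatMod.IsFlatOver (pullback.snd f g)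
        ((Scheme.Modules.pullback (pullback.fst f g)).obj F) := fun x' =>
      Groth.Agent.Lib.Helper10.FibreProductStalk.isFlatOverAt_baseChange x' F H (hflat _)
    refine restrInj_of_fibrewise (pullback.snd f g) _ hflat' _ ?_
    intro s'
    have sq := isPullback_fiberToSpecResidueField_of_isPullback H s'
    obtain ⟨φ, hφ⟩ : ∃ φ : (pullback.snd f g).fiber s' ⟶ f.fiber (g s'),
        φ = pullback.map _ _ _ _ (pullback.fst f g) (Spec.map (g.residueFieldMap s')) g
          H.w.symm (by simp) := ⟨_, rfl⟩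
    rw [← hφ] at sq
    haveI hflatφ : Flat φ := MorphismProperty.of_isPullback (P := @Flat) sq.flip inferInstance
    have hcomp : φ ≫ f.fiberι (g s') = (pullback.snd f g).fiberι s' ≫ pullback.fst f g := by
      rw [hφ]
      exact pullback.lift_fst _ _ _
    haveI hlft : LocallyOfFiniteType (f.fiberToSpecResidueField (g s')) :=
      MorphismProperty.pullback_snd (P := @LocallyOfFiniteType) f (S.fromSpecResidueField (g s'))
        inferInstance
    haveI : IsLocallyNoetherian (f.fiber (g s')) :=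
      LocallyOfFiniteType.isLocallyNoetherian (f.fiberToSpecResidueField (g s'))
    haveI hFsfp : ((Scheme.Modules.pullback (f.fiberι (g s'))).obj F).IsFinitePresentation :=
      isFinitePresentation_pullback _ _
    have h1 := restrInj_pullback_of_flat φ ((Scheme.Modules.pullback (f.fiberι (g s'))).obj F)
      (f.fiberι (g s') ⁻¹ᵁ U) (h (g s'))
    have h2 : φ ⁻¹ᵁ (f.fiberι (g s') ⁻¹ᵁ U) =
        (pullback.snd f g).fiberι s' ⁻¹ᵁ (pullback.fst f g ⁻¹ᵁ U) := by
      rw [← Scheme.Hom.comp_preimage, ← Scheme.Hom.comp_preimage, hcomp]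
    rw [← h2]
    refine restrInj_of_iso ?_ _ h1
    exact (Scheme.Modules.pullbackComp φ (f.fiberι (g s'))).app F ≪≫
      (Scheme.Modules.pullbackCongr hcomp).app F ≪≫
      ((Scheme.Modules.pullbackComp ((pullback.snd f g).fiberι s') (pullback.fst f g)).app F).symm

end Groth.Agent.Lib.Helper6.FibDense
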