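import Mathlib
import Groth.Agent.Lib.Helper6.FibDense1

/-!
# Spreading out regularity of an element on the fibres: rings with prime nilradical (helper6)
-/

set_option autoImplicit false
set_option linter.style.haveILetI false
set_option linter.unusedSectionVars false
universe u
open TensorProduct

namespace Groth.Agent.Lib.Helper6.FibDense

lemma injective_lTensor_mulLeft_baseChange_iff {A R : Type u} [CommRing A] [CommRing R]
    [Algebra A R] {C : Type u} [CommRing C] [Algebra A C] (h₀ : C) (κ : Type u) [Field κ]
    [Algebra A κ] [Algebra R κ] [IsScalarTower A R κ] :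
    Function.Injective (LinearMap.lTensor κ (LinearMap.mulLeft R ((1 : R) ⊗ₜ[A] h₀))) ↔
      Function.Injective (LinearMap.lTensor κ (LinearMap.mulLeft A h₀)) := by
  let e := AlgebraTensorModule.cancelBaseChange A R R κ C
  have hcomm : ∀ x : κ ⊗[R] (R ⊗[A] C),
      e (LinearMap.lTensor κ (LinearMap.mulLeft R ((1 : R) ⊗ₜ[A] h₀)) x) =
        LinearMap.lTensor κ (LinearMap.mulLeft A h₀) (e x) := by
    intro x
    induction x using TensorProduct.induction_on with
    | zero => simp
    | add a b ha hb => simp only [map_add, ha, hb]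
    | tmul m y =>
      induction y using TensorProduct.induction_on with
      | zero => simp
      | add a b ha hb => simp only [tmul_add, map_add, ha, hb]
      | tmul r c =>
        rw [LinearMap.lTensor_tmul, LinearMap.mulLeft_apply,
          Algebra.TensorProduct.tmul_mul_tmul, one_mul]
        change e (m ⊗ₜ[R] (r ⊗ₜ[A] (h₀ * c))) =
          LinearMap.lTensor κ (LinearMap.mulLeft A h₀) (e (m ⊗ₜ[R] (r ⊗ₜ[A] c)))
        rw [AlgebraTensorModule.cancelBaseChange_tmul, AlgebraTensorModule.cancelBaseChange_tmul,
          LinearMap.lTensor_tmul, LinearMap.mulLeft_apply]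
  constructor
  · intro h a b hab
    have : e.symm a = e.symm b := h (e.injective (by
      rw [hcomm, hcomm, e.apply_symm_apply, e.apply_symm_apply, hab]))
    exact e.symm.injective this
  · intro h a b hab
    exact e.injective (h (by rw [← hcomm, ← hcomm, hab]))

theorem exists_forall_injective_lTensor_mulLeft' {A : Type u} [CommRing A]
    {C : Type u} [CommRing C] [Algebra A C] [Algebra.FiniteType A C] (h₀ : C)
    (L : Type u) [Field L] [Algebra A L] (hL : ∀ a : A, algebraMap A L a = 0 ↔ IsNilpotent a)
    (hgen : Function.Injective (LinearMap.lTensor L (LinearMap.mulLeft A h₀))) :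
    ∃ a : A, ¬ IsNilpotent a ∧ ∀ (κ : Type u) [Field κ] [Algebra A κ], algebraMap A κ a ≠ 0 →
      Function.Injective (LinearMap.lTensor κ (LinearMap.mulLeft A h₀)) := by
  let n : Ideal A := RingHom.ker (algebraMap A L)
  haveI hn : n.IsPrime := RingHom.ker_isPrime _
  let R := A ⧸ n
  letI algRL : Algebra R L := (RingHom.kerLift (algebraMap A L)).toAlgebra
  haveI twL : IsScalarTower A R L := IsScalarTower.of_algebraMap_eq (fun a => rfl)
  have hRL : Function.Injective (algebraMap R L) := RingHom.kerLift_injective _
  have hgen' := (injective_lTensor_mulLeft_baseChange_iff (R := R) h₀ L).mpr hgen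
  obtain ⟨f, hf, hf'⟩ := exists_forall_injective_lTensor_mulLeft (R := R) (C := R ⊗[A] C)
    ((1 : R) ⊗ₜ[A] h₀) L hRL hgen'
  obtain ⟨a, rfl⟩ := Ideal.Quotient.mk_surjective f
  refine ⟨a, ?_, ?_⟩
  · intro ha
    apply hf
    rw [Ideal.Quotient.eq_zero_iff_mem]
    exact (hL a).mpr ha
  · intro κ _ _ haκ
    have hle : ∀ x : A, x ∈ n → algebraMap A κ x = 0 := by
      intro x hx
      have hx' : IsNilpotent x := (hL x).mp hx
      exact (hx'.map (algebraMap A κ)).eq_zero
    letI algRκ : Algebra R κ := (Ideal.Quotient.lift n (algebraMap A κ) hle).toAlgebra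
    haveI twκ : IsScalarTower A R κ := IsScalarTower.of_algebraMap_eq (fun a => rfl)
    have h1 : algebraMap R κ (Ideal.Quotient.mk n a) ≠ 0 := haκ
    exact (injective_lTensor_mulLeft_baseChange_iff (R := R) h₀ κ).mp (hf' κ h1)

end Groth.Agent.Lib.Helper6.FibDense
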