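import Mathlib
import Groth.Prelude.Def_CInt
import Groth.Agent.Lib.Helper6.FibDense2
import Groth.Agent.Lib.Helper6.FibDense3
import Groth.Agent.Lib.Lead.SchDense
import Groth.Agent.Lib.Helper14.SchImg7

/-!
# Schematic density on the fibres near the generic point (EGA IV 9.5.3, generic form) (helper6)
-/

set_option autoImplicit false
set_option linter.style.haveILetI false
set_option linter.unusedSectionVars false
universe u

open CategoryTheory CategoryTheory.Limits AlgebraicGeometry TopologicalSpace Opposite TensorProduct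

namespace Groth.Agent.Lib.Helper6.FibDense

open Groth.Agent.Lib.Lead.SchDense in
set_option maxHeartbeats 1600000 in
theorem exists_basicOpen_chart {X Y : Scheme.{u}} (f : X ⟶ Y) [IrreducibleSpace ↑Y]
    [LocallyOfFiniteType f]
    (U : X.Opens) (hη : CInt.IsSchematicallyDense (f.fiberι (genericPoint ↑Y) ⁻¹ᵁ U))
    {Y₀ : Y.Opens} (hY₀ : IsAffineOpen Y₀) (hηY₀ : genericPoint ↑Y ∈ Y₀)
    {W : X.Opens} (hW : IsAffineOpen W) (hWY : W ≤ f ⁻¹ᵁ Y₀) :
    ∃ a : Γ(Y, Y₀), genericPoint ↑Y ∈ Y.basicOpen a ∧ ∀ y ∈ Y.basicOpen a,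
      ∃ r : Γ(f.fiber y, f.fiberι y ⁻¹ᵁ W),
        r ∈ nonZeroDivisors Γ(f.fiber y, f.fiberι y ⁻¹ᵁ W) ∧
        (f.fiber y).basicOpen r ≤ f.fiberι y ⁻¹ᵁ U := by
  obtain ⟨η, hηdef⟩ : ∃ η : Y, η = genericPoint ↑Y := ⟨_, rfl⟩
  rw [← hηdef] at hη hηY₀ ⊢
  letI algAC : Algebra Γ(Y, Y₀) Γ(X, W) := (f.appLE Y₀ W hWY).hom.toAlgebra
  haveI hft : Algebra.FiniteType Γ(Y, Y₀) Γ(X, W) :=
    HasRingHomProperty.appLE (P := @LocallyOfFiniteType) f inferInstance ⟨Y₀, hY₀⟩ ⟨W, hW⟩ hWY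
  obtain ⟨hWηaff, algL, hkerL, hnzdL⟩ := fibre_chart f hY₀ hW hWY η hηY₀
  haveI hlft : LocallyOfFiniteType (f.fiberToSpecResidueField η) :=
    MorphismProperty.pullback_snd (P := @LocallyOfFiniteType) f (Y.fromSpecResidueField η)
      inferInstance
  haveI : IsLocallyNoetherian (f.fiber η) :=
    LocallyOfFiniteType.isLocallyNoetherian (f.fiberToSpecResidueField η)
  haveI : IsNoetherianRing Γ(f.fiber η, f.fiberι η ⁻¹ᵁ W) :=
    IsLocallyNoetherian.component_noetherian ⟨_, hWηaff⟩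
  obtain ⟨h, hhJ, hhnzd⟩ := exists_mem_map_mem_nonZeroDivisors
    ((f.fiberι η).appLE W (f.fiberι η ⁻¹ᵁ W) le_rfl).hom (idealOf W U) (by
    intro t ht
    apply hη (f.fiberι η ⁻¹ᵁ W)
    rw [map_zero]
    refine TopCat.Presheaf.section_ext (f.fiber η).sheaf _ _ 0 ?_
    intro x hx
    obtain ⟨g, hgU, hxg⟩ := hW.exists_basicOpen_le (V := U) ⟨f.fiberι η x, hx.2⟩ hx.1
    have hg := ht g hgU
    have hxD : x ∈ (f.fiber η).basicOpen
        (((f.fiberι η).appLE W (f.fiberι η ⁻¹ᵁ W) le_rfl).hom g) := by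
      rw [Scheme.basicOpen_appLE]
      exact ⟨hx.1, hxg⟩
    have hu : IsUnit ((f.fiber η).presheaf.germ (f.fiberι η ⁻¹ᵁ W) x hx.1
        (((f.fiberι η).appLE W (f.fiberι η ⁻¹ᵁ W) le_rfl).hom g)) :=
      ((f.fiber η).mem_basicOpen _ x hx.1).1 hxD
    have h1 := congrArg ((f.fiber η).presheaf.germ (f.fiberι η ⁻¹ᵁ W) x hx.1) hg
    rw [map_mul, map_zero] at h1
    have h2 := hu.mul_right_eq_zero.1 h1
    have h3 := TopCat.Presheaf.germ_res_apply (f.fiber η).presheaf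
      (homOfLE (inf_le_left : f.fiberι η ⁻¹ᵁ W ⊓ f.fiberι η ⁻¹ᵁ U ≤ f.fiberι η ⁻¹ᵁ W)) x hx t
    change (f.fiber η).presheaf.germ (f.fiberι η ⁻¹ᵁ W ⊓ f.fiberι η ⁻¹ᵁ U) x hx _ =
      (f.fiber η).presheaf.germ (f.fiberι η ⁻¹ᵁ W ⊓ f.fiberι η ⁻¹ᵁ U) x hx 0
    rw [map_zero]
    exact h3.trans h2)
  have hgen := (hnzdL h).mp hhnzd
  have hL : ∀ a : Γ(Y, Y₀), algebraMap Γ(Y, Y₀) (Y.residueField η) a = 0 ↔ IsNilpotent a := by
    intro a
    rw [hkerL a, Scheme.isNilpotent_iff_basicOpen_eq_bot_of_isCompact hY₀.isCompact]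
    constructor
    · intro hna
      by_contra hne
      apply hna
      have hne' : ((Y.basicOpen a : Set Y)).Nonempty := (Opens.ne_bot_iff_nonempty _).mp hne
      rw [hηdef]
      exact ((genericPoint_spec Y).mem_open_set_iff (Y.basicOpen a).isOpen).mpr
        (by simpa using hne')
    · intro h0 hmem
      rw [h0] at hmem
      exact hmem
  obtain ⟨a, ha, ha'⟩ := exists_forall_injective_lTensor_mulLeft' h (Y.residueField η) hL hgen
  refine ⟨a, ?_, ?_⟩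
  · by_contra hna
    exact ha ((hL a).mp ((hkerL a).mpr hna))
  · intro y hy
    have hyY₀ : y ∈ Y₀ := Y.basicOpen_le a hy
    obtain ⟨hWyaff, algκ, hkerκ, hnzdκ⟩ := fibre_chart f hY₀ hW hWY y hyY₀
    have hane : algebraMap Γ(Y, Y₀) (Y.residueField y) a ≠ 0 := by
      intro h0
      exact ((hkerκ a).mp h0) hy
    refine ⟨((f.fiberι y).appLE W (f.fiberι y ⁻¹ᵁ W) le_rfl).hom h,
      (hnzdκ h).mpr (ha' _ hane), ?_⟩
    rw [Scheme.basicOpen_appLE]
    exact inf_le_right.trans (Scheme.Hom.preimage_mono _ hhJ)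

open Groth.Agent.Lib.Helper14.AS in
set_option maxHeartbeats 1600000 in
theorem schemeTheoreticallyDense_fibres_near_generic_point {X Y : Scheme.{u}} (f : X ⟶ Y)
    [IrreducibleSpace ↑Y] [LocallyOfFiniteType f] [QuasiCompact f]
    (U : X.Opens) (h : IsSchemeTheoreticallyDominant (f.fiberι (genericPoint ↑Y) ⁻¹ᵁ U).ι) :
    ∃ V : Y.Opens, (V : Set ↑Y).Nonempty ∧
      ∀ y ∈ V, IsSchemeTheoreticallyDominant (f.fiberι y ⁻¹ᵁ U).ι := by
  haveI hlft : LocallyOfFiniteType (f.fiberToSpecResidueField (genericPoint ↑Y)) :=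
    MorphismProperty.pullback_snd (P := @LocallyOfFiniteType) f
      (Y.fromSpecResidueField (genericPoint ↑Y)) inferInstance
  haveI : IsLocallyNoetherian (f.fiber (genericPoint ↑Y)) :=
    LocallyOfFiniteType.isLocallyNoetherian (f.fiberToSpecResidueField (genericPoint ↑Y))
  have hη : CInt.IsSchematicallyDense (f.fiberι (genericPoint ↑Y) ⁻¹ᵁ U) :=
    isSchematicallyDense_of_ker_ι_eq_bot _ h.ker_eq_bot
  obtain ⟨Y₀, hY₀, hηY₀, -⟩ := exists_isAffineOpen_mem_and_subset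
    (x := genericPoint ↑Y) (U := ⊤) trivial
  have hcpt : IsCompact ((f ⁻¹ᵁ Y₀ : X.Opens) : Set X) :=
    QuasiCompact.isCompact_preimage _ Y₀.isOpen hY₀.isCompact
  obtain ⟨s, hsfin, hs⟩ := isCompact_iff_finite_and_eq_biUnion_affineOpens.mp hcpt
  have key : ∀ s : Set X.affineOpens, s.Finite → (∀ W ∈ s, (W : X.Opens) ≤ f ⁻¹ᵁ Y₀) →
      ∃ a : Γ(Y, Y₀), genericPoint ↑Y ∈ Y.basicOpen a ∧ ∀ y ∈ Y.basicOpen a, ∀ W ∈ s,
        ∃ r : Γ(f.fiber y, f.fiberι y ⁻¹ᵁ (W : X.Opens)),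
          r ∈ nonZeroDivisors Γ(f.fiber y, f.fiberι y ⁻¹ᵁ (W : X.Opens)) ∧
          (f.fiber y).basicOpen r ≤ f.fiberι y ⁻¹ᵁ U := by
    intro s hs
    induction s, hs using Set.Finite.induction_on with
    | empty =>
      intro _
      refine ⟨1, ?_, fun _ _ W hW => absurd hW (Set.notMem_empty W)⟩
      rw [Scheme.basicOpen_of_isUnit _ isUnit_one]
      exact hηY₀
    | @insert W s hWs hsfin ih =>
      intro hle
      obtain ⟨a₁, ha₁, ha₁'⟩ := ih (fun W' hW' => hle W' (Set.mem_insert_of_mem _ hW'))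
      obtain ⟨a₂, ha₂, ha₂'⟩ := exists_basicOpen_chart f U hη hY₀ hηY₀ W.2
        (hle W (Set.mem_insert _ _))
      refine ⟨a₁ * a₂, ?_, ?_⟩
      · rw [Scheme.basicOpen_mul]
        exact ⟨ha₁, ha₂⟩
      · intro y hy W' hW'
        rw [Scheme.basicOpen_mul] at hy
        rcases Set.mem_insert_iff.mp hW' with rfl | hW'
        · exact ha₂' y hy.2
        · exact ha₁' y hy.1 W' hW'
  have hsle : ∀ W ∈ s, (W : X.Opens) ≤ f ⁻¹ᵁ Y₀ := fun W hW => by
    rw [hs]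
    exact le_iSup₂ (f := fun (i : X.affineOpens) (_ : i ∈ s) => (i : X.Opens)) W hW
  obtain ⟨a, haη, ha⟩ := key s hsfin hsle
  refine ⟨Y.basicOpen a, ⟨genericPoint ↑Y, haη⟩, fun y hy => ?_⟩
  have hyY₀ : y ∈ Y₀ := Y.basicOpen_le a hy
  refine ⟨ker_ι_eq_bot_of_isSchematicallyDense _ ?_⟩
  apply isSchematicallyDense_of_forall_exists_nonZeroDivisor
  intro x
  have hfx : f (f.fiberι y x) = y := by
    have h1 : f.fiberι y x ∈ Set.range (f.fiberι y) := Set.mem_range_self x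
    rw [f.range_fiberι y] at h1
    exact h1
  have hx : f.fiberι y x ∈ f ⁻¹ᵁ Y₀ := by
    change f (f.fiberι y x) ∈ Y₀
    rw [hfx]
    exact hyY₀
  rw [hs] at hx
  obtain ⟨W, hWs, hxW⟩ : ∃ W ∈ s, f.fiberι y x ∈ (W : X.Opens) := by
    simpa [Opens.mem_iSup] using hx
  obtain ⟨r, hr, hrU⟩ := ha y hy W hWs
  obtain ⟨haff, -⟩ := fibre_chart f hY₀ W.2 (hsle W hWs) y hyY₀
  exact ⟨f.fiberι y ⁻¹ᵁ W, haff, r, hxW, hr, hrU⟩

end Groth.Agent.Lib.Helper6.FibDense
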