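import Mathlib
import Groth.Prelude.Def_CInt
import Groth.Agent.Lib.Helper6.FibDense5
import Groth.Agent.Lib.Helper12.SchDense

/-!
# Universal schematic density is fibrewise, for flat morphisms locally of finite presentation
(EGA IV 11.10.10) (helper6)
-/

set_option autoImplicit false
set_option linter.style.haveILetI false
set_option linter.unusedSectionVars false
universe u

open CategoryTheory CategoryTheory.Limits AlgebraicGeometry TopologicalSpace Opposite TensorProduct

namespace Groth.Agent.Lib.Helper6.FibDense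

open Groth.Agent.Lib.Lead.SchDense in
set_option maxHeartbeats 1600000 in
/-- fibrewise schematically dense opens of a flat lfp scheme are schematically dense -/
theorem isSchematicallyDense_of_fibrewise {X S : Scheme.{u}} (f : X ⟶ S) [Flat f]
    [LocallyOfFinitePresentation f] (U : X.Opens)
    (hfib : ∀ s : S, CInt.IsSchematicallyDense (f.fiberι s ⁻¹ᵁ U)) :
    CInt.IsSchematicallyDense U := by
  apply isSchematicallyDense_of_forall_exists_germ_nonZeroDivisor
  intro x
  obtain ⟨S₀, hS₀, hs, -⟩ := exists_isAffineOpen_mem_and_subset (x := f x) (U := ⊤) trivial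
  obtain ⟨W, hW, hxW, hWS⟩ := exists_isAffineOpen_mem_and_subset (x := x) (U := f ⁻¹ᵁ S₀) hs
  letI algAB : Algebra Γ(S, S₀) Γ(X, W) := (f.appLE S₀ W hWS).hom.toAlgebra
  haveI hfl : Module.Flat Γ(S, S₀) Γ(X, W) :=
    HasRingHomProperty.appLE (P := @Flat) f inferInstance ⟨S₀, hS₀⟩ ⟨W, hW⟩ hWS
  haveI hfp : Algebra.FinitePresentation Γ(S, S₀) Γ(X, W) :=
    HasRingHomProperty.appLE (P := @LocallyOfFinitePresentation) f inferInstance ⟨S₀, hS₀⟩
      ⟨W, hW⟩ hWS
  obtain ⟨hWsaff, algκ, hkerκ, hnzdκ⟩ := fibre_chart f hS₀ hW hWS (f x) hs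
  obtain ⟨h, hhJ, hhnzd⟩ :=
    exists_mem_idealOf_nonZeroDivisor_fibre f U (f x) (hfib (f x)) hW hWsaff
  have hinjκ := (hnzdκ h).mp hhnzd
  obtain ⟨q, hq⟩ : ∃ q : Ideal Γ(X, W), q = (hW.primeIdealOf ⟨x, hxW⟩).asIdeal := ⟨_, rfl⟩
  haveI hqp : q.IsPrime := by rw [hq]; infer_instance
  have hp : ∀ a, algebraMap Γ(S, S₀) (S.residueField (f x)) a = 0 ↔
      a ∈ q.comap (algebraMap Γ(S, S₀) Γ(X, W)) := by
    intro a
    rw [hkerκ a, Ideal.mem_comap, hq, mem_primeIdealOf_iff hW x hxW]
    have h0 : X.basicOpen (algebraMap Γ(S, S₀) Γ(X, W) a) = W ⊓ f ⁻¹ᵁ S.basicOpen a :=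
      Scheme.basicOpen_appLE f W S₀ hWS a
    rw [h0]
    constructor
    · intro h1 h2; exact h1 h2.2
    · intro h1 h2; exact h1 ⟨hxW, h2⟩
  have hinjk := injective_lTensor_residueField h (S.residueField (f x))
    (q.comap (algebraMap Γ(S, S₀) Γ(X, W))) hp hinjκ
  have hreg := isSMulRegular_localizedModule_tensor q
    (q.comap (algebraMap Γ(S, S₀) Γ(X, W))).ResidueField h hinjk
  haveI hflq : Module.Flat Γ(S, S₀) (LocalizedModule q.primeCompl Γ(X, W)) := by
    haveI h1 : Module.Flat Γ(X, W) (LocalizedModule q.primeCompl Γ(X, W)) :=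
      (Module.flat_iff_of_isLocalization (Localization q.primeCompl) q.primeCompl _).mp
        inferInstance
    exact Module.Flat.trans Γ(S, S₀) Γ(X, W) _
  obtain ⟨hregB, -⟩ := Groth.Agent.Lib27.FibInj.step q Γ(X, W) h hreg
  subst hq
  exact ⟨W, hxW, h, germ_mem_nonZeroDivisors_of_isSMulRegular hW x hxW h hregB, hhJ⟩

set_option maxHeartbeats 1600000 in
/-- EGA IV 11.10.10 for open subschemes -/
theorem univ_schematicallyDense_iff_fibrewise {X S : Scheme.{u}} (f : X ⟶ S) [Flat f]
    [LocallyOfFinitePresentation f] (U : X.Opens) :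
    (∀ (S' : Scheme.{u}) (g : S' ⟶ S), CInt.IsSchematicallyDense ((pullback.fst f g) ⁻¹ᵁ U)) ↔
      ∀ s : S, CInt.IsSchematicallyDense ((f.fiberι s) ⁻¹ᵁ U) := by
  constructor
  · intro h s
    exact h _ (S.fromSpecResidueField s)
  · intro h S' g
    haveI : Flat (pullback.snd f g) := inferInstance
    haveI : LocallyOfFinitePresentation (pullback.snd f g) :=
      MorphismProperty.pullback_snd (P := @LocallyOfFinitePresentation) f g inferInstance
    refine isSchematicallyDense_of_fibrewise (pullback.snd f g) _ ?_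
    intro s'
    have H : IsPullback (pullback.fst f g) (pullback.snd f g) f g := IsPullback.of_hasPullback f g
    have sq := isPullback_fiberToSpecResidueField_of_isPullback H s'
    obtain ⟨φ, hφ⟩ : ∃ φ : (pullback.snd f g).fiber s' ⟶ f.fiber (g s'),
        φ = pullback.map _ _ _ _ (pullback.fst f g) (Spec.map (g.residueFieldMap s')) g
          H.w.symm (by simp) := ⟨_, rfl⟩
    rw [← hφ] at sq
    haveI hflat : Flat φ := MorphismProperty.of_isPullback (P := @Flat) sq.flip inferInstance
    have hcomp : φ ≫ f.fiberι (g s') = (pullback.snd f g).fiberι s' ≫ pullback.fst f g := by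
      rw [hφ]
      exact pullback.lift_fst _ _ _
    haveI hlft : LocallyOfFiniteType (f.fiberToSpecResidueField (g s')) :=
      MorphismProperty.pullback_snd (P := @LocallyOfFiniteType) f (S.fromSpecResidueField (g s'))
        inferInstance
    haveI : IsLocallyNoetherian (f.fiber (g s')) :=
      LocallyOfFiniteType.isLocallyNoetherian (f.fiberToSpecResidueField (g s'))
    have h1 := Groth.Agent.Lib.Helper12.SchDense.preimage_of_flat_of_isLocallyNoetherian φ
      (f.fiberι (g s') ⁻¹ᵁ U) (h (g s'))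
    have h2 : φ ⁻¹ᵁ (f.fiberι (g s') ⁻¹ᵁ U) =
        (pullback.snd f g).fiberι s' ⁻¹ᵁ (pullback.fst f g ⁻¹ᵁ U) := by
      rw [← Scheme.Hom.comp_preimage, ← Scheme.Hom.comp_preimage, hcomp]
    rw [← h2]
    exact h1

end Groth.Agent.Lib.Helper6.FibDense
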