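import Mathlib
import Groth.Agent.Lib.Helper9.FlatCrit

/-!
# Flatness over a local ring with a socle element, detected by a family of flat modules (helper6)
-/

set_option autoImplicit false
set_option linter.style.haveILetI false
universe u v

namespace Groth.Agent.Lib.Helper6.FlFam

open TensorProduct Function

section Flat

variable {R : Type*} [CommRing R]

/-- In a flat module, `a • y = 0` forces `y ∈ Ann(a) • ⊤`. -/
theorem mem_smul_top_of_smul_eq_zero_of_flat {Y : Type*} [AddCommGroup Y] [Module R Y]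
    [Module.Flat R Y] (I : Ideal R) (a : R) (hI : ∀ r : R, a * r = 0 → r ∈ I) (y : Y)
    (h : a • y = 0) : y ∈ I • (⊤ : Submodule R Y) := by
  have h1 : ∑ i : Fin 1, (fun _ : Fin 1 => a) i • (fun _ : Fin 1 => y) i = 0 := by
    simpa using h
  obtain ⟨k, c, z, hz, hc⟩ := Module.Flat.isTrivialRelation_of_sum_smul_eq_zero h1
  have h2 := hz 0
  simp only at h2
  rw [h2]
  refine Submodule.sum_mem _ fun j _ => ?_
  refine Submodule.smul_mem_smul (hI _ ?_) Submodule.mem_top
  have := hc j
  simpa using this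

end Flat

section Socle

variable {R : Type u} [CommRing R] [IsLocalRing R] (ε : R)
  (hε : ε ∈ IsLocalRing.maximalIdeal R) (hε0 : ε ≠ 0)
  (hsoc : ∀ r ∈ IsLocalRing.maximalIdeal R, r * ε = 0)
  (N : Type v) [AddCommGroup N] [Module R N]

include hε hε0 hsoc in
/-- Let `ε` be a nonzero socle element of the local ring `R`, and `N` an `R`-module with
`N/εN` flat over `R/ε`. If a family of maps `ρ j : N → N_j` into flat modules detects membership
in `𝔫 N`, then `N` is flat. -/
theorem flat_of_family {J : Type*} (Nj : J → Type v) [∀ j, AddCommGroup (Nj j)]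
    [∀ j, Module R (Nj j)] [∀ j, Module.Flat R (Nj j)] (ρ : ∀ j, N →ₗ[R] Nj j)
    [Module.Flat (R ⧸ Ideal.span {ε}) ((R ⧸ Ideal.span {ε}) ⊗[R] N)]
    (hdet : ∀ n : N, (∀ j, ρ j n ∈ IsLocalRing.maximalIdeal R • (⊤ : Submodule R (Nj j))) →
      n ∈ IsLocalRing.maximalIdeal R • (⊤ : Submodule R N)) :
    Module.Flat R N := by
  set 𝔫 := IsLocalRing.maximalIdeal R with h𝔫
  set I : Ideal R := Ideal.span {ε} with hI
  have hann : ∀ r : R, ε * r = 0 → r ∈ 𝔫 := by
    intro r hr
    by_contra hr'
    have hu : IsUnit r := by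
      by_contra hnu
      exact hr' ((IsLocalRing.mem_maximalIdeal r).mpr hnu)
    exact hε0 (by
      have := hu.mul_left_eq_zero.mp hr
      exact this)
  have hnil : IsNilpotent I := by
    refine ⟨2, ?_⟩
    rw [hI, Ideal.span_singleton_pow, sq, hsoc ε hε]
    simp
  refine Groth.Agent.Lib.Helper9.flat_of_isNilpotent_of_rTensor_injective I hnil ?_
  rw [injective_iff_map_eq_zero]
  intro t ht
  have hεI : ε ∈ I := Ideal.mem_span_singleton_self ε
  -- every element is of the form `ε ⊗ n`
  have hform : ∀ t : (I : Type u) ⊗[R] N, ∃ n : N, t = (⟨ε, hεI⟩ : I) ⊗ₜ[R] n := by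
    intro t
    induction t using TensorProduct.induction_on with
    | zero => exact ⟨0, by simp⟩
    | tmul x n =>
      obtain ⟨x, hx⟩ := x
      obtain ⟨r, rfl⟩ := Ideal.mem_span_singleton'.mp hx
      refine ⟨r • n, ?_⟩
      rw [TensorProduct.tmul_smul, TensorProduct.smul_tmul']
      rfl
    | add a b ha hb =>
      obtain ⟨n₁, rfl⟩ := ha
      obtain ⟨n₂, rfl⟩ := hb
      exact ⟨n₁ + n₂, (TensorProduct.tmul_add _ _ _).symm⟩
  obtain ⟨n, rfl⟩ := hform t
  have h1 : ε • n = 0 := by
    have := congrArg (TensorProduct.lid R N) ht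
    simpa using this
  have h2 : n ∈ 𝔫 • (⊤ : Submodule R N) := by
    refine hdet n fun j => ?_
    refine mem_smul_top_of_smul_eq_zero_of_flat 𝔫 ε hann _ ?_
    rw [← map_smul, h1, map_zero]
  -- `ε ⊗ n = 0` for `n ∈ 𝔫 N`
  have key : ∀ m : N, m ∈ 𝔫 • (⊤ : Submodule R N) → (⟨ε, hεI⟩ : I) ⊗ₜ[R] m = 0 := by
    intro m hm
    induction hm using Submodule.smul_induction_on' with
    | smul r hr m _ =>
      rw [TensorProduct.tmul_smul, TensorProduct.smul_tmul']
      have : r • (⟨ε, hεI⟩ : I) = 0 := by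
        apply Subtype.ext
        change r * ε = 0
        exact hsoc r hr
      rw [this, TensorProduct.zero_tmul]
    | add x hx y hy ihx ihy =>
      rw [TensorProduct.tmul_add, ihx, ihy, add_zero]
  exact key n h2

end Socle

end Groth.Agent.Lib.Helper6.FlFam
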