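import Mathlib
import Groth.Prelude.Def_FlatMod2
import Groth.Agent.Lib.Helper10.FibreProductStalk
import Groth.Agent.Lib.Helper28.DCohRes17
import Groth.Agent.Lib.Helper29.QCohPullback

/-!
# Base change of flatness at a point along a composite (helper6)
-/

set_option backward.isDefEq.respectTransparency.types false
set_option autoImplicit false
set_option linter.style.haveILetI false
set_option linter.unusedSectionVars false
universe u

namespace Groth.Agent.Lib.Helper6.FlFam

open AlgebraicGeometry CategoryTheory CategoryTheory.Limits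
open Groth.Agent.Lib.Helper29.QCoh

theorem isFlatOverAt_of_iso {X S : Scheme.{u}} (f : X ⟶ S) {M N : X.Modules} (e : M ≅ N) (x : X)
    (h : FlatMod.IsFlatOverAt f M x) : FlatMod.IsFlatOverAt f N x := by
  letI algSX : Algebra (S.presheaf.stalk (f.base x)) (X.presheaf.stalk x) :=
    (f.stalkMap x).hom.toAlgebra
  letI m1 : Module (S.presheaf.stalk (f.base x)) (M.presheaf.stalk x) :=
    FlatMod.moduleStalkOver f M x
  letI m2 : Module (S.presheaf.stalk (f.base x)) (N.presheaf.stalk x) :=
    FlatMod.moduleStalkOver f N x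
  haveI : IsScalarTower (S.presheaf.stalk (f.base x)) (X.presheaf.stalk x)
      (M.presheaf.stalk x) := IsScalarTower.of_algebraMap_smul fun a m => rfl
  haveI : IsScalarTower (S.presheaf.stalk (f.base x)) (X.presheaf.stalk x)
      (N.presheaf.stalk x) := IsScalarTower.of_algebraMap_smul fun a m => rfl
  haveI : Module.Flat (S.presheaf.stalk (f.base x)) (M.presheaf.stalk x) := h
  exact Module.Flat.of_linearEquiv
    ((Groth.Agent.Lib.Helper28.DCohRes.stalkLinearEquiv e x).symm.restrictScalars
      (S.presheaf.stalk (f.base x)))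

theorem isFlatOverAt_pullback_comp {X S Y T : Scheme.{u}} (f : X ⟶ S) (g : Y ⟶ S) (h : T ⟶ Y)
    (t : T ⟶ S) (ht : t = h ≫ g) (F : X.Modules) [F.IsQuasicoherent] (x'' : ↥(pullback f t))
    (hfl : ∀ z : ↥(pullback f g), pullback.fst f g z = pullback.fst f t x'' →
      FlatMod.IsFlatOverAt (pullback.snd f g)
        ((Scheme.Modules.pullback (pullback.fst f g)).obj F) z) :
    FlatMod.IsFlatOverAt (pullback.snd f t)
      ((Scheme.Modules.pullback (pullback.fst f t)).obj F) x'' := by
  subst ht
  let k : pullback f (h ≫ g) ⟶ pullback f g :=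
    pullback.map f (h ≫ g) f g (𝟙 X) h (𝟙 S) (by simp) (by simp)
  have hk1 : k ≫ pullback.fst f g = pullback.fst f (h ≫ g) := by
    simp only [k, pullback.map]
    rw [pullback.lift_fst, Category.comp_id]
  have hk2 : k ≫ pullback.snd f g = pullback.snd f (h ≫ g) ≫ h := by
    simp only [k, pullback.map]
    rw [pullback.lift_snd]
  have hc : IsPullback k (pullback.snd f (h ≫ g)) (pullback.snd f g) h :=
    IsPullback.of_right (by rw [hk1]; exact IsPullback.of_hasPullback f (h ≫ g)) hk2
      (IsPullback.of_hasPullback f g)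
  have h1 := hfl (k x'') (by rw [← Scheme.Hom.comp_apply, hk1])
  have h2 := Groth.Agent.Lib.Helper10.FibreProductStalk.isFlatOverAt_baseChange x''
    ((Scheme.Modules.pullback (pullback.fst f g)).obj F) hc h1
  have e : (Scheme.Modules.pullback k).obj ((Scheme.Modules.pullback (pullback.fst f g)).obj F) ≅
      (Scheme.Modules.pullback (pullback.fst f (h ≫ g))).obj F :=
    (Scheme.Modules.pullbackComp k (pullback.fst f g)).app F ≪≫
      (Scheme.Modules.pullbackCongr hk1).app F
  exact isFlatOverAt_of_iso _ e x'' h2

end Groth.Agent.Lib.Helper6.FlFam
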