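import Mathlib

/-!
# Separation lemmas for `K ⊗ M_q` (helper6)

* `exists_functional_rTensor_ne_zero`: a nonzero element of `K ⊗[A] X`, `K` a vector space over the
  residue field `A ⧸ 𝔪`, is detected by a functional `K → A ⧸ 𝔪`.
* `mem_smul_top_of_forall_mem_sup`: Krull's intersection theorem for `M_q / 𝔪 M_q`.
-/

set_option autoImplicit false
set_option linter.style.haveILetI false
universe u v

namespace Groth.Agent.Lib.Helper6.FlFam

open TensorProduct Function

section Basis

variable {A : Type u} [CommRing A] (𝔪 : Ideal A) [h𝔪 : 𝔪.IsMaximal]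
  (K : Type v) [AddCommGroup K] [Module A K] (hK : ∀ a ∈ 𝔪, ∀ c : K, a • c = 0)
  (X : Type v) [AddCommGroup X] [Module A X]

include hK in
theorem exists_functional_rTensor_ne_zero (z : K ⊗[A] X) (hz : z ≠ 0) :
    ∃ l : K →ₗ[A] (A ⧸ 𝔪), l.rTensor X z ≠ 0 := by
  classical
  letI : Field (A ⧸ 𝔪) := Ideal.Quotient.field 𝔪
  have htors : Module.IsTorsionBySet A K 𝔪 := fun c a => hK a a.2 c
  letI : Module (A ⧸ 𝔪) K := htors.module
  haveI : IsScalarTower A (A ⧸ 𝔪) K := htors.isScalarTower
  let ℬ := Module.Basis.ofVectorSpace (A ⧸ 𝔪) K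
  let e1 : K ⊗[A ⧸ 𝔪] ((A ⧸ 𝔪) ⊗[A] X) ≃ₗ[A ⧸ 𝔪] K ⊗[A] X :=
    AlgebraTensorModule.cancelBaseChange A (A ⧸ 𝔪) (A ⧸ 𝔪) K X
  have key : ∀ (b) (z' : K ⊗[A ⧸ 𝔪] ((A ⧸ 𝔪) ⊗[A] X)),
      TensorProduct.lid (A ⧸ 𝔪) ((A ⧸ 𝔪) ⊗[A] X) ((ℬ.coord b).rTensor _ z') =
        ((ℬ.coord b).restrictScalars A).rTensor X (e1 z') := by
    intro b z'
    induction z' using TensorProduct.induction_on with
    | zero => simp
    | add x y hx hy => simp only [map_add, hx, hy]
    | tmul c n =>
      induction n using TensorProduct.induction_on with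
      | zero => simp
      | add x y hx hy => simp only [TensorProduct.tmul_add, map_add, hx, hy]
      | tmul r x =>
        simp only [LinearMap.rTensor_tmul, TensorProduct.lid_tmul, e1,
          AlgebraTensorModule.cancelBaseChange_tmul, LinearMap.coe_restrictScalars, map_smul,
          TensorProduct.smul_tmul', smul_eq_mul, mul_comm]
  have hz' : e1.symm z ≠ 0 := by
    intro h
    exact hz (by simpa using congrArg e1 h)
  have h2 : TensorProduct.equivFinsuppOfBasisLeft ℬ (e1.symm z) ≠ 0 := by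
    intro h
    exact hz' ((TensorProduct.equivFinsuppOfBasisLeft ℬ).map_eq_zero_iff.mp h)
  obtain ⟨b, hb⟩ := Finsupp.ne_iff.mp h2
  refine ⟨(ℬ.coord b).restrictScalars A, ?_⟩
  rw [TensorProduct.equivFinsuppOfBasisLeft_apply, key, LinearEquiv.apply_symm_apply] at hb
  simpa using hb

end Basis

section Krull

variable {A B : Type u} [CommRing A] [CommRing B] [Algebra A B] [IsNoetherianRing B]
  (q : Ideal B) [q.IsPrime] (M : Type u) [AddCommGroup M] [Module B M] [Module A M]
  [IsScalarTower A B M] [Module.Finite B M] (𝔪 : Ideal A)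

/-- the `q`-adic filtration on `M_q`, as `A`-submodules -/
noncomputable def Qn (n : ℕ) : Submodule A (LocalizedModule q.primeCompl M) :=
  ((IsLocalRing.maximalIdeal (Localization.AtPrime q) ^ n •
    (⊤ : Submodule (Localization.AtPrime q) (LocalizedModule q.primeCompl M))).restrictScalars A)

omit [IsNoetherianRing B] [Module.Finite B M] in
theorem smul_mem_Qn {n : ℕ} {b : B} (hb : b ∈ q ^ n) (x : LocalizedModule q.primeCompl M) :
    b • x ∈ Qn (A := A) q M n := by
  change b • x ∈ (IsLocalRing.maximalIdeal (Localization.AtPrime q) ^ n •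
    (⊤ : Submodule (Localization.AtPrime q) (LocalizedModule q.primeCompl M)))
  rw [← algebraMap_smul (Localization.AtPrime q) b x]
  refine Submodule.smul_mem_smul ?_ Submodule.mem_top
  have h1 : algebraMap B (Localization.AtPrime q) b ∈
      (q ^ n).map (algebraMap B (Localization.AtPrime q)) := Ideal.mem_map_of_mem _ hb
  rw [Ideal.map_pow, Localization.AtPrime.map_eq_maximalIdeal] at h1
  exact h1

/-- **Krull**: an element of `M_q` lying in `q^n M_q + 𝔪 M_q` for all `n` lies in `𝔪 M_q`. -/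
theorem mem_smul_top_of_forall_mem_sup (x : LocalizedModule q.primeCompl M)
    (h : ∀ n, x ∈ Qn (A := A) q M n ⊔ 𝔪 • (⊤ : Submodule A (LocalizedModule q.primeCompl M))) :
    x ∈ 𝔪 • (⊤ : Submodule A (LocalizedModule q.primeCompl M)) := by
  set 𝔫 := IsLocalRing.maximalIdeal (Localization.AtPrime q)
  set W : Submodule (Localization.AtPrime q) (LocalizedModule q.primeCompl M) :=
    (𝔪.map (algebraMap A (Localization.AtPrime q))) •
      (⊤ : Submodule (Localization.AtPrime q) (LocalizedModule q.primeCompl M)) with hW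
  have hWA : W.restrictScalars A = 𝔪 • (⊤ : Submodule A (LocalizedModule q.primeCompl M)) := by
    rw [hW, Ideal.smul_restrictScalars]
    rfl
  have hkr : (⨅ i : ℕ, 𝔫 ^ i • ⊤ : Submodule (Localization.AtPrime q)
      ((LocalizedModule q.primeCompl M) ⧸ W)) = ⊥ :=
    Ideal.iInf_pow_smul_eq_bot_of_isLocalRing 𝔫 (Ideal.IsMaximal.ne_top inferInstance)
  have hx : W.mkQ x ∈ (⨅ i : ℕ, 𝔫 ^ i • ⊤ : Submodule (Localization.AtPrime q)
      ((LocalizedModule q.primeCompl M) ⧸ W)) := by
    rw [Submodule.mem_iInf]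
    intro n
    obtain ⟨y, hy, w, hw, hxy⟩ := Submodule.mem_sup.mp (h n)
    rw [← hxy]
    have hw' : w ∈ W := by
      have : w ∈ W.restrictScalars A := by rw [hWA]; exact hw
      exact this
    have hw0 : W.mkQ w = 0 := (Submodule.Quotient.mk_eq_zero W).mpr hw'
    rw [map_add, hw0, add_zero]
    have hy' : y ∈ (𝔫 ^ n • (⊤ : Submodule (Localization.AtPrime q)
        (LocalizedModule q.primeCompl M))) := hy
    have := Submodule.mem_map_of_mem (f := W.mkQ) hy'
    rw [Submodule.map_smul''] at this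
    exact Submodule.smul_mono le_rfl le_top this
  rw [hkr, Submodule.mem_bot] at hx
  have hxW : x ∈ W := (Submodule.Quotient.mk_eq_zero W).mp hx
  have : x ∈ W.restrictScalars A := hxW
  rw [hWA] at this
  exact this

end Krull

end Groth.Agent.Lib.Helper6.FlFam
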