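import Mathlib
import Groth.Agent.Lib.Helper6.FlFam2

/-!
# The comparison map `C ⊗[B] M → R ⊗[A] M_q` (helper6)
-/

set_option autoImplicit false
set_option linter.style.haveILetI false
set_option linter.unusedSectionVars false
universe u v

namespace Groth.Agent.Lib.Helper6.FlFam

open TensorProduct Function IsLocalRing

/-- induction principle for `C ⊗[B] M` in the pushout situation -/
theorem induction_pushout (A : Type u) {B A' C : Type u} [CommRing A] [CommRing B] [CommRing A']
    [CommRing C] [Algebra A B] [Algebra A A'] [Algebra A C] [Algebra A' C] [Algebra B C]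
    [IsScalarTower A A' C] [IsScalarTower A B C] [Algebra.IsPushout A A' B C]
    {M : Type u} [AddCommGroup M] [Module B M] [Module A M] [IsScalarTower A B M]
    {motive : C ⊗[B] M → Prop} (zero : motive 0)
    (tmul : ∀ (a' : A') (m : M), motive ((algebraMap A' C a') ⊗ₜ[B] m))
    (add : ∀ x y, motive x → motive y → motive (x + y)) (g : C ⊗[B] M) : motive g := by
  obtain ⟨y, rfl⟩ := (Algebra.IsPushout.cancelBaseChange A A' B C M).symm.surjective g
  induction y using TensorProduct.induction_on with
  | zero => simpa using zero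
  | add x y hx hy => rw [map_add]; exact add _ _ hx hy
  | tmul a' m =>
    rw [Algebra.IsPushout.cancelBaseChange_symm_tmul]
    exact tmul a' m

section Setup

variable {A B A' C : Type u} [CommRing A] [CommRing B] [CommRing A'] [CommRing C]
  [Algebra A B] [Algebra A A'] [Algebra A C] [Algebra A' C] [Algebra B C]
  [IsScalarTower A A' C] [IsScalarTower A B C] [Algebra.IsPushout A A' B C]
  (q : Ideal B) [q.IsPrime]
  (M : Type u) [AddCommGroup M] [Module B M] [Module A M] [IsScalarTower A B M]
  (R : Type u) [CommRing R] [Algebra A' R] [Algebra A R] [IsScalarTower A A' R]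

/-- multiplication by `b : B` as an `A`-linear endomorphism -/
noncomputable abbrev ell (A : Type u) [CommRing A] [Algebra A B] (X : Type*) [AddCommGroup X]
    [Module A X] [Module B X] [IsScalarTower A B X] (b : B) : X →ₗ[A] X :=
  DistribSMul.toLinearMap A X b

variable (A' C) in
/-- the comparison map -/
noncomputable def Psi : C ⊗[B] M →ₗ[A'] R ⊗[A] (LocalizedModule q.primeCompl M) :=
  (TensorProduct.AlgebraTensorModule.map (Algebra.linearMap A' R)
    ((LocalizedModule.mkLinearMap q.primeCompl M).restrictScalars A)) ∘ₗ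
    (Algebra.IsPushout.cancelBaseChange A A' B C M).toLinearMap

theorem Psi_tmul (a' : A') (m : M) :
    Psi A' C q M R ((algebraMap A' C a') ⊗ₜ[B] m) =
      (algebraMap A' R a') ⊗ₜ[A] (LocalizedModule.mk m 1) := by
  have h1 : (Algebra.IsPushout.cancelBaseChange A A' B C M) ((algebraMap A' C a') ⊗ₜ[B] m) =
      a' ⊗ₜ[A] m := by
    rw [← Algebra.IsPushout.cancelBaseChange_symm_tmul A A' B C M a' m,
      LinearEquiv.apply_symm_apply]
  simp only [Psi, LinearMap.comp_apply, LinearEquiv.coe_coe, h1,
    TensorProduct.AlgebraTensorModule.map_tmul]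
  rfl

theorem Psi_smul (b : B) (g : C ⊗[B] M) :
    Psi A' C q M R (b • g) =
      (ell A (LocalizedModule q.primeCompl M) b).baseChange R (Psi A' C q M R g) := by
  refine induction_pushout A (A' := A') (motive := fun g => Psi A' C q M R (b • g) =
      (ell A (LocalizedModule q.primeCompl M) b).baseChange R (Psi A' C q M R g)) ?_ ?_ ?_ g
  · simp
  · intro a' m
    rw [← TensorProduct.tmul_smul, Psi_tmul (A := A) q M R, Psi_tmul (A := A) q M R,
      LinearMap.baseChange_tmul]
    congr 1
    change LocalizedModule.mk (b • m) 1 = b • (LocalizedModule.mk m 1 : LocalizedModule q.primeCompl M)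
    rw [LocalizedModule.smul'_mk]
  · intro x y hx hy
    simp only [map_add, smul_add, hx, hy]

theorem Psi_map {R' : Type u} [CommRing R'] [Algebra A' R'] [Algebra A R'] [IsScalarTower A A' R']
    (φ : R →ₐ[A'] R') (g : C ⊗[B] M) :
    ((φ.restrictScalars A).toLinearMap.rTensor (LocalizedModule q.primeCompl M))
      (Psi A' C q M R g) = Psi A' C q M R' g := by
  refine induction_pushout A (A' := A') (motive := fun g =>
    ((φ.restrictScalars A).toLinearMap.rTensor (LocalizedModule q.primeCompl M))
      (Psi A' C q M R g) = Psi A' C q M R' g) ?_ ?_ ?_ g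
  · simp
  · intro a' m
    rw [Psi_tmul (A := A) q M R, Psi_tmul (A := A) q M R', LinearMap.rTensor_tmul]
    congr 1
    exact φ.commutes a'
  · intro x y hx hy
    simp only [map_add, hx, hy]

/-- every element of `R ⊗[A] M_q` is, up to a unit of `B_q`, in the image of `Psi`. -/
theorem exists_Psi_eq (hR : Function.Surjective (algebraMap A' R))
    (n : R ⊗[A] (LocalizedModule q.primeCompl M)) :
    ∃ (g : C ⊗[B] M) (t : B), t ∈ q.primeCompl ∧
      (ell A (LocalizedModule q.primeCompl M) t).baseChange R n = Psi A' C q M R g := by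
  induction n using TensorProduct.induction_on with
  | zero => exact ⟨0, 1, q.primeCompl.one_mem, by simp⟩
  | tmul r x =>
    obtain ⟨a', rfl⟩ := hR r
    induction x using LocalizedModule.induction_on with
    | h m s =>
      refine ⟨(algebraMap A' C a') ⊗ₜ[B] m, s.1, s.2, ?_⟩
      rw [Psi_tmul, LinearMap.baseChange_tmul]
      congr 1
      change (s.1 : B) • (LocalizedModule.mk m s : LocalizedModule q.primeCompl M) = _
      rw [LocalizedModule.smul'_mk]
      rw [LocalizedModule.mk_eq]
      exact ⟨1, by simp [Submonoid.smul_def]⟩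
  | add n₁ n₂ h₁ h₂ =>
    obtain ⟨g₁, t₁, ht₁, e₁⟩ := h₁
    obtain ⟨g₂, t₂, ht₂, e₂⟩ := h₂
    refine ⟨t₂ • g₁ + t₁ • g₂, t₁ * t₂, q.primeCompl.mul_mem ht₁ ht₂, ?_⟩
    have hmul : ∀ (s t : B) (w : R ⊗[A] (LocalizedModule q.primeCompl M)),
        (ell A (LocalizedModule q.primeCompl M) (s * t)).baseChange R w =
          (ell A (LocalizedModule q.primeCompl M) s).baseChange R
            ((ell A (LocalizedModule q.primeCompl M) t).baseChange R w) := by
      intro s t w
      rw [← LinearMap.comp_apply, ← LinearMap.baseChange_comp]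
      congr 2
      ext y
      simp [mul_smul]
    rw [map_add, map_add, Psi_smul, Psi_smul, ← e₁, ← e₂, ← hmul, ← hmul, mul_comm t₂ t₁]

end Setup

end Groth.Agent.Lib.Helper6.FlFam
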