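import Mathlib
import Groth.Agent.Lib.Helper6.FlFam3

/-!
# Tensor/quotient lemmas and localisation lemmas for the local-family criterion (helper6)
-/

set_option autoImplicit false
set_option linter.style.haveILetI false
set_option linter.unusedSectionVars false
universe u v

namespace Groth.Agent.Lib.Helper6.FlFam

open TensorProduct Function IsLocalRing

section LemmaT

variable {A : Type*} [CommRing A] {R K : Type*} [CommRing R] [CommRing K] [Algebra A R]
  [Algebra A K] (φ : R →ₐ[A] K) (X : Type*) [AddCommGroup X] [Module A X]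

/-- the kernel of `φ ⊗ X` is `ker φ • ⊤` (hard direction) -/
theorem mem_ker_smul_top_of_rTensor_eq_zero (hφ : Function.Surjective φ) (n : R ⊗[A] X)
    (hn : φ.toLinearMap.rTensor X n = 0) :
    n ∈ (RingHom.ker φ.toRingHom) • (⊤ : Submodule R (R ⊗[A] X)) := by
  have hex : Function.Exact ((LinearMap.ker φ.toLinearMap).subtype.rTensor X)
      (φ.toLinearMap.rTensor X) :=
    rTensor_exact X (LinearMap.exact_subtype_ker_map φ.toLinearMap) hφ
  obtain ⟨w, rfl⟩ := (hex n).mp hn
  induction w using TensorProduct.induction_on with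
  | zero => simp
  | add x y hx hy =>
    rw [map_add]
    exact Submodule.add_mem _ (hx (by
      have := (hex _).mpr ⟨x, rfl⟩
      exact this)) (hy (by
      have := (hex _).mpr ⟨y, rfl⟩
      exact this))
  | tmul i x =>
    rw [LinearMap.rTensor_tmul]
    have : ((LinearMap.ker φ.toLinearMap).subtype i) ⊗ₜ[A] x =
        (i : R) • ((1 : R) ⊗ₜ[A] x) := by
      rw [TensorProduct.smul_tmul', smul_eq_mul, mul_one]
      rfl
    rw [this]
    refine Submodule.smul_mem_smul ?_ Submodule.mem_top
    exact i.2

/-- easy direction -/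
theorem rTensor_eq_zero_of_mem_ker_smul_top (n : R ⊗[A] X)
    (hn : n ∈ (RingHom.ker φ.toRingHom) • (⊤ : Submodule R (R ⊗[A] X))) :
    φ.toLinearMap.rTensor X n = 0 := by
  induction hn using Submodule.smul_induction_on' with
  | smul r hr n _ =>
    induction n using TensorProduct.induction_on with
    | zero => simp
    | add x y hx hy => rw [smul_add, map_add, hx trivial, hy trivial, add_zero]
    | tmul r' x =>
      rw [TensorProduct.smul_tmul', LinearMap.rTensor_tmul]
      have : φ.toLinearMap (r • r') = 0 := by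
        change φ (r * r') = 0
        rw [map_mul]
        have : φ r = 0 := hr
        rw [this, zero_mul]
      rw [this, TensorProduct.zero_tmul]
  | add x _ y _ hx hy => rw [map_add, hx, hy, add_zero]

end LemmaT

section Quot

variable {A' : Type*} [CommRing A'] (I : Ideal A') (Y : Type*) [AddCommGroup Y] [Module A' Y]

theorem mem_smul_top_of_one_tmul_eq_zero (y : Y)
    (h : (1 : A' ⧸ I) ⊗ₜ[A'] y = 0) : y ∈ I • (⊤ : Submodule A' Y) := by
  have := congrArg (TensorProduct.quotTensorEquivQuotSMul Y I) h
  rw [TensorProduct.quotTensorEquivQuotSMul_mk_one_tmul, map_zero] at this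
  exact (Submodule.Quotient.mk_eq_zero _).mp this

theorem one_tmul_eq_zero_of_mem_smul_top (y : Y) (h : y ∈ I • (⊤ : Submodule A' Y)) :
    (1 : A' ⧸ I) ⊗ₜ[A'] y = 0 := by
  apply (TensorProduct.quotTensorEquivQuotSMul Y I).injective
  rw [TensorProduct.quotTensorEquivQuotSMul_mk_one_tmul, map_zero]
  exact (Submodule.Quotient.mk_eq_zero _).mpr h

end Quot

section Loc

variable {A' C : Type u} [CommRing A'] [CommRing C] [Algebra A' C] (P : Ideal C) [P.IsPrime]
  (G : Type u) [AddCommGroup G] [Module C G] [Module A' G] [IsScalarTower A' C G] (𝔞 : Ideal A')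

theorem exists_smul_mem_of_mk_mem (g : G)
    (h : (LocalizedModule.mk g 1 : LocalizedModule P.primeCompl G) ∈
      𝔞 • (⊤ : Submodule A' (LocalizedModule P.primeCompl G))) :
    ∃ s : C, s ∉ P ∧ s • g ∈ (𝔞.map (algebraMap A' C)) • (⊤ : Submodule C G) := by
  have key : ∀ y ∈ 𝔞 • (⊤ : Submodule A' (LocalizedModule P.primeCompl G)),
      ∃ g'' ∈ (𝔞.map (algebraMap A' C)) • (⊤ : Submodule C G), ∃ s : P.primeCompl,
        y = LocalizedModule.mk g'' s := by
    intro y hy
    induction hy using Submodule.smul_induction_on' with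
    | smul a ha y _ =>
      induction y using LocalizedModule.induction_on with
      | h g' s' =>
        refine ⟨a • g', ?_, s', ?_⟩
        · rw [← algebraMap_smul C a g']
          exact Submodule.smul_mem_smul (Ideal.mem_map_of_mem _ ha) Submodule.mem_top
        · rw [LocalizedModule.smul'_mk]
    | add x _ y _ hx hy =>
      obtain ⟨g₁, hg₁, s₁, rfl⟩ := hx
      obtain ⟨g₂, hg₂, s₂, rfl⟩ := hy
      refine ⟨s₂ • g₁ + s₁ • g₂, ?_, s₁ * s₂, ?_⟩
      · exact Submodule.add_mem _ (Submodule.smul_mem _ _ hg₁) (Submodule.smul_mem _ _ hg₂)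
      · rw [LocalizedModule.mk_add_mk]
  obtain ⟨g'', hg'', s, hs⟩ := key _ h
  rw [LocalizedModule.mk_eq] at hs
  obtain ⟨u, hu⟩ := hs
  refine ⟨u.1 * s.1, ?_, ?_⟩
  · exact (P.primeCompl.mul_mem u.2 s.2)
  · have : (u.1 * s.1) • g = u • s • g := by
      rw [mul_smul]; rfl
    rw [this, hu]
    exact Submodule.smul_mem _ _ (Submodule.smul_mem _ _ hg'')

end Loc

section Sigma

variable {B C : Type u} [CommRing B] [CommRing C] [Algebra B C] (q : Ideal B) [q.IsPrime]
  (P : Ideal C) [P.IsPrime] (hPq : P.comap (algebraMap B C) = q)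
  (M : Type u) [AddCommGroup M] [Module B M]
  (G : Type u) [AddCommGroup G] [Module C G] [Module B G] [IsScalarTower B C G]
  (f : M →ₗ[B] G)

include hPq in
theorem isUnit_algebraMap_end (t : q.primeCompl) :
    IsUnit (algebraMap B (Module.End B (LocalizedModule P.primeCompl G)) t) := by
  have ht : algebraMap B C t ∈ P.primeCompl := by
    intro h
    have : (t : B) ∈ P.comap (algebraMap B C) := h
    rw [hPq] at this
    exact t.2 this
  have h1 := IsLocalizedModule.map_units (LocalizedModule.mkLinearMap P.primeCompl G)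
    ⟨algebraMap B C t, ht⟩
  rw [Module.End.isUnit_iff] at h1 ⊢
  convert h1 using 1
  ext y
  change (t : B) • y = (algebraMap B C t) • y
  rw [algebraMap_smul]

/-- the comparison map `M_q → G_P` -/
noncomputable def sigma : LocalizedModule q.primeCompl M →ₗ[B] LocalizedModule P.primeCompl G :=
  LocalizedModule.lift q.primeCompl
    (((LocalizedModule.mkLinearMap P.primeCompl G).restrictScalars B) ∘ₗ f)
    (isUnit_algebraMap_end q P hPq G)

theorem sigma_mk_one (m : M) :
    sigma q P hPq M G f (LocalizedModule.mk m 1) = LocalizedModule.mk (f m) 1 := by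
  have := LocalizedModule.lift_comp q.primeCompl
    (((LocalizedModule.mkLinearMap P.primeCompl G).restrictScalars B) ∘ₗ f)
    (isUnit_algebraMap_end q P hPq G)
  exact LinearMap.congr_fun this m

end Sigma

end Groth.Agent.Lib.Helper6.FlFam
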