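import Mathlib
import Groth.Agent.Lib.Helper6.FlFam4

/-!
# The key vanishing lemma for the local-family criterion (helper6)
-/

set_option autoImplicit false
set_option linter.style.haveILetI false
set_option linter.unusedSectionVars false
universe u v

namespace Groth.Agent.Lib.Helper6.FlFam

open TensorProduct Function IsLocalRing

section KrullT

variable {A B : Type u} [CommRing A] [CommRing B] [Algebra A B] [IsNoetherianRing B]
  (q : Ideal B) [q.IsPrime] (M : Type u) [AddCommGroup M] [Module B M] [Module A M]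
  [IsScalarTower A B M] [Module.Finite B M] (𝔪 : Ideal A)

omit [IsNoetherianRing B] [Module.Finite B M] in
theorem smul_top_restrictScalars :
    ((𝔪.map (algebraMap A (Localization.AtPrime q))) •
      (⊤ : Submodule (Localization.AtPrime q) (LocalizedModule q.primeCompl M))).restrictScalars A =
      𝔪 • (⊤ : Submodule A (LocalizedModule q.primeCompl M)) := by
  rw [Ideal.smul_restrictScalars]
  rfl

omit [IsNoetherianRing B] [Module.Finite B M] in
theorem mem_sup_of_smul_mem (n : ℕ) (t : B) (ht : t ∈ q.primeCompl)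
    (x : LocalizedModule q.primeCompl M)
    (h : t • x ∈ Qn (A := A) q M n ⊔ 𝔪 • (⊤ : Submodule A (LocalizedModule q.primeCompl M))) :
    x ∈ Qn (A := A) q M n ⊔ 𝔪 • (⊤ : Submodule A (LocalizedModule q.primeCompl M)) := by
  have hu : IsUnit (algebraMap B (Localization.AtPrime q) t) :=
    IsLocalization.map_units (M := q.primeCompl) _ ⟨t, ht⟩
  obtain ⟨y, hy, w, hw, e⟩ := Submodule.mem_sup.mp h
  rw [← smul_top_restrictScalars q M 𝔪] at hw ⊢
  have hx : x = (hu.unit⁻¹ : (Localization.AtPrime q)ˣ) • y +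
      (hu.unit⁻¹ : (Localization.AtPrime q)ˣ) • w := by
    rw [← smul_add, e, ← algebraMap_smul (Localization.AtPrime q) t x]
    change x = ((hu.unit⁻¹ : (Localization.AtPrime q)ˣ) : Localization.AtPrime q) •
      (algebraMap B (Localization.AtPrime q) t • x)
    rw [smul_smul, IsUnit.val_inv_mul, one_smul]
  rw [hx]
  refine Submodule.mem_sup.mpr ⟨_, ?_, _, ?_, rfl⟩
  · exact Submodule.smul_mem (IsLocalRing.maximalIdeal (Localization.AtPrime q) ^ n •
      (⊤ : Submodule (Localization.AtPrime q) (LocalizedModule q.primeCompl M))) _ hy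
  · exact Submodule.smul_mem ((𝔪.map (algebraMap A (Localization.AtPrime q))) •
      (⊤ : Submodule (Localization.AtPrime q) (LocalizedModule q.primeCompl M))) _ hw

/-- **Krull**, with denominators. -/
theorem mem_smul_top_of_forall_exists_smul_mem_sup (x : LocalizedModule q.primeCompl M)
    (h : ∀ n, ∃ t ∈ q.primeCompl, t • x ∈ Qn (A := A) q M n ⊔
      𝔪 • (⊤ : Submodule A (LocalizedModule q.primeCompl M))) :
    x ∈ 𝔪 • (⊤ : Submodule A (LocalizedModule q.primeCompl M)) := by
  refine mem_smul_top_of_forall_mem_sup q M 𝔪 x fun n => ?_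
  obtain ⟨t, ht, h1⟩ := h n
  exact mem_sup_of_smul_mem q M 𝔪 n t ht x h1

end KrullT

section Prime

variable {B A' C : Type u} [CommRing B] [CommRing A'] [CommRing C]
  [Algebra A' C] [Algebra B C] (q : Ideal B) [q.IsPrime] [IsLocalRing A']
  (G : Type u) [AddCommGroup G] [Module C G] [Module B G] [IsScalarTower B C G]

/-- prime-finding: if `g` is locally (at all primes over `q` and `𝔪'`) in `S`, then
`t • g ∈ S` for some `t ∉ q`. -/
theorem exists_smul_mem_of_forall_prime (S : Submodule C G) (n : ℕ)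
    (hS1 : ((maximalIdeal A').map (algebraMap A' C)) • (⊤ : Submodule C G) ≤ S)
    (hS2 : ((q ^ n).map (algebraMap B C)) • (⊤ : Submodule C G) ≤ S) (g : G)
    (H : ∀ P : Ideal C, P.IsPrime → P.comap (algebraMap B C) = q →
      P.comap (algebraMap A' C) = maximalIdeal A' → ∃ s : C, s ∉ P ∧ s • g ∈ S) :
    ∃ t ∈ q.primeCompl, t • g ∈ S := by
  by_contra hno
  push Not at hno
  set 𝔍 : Ideal C := S.comap (LinearMap.toSpanSingleton C G g) with h𝔍
  have hmem : ∀ c : C, c ∈ 𝔍 ↔ c • g ∈ S := by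
    intro c
    rw [h𝔍, Submodule.mem_comap, LinearMap.toSpanSingleton_apply]
  have hdisj : Disjoint (𝔍 : Set C) (Algebra.algebraMapSubmonoid C q.primeCompl) := by
    rw [Set.disjoint_left]
    rintro c hc ⟨t, ht, rfl⟩
    have := (hmem _).mp hc
    rw [algebraMap_smul] at this
    exact hno t ht this
  obtain ⟨P, hP, hJP, hPT⟩ := Ideal.exists_le_prime_disjoint 𝔍 _ hdisj
  have h1 : (maximalIdeal A').map (algebraMap A' C) ≤ 𝔍 := by
    intro c hc
    rw [hmem]
    exact hS1 (Submodule.smul_mem_smul hc Submodule.mem_top)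
  have h2 : (q ^ n).map (algebraMap B C) ≤ 𝔍 := by
    intro c hc
    rw [hmem]
    exact hS2 (Submodule.smul_mem_smul hc Submodule.mem_top)
  have hPq : P.comap (algebraMap B C) = q := by
    apply le_antisymm
    · intro b hb
      by_contra hbq
      exact Set.disjoint_left.mp hPT hb ⟨b, hbq, rfl⟩
    · intro b hb
      rw [Ideal.mem_comap]
      have : algebraMap B C b ^ n ∈ P := by
        rw [← map_pow]
        exact hJP (h2 (Ideal.mem_map_of_mem _ (Ideal.pow_mem_pow hb n)))
      exact hP.mem_of_pow_mem n this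
  have hPm : P.comap (algebraMap A' C) = maximalIdeal A' := by
    apply le_antisymm
    · exact IsLocalRing.le_maximalIdeal (Ideal.IsPrime.ne_top (Ideal.comap_isPrime _ _))
    · intro a ha
      exact hJP (h1 (Ideal.mem_map_of_mem _ ha))
  obtain ⟨s, hsP, hs⟩ := H P hP hPq hPm
  exact hsP (hJP ((hmem s).mpr hs))

end Prime

section Main

variable {A B A' C : Type u} [CommRing A] [CommRing B] [CommRing A'] [CommRing C]
  [Algebra A B] [Algebra A A'] [Algebra A C] [Algebra A' C] [Algebra B C]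
  [IsScalarTower A A' C] [IsScalarTower A B C] [Algebra.IsPushout A A' B C]
  (q : Ideal B) [q.IsPrime]
  (M : Type u) [AddCommGroup M] [Module B M] [Module A M] [IsScalarTower A B M]
  [IsNoetherianRing B] [Module.Finite B M] [IsLocalRing A']
  (K : Type u) [CommRing K] [Algebra A' K] [Algebra A K] [IsScalarTower A A' K]
  (hK : RingHom.ker (algebraMap A' K) = maximalIdeal A')
  (𝔪 : Ideal A) [𝔪.IsMaximal] (h𝔪 : ∀ a ∈ 𝔪, algebraMap A K a = 0)

omit [q.IsPrime] [IsNoetherianRing B] [Module.Finite B M] in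
theorem exists_eq_one_tmul (X : Type*) [AddCommGroup X] [Module A X] (w : (A ⧸ 𝔪) ⊗[A] X) :
    ∃ x : X, w = (1 : A ⧸ 𝔪) ⊗ₜ[A] x := by
  induction w using TensorProduct.induction_on with
  | zero => exact ⟨0, by simp⟩
  | tmul c x =>
    obtain ⟨a, rfl⟩ := Ideal.Quotient.mk_surjective c
    refine ⟨a • x, ?_⟩
    rw [TensorProduct.tmul_smul, TensorProduct.smul_tmul', Algebra.smul_def, mul_one]
    rfl
  | add w₁ w₂ h₁ h₂ =>
    obtain ⟨x₁, rfl⟩ := h₁
    obtain ⟨x₂, rfl⟩ := h₂
    exact ⟨x₁ + x₂, by rw [TensorProduct.tmul_add]⟩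

omit [q.IsPrime] [IsNoetherianRing B] [Module.Finite B M] in
theorem rTensor_baseChange_comm {K k X : Type*} [CommRing K] [Algebra A K] [AddCommGroup k]
    [Module A k] [AddCommGroup X] [Module A X] (l : K →ₗ[A] k) (f : X →ₗ[A] X) (z : K ⊗[A] X) :
    l.rTensor X (f.baseChange K z) = f.lTensor k (l.rTensor X z) := by
  induction z using TensorProduct.induction_on with
  | zero => simp
  | tmul c x => simp
  | add x y hx hy => simp only [map_add, hx, hy]

include hK h𝔪 in
/-- **Key lemma**: if `g` is locally in `𝔪' G` at all primes over `q` and `𝔪'`, then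
`Psi g = 0` in `K ⊗[A] M_q`. -/
theorem Psi_eq_zero (g : C ⊗[B] M)
    (H : ∀ P : Ideal C, P.IsPrime → P.comap (algebraMap B C) = q →
      P.comap (algebraMap A' C) = maximalIdeal A' → ∃ s : C, s ∉ P ∧
        s • g ∈ ((maximalIdeal A').map (algebraMap A' C)) • (⊤ : Submodule C (C ⊗[B] M))) :
    Psi (A := A) A' C q M K g = 0 := by
  by_contra hz
  have hKk : ∀ a ∈ 𝔪, ∀ c : K, a • c = 0 := by
    intro a ha c
    rw [Algebra.smul_def, h𝔪 a ha, zero_mul]
  obtain ⟨l, hl⟩ := exists_functional_rTensor_ne_zero 𝔪 K hKk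
    (LocalizedModule q.primeCompl M) (Psi (A := A) A' C q M K g) hz
  apply hl
  -- the functional applied to Psi
  set Λ : C ⊗[B] M → (A ⧸ 𝔪) ⊗[A] (LocalizedModule q.primeCompl M) :=
    fun g => l.rTensor (LocalizedModule q.primeCompl M) (Psi (A := A) A' C q M K g) with hΛ
  have hΛadd : ∀ g₁ g₂, Λ (g₁ + g₂) = Λ g₁ + Λ g₂ := by
    intro g₁ g₂
    simp only [hΛ, map_add]
  have hΛsmul : ∀ (b : B) (g : C ⊗[B] M) (x : LocalizedModule q.primeCompl M),
      Λ g = (1 : A ⧸ 𝔪) ⊗ₜ[A] x → Λ (b • g) = (1 : A ⧸ 𝔪) ⊗ₜ[A] (b • x) := by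
    intro b g x hx
    simp only [hΛ] at hx ⊢
    rw [Psi_smul (A := A) q M K, rTensor_baseChange_comm, hx, LinearMap.lTensor_tmul]
    rfl
  -- Λ kills 𝔪' G
  have hΛ1 : ∀ g₁ ∈ ((maximalIdeal A').map (algebraMap A' C)) • (⊤ : Submodule C (C ⊗[B] M)),
      Λ g₁ = 0 := by
    have hkill : ∀ a ∈ maximalIdeal A', ∀ w : K ⊗[A] (LocalizedModule q.primeCompl M),
        a • w = 0 := by
      intro a ha w
      have ha0 : algebraMap A' K a = 0 := by
        have : a ∈ RingHom.ker (algebraMap A' K) := by rw [hK]; exact ha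
        exact this
      induction w using TensorProduct.induction_on with
      | zero => simp
      | tmul c x =>
        rw [TensorProduct.smul_tmul', Algebra.smul_def, ha0, zero_mul, TensorProduct.zero_tmul]
      | add x y hx hy => rw [smul_add, hx, hy, add_zero]
    have h2 : ∀ g' ∈ maximalIdeal A' •
        (⊤ : Submodule C (C ⊗[B] M)).restrictScalars A', Psi (A := A) A' C q M K g' = 0 := by
      intro g' hg'
      induction hg' using Submodule.smul_induction_on' with
      | smul a ha g' _ => rw [map_smul, hkill a ha]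
      | add x _ y _ hx hy => rw [map_add, hx, hy, add_zero]
    intro g₁ hg₁
    have h1 : g₁ ∈ (((maximalIdeal A').map (algebraMap A' C)) •
        (⊤ : Submodule C (C ⊗[B] M))).restrictScalars A' := hg₁
    rw [Ideal.smul_restrictScalars] at h1
    simp only [hΛ, h2 g₁ h1, map_zero]
  -- Λ maps q^n G into Qn
  have hΛ2 : ∀ n : ℕ, ∀ g₂ ∈ ((q ^ n).map (algebraMap B C)) • (⊤ : Submodule C (C ⊗[B] M)),
      ∃ y ∈ Qn (A := A) q M n, Λ g₂ = (1 : A ⧸ 𝔪) ⊗ₜ[A] y := by
    intro n
    have h2 : ∀ g' ∈ (q ^ n) • (⊤ : Submodule C (C ⊗[B] M)).restrictScalars B,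
        ∃ y ∈ Qn (A := A) q M n, Λ g' = (1 : A ⧸ 𝔪) ⊗ₜ[A] y := by
      intro g' hg'
      induction hg' using Submodule.smul_induction_on' with
      | smul b hb g' _ =>
        obtain ⟨y', hy'⟩ := exists_eq_one_tmul 𝔪 (LocalizedModule q.primeCompl M) (Λ g')
        exact ⟨b • y', smul_mem_Qn q M hb y', hΛsmul b g' y' hy'⟩
      | add x _ y _ hx hy =>
        obtain ⟨y₁, hy₁, e₁⟩ := hx
        obtain ⟨y₂, hy₂, e₂⟩ := hy
        exact ⟨y₁ + y₂, Submodule.add_mem _ hy₁ hy₂, by
          rw [hΛadd, e₁, e₂, TensorProduct.tmul_add]⟩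
    intro g₂ hg₂
    have h1 : g₂ ∈ (((q ^ n).map (algebraMap B C)) •
        (⊤ : Submodule C (C ⊗[B] M))).restrictScalars B := hg₂
    rw [Ideal.smul_restrictScalars] at h1
    exact h2 g₂ h1
  obtain ⟨x, hx⟩ := exists_eq_one_tmul 𝔪 (LocalizedModule q.primeCompl M) (Λ g)
  change Λ g = 0
  rw [hx]
  apply one_tmul_eq_zero_of_mem_smul_top
  refine mem_smul_top_of_forall_exists_smul_mem_sup q M 𝔪 x fun n => ?_
  -- find t
  obtain ⟨t, ht, htg⟩ := exists_smul_mem_of_forall_prime (A' := A') q (C ⊗[B] M)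
    ((((maximalIdeal A').map (algebraMap A' C)) ⊔ ((q ^ n).map (algebraMap B C))) •
      (⊤ : Submodule C (C ⊗[B] M))) n
    (Submodule.smul_mono_left le_sup_left) (Submodule.smul_mono_left le_sup_right) g
    (fun P hP h1 h2 => by
      obtain ⟨s, hs, hsg⟩ := H P hP h1 h2
      exact ⟨s, hs, Submodule.smul_mono_left le_sup_left hsg⟩)
  refine ⟨t, ht, ?_⟩
  rw [Submodule.sup_smul] at htg
  obtain ⟨g₁, hg₁, g₂, hg₂, e⟩ := Submodule.mem_sup.mp htg
  obtain ⟨y, hy, ey⟩ := hΛ2 n g₂ hg₂
  have h3 : (1 : A ⧸ 𝔪) ⊗ₜ[A] (t • x - y) = 0 := by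
    rw [TensorProduct.tmul_sub, ← hΛsmul t g x hx, ← ey, ← e, hΛadd, hΛ1 g₁ hg₁, zero_add, sub_self]
  have h4 := mem_smul_top_of_one_tmul_eq_zero 𝔪 _ _ h3
  have : t • x = y + (t • x - y) := by abel
  rw [this]
  exact Submodule.add_mem_sup hy h4

end Main

end Groth.Agent.Lib.Helper6.FlFam
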