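import Mathlib
import Groth.Agent.Lib.Helper6.FlFam5

/-!
# The detection property for the local-family criterion (helper6)
-/

set_option autoImplicit false
set_option linter.style.haveILetI false
set_option linter.unusedSectionVars false
universe u v

namespace Groth.Agent.Lib.Helper6.FlFam

open TensorProduct Function IsLocalRing

section LemmaT2

variable {A' K : Type*} [CommRing A'] [CommRing K] [Algebra A' K]
  (Y : Type*) [AddCommGroup Y] [Module A' Y]

theorem mem_ker_smul_top_of_one_tmul_eq_zero (hsurj : Function.Surjective (algebraMap A' K))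
    (y : Y) (h : (1 : K) ⊗ₜ[A'] y = 0) :
    y ∈ RingHom.ker (algebraMap A' K) • (⊤ : Submodule A' Y) := by
  have h1 := mem_ker_smul_top_of_rTensor_eq_zero (Algebra.ofId A' K) Y hsurj ((1 : A') ⊗ₜ[A'] y)
    (by
      rw [LinearMap.rTensor_tmul]
      simpa using h)
  have h2 := Submodule.mem_map_of_mem (f := (TensorProduct.lid A' Y).toLinearMap) h1
  rw [Submodule.map_smul''] at h2
  have h3 : (TensorProduct.lid A' Y).toLinearMap ((1 : A') ⊗ₜ[A'] y) = y := by simp
  rw [h3] at h2
  exact Submodule.smul_mono le_rfl le_top h2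

end LemmaT2

section Hdet

variable {A B A' C : Type u} [CommRing A] [CommRing B] [CommRing A'] [CommRing C]
  [Algebra A B] [Algebra A A'] [Algebra A C] [Algebra A' C] [Algebra B C]
  [IsScalarTower A A' C] [IsScalarTower A B C] [Algebra.IsPushout A A' B C]
  (q : Ideal B) [q.IsPrime]
  (M : Type u) [AddCommGroup M] [Module B M] [Module A M] [IsScalarTower A B M]
  (R : Type u) [CommRing R] [Algebra A' R] [Algebra A R] [IsScalarTower A A' R]
  (P : Ideal C) [P.IsPrime] (hPq : P.comap (algebraMap B C) = q)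

/-- the comparison map `R ⊗[A] M_q → R ⊗[A'] (C ⊗[B] M)_P` -/
noncomputable def rho0 : R ⊗[A] (LocalizedModule q.primeCompl M) →ₗ[R]
    R ⊗[A'] (LocalizedModule P.primeCompl (C ⊗[B] M)) :=
  LinearMap.liftBaseChange R
    (((TensorProduct.mk A' R (LocalizedModule P.primeCompl (C ⊗[B] M)) 1).restrictScalars A) ∘ₗ
      ((sigma q P hPq M (C ⊗[B] M) (TensorProduct.mk B C M 1)).restrictScalars A))

theorem rho0_Psi (g : C ⊗[B] M) :
    rho0 (A := A) (A' := A') q M R P hPq (Psi (A := A) A' C q M R g) =
      (1 : R) ⊗ₜ[A'] (LocalizedModule.mk g 1) := by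
  refine induction_pushout A (A' := A') (motive := fun g =>
    rho0 (A := A) (A' := A') q M R P hPq (Psi (A := A) A' C q M R g) =
      (1 : R) ⊗ₜ[A'] (LocalizedModule.mk g 1)) ?_ ?_ ?_ g
  · simp
  · intro a' m
    rw [Psi_tmul (A := A) q M R, rho0, LinearMap.liftBaseChange_tmul]
    simp only [LinearMap.comp_apply, LinearMap.coe_restrictScalars]
    rw [sigma_mk_one]
    simp only [TensorProduct.mk_apply]
    rw [TensorProduct.smul_tmul', smul_eq_mul, mul_one, ← mul_one (algebraMap A' R a'),
      ← Algebra.smul_def, TensorProduct.smul_tmul, LocalizedModule.smul'_mk,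
      TensorProduct.smul_tmul', Algebra.smul_def, mul_one]
  · intro x y hx hy
    rw [map_add, map_add, hx, hy, ← TensorProduct.tmul_add]
    congr 1
    rw [LocalizedModule.mk_add_mk]
    simp

end Hdet

section Hdet2

variable {A B A' C : Type u} [CommRing A] [CommRing B] [CommRing A'] [CommRing C]
  [Algebra A B] [Algebra A A'] [Algebra A C] [Algebra A' C] [Algebra B C]
  [IsScalarTower A A' C] [IsScalarTower A B C] [Algebra.IsPushout A A' B C]
  (q : Ideal B) [q.IsPrime]
  (M : Type u) [AddCommGroup M] [Module B M] [Module A M] [IsScalarTower A B M]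
  [IsNoetherianRing B] [Module.Finite B M] [IsLocalRing A']
  (R : Type u) [CommRing R] [IsLocalRing R] [Algebra A' R] [Algebra A R] [IsScalarTower A A' R]
  (hR : Function.Surjective (algebraMap A' R))
  (𝔪 : Ideal A) [𝔪.IsMaximal] (h𝔪 : ∀ a ∈ 𝔪, algebraMap A A' a ∈ maximalIdeal A')

omit [IsNoetherianRing B] [Module.Finite B M] [IsLocalRing A'] in
theorem ell_lTensor_injective (K : Type u) [CommRing K] [Algebra A K] (t : B)
    (ht : t ∈ q.primeCompl) :
    Function.Injective ((ell A (LocalizedModule q.primeCompl M) t).lTensor K) := by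
  have h1 := IsLocalizedModule.map_units (LocalizedModule.mkLinearMap q.primeCompl M) ⟨t, ht⟩
  rw [Module.End.isUnit_iff] at h1
  have hbij : Function.Bijective (ell A (LocalizedModule q.primeCompl M) t) := h1
  let e : LocalizedModule q.primeCompl M ≃ₗ[A] LocalizedModule q.primeCompl M :=
    LinearEquiv.ofBijective (ell A (LocalizedModule q.primeCompl M) t) hbij
  have he : (ell A (LocalizedModule q.primeCompl M) t) = e.toLinearMap := rfl
  rw [he]
  exact (LinearEquiv.lTensor K e).injective

local notation "𝕂" => (R ⧸ maximalIdeal R)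

include hR h𝔪 in
theorem mem_smul_top_of_forall_rho0 (n : R ⊗[A] (LocalizedModule q.primeCompl M))
    (h : ∀ (P : Ideal C) [P.IsPrime] (hPq : P.comap (algebraMap B C) = q),
      P.comap (algebraMap A' C) = maximalIdeal A' → ∀ t ∈ q.primeCompl,
        rho0 (A := A) (A' := A') q M R P hPq
          ((ell A (LocalizedModule q.primeCompl M) t).baseChange R n) ∈
            maximalIdeal R • (⊤ : Submodule R
              (R ⊗[A'] (LocalizedModule P.primeCompl (C ⊗[B] M))))) :
    n ∈ maximalIdeal R • (⊤ : Submodule R (R ⊗[A] (LocalizedModule q.primeCompl M))) := by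
  letI : Field (R ⧸ maximalIdeal R) := Ideal.Quotient.field (maximalIdeal R)
  have hsurjK : Function.Surjective (algebraMap A' 𝕂) := by
    have : (algebraMap A' 𝕂) = (Ideal.Quotient.mk (maximalIdeal R)).comp (algebraMap A' R) := rfl
    rw [this]
    exact Ideal.Quotient.mk_surjective.comp hR
  have hK : RingHom.ker (algebraMap A' 𝕂) = maximalIdeal A' :=
    IsLocalRing.eq_maximalIdeal (RingHom.ker_isMaximal_of_surjective _ hsurjK)
  have h𝔪K : ∀ a ∈ 𝔪, algebraMap A 𝕂 a = 0 := by
    intro a ha
    rw [IsScalarTower.algebraMap_apply A A' 𝕂]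
    have : algebraMap A A' a ∈ RingHom.ker (algebraMap A' 𝕂) := by rw [hK]; exact h𝔪 a ha
    exact this
  obtain ⟨g, t, ht, e⟩ := exists_Psi_eq (A := A) (A' := A') (C := C) q M R hR n
  have hPsi : Psi (A := A) A' C q M 𝕂 g = 0 := by
    refine Psi_eq_zero q M 𝕂 hK 𝔪 h𝔪K g ?_
    intro P hP hPq hPm
    haveI := hP
    have h1 := h P hPq hPm t ht
    rw [e, rho0_Psi] at h1
    have h2 := rTensor_eq_zero_of_mem_ker_smul_top (A := A')
      (Ideal.Quotient.mkₐ A' (maximalIdeal R)) (LocalizedModule P.primeCompl (C ⊗[B] M)) _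
      (by
        have hk : RingHom.ker (Ideal.Quotient.mkₐ A' (maximalIdeal R)).toRingHom =
            maximalIdeal R := Ideal.Quotient.mkₐ_ker A' (maximalIdeal R)
        rw [hk]
        exact h1)
    rw [LinearMap.rTensor_tmul] at h2
    have h3 : (1 : 𝕂) ⊗ₜ[A'] (LocalizedModule.mk g 1 :
        LocalizedModule P.primeCompl (C ⊗[B] M)) = 0 := by
      simpa using h2
    have h4 := mem_ker_smul_top_of_one_tmul_eq_zero
      (LocalizedModule P.primeCompl (C ⊗[B] M)) hsurjK _ h3
    rw [hK] at h4
    exact exists_smul_mem_of_mk_mem P (C ⊗[B] M) (maximalIdeal A') g h4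
  have h5 := Psi_map (A := A) q M R (Ideal.Quotient.mkₐ A' (maximalIdeal R)) g
  rw [hPsi, ← e, rTensor_baseChange_comm] at h5
  have h6 : ((Ideal.Quotient.mkₐ A' (maximalIdeal R)).restrictScalars A).toLinearMap.rTensor
      (LocalizedModule q.primeCompl M) n = 0 := by
    apply ell_lTensor_injective q M 𝕂 t ht
    rw [h5, map_zero]
  have h7 := mem_ker_smul_top_of_rTensor_eq_zero (A := A)
    ((Ideal.Quotient.mkₐ A' (maximalIdeal R)).restrictScalars A)
    (LocalizedModule q.primeCompl M) (Ideal.Quotient.mkₐ_surjective A' (maximalIdeal R)) n h6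
  have hk : RingHom.ker ((Ideal.Quotient.mkₐ A' (maximalIdeal R)).restrictScalars A).toRingHom =
      maximalIdeal R := Ideal.Quotient.mkₐ_ker A' (maximalIdeal R)
  rw [hk] at h7
  exact h7

end Hdet2

end Groth.Agent.Lib.Helper6.FlFam
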