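import Mathlib
import Groth.Agent.Lib.Helper6.FlFam7

/-!
# Transport of flatness of localized modules along an equivalence (helper6)
-/

set_option autoImplicit false
set_option linter.style.haveILetI false
set_option linter.unusedSectionVars false
universe u v

namespace Groth.Agent.Lib.Helper6.FlFam

open TensorProduct Function IsLocalRing

theorem flat_localizedModule_congr {A' C : Type u} [CommRing A'] [CommRing C] [Algebra A' C]
    (P : Ideal C) [P.IsPrime] {G G' : Type u} [AddCommGroup G] [Module C G] [Module A' G]
    [IsScalarTower A' C G] [AddCommGroup G'] [Module C G'] [Module A' G'] [IsScalarTower A' C G']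
    (e : G ≃ₗ[C] G') (h : Module.Flat A' (LocalizedModule P.primeCompl G)) :
    Module.Flat A' (LocalizedModule P.primeCompl G') := by
  let eloc : LocalizedModule P.primeCompl G' ≃ₗ[C] LocalizedModule P.primeCompl G :=
    IsLocalizedModule.linearEquiv P.primeCompl (LocalizedModule.mkLinearMap P.primeCompl G')
      ((LocalizedModule.mkLinearMap P.primeCompl G) ∘ₗ e.symm.toLinearMap)
  exact Module.Flat.of_linearEquiv (eloc.restrictScalars A')

end Groth.Agent.Lib.Helper6.FlFam
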