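import Mathlib
import Groth.Prelude.Def_FlatMod2
import Groth.Prelude.Def_Coh
import Groth.Agent.Lib.Helper6.FlFam8
import Groth.Agent.Lib.Helper6.RP8
import Groth.Agent.Lib.Helper18.GFl6
import Groth.Agent.Lib.Helper18.FlH
import Groth.Agent.Lib.Helper29.QCohFinite
import Groth.Agent.Lib.Helper29.QCohPullback

/-!
# EGA IV 11.4.1, scheme form (helper6)
-/

set_option backward.isDefEq.respectTransparency.types false
set_option autoImplicit false
set_option linter.style.haveILetI false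
set_option linter.unusedSectionVars false
universe u

namespace Groth.Agent.Lib.Helper6.FlFam

open TensorProduct AlgebraicGeometry CategoryTheory CategoryTheory.Limits IsLocalRing
open Groth.Agent.Lib.Helper29.QCoh Groth.Agent.Lib.Helper18

/-- the closed point of `Spec A'` is the only point whose prime in `Γ(Spec A', ⊤)` is maximal -/
theorem eq_closedPoint_of_primeIdealOf {A' : Type u} [CommRing A'] [IsLocalRing A']
    (t : Spec (CommRingCat.of A'))
    (ht : ∀ 𝔭 : Ideal Γ(Spec (CommRingCat.of A'), ⊤), 𝔭.IsPrime →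
      𝔭 ≤ ((isAffineOpen_top (Spec (CommRingCat.of A'))).primeIdealOf ⟨t, trivial⟩).asIdeal) :
    t = IsLocalRing.closedPoint A' := by
  have h1 : t ⤳ IsLocalRing.closedPoint A' := IsLocalRing.specializes_closedPoint t
  have h2 : (IsLocalRing.closedPoint A' : Spec (CommRingCat.of A')) ⤳ t := by
    have := (Groth.Agent.Lib.Helper6.RP.specializes_iff_primeIdealOf_le
      (isAffineOpen_top (Spec (CommRingCat.of A')))
      ⟨IsLocalRing.closedPoint A', trivial⟩ ⟨t, trivial⟩).mpr (ht _ inferInstance)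
    exact this
  exact (h1.antisymm h2).eq

theorem isFlatOverAt_of_local_family {A : Type u} [CommRing A]
    [IsArtinianRing A] [IsLocalRing A] {X : Scheme.{u}} (f : X ⟶ Spec (CommRingCat.of A))
    [LocallyOfFiniteType f] (F : X.Modules) (hF : Coh.IsCoh F) (x : X)
    {ι : Type u} (A' : ι → Type u) [∀ i, CommRing (A' i)] [∀ i, IsLocalRing (A' i)]
    (u : ∀ i, A →+* A' i)
    (hu : ∀ a : A, (∀ i, u i a = 0) → a = 0)
    (hflat : ∀ (i : ι) (x' : ↥(pullback f (Spec.map (CommRingCat.ofHom (u i))))),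
      pullback.fst f (Spec.map (CommRingCat.ofHom (u i))) x' = x →
      pullback.snd f (Spec.map (CommRingCat.ofHom (u i))) x' = IsLocalRing.closedPoint (A' i) →
      FlatMod.IsFlatOverAt (pullback.snd f (Spec.map (CommRingCat.ofHom (u i))))
        ((Scheme.Modules.pullback (pullback.fst f (Spec.map (CommRingCat.ofHom (u i))))).obj F) x') :
    FlatMod.IsFlatOverAt f F x := by
  classical
  obtain ⟨hFqc, hFft⟩ := hF
  haveI : F.IsQuasicoherent := hFqc
  haveI : F.IsFiniteType := hFft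
  obtain ⟨W, hW, hxW, -⟩ := exists_isAffineOpen_mem_and_subset (x := x) (U := ⊤) trivial
  have hV : IsAffineOpen (⊤ : (Spec (CommRingCat.of A)).Opens) := isAffineOpen_top _
  have hWV : W ≤ f ⁻¹ᵁ ⊤ := le_top
  rw [Fl.isFlatOverAt_iff_flat_localizedModule f F hW hV hWV x hxW]
  letI algRA : Algebra Γ(Spec (CommRingCat.of A), ⊤) Γ(X, W) := (f.appLE ⊤ W hWV).hom.toAlgebra
  letI modRM : Module Γ(Spec (CommRingCat.of A), ⊤) Γ(F, W) :=
    Module.compHom _ (f.appLE ⊤ W hWV).hom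
  haveI tw3 : IsScalarTower Γ(Spec (CommRingCat.of A), ⊤) Γ(X, W) Γ(F, W) :=
    IsScalarTower.of_algebraMap_smul (fun _ _ => rfl)
  let eA : Γ(Spec (CommRingCat.of A), ⊤) ≃+* A :=
    (Scheme.ΓSpecIso (CommRingCat.of A)).commRingCatIsoToRingEquiv
  haveI : IsLocalRing Γ(Spec (CommRingCat.of A), ⊤) := eA.symm.isLocalRing
  haveI : IsArtinianRing Γ(Spec (CommRingCat.of A), ⊤) := eA.symm.isArtinianRing
  haveI : IsNoetherianRing Γ(X, W) := by
    have hft : RingHom.FiniteType (f.appLE ⊤ W hWV).hom :=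
      HasRingHomProperty.appLE (P := @LocallyOfFiniteType) f inferInstance ⟨⊤, hV⟩ ⟨W, hW⟩ hWV
    haveI : Algebra.FiniteType Γ(Spec (CommRingCat.of A), ⊤) Γ(X, W) := hft
    exact Algebra.FiniteType.isNoetherianRing Γ(Spec (CommRingCat.of A), ⊤) Γ(X, W)
  haveI : Module.Finite Γ(X, W) Γ(F, W) := module_finite_of_isFiniteType F hW
  obtain ⟨R₀, hfg, hle, hR₀, hconc⟩ := exists_flattening_ideal
    (A := Γ(Spec (CommRingCat.of A), ⊤))
    (LocalizedModule (hW.primeIdealOf ⟨x, hxW⟩).asIdeal.primeCompl Γ(F, W))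
  apply hconc
  by_contra hne
  obtain ⟨a₀, ha₀, ha₀0⟩ : ∃ a₀ ∈ R₀, a₀ ≠ 0 := Submodule.exists_mem_ne_zero_of_ne_bot hne
  obtain ⟨i, hi⟩ : ∃ i, u i (eA a₀) ≠ 0 := by
    by_contra hno
    push Not at hno
    exact ha₀0 (eA.injective (by rw [hu _ hno, map_zero]))
  -- the pullback
  have H : IsPullback (pullback.fst f (Spec.map (CommRingCat.ofHom (u i))))
      (pullback.snd f (Spec.map (CommRingCat.ofHom (u i)))) f
      (Spec.map (CommRingCat.ofHom (u i))) := IsPullback.of_hasPullback _ _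
  set g := Spec.map (CommRingCat.ofHom (u i)) with hg
  set p := pullback.fst f g with hp
  set q' := pullback.snd f g with hq'
  have hUT : IsAffineOpen (⊤ : (Spec (CommRingCat.of (A' i))).Opens) := isAffineOpen_top _
  have hUST : (⊤ : (Spec (CommRingCat.of (A' i))).Opens) ≤ g ⁻¹ᵁ ⊤ := le_top
  set UY : (pullback f g).Opens := p ⁻¹ᵁ W ⊓ q' ⁻¹ᵁ ⊤ with hUY
  have hUYaff : IsAffineOpen UY := GFl.isAffineOpen_of_isPullback H hV hUT hW hUST hWV hUY
  have hpW : UY ≤ p ⁻¹ᵁ W := inf_le_left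
  have hqT : UY ≤ q' ⁻¹ᵁ ⊤ := inf_le_right
  have hpo := GFl.isPushout_appLE_of_isPullback H hV hUT hW hUST hWV hUY
  letI algRS : Algebra Γ(Spec (CommRingCat.of A), ⊤) Γ(Spec (CommRingCat.of (A' i)), ⊤) :=
    (g.appLE ⊤ ⊤ hUST).hom.toAlgebra
  letI algAB : Algebra Γ(X, W) Γ(pullback f g, UY) := (p.appLE W UY hpW).hom.toAlgebra
  letI algSB : Algebra Γ(Spec (CommRingCat.of (A' i)), ⊤) Γ(pullback f g, UY) :=
    (q'.appLE ⊤ UY hqT).hom.toAlgebra
  letI algRB : Algebra Γ(Spec (CommRingCat.of A), ⊤) Γ(pullback f g, UY) :=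
    ((p.appLE W UY hpW).hom.comp (f.appLE ⊤ W hWV).hom).toAlgebra
  haveI tw1 : IsScalarTower Γ(Spec (CommRingCat.of A), ⊤) Γ(X, W) Γ(pullback f g, UY) :=
    IsScalarTower.of_algebraMap_eq (fun _ => rfl)
  haveI tw2 : IsScalarTower Γ(Spec (CommRingCat.of A), ⊤) Γ(Spec (CommRingCat.of (A' i)), ⊤)
      Γ(pullback f g, UY) :=
    IsScalarTower.of_algebraMap_eq (fun r => by
      have hw := hpo.w
      exact congr($(hw).hom r))
  haveI hpo' : Algebra.IsPushout Γ(Spec (CommRingCat.of A), ⊤)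
      Γ(Spec (CommRingCat.of (A' i)), ⊤) Γ(X, W) Γ(pullback f g, UY) :=
    CommRingCat.isPushout_iff_isPushout.mp hpo.flip
  let eA' : Γ(Spec (CommRingCat.of (A' i)), ⊤) ≃+* A' i :=
    (Scheme.ΓSpecIso (CommRingCat.of (A' i))).commRingCatIsoToRingEquiv
  haveI : IsLocalRing Γ(Spec (CommRingCat.of (A' i)), ⊤) := eA'.symm.isLocalRing
  have key := map_eq_bot_of_forall_flat (A := Γ(Spec (CommRingCat.of A), ⊤)) (B := Γ(X, W))
    (A' := Γ(Spec (CommRingCat.of (A' i)), ⊤)) (C := Γ(pullback f g, UY))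
    (hW.primeIdealOf ⟨x, hxW⟩).asIdeal Γ(F, W) isNilpotent_maximalIdeal R₀ hfg hle hR₀ ?_
  · have h1 : algebraMap Γ(Spec (CommRingCat.of A), ⊤) Γ(Spec (CommRingCat.of (A' i)), ⊤) a₀ = 0 := by
      have h2 : algebraMap Γ(Spec (CommRingCat.of A), ⊤) Γ(Spec (CommRingCat.of (A' i)), ⊤) a₀ ∈
          R₀.map (algebraMap Γ(Spec (CommRingCat.of A), ⊤) Γ(Spec (CommRingCat.of (A' i)), ⊤)) :=
        Ideal.mem_map_of_mem _ ha₀
      rw [key] at h2
      exact h2
    have hnat : (g.appLE ⊤ ⊤ hUST) ≫ (Scheme.ΓSpecIso (CommRingCat.of (A' i))).hom =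
        (Scheme.ΓSpecIso (CommRingCat.of A)).hom ≫ CommRingCat.ofHom (u i) := by
      rw [← Scheme.ΓSpecIso_naturality (CommRingCat.ofHom (u i))]
      congr 1
    have h3 : eA' (algebraMap Γ(Spec (CommRingCat.of A), ⊤) Γ(Spec (CommRingCat.of (A' i)), ⊤) a₀) =
        u i (eA a₀) := congr($(hnat).hom a₀)
    exact hi (by rw [← h3, h1, map_zero])
  · intro P hP hPq hPm
    obtain ⟨x'sub, hx'⟩ := Groth.Agent.Lib.Helper6.RP.primeIdealOf_surjective hUYaff ⟨P, hP⟩
    have hPeq : (hUYaff.primeIdealOf x'sub).asIdeal = P := congrArg PrimeSpectrum.asIdeal hx'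
    have hpx : p x'sub.1 = x := by
      have h1 := IsAffineOpen.comap_primeIdealOf_appLE W hW UY hUYaff hpW x'sub.2
      have h2 : hW.primeIdealOf ⟨p x'sub.1, hpW x'sub.2⟩ = hW.primeIdealOf ⟨x, hxW⟩ := by
        rw [← h1]
        apply PrimeSpectrum.ext
        change (hUYaff.primeIdealOf ⟨x'sub.1, x'sub.2⟩).asIdeal.comap _ = _
        rw [show (⟨x'sub.1, x'sub.2⟩ : UY) = x'sub from rfl, hPeq]
        exact hPq
      exact congrArg Subtype.val (Groth.Agent.Lib.Helper6.RP.primeIdealOf_injective hW h2)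
    have hqx : q' x'sub.1 = IsLocalRing.closedPoint (A' i) := by
      apply eq_closedPoint_of_primeIdealOf
      intro 𝔭 h𝔭
      have h1 := IsAffineOpen.comap_primeIdealOf_appLE ⊤ hUT UY hUYaff hqT x'sub.2
      have h2 : (hUT.primeIdealOf ⟨q' x'sub.1, trivial⟩).asIdeal =
          maximalIdeal Γ(Spec (CommRingCat.of (A' i)), ⊤) := by
        rw [show (hUT.primeIdealOf ⟨q' x'sub.1, trivial⟩) =
          hUT.primeIdealOf ⟨q' x'sub.1, hqT x'sub.2⟩ from rfl, ← h1]
        change (hUYaff.primeIdealOf ⟨x'sub.1, x'sub.2⟩).asIdeal.comap _ = _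
        rw [show (⟨x'sub.1, x'sub.2⟩ : UY) = x'sub from rfl, hPeq]
        exact hPm
      rw [h2]
      exact IsLocalRing.le_maximalIdeal h𝔭.ne_top
    have hfl := hflat i x'sub.1 hpx hqx
    rw [Fl.isFlatOverAt_iff_flat_localizedModule q' _ hUYaff hUT hqT x'sub.1 x'sub.2] at hfl
    subst hPeq
    letI modSG : Module Γ(Spec (CommRingCat.of (A' i)), ⊤)
        Γ((Scheme.Modules.pullback p).obj F, UY) := Module.compHom _ (q'.appLE ⊤ UY hqT).hom
    haveI tw4 : IsScalarTower Γ(Spec (CommRingCat.of (A' i)), ⊤) Γ(pullback f g, UY)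
        Γ((Scheme.Modules.pullback p).obj F, UY) :=
      IsScalarTower.of_algebraMap_smul (fun _ _ => rfl)
    exact flat_localizedModule_congr _ (pullbackSectionsEquiv p F hUYaff hW hpW) hfl

end Groth.Agent.Lib.Helper6.FlFam
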