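import Mathlib
import Groth.Agent.Lib.Helper6.FlFam9
import Groth.Agent.Lib.Helper6.FlFam10

/-!
# EGA IV 11.4.5-type statement: a family of `A`-schemes (helper6)
-/

set_option backward.isDefEq.respectTransparency.types false
set_option autoImplicit false
set_option linter.style.haveILetI false
set_option linter.unusedSectionVars false
universe u

namespace Groth.Agent.Lib.Helper6.FlFam

open AlgebraicGeometry CategoryTheory CategoryTheory.Limits
open Groth.Agent.Lib.Helper29.QCoh

/-- the ring map `A → 𝒪_{Y,y}` attached to an `A`-scheme `Y` and a point `y` -/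
noncomputable def stalkHom {A : Type u} [CommRing A] {Y : Scheme.{u}}
    (g : Y ⟶ Spec (CommRingCat.of A)) (y : Y) : A →+* Y.presheaf.stalk y :=
  (Y.presheaf.germ ⊤ y trivial).hom.comp
    (g.appTop.hom.comp (Scheme.ΓSpecIso (CommRingCat.of A)).inv.hom)

theorem SpecMap_stalkHom {A : Type u} [CommRing A] {Y : Scheme.{u}}
    (g : Y ⟶ Spec (CommRingCat.of A)) (y : Y) :
    Spec.map (CommRingCat.ofHom (stalkHom g y)) = Y.fromSpecStalk y ≫ g := by
  apply ext_of_isAffine
  rw [Scheme.Hom.comp_appTop, Scheme.fromSpecStalk_appTop]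
  have h1 := Scheme.ΓSpecIso_naturality (CommRingCat.ofHom (stalkHom g y))
  rw [← cancel_mono (Scheme.ΓSpecIso (Y.presheaf.stalk y)).hom]
  refine h1.trans ?_
  have h2 : (Spec (Y.presheaf.stalk y)).presheaf.map
      (homOfLE (le_top : (⊤ : (Spec (Y.presheaf.stalk y)).Opens) ≤ ⊤)).op = 𝟙 _ := by
    rw [show homOfLE (le_top : (⊤ : (Spec (Y.presheaf.stalk y)).Opens) ≤ ⊤) = 𝟙 _ from rfl, op_id,
      CategoryTheory.Functor.map_id]
  rw [h2]
  ext a
  simp [stalkHom]

theorem isFlatOverAt_of_scheme_family {A : Type u} [CommRing A]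
    [IsArtinianRing A] [IsLocalRing A] {X : Scheme.{u}} (f : X ⟶ Spec (CommRingCat.of A))
    [LocallyOfFiniteType f] (F : X.Modules) (hF : Coh.IsCoh F) (x : X)
    {ι : Type u} (Y : ι → Scheme.{u}) (g : ∀ i, Y i ⟶ Spec (CommRingCat.of A))
    (hg : ∀ a : A, (∀ i, (g i).appTop ((Scheme.ΓSpecIso (CommRingCat.of A)).inv a) = 0) → a = 0)
    (hflat : ∀ (i : ι) (x' : ↥(pullback f (g i))), pullback.fst f (g i) x' = x →
      FlatMod.IsFlatOverAt (pullback.snd f (g i))
        ((Scheme.Modules.pullback (pullback.fst f (g i))).obj F) x') :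
    FlatMod.IsFlatOverAt f F x := by
  haveI : F.IsQuasicoherent := hF.1
  refine isFlatOverAt_of_local_family f F hF x (ι := Σ i, (Y i))
    (fun j => (Y j.1).presheaf.stalk j.2) (fun j => stalkHom (g j.1) j.2) ?_ ?_
  · intro a ha
    apply hg a
    intro i
    apply TopCat.Presheaf.section_ext (Y i).sheaf ⊤
    intro y hy
    exact (ha ⟨i, y⟩).trans (map_zero _).symm
  · intro j x'' hx'' _
    exact isFlatOverAt_pullback_comp f (g j.1) ((Y j.1).fromSpecStalk j.2) _
      (SpecMap_stalkHom (g j.1) j.2) F x'' (fun z hz => hflat j.1 z (hz.trans hx''))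

end Groth.Agent.Lib.Helper6.FlFam
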