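import Mathlib
import Groth.Agent.Lib.Helper6.FlFam7

/-!
# The step theorem with an Artinian quotient of the base (helper6)
-/

set_option autoImplicit false
set_option linter.style.haveILetI false
set_option linter.unusedSectionVars false
universe u v

namespace Groth.Agent.Lib.Helper6.FlFam

open TensorProduct Function IsLocalRing

section Step2

variable {A B A' C : Type u} [CommRing A] [CommRing B] [CommRing A'] [CommRing C]
  [Algebra A B] [Algebra A A'] [Algebra A C] [Algebra A' C] [Algebra B C]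
  [IsScalarTower A A' C] [IsScalarTower A B C] [Algebra.IsPushout A A' B C]
  (q : Ideal B) [q.IsPrime]
  (M : Type u) [AddCommGroup M] [Module B M] [Module A M] [IsScalarTower A B M]
  [IsNoetherianRing B] [Module.Finite B M] [IsLocalRing A'] [IsLocalRing A]
  (Abar : Type u) [CommRing Abar] [IsLocalRing Abar] [Algebra A Abar] [Algebra Abar A']
  [IsScalarTower A Abar A']
  (h𝔪A : ∀ a ∈ maximalIdeal A, algebraMap A Abar a ∈ maximalIdeal Abar)
  (hnil : IsNilpotent (maximalIdeal Abar))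
  (R₀ : Ideal Abar) (hR₀fg : R₀.FG) (hR₀le : R₀ ≤ maximalIdeal Abar)
  (hR₀ : ∀ (T : Type u) [CommRing T] [Algebra Abar T],
    Module.Flat T (T ⊗[Abar] (Abar ⊗[A] (LocalizedModule q.primeCompl M))) ↔
      R₀.map (algebraMap Abar T) = ⊥)
  (hflat : ∀ (P : Ideal C) [P.IsPrime], P.comap (algebraMap B C) = q →
    P.comap (algebraMap A' C) = maximalIdeal A' →
    Module.Flat A' (LocalizedModule P.primeCompl (C ⊗[B] M)))

include h𝔪A hnil hR₀fg hR₀le hR₀ hflat in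
theorem map_eq_bot_of_forall_flat' : R₀.map (algebraMap Abar A') = ⊥ := by
  classical
  by_contra hI'
  set I' : Ideal A' := R₀.map (algebraMap Abar A') with hI'def
  have h𝔪b : ∀ a ∈ maximalIdeal Abar, algebraMap Abar A' a ∈ maximalIdeal A' := by
    intro a ha
    obtain ⟨n, hn⟩ := hnil
    have h1 : a ^ n = 0 := by
      have : a ^ n ∈ maximalIdeal Abar ^ n := Ideal.pow_mem_pow ha n
      rw [hn] at this
      exact this
    have h2 : IsNilpotent (algebraMap Abar A' a) := ⟨n, by rw [← map_pow, h1, map_zero]⟩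
    rw [IsLocalRing.mem_maximalIdeal, mem_nonunits_iff]
    exact h2.not_isUnit
  have h𝔪 : ∀ a ∈ maximalIdeal A, algebraMap A A' a ∈ maximalIdeal A' := by
    intro a ha
    rw [IsScalarTower.algebraMap_apply A Abar A']
    exact h𝔪b _ (h𝔪A a ha)
  have hI'le : I' ≤ maximalIdeal A' := by
    rw [hI'def, Ideal.map_le_iff_le_comap]
    intro a ha
    exact h𝔪b a (hR₀le ha)
  have hI'fg : I'.FG := hR₀fg.map _
  -- Nakayama
  have hNak : maximalIdeal A' • I' ≠ I' := by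
    intro h
    apply hI'
    refine Submodule.eq_bot_of_le_smul_of_le_jacobson_bot (maximalIdeal A') I' hI'fg ?_ ?_
    · rw [h]
    · rw [IsLocalRing.jacobson_eq_maximalIdeal ⊥ bot_ne_top]
  -- coatom
  haveI : IsCoatomic (Set.Iic I') :=
    CompleteLattice.Iic_coatomic_of_compact_element ((Submodule.fg_iff_compact I').mp hI'fg)
  have hle : maximalIdeal A' • I' ≤ I' := Submodule.smul_le_right
  obtain h | ⟨𝔟c, h𝔟c, hb𝔟c⟩ := IsCoatomic.eq_top_or_exists_le_coatom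
    (⟨maximalIdeal A' • I', hle⟩ : Set.Iic I')
  · exact hNak (congrArg Subtype.val h)
  set 𝔟 : Ideal A' := 𝔟c.1 with h𝔟def
  have h𝔟le : 𝔟 ≤ I' := 𝔟c.2
  have h𝔪𝔟 : maximalIdeal A' • I' ≤ 𝔟 := hb𝔟c
  have h𝔟ne : 𝔟 ≠ I' := by
    intro h
    apply h𝔟c.1
    exact Subtype.ext h
  obtain ⟨a₀, ha₀, ha₀𝔟⟩ : ∃ a₀ ∈ R₀, algebraMap Abar A' a₀ ∉ 𝔟 := by
    by_contra hno
    push Not at hno
    apply h𝔟ne
    apply le_antisymm h𝔟le
    rw [hI'def, Ideal.map_le_iff_le_comap]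
    exact hno
  have hsup : 𝔟 ⊔ Ideal.span {algebraMap Abar A' a₀} = I' := by
    have hle2 : 𝔟 ⊔ Ideal.span {algebraMap Abar A' a₀} ≤ I' := by
      refine sup_le h𝔟le ?_
      rw [Ideal.span_singleton_le_iff_mem]
      exact Ideal.mem_map_of_mem _ ha₀
    have hlt : 𝔟c < ⟨𝔟 ⊔ Ideal.span {algebraMap Abar A' a₀}, hle2⟩ := by
      rw [← Subtype.coe_lt_coe]
      refine lt_of_le_of_ne le_sup_left ?_
      intro h
      apply ha₀𝔟
      change algebraMap Abar A' a₀ ∈ (𝔟c : Ideal A')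
      rw [h]
      exact Ideal.mem_sup_right (Ideal.mem_span_singleton_self _)
    have := (h𝔟c.lt_iff).mp hlt
    exact congrArg Subtype.val this
  have h𝔟top : 𝔟 ≠ ⊤ := by
    intro h
    have : (1 : A') ∈ maximalIdeal A' := hI'le (h𝔟le (by rw [h]; trivial))
    exact (Ideal.ne_top_iff_one _).mp (Ideal.IsPrime.ne_top inferInstance) this
  haveI : Nontrivial (A' ⧸ 𝔟) := Ideal.Quotient.nontrivial_iff.mpr h𝔟top
  haveI : IsLocalRing (A' ⧸ 𝔟) :=
    IsLocalRing.of_surjective' (Ideal.Quotient.mk 𝔟) Ideal.Quotient.mk_surjective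
  have hR : Function.Surjective (algebraMap A' (A' ⧸ 𝔟)) := Ideal.Quotient.mk_surjective
  set ε : A' ⧸ 𝔟 := Ideal.Quotient.mk 𝔟 (algebraMap Abar A' a₀) with hεdef
  have hεalg : algebraMap Abar (A' ⧸ 𝔟) a₀ = ε := rfl
  have hε0 : ε ≠ 0 := by
    rw [hεdef, Ne, Ideal.Quotient.eq_zero_iff_mem]
    exact ha₀𝔟
  have hmem𝔫 : ∀ r' : A', Ideal.Quotient.mk 𝔟 r' ∈ maximalIdeal (A' ⧸ 𝔟) →
      r' ∈ maximalIdeal A' := by
    intro r' hr'
    by_contra hnot
    have hu : IsUnit r' := by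
      by_contra hnu
      exact hnot ((IsLocalRing.mem_maximalIdeal r').mpr hnu)
    have : IsUnit (Ideal.Quotient.mk 𝔟 r') := hu.map _
    exact ((IsLocalRing.mem_maximalIdeal _).mp hr') this
  have hε : ε ∈ maximalIdeal (A' ⧸ 𝔟) := by
    rw [IsLocalRing.mem_maximalIdeal, mem_nonunits_iff]
    intro hu
    have h1 : algebraMap Abar A' a₀ ∈ maximalIdeal A' := h𝔪b a₀ (hR₀le ha₀)
    obtain ⟨c, hc⟩ := hu.exists_right_inv
    obtain ⟨c', rfl⟩ := Ideal.Quotient.mk_surjective c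
    rw [hεdef, ← map_mul, ← map_one (Ideal.Quotient.mk 𝔟), Ideal.Quotient.eq] at hc
    have h2 : algebraMap Abar A' a₀ * c' - 1 ∈ maximalIdeal A' := hI'le (h𝔟le hc)
    have h3 : algebraMap Abar A' a₀ * c' ∈ maximalIdeal A' := Ideal.mul_mem_right _ _ h1
    have h4 : (1 : A') ∈ maximalIdeal A' := by
      have := Ideal.sub_mem _ h3 h2
      simpa using this
    exact (Ideal.ne_top_iff_one _).mp (Ideal.IsPrime.ne_top inferInstance) h4
  have hsoc : ∀ r ∈ maximalIdeal (A' ⧸ 𝔟), r * ε = 0 := by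
    intro r hr
    obtain ⟨r', rfl⟩ := Ideal.Quotient.mk_surjective r
    rw [hεdef, ← map_mul, Ideal.Quotient.eq_zero_iff_mem]
    apply h𝔪𝔟
    rw [smul_eq_mul]
    exact Ideal.mul_mem_mul (hmem𝔫 r' hr) (Ideal.mem_map_of_mem _ ha₀)
  -- flatness of the quotient by `ε`
  haveI hflatε : Module.Flat ((A' ⧸ 𝔟) ⧸ Ideal.span {ε})
      (((A' ⧸ 𝔟) ⧸ Ideal.span {ε}) ⊗[A' ⧸ 𝔟]
        ((A' ⧸ 𝔟) ⊗[A] (LocalizedModule q.primeCompl M))) := by
    haveI h1 : Module.Flat ((A' ⧸ 𝔟) ⧸ Ideal.span {ε})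
        (((A' ⧸ 𝔟) ⧸ Ideal.span {ε}) ⊗[Abar] (Abar ⊗[A] (LocalizedModule q.primeCompl M))) := by
      rw [hR₀, Ideal.map_eq_bot_iff_le_ker]
      intro a ha
      rw [RingHom.mem_ker]
      have h2 : algebraMap Abar A' a ∈ 𝔟 ⊔ Ideal.span {algebraMap Abar A' a₀} := by
        rw [hsup]
        exact Ideal.mem_map_of_mem _ ha
      obtain ⟨b, hb, c, hc, hbc⟩ := Submodule.mem_sup.mp h2
      obtain ⟨c', rfl⟩ := Ideal.mem_span_singleton'.mp hc
      change Ideal.Quotient.mk (Ideal.span {ε}) (Ideal.Quotient.mk 𝔟 (algebraMap Abar A' a)) = 0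
      rw [Ideal.Quotient.eq_zero_iff_mem, ← hbc, map_add,
        (Ideal.Quotient.eq_zero_iff_mem).mpr hb, zero_add, map_mul]
      exact Ideal.mul_mem_left _ _ (Ideal.mem_span_singleton_self _)
    haveI h1' : Module.Flat ((A' ⧸ 𝔟) ⧸ Ideal.span {ε})
        (((A' ⧸ 𝔟) ⧸ Ideal.span {ε}) ⊗[A] (LocalizedModule q.primeCompl M)) :=
      Module.Flat.of_linearEquiv
        (AlgebraTensorModule.cancelBaseChange A Abar ((A' ⧸ 𝔟) ⧸ Ideal.span {ε})
          ((A' ⧸ 𝔟) ⧸ Ideal.span {ε}) (LocalizedModule q.primeCompl M)).symm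
    exact Module.Flat.of_linearEquiv
      (AlgebraTensorModule.cancelBaseChange A (A' ⧸ 𝔟) ((A' ⧸ 𝔟) ⧸ Ideal.span {ε})
        ((A' ⧸ 𝔟) ⧸ Ideal.span {ε}) (LocalizedModule q.primeCompl M))
  -- the family
  haveI hflatj : ∀ j : PrimeOver (A' := A') (C := C) q, Module.Flat (A' ⧸ 𝔟)
      ((A' ⧸ 𝔟) ⊗[A'] (LocalizedModule j.P.primeCompl (C ⊗[B] M))) := by
    intro j
    haveI := hflat j.P j.hq j.hm
    infer_instance
  have hfl : Module.Flat (A' ⧸ 𝔟) ((A' ⧸ 𝔟) ⊗[A] (LocalizedModule q.primeCompl M)) := by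
    refine flat_of_family ε hε hε0 hsoc ((A' ⧸ 𝔟) ⊗[A] (LocalizedModule q.primeCompl M))
      (J := PrimeOver (A' := A') (C := C) q)
      (fun j => (A' ⧸ 𝔟) ⊗[A'] (LocalizedModule j.P.primeCompl (C ⊗[B] M)))
      (fun j => (rho0 (A := A) (A' := A') q M (A' ⧸ 𝔟) j.P j.hq) ∘ₗ
        ((ell A (LocalizedModule q.primeCompl M) j.t).baseChange (A' ⧸ 𝔟))) ?_
    intro n hn
    refine mem_smul_top_of_forall_rho0 (A := A) (A' := A') (C := C) q M (A' ⧸ 𝔟) hR
      (maximalIdeal A) h𝔪 n ?_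
    intro P hP hPq hPm t ht
    exact hn ⟨P, hP, hPq, hPm, t, ht⟩
  haveI := hfl
  have hfl' : Module.Flat (A' ⧸ 𝔟)
      ((A' ⧸ 𝔟) ⊗[Abar] (Abar ⊗[A] (LocalizedModule q.primeCompl M))) :=
    Module.Flat.of_linearEquiv
      (AlgebraTensorModule.cancelBaseChange A Abar (A' ⧸ 𝔟) (A' ⧸ 𝔟)
        (LocalizedModule q.primeCompl M))
  have h1 := (hR₀ (A' ⧸ 𝔟)).mp hfl'
  rw [Ideal.map_eq_bot_iff_le_ker] at h1
  have h2 := h1 ha₀
  rw [RingHom.mem_ker, hεalg] at h2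
  exact hε0 h2

end Step2

end Groth.Agent.Lib.Helper6.FlFam
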