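import Mathlib
import Groth.Agent.Lib.Helper6.FlFam9
import Groth.Agent.Lib.Helper6.FlFam10
import Groth.Agent.Lib.Helper6.FlFam12

/-!
# Auxiliary lemmas for the Noetherian local-family criterion (helper6)
-/

set_option backward.isDefEq.respectTransparency.types false
set_option autoImplicit false
set_option linter.style.haveILetI false
set_option linter.unusedSectionVars false
universe u

namespace Groth.Agent.Lib.Helper6.FlFam

open TensorProduct AlgebraicGeometry CategoryTheory CategoryTheory.Limits IsLocalRing
open Groth.Agent.Lib.Helper29.QCoh Groth.Agent.Lib.Helper18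

/-- the prime of the closed point of `Spec O` in `Γ(Spec O, ⊤)` is the maximal ideal -/
theorem primeIdealOf_closedPoint {O : Type u} [CommRing O] [IsLocalRing O]
    [IsLocalRing Γ(Spec (CommRingCat.of O), ⊤)] (t : Spec (CommRingCat.of O))
    (ht : t = IsLocalRing.closedPoint O) :
    ((isAffineOpen_top (Spec (CommRingCat.of O))).primeIdealOf ⟨t, trivial⟩).asIdeal =
      maximalIdeal Γ(Spec (CommRingCat.of O), ⊤) := by
  subst ht
  apply le_antisymm
  · exact IsLocalRing.le_maximalIdeal (Ideal.IsPrime.ne_top inferInstance)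
  · obtain ⟨t', ht'⟩ := Groth.Agent.Lib.Helper6.RP.primeIdealOf_surjective
      (isAffineOpen_top (Spec (CommRingCat.of O)))
      ⟨maximalIdeal Γ(Spec (CommRingCat.of O), ⊤), inferInstance⟩
    have h1 : (t'.1 : Spec (CommRingCat.of O)) ⤳ IsLocalRing.closedPoint O :=
      IsLocalRing.specializes_closedPoint _
    have h2 := (Groth.Agent.Lib.Helper6.RP.specializes_iff_primeIdealOf_le
      (isAffineOpen_top (Spec (CommRingCat.of O))) t' ⟨IsLocalRing.closedPoint O, trivial⟩).mp h1
    rw [ht'] at h2
    exact h2

/-- refined base change of flatness along a composite -/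
theorem isFlatOverAt_pullback_comp' {X S Y T : Scheme.{u}} (f : X ⟶ S) (g : Y ⟶ S) (h : T ⟶ Y)
    (t : T ⟶ S) (ht : t = h ≫ g) (F : X.Modules) [F.IsQuasicoherent] (x'' : ↥(pullback f t))
    (hfl : ∀ z : ↥(pullback f g), pullback.fst f g z = pullback.fst f t x'' →
      pullback.snd f g z = h (pullback.snd f t x'') →
      FlatMod.IsFlatOverAt (pullback.snd f g)
        ((Scheme.Modules.pullback (pullback.fst f g)).obj F) z) :
    FlatMod.IsFlatOverAt (pullback.snd f t)
      ((Scheme.Modules.pullback (pullback.fst f t)).obj F) x'' := by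
  subst ht
  let k : pullback f (h ≫ g) ⟶ pullback f g :=
    pullback.map f (h ≫ g) f g (𝟙 X) h (𝟙 S) (by simp) (by simp)
  have hk1 : k ≫ pullback.fst f g = pullback.fst f (h ≫ g) := by
    simp only [k, pullback.map]
    rw [pullback.lift_fst, Category.comp_id]
  have hk2 : k ≫ pullback.snd f g = pullback.snd f (h ≫ g) ≫ h := by
    simp only [k, pullback.map]
    rw [pullback.lift_snd]
  have hc : IsPullback k (pullback.snd f (h ≫ g)) (pullback.snd f g) h :=
    IsPullback.of_right (by rw [hk1]; exact IsPullback.of_hasPullback f (h ≫ g)) hk2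
      (IsPullback.of_hasPullback f g)
  have h1 := hfl (k x'') (by rw [← Scheme.Hom.comp_apply, hk1])
    (by rw [← Scheme.Hom.comp_apply, hk2, Scheme.Hom.comp_apply])
  have h2 := Groth.Agent.Lib.Helper10.FibreProductStalk.isFlatOverAt_baseChange x''
    ((Scheme.Modules.pullback (pullback.fst f g)).obj F) hc h1
  have e : (Scheme.Modules.pullback k).obj ((Scheme.Modules.pullback (pullback.fst f g)).obj F) ≅
      (Scheme.Modules.pullback (pullback.fst f (h ≫ g))).obj F :=
    (Scheme.Modules.pullbackComp k (pullback.fst f g)).app F ≪≫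
      (Scheme.Modules.pullbackCongr hk1).app F
  exact isFlatOverAt_of_iso _ e x'' h2

/-- the closed point of a quotient of a local ring maps to the closed point -/
theorem SpecMap_mk_closedPoint {A : Type u} [CommRing A] [IsLocalRing A] (I : Ideal A)
    [IsLocalRing (A ⧸ I)] :
    Spec.map (CommRingCat.ofHom (Ideal.Quotient.mk I)) (IsLocalRing.closedPoint (A ⧸ I)) =
      IsLocalRing.closedPoint A := by
  apply PrimeSpectrum.ext
  change (maximalIdeal (A ⧸ I)).comap (Ideal.Quotient.mk I) = maximalIdeal A
  have : ((maximalIdeal (A ⧸ I)).comap (Ideal.Quotient.mk I)).IsMaximal :=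
    Ideal.comap_isMaximal_of_surjective _ Ideal.Quotient.mk_surjective
  exact IsLocalRing.eq_maximalIdeal this

end Groth.Agent.Lib.Helper6.FlFam
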