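import Mathlib
import Groth.Agent.Lib.Helper6.FlFam13
import Groth.Agent.Lib.Helper9.FlatCrit2

/-!
# EGA IV 11.5.?: Noetherian local base, family of local algebras defining the topology (helper6)
-/

set_option backward.isDefEq.respectTransparency.types false
set_option autoImplicit false
set_option linter.style.haveILetI false
set_option linter.unusedSectionVars false
universe u

namespace Groth.Agent.Lib.Helper6.FlFam

open TensorProduct AlgebraicGeometry CategoryTheory CategoryTheory.Limits IsLocalRing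
open Groth.Agent.Lib.Helper29.QCoh Groth.Agent.Lib.Helper18

section RingPrep

variable {R : Type u} [CommRing R] [IsLocalRing R] (𝔞 : Ideal R)

theorem isLocalRing_quotient (h : 𝔞 ≠ ⊤) : IsLocalRing (R ⧸ 𝔞) := by
  haveI : Nontrivial (R ⧸ 𝔞) := Ideal.Quotient.nontrivial_iff.mpr h
  exact IsLocalRing.of_surjective' (Ideal.Quotient.mk 𝔞) Ideal.Quotient.mk_surjective

theorem mk_mem_maximalIdeal [IsLocalRing (R ⧸ 𝔞)] (a : R) (ha : a ∈ maximalIdeal R) :
    Ideal.Quotient.mk 𝔞 a ∈ maximalIdeal (R ⧸ 𝔞) := by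
  have h𝔞 : 𝔞 ≤ maximalIdeal R :=
    IsLocalRing.le_maximalIdeal (Ideal.Quotient.nontrivial_iff.mp inferInstance)
  rw [IsLocalRing.mem_maximalIdeal, mem_nonunits_iff]
  intro hu
  obtain ⟨c, hc⟩ := hu.exists_right_inv
  obtain ⟨c', rfl⟩ := Ideal.Quotient.mk_surjective c
  rw [← map_mul, ← map_one (Ideal.Quotient.mk 𝔞), Ideal.Quotient.eq] at hc
  have h2 : a * c' - 1 ∈ maximalIdeal R := h𝔞 hc
  have h3 : a * c' ∈ maximalIdeal R := Ideal.mul_mem_right _ _ ha
  have h4 : (1 : R) ∈ maximalIdeal R := by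
    have := Ideal.sub_mem _ h3 h2
    simpa using this
  exact (Ideal.ne_top_iff_one _).mp (Ideal.IsPrime.ne_top inferInstance) h4

theorem mem_maximalIdeal_of_mk_mem [IsLocalRing (R ⧸ 𝔞)] (r : R)
    (hr : Ideal.Quotient.mk 𝔞 r ∈ maximalIdeal (R ⧸ 𝔞)) : r ∈ maximalIdeal R := by
  by_contra hnot
  have hu : IsUnit r := by
    by_contra hnu
    exact hnot ((IsLocalRing.mem_maximalIdeal r).mpr hnu)
  have : IsUnit (Ideal.Quotient.mk 𝔞 r) := hu.map _
  exact ((IsLocalRing.mem_maximalIdeal _).mp hr) this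

theorem isNilpotent_maximalIdeal_quotient [IsLocalRing (R ⧸ 𝔞)] (k : ℕ)
    (hk : maximalIdeal R ^ k ≤ 𝔞) : IsNilpotent (maximalIdeal (R ⧸ 𝔞)) := by
  refine ⟨k, ?_⟩
  have h1 : maximalIdeal (R ⧸ 𝔞) ≤ (maximalIdeal R).map (Ideal.Quotient.mk 𝔞) := by
    intro y hy
    obtain ⟨r, rfl⟩ := Ideal.Quotient.mk_surjective y
    exact Ideal.mem_map_of_mem _ (mem_maximalIdeal_of_mk_mem 𝔞 r hy)
  rw [Ideal.zero_eq_bot, eq_bot_iff]
  calc maximalIdeal (R ⧸ 𝔞) ^ k ≤ ((maximalIdeal R).map (Ideal.Quotient.mk 𝔞)) ^ k :=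
        Ideal.pow_right_mono h1 k
    _ = (maximalIdeal R ^ k).map (Ideal.Quotient.mk 𝔞) := (Ideal.map_pow _ _ _).symm
    _ ≤ 𝔞.map (Ideal.Quotient.mk 𝔞) := Ideal.map_mono hk
    _ = ⊥ := Ideal.map_quotient_self 𝔞

end RingPrep

end Groth.Agent.Lib.Helper6.FlFam
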