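import Mathlib
import Groth.Agent.Lib.Helper6.FlFam14

/-!
# Noetherian local base, family of local algebras defining the topology: scheme form (helper6)
-/

set_option backward.isDefEq.respectTransparency.types false
set_option autoImplicit false
set_option linter.style.haveILetI false
set_option linter.unusedSectionVars false
universe u

namespace Groth.Agent.Lib.Helper6.FlFam

open TensorProduct AlgebraicGeometry CategoryTheory CategoryTheory.Limits IsLocalRing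
open Groth.Agent.Lib.Helper29.QCoh Groth.Agent.Lib.Helper18

theorem isFlatOverAt_of_local_family_noetherian {O : Type u} [CommRing O] [IsNoetherianRing O]
    [IsLocalRing O] {X : Scheme.{u}} (f : X ⟶ Spec (CommRingCat.of O)) [LocallyOfFiniteType f]
    (F : X.Modules) (hF : Coh.IsCoh F) (x : X) (hx : f x = IsLocalRing.closedPoint O)
    {ι : Type u} (A : ι → Type u) [∀ i, CommRing (A i)] [∀ i, IsLocalRing (A i)]
    (φ : ∀ i, O →+* A i) [∀ i, IsLocalHom (φ i)]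
    (htop : ∀ N : ℕ, ∃ s : Finset (ι × ℕ),
      ⨅ p ∈ s, Ideal.comap (φ p.1) (maximalIdeal (A p.1) ^ p.2) ≤ maximalIdeal O ^ N)
    (hflat : ∀ (i : ι) (x' : ↥(pullback f (Spec.map (CommRingCat.ofHom (φ i))))),
      pullback.fst f (Spec.map (CommRingCat.ofHom (φ i))) x' = x →
      pullback.snd f (Spec.map (CommRingCat.ofHom (φ i))) x' = IsLocalRing.closedPoint (A i) →
      FlatMod.IsFlatOverAt (pullback.snd f (Spec.map (CommRingCat.ofHom (φ i))))
        ((Scheme.Modules.pullback (pullback.fst f (Spec.map (CommRingCat.ofHom (φ i))))).obj F) x') :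
    FlatMod.IsFlatOverAt f F x := by
  classical
  obtain ⟨hFqc, hFft⟩ := hF
  haveI : F.IsQuasicoherent := hFqc
  haveI : F.IsFiniteType := hFft
  obtain ⟨W, hW, hxW, -⟩ := exists_isAffineOpen_mem_and_subset (x := x) (U := ⊤) trivial
  have hV : IsAffineOpen (⊤ : (Spec (CommRingCat.of O)).Opens) := isAffineOpen_top _
  have hWV : W ≤ f ⁻¹ᵁ ⊤ := le_top
  rw [Fl.isFlatOverAt_iff_flat_localizedModule f F hW hV hWV x hxW]
  letI algRA : Algebra Γ(Spec (CommRingCat.of O), ⊤) Γ(X, W) := (f.appLE ⊤ W hWV).hom.toAlgebra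
  letI modRM : Module Γ(Spec (CommRingCat.of O), ⊤) Γ(F, W) :=
    Module.compHom _ (f.appLE ⊤ W hWV).hom
  haveI tw3 : IsScalarTower Γ(Spec (CommRingCat.of O), ⊤) Γ(X, W) Γ(F, W) :=
    IsScalarTower.of_algebraMap_smul (fun _ _ => rfl)
  let eR : Γ(Spec (CommRingCat.of O), ⊤) ≃+* O :=
    (Scheme.ΓSpecIso (CommRingCat.of O)).commRingCatIsoToRingEquiv
  haveI : IsLocalRing Γ(Spec (CommRingCat.of O), ⊤) := eR.symm.isLocalRing
  haveI : IsNoetherianRing Γ(Spec (CommRingCat.of O), ⊤) := isNoetherianRing_of_ringEquiv O eR.symm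
  haveI : IsNoetherianRing Γ(X, W) := by
    have hft : RingHom.FiniteType (f.appLE ⊤ W hWV).hom :=
      HasRingHomProperty.appLE (P := @LocallyOfFiniteType) f inferInstance ⟨⊤, hV⟩ ⟨W, hW⟩ hWV
    haveI : Algebra.FiniteType Γ(Spec (CommRingCat.of O), ⊤) Γ(X, W) := hft
    exact Algebra.FiniteType.isNoetherianRing Γ(Spec (CommRingCat.of O), ⊤) Γ(X, W)
  haveI : Module.Finite Γ(X, W) Γ(F, W) := module_finite_of_isFiniteType F hW
  have hq𝔪 : (hW.primeIdealOf ⟨x, hxW⟩).asIdeal.comap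
      (algebraMap Γ(Spec (CommRingCat.of O), ⊤) Γ(X, W)) =
      maximalIdeal Γ(Spec (CommRingCat.of O), ⊤) := by
    have h1 := IsAffineOpen.comap_primeIdealOf_appLE ⊤ hV W hW hWV hxW
    have h2 := primeIdealOf_closedPoint (f x) hx
    rw [← h2]
    exact congrArg PrimeSpectrum.asIdeal h1
  refine Groth.Agent.Lib.Helper9.flat_of_injOnTorsion_pow
    (S := Localization.AtPrime (hW.primeIdealOf ⟨x, hxW⟩).asIdeal)
    (maximalIdeal Γ(Spec (CommRingCat.of O), ⊤)) ?_ ?_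
  · -- `𝔪 B_q ≤ rad`
    rw [IsLocalRing.jacobson_eq_maximalIdeal ⊥ bot_ne_top, Ideal.map_le_iff_le_comap]
    intro a ha
    rw [Ideal.mem_comap, IsScalarTower.algebraMap_apply Γ(Spec (CommRingCat.of O), ⊤) Γ(X, W)
      (Localization.AtPrime (hW.primeIdealOf ⟨x, hxW⟩).asIdeal)]
    have h1 : algebraMap Γ(Spec (CommRingCat.of O), ⊤) Γ(X, W) a ∈
        (hW.primeIdealOf ⟨x, hxW⟩).asIdeal := by
      have : a ∈ (hW.primeIdealOf ⟨x, hxW⟩).asIdeal.comap
          (algebraMap Γ(Spec (CommRingCat.of O), ⊤) Γ(X, W)) := by rw [hq𝔪]; exact ha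
      exact this
    rw [← Localization.AtPrime.map_eq_maximalIdeal]
    exact Ideal.mem_map_of_mem _ h1
  · intro N hN
    obtain ⟨s, hs⟩ := htop N
    set 𝔞 : Ideal Γ(Spec (CommRingCat.of O), ⊤) :=
      ⨅ p ∈ s, Ideal.comap ((φ p.1).comp (eR : Γ(Spec (CommRingCat.of O), ⊤) →+* O))
        (maximalIdeal (A p.1) ^ p.2) with h𝔞
    have hmem𝔞 : ∀ a, a ∈ 𝔞 ↔ ∀ p ∈ s, φ p.1 (eR a) ∈ maximalIdeal (A p.1) ^ p.2 := by
      intro a
      simp only [h𝔞, Ideal.mem_iInf, Ideal.mem_comap, RingHom.comp_apply]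
      rfl
    have heRmax : ∀ a, a ∈ maximalIdeal Γ(Spec (CommRingCat.of O), ⊤) ↔ eR a ∈ maximalIdeal O := by
      intro a
      rw [IsLocalRing.mem_maximalIdeal, IsLocalRing.mem_maximalIdeal, mem_nonunits_iff,
        mem_nonunits_iff]
      exact not_congr (MulEquiv.isUnit_map eR).symm
    have h𝔞N : 𝔞 ≤ maximalIdeal Γ(Spec (CommRingCat.of O), ⊤) ^ N := by
      intro a ha
      have h1 : eR a ∈ maximalIdeal O ^ N := by
        apply hs
        simp only [Ideal.mem_iInf, Ideal.mem_comap]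
        exact (hmem𝔞 a).mp ha
      have h2 : eR.symm (eR a) ∈ (maximalIdeal O ^ N).map (eR.symm : O →+* _) :=
        Ideal.mem_map_of_mem _ h1
      rw [RingEquiv.symm_apply_apply, Ideal.map_pow] at h2
      refine Ideal.pow_right_mono ?_ N h2
      rw [Ideal.map_le_iff_le_comap]
      intro b hb
      rw [Ideal.mem_comap, heRmax]
      simpa using hb
    -- reduce to `𝔞`
    suffices hsuff : Groth.Agent.Lib.Helper9.InjOnTorsion Γ(Spec (CommRingCat.of O), ⊤) 𝔞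
        (LocalizedModule (hW.primeIdealOf ⟨x, hxW⟩).asIdeal.primeCompl Γ(F, W)) by
      intro A₁ B₁ _ _ _ _ hA hB j hj
      exact hsuff A₁ B₁ (Module.isTorsionBySet_of_subset h𝔞N hA)
        (Module.isTorsionBySet_of_subset h𝔞N hB) j hj
    have h𝔞le : 𝔞 ≤ maximalIdeal Γ(Spec (CommRingCat.of O), ⊤) :=
      h𝔞N.trans (Ideal.pow_le_self hN.ne')
    have h𝔞ne : 𝔞 ≠ ⊤ := fun h => (Ideal.IsPrime.ne_top inferInstance :
      maximalIdeal Γ(Spec (CommRingCat.of O), ⊤) ≠ ⊤) (top_le_iff.mp (h ▸ h𝔞le))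
    haveI : IsLocalRing (Γ(Spec (CommRingCat.of O), ⊤) ⧸ 𝔞) := isLocalRing_quotient 𝔞 h𝔞ne
    -- local homs
    have hloc : ∀ (i : ι) (a : Γ(Spec (CommRingCat.of O), ⊤)),
        a ∈ maximalIdeal Γ(Spec (CommRingCat.of O), ⊤) → φ i (eR a) ∈ maximalIdeal (A i) := by
      intro i a ha
      rw [heRmax] at ha
      rw [IsLocalRing.mem_maximalIdeal, mem_nonunits_iff] at ha ⊢
      intro hu
      exact ha (isUnit_of_map_unit (φ i) _ hu)
    have hnilbar : IsNilpotent (maximalIdeal (Γ(Spec (CommRingCat.of O), ⊤) ⧸ 𝔞)) := by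
      refine isNilpotent_maximalIdeal_quotient 𝔞 (s.sup fun p => p.2) ?_
      intro a ha
      rw [hmem𝔞]
      intro p hp
      have h1 : a ∈ maximalIdeal Γ(Spec (CommRingCat.of O), ⊤) ^ p.2 :=
        Ideal.pow_le_pow_right (Finset.le_sup (f := fun p : ι × ℕ => p.2) hp) ha
      have h2 : ((φ p.1).comp (eR : Γ(Spec (CommRingCat.of O), ⊤) →+* O)) a ∈
          (maximalIdeal Γ(Spec (CommRingCat.of O), ⊤) ^ p.2).map
            ((φ p.1).comp (eR : Γ(Spec (CommRingCat.of O), ⊤) →+* O)) :=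
        Ideal.mem_map_of_mem _ h1
      rw [Ideal.map_pow] at h2
      refine Ideal.pow_right_mono ?_ p.2 h2
      rw [Ideal.map_le_iff_le_comap]
      intro b hb
      exact hloc p.1 b hb
    haveI : IsArtinianRing (Γ(Spec (CommRingCat.of O), ⊤) ⧸ 𝔞) :=
      (isArtinianRing_iff_isNilpotent_maximalIdeal _).mpr hnilbar
    obtain ⟨R₀, hfg, hle, hR₀, hconc⟩ := exists_flattening_ideal
      (A := Γ(Spec (CommRingCat.of O), ⊤) ⧸ 𝔞)
      ((Γ(Spec (CommRingCat.of O), ⊤) ⧸ 𝔞) ⊗[Γ(Spec (CommRingCat.of O), ⊤)]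
        (LocalizedModule (hW.primeIdealOf ⟨x, hxW⟩).asIdeal.primeCompl Γ(F, W)))
    suffices hR₀bot : R₀ = ⊥ by
      haveI := hconc hR₀bot
      exact Groth.Agent.Lib.Helper9.injOnTorsion_of_flat
    by_contra hne
    obtain ⟨a₀, ha₀, ha₀0⟩ : ∃ a₀ ∈ R₀, a₀ ≠ 0 := Submodule.exists_mem_ne_zero_of_ne_bot hne
    obtain ⟨r₀, rfl⟩ := Ideal.Quotient.mk_surjective a₀
    have hr₀ : r₀ ∉ 𝔞 := fun h => ha₀0 ((Ideal.Quotient.eq_zero_iff_mem).mpr h)
    rw [hmem𝔞] at hr₀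
    push Not at hr₀
    obtain ⟨⟨i, n⟩, hp, hpr⟩ := hr₀
    simp only at hpr
    have hn : maximalIdeal (A i) ^ n ≠ ⊤ := fun h => hpr (h ▸ trivial)
    haveI : IsLocalRing (A i ⧸ maximalIdeal (A i) ^ n) := isLocalRing_quotient _ hn
    set ψ : O →+* (A i ⧸ maximalIdeal (A i) ^ n) :=
      (Ideal.Quotient.mk (maximalIdeal (A i) ^ n)).comp (φ i) with hψ
    have H : IsPullback (pullback.fst f (Spec.map (CommRingCat.ofHom ψ)))
        (pullback.snd f (Spec.map (CommRingCat.ofHom ψ))) f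
        (Spec.map (CommRingCat.ofHom ψ)) := IsPullback.of_hasPullback _ _
    set g := Spec.map (CommRingCat.ofHom ψ) with hg
    set p := pullback.fst f g with hp'
    set q' := pullback.snd f g with hq'
    have hUT : IsAffineOpen (⊤ : (Spec (CommRingCat.of (A i ⧸ maximalIdeal (A i) ^ n))).Opens) :=
      isAffineOpen_top _
    have hUST : (⊤ : (Spec (CommRingCat.of (A i ⧸ maximalIdeal (A i) ^ n))).Opens) ≤ g ⁻¹ᵁ ⊤ :=
      le_top
    set UY : (pullback f g).Opens := p ⁻¹ᵁ W ⊓ q' ⁻¹ᵁ ⊤ with hUY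
    have hUYaff : IsAffineOpen UY := GFl.isAffineOpen_of_isPullback H hV hUT hW hUST hWV hUY
    have hpW : UY ≤ p ⁻¹ᵁ W := inf_le_left
    have hqT : UY ≤ q' ⁻¹ᵁ ⊤ := inf_le_right
    have hpo := GFl.isPushout_appLE_of_isPullback H hV hUT hW hUST hWV hUY
    letI algRS : Algebra Γ(Spec (CommRingCat.of O), ⊤)
        Γ(Spec (CommRingCat.of (A i ⧸ maximalIdeal (A i) ^ n)), ⊤) :=
      (g.appLE ⊤ ⊤ hUST).hom.toAlgebra
    letI algAB : Algebra Γ(X, W) Γ(pullback f g, UY) := (p.appLE W UY hpW).hom.toAlgebra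
    letI algSB : Algebra Γ(Spec (CommRingCat.of (A i ⧸ maximalIdeal (A i) ^ n)), ⊤)
        Γ(pullback f g, UY) := (q'.appLE ⊤ UY hqT).hom.toAlgebra
    letI algRB : Algebra Γ(Spec (CommRingCat.of O), ⊤) Γ(pullback f g, UY) :=
      ((p.appLE W UY hpW).hom.comp (f.appLE ⊤ W hWV).hom).toAlgebra
    haveI tw1 : IsScalarTower Γ(Spec (CommRingCat.of O), ⊤) Γ(X, W) Γ(pullback f g, UY) :=
      IsScalarTower.of_algebraMap_eq (fun _ => rfl)
    haveI tw2 : IsScalarTower Γ(Spec (CommRingCat.of O), ⊤)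
        Γ(Spec (CommRingCat.of (A i ⧸ maximalIdeal (A i) ^ n)), ⊤) Γ(pullback f g, UY) :=
      IsScalarTower.of_algebraMap_eq (fun r => by
        have hw := hpo.w
        exact congr($(hw).hom r))
    haveI hpo' : Algebra.IsPushout Γ(Spec (CommRingCat.of O), ⊤)
        Γ(Spec (CommRingCat.of (A i ⧸ maximalIdeal (A i) ^ n)), ⊤) Γ(X, W) Γ(pullback f g, UY) :=
      CommRingCat.isPushout_iff_isPushout.mp hpo.flip
    let eA' : Γ(Spec (CommRingCat.of (A i ⧸ maximalIdeal (A i) ^ n)), ⊤) ≃+*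
        (A i ⧸ maximalIdeal (A i) ^ n) :=
      (Scheme.ΓSpecIso (CommRingCat.of (A i ⧸ maximalIdeal (A i) ^ n))).commRingCatIsoToRingEquiv
    haveI : IsLocalRing Γ(Spec (CommRingCat.of (A i ⧸ maximalIdeal (A i) ^ n)), ⊤) :=
      eA'.symm.isLocalRing
    have hnat : (g.appLE ⊤ ⊤ hUST) ≫
        (Scheme.ΓSpecIso (CommRingCat.of (A i ⧸ maximalIdeal (A i) ^ n))).hom =
        (Scheme.ΓSpecIso (CommRingCat.of O)).hom ≫ CommRingCat.ofHom ψ := by
      rw [← Scheme.ΓSpecIso_naturality (CommRingCat.ofHom ψ)]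
      congr 1
    have hnat' : ∀ a : Γ(Spec (CommRingCat.of O), ⊤),
        eA' (algebraMap Γ(Spec (CommRingCat.of O), ⊤)
          Γ(Spec (CommRingCat.of (A i ⧸ maximalIdeal (A i) ^ n)), ⊤) a) = ψ (eR a) :=
      fun a => congr($(hnat).hom a)
    have h0 : ∀ a ∈ 𝔞, algebraMap Γ(Spec (CommRingCat.of O), ⊤)
        Γ(Spec (CommRingCat.of (A i ⧸ maximalIdeal (A i) ^ n)), ⊤) a = 0 := by
      intro a ha
      apply eA'.injective
      rw [hnat', map_zero, hψ, RingHom.comp_apply, Ideal.Quotient.eq_zero_iff_mem]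
      exact (hmem𝔞 a).mp ha (i, n) hp
    letI algbar : Algebra (Γ(Spec (CommRingCat.of O), ⊤) ⧸ 𝔞)
        Γ(Spec (CommRingCat.of (A i ⧸ maximalIdeal (A i) ^ n)), ⊤) :=
      (Ideal.Quotient.lift 𝔞 (algebraMap Γ(Spec (CommRingCat.of O), ⊤)
        Γ(Spec (CommRingCat.of (A i ⧸ maximalIdeal (A i) ^ n)), ⊤)) h0).toAlgebra
    haveI twbar : IsScalarTower Γ(Spec (CommRingCat.of O), ⊤) (Γ(Spec (CommRingCat.of O), ⊤) ⧸ 𝔞)
        Γ(Spec (CommRingCat.of (A i ⧸ maximalIdeal (A i) ^ n)), ⊤) :=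
      IsScalarTower.of_algebraMap_eq (fun r => rfl)
    have key := map_eq_bot_of_forall_flat' (A := Γ(Spec (CommRingCat.of O), ⊤)) (B := Γ(X, W))
      (A' := Γ(Spec (CommRingCat.of (A i ⧸ maximalIdeal (A i) ^ n)), ⊤))
      (C := Γ(pullback f g, UY))
      (hW.primeIdealOf ⟨x, hxW⟩).asIdeal Γ(F, W) (Γ(Spec (CommRingCat.of O), ⊤) ⧸ 𝔞)
      (fun a ha => mk_mem_maximalIdeal 𝔞 a ha) hnilbar R₀ hfg hle hR₀ ?_
    · have h1 : algebraMap (Γ(Spec (CommRingCat.of O), ⊤) ⧸ 𝔞)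
          Γ(Spec (CommRingCat.of (A i ⧸ maximalIdeal (A i) ^ n)), ⊤)
          (Ideal.Quotient.mk 𝔞 r₀) = 0 := by
        have h2 : algebraMap (Γ(Spec (CommRingCat.of O), ⊤) ⧸ 𝔞)
            Γ(Spec (CommRingCat.of (A i ⧸ maximalIdeal (A i) ^ n)), ⊤)
            (Ideal.Quotient.mk 𝔞 r₀) ∈ R₀.map (algebraMap (Γ(Spec (CommRingCat.of O), ⊤) ⧸ 𝔞)
              Γ(Spec (CommRingCat.of (A i ⧸ maximalIdeal (A i) ^ n)), ⊤)) :=
          Ideal.mem_map_of_mem _ ha₀
        rw [key] at h2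
        exact h2
      have h3 : algebraMap Γ(Spec (CommRingCat.of O), ⊤)
          Γ(Spec (CommRingCat.of (A i ⧸ maximalIdeal (A i) ^ n)), ⊤) r₀ = 0 := h1
      have h4 := hnat' r₀
      rw [h3, map_zero, hψ, RingHom.comp_apply] at h4
      exact hpr ((Ideal.Quotient.eq_zero_iff_mem).mp h4.symm)
    · intro P hP hPq hPm
      obtain ⟨x'sub, hx'⟩ := Groth.Agent.Lib.Helper6.RP.primeIdealOf_surjective hUYaff ⟨P, hP⟩
      have hPeq : (hUYaff.primeIdealOf x'sub).asIdeal = P := congrArg PrimeSpectrum.asIdeal hx'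
      have hpx : p x'sub.1 = x := by
        have h1 := IsAffineOpen.comap_primeIdealOf_appLE W hW UY hUYaff hpW x'sub.2
        have h2 : hW.primeIdealOf ⟨p x'sub.1, hpW x'sub.2⟩ = hW.primeIdealOf ⟨x, hxW⟩ := by
          rw [← h1]
          apply PrimeSpectrum.ext
          change (hUYaff.primeIdealOf ⟨x'sub.1, x'sub.2⟩).asIdeal.comap _ = _
          rw [show (⟨x'sub.1, x'sub.2⟩ : UY) = x'sub from rfl, hPeq]
          exact hPq
        exact congrArg Subtype.val (Groth.Agent.Lib.Helper6.RP.primeIdealOf_injective hW h2)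
      have hqx : q' x'sub.1 = IsLocalRing.closedPoint (A i ⧸ maximalIdeal (A i) ^ n) := by
        apply eq_closedPoint_of_primeIdealOf
        intro 𝔭 h𝔭
        have h1 := IsAffineOpen.comap_primeIdealOf_appLE ⊤ hUT UY hUYaff hqT x'sub.2
        have h2 : (hUT.primeIdealOf ⟨q' x'sub.1, trivial⟩).asIdeal =
            maximalIdeal Γ(Spec (CommRingCat.of (A i ⧸ maximalIdeal (A i) ^ n)), ⊤) := by
          rw [show (hUT.primeIdealOf ⟨q' x'sub.1, trivial⟩) =
            hUT.primeIdealOf ⟨q' x'sub.1, hqT x'sub.2⟩ from rfl, ← h1]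
          change (hUYaff.primeIdealOf ⟨x'sub.1, x'sub.2⟩).asIdeal.comap _ = _
          rw [show (⟨x'sub.1, x'sub.2⟩ : UY) = x'sub from rfl, hPeq]
          exact hPm
        rw [h2]
        exact IsLocalRing.le_maximalIdeal h𝔭.ne_top
      have hgcomp : g = Spec.map (CommRingCat.ofHom (Ideal.Quotient.mk (maximalIdeal (A i) ^ n))) ≫
          Spec.map (CommRingCat.ofHom (φ i)) := by
        rw [← Spec.map_comp]
        rfl
      have hfl : FlatMod.IsFlatOverAt q' ((Scheme.Modules.pullback p).obj F) x'sub.1 := by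
        refine isFlatOverAt_pullback_comp' f (Spec.map (CommRingCat.ofHom (φ i)))
          (Spec.map (CommRingCat.ofHom (Ideal.Quotient.mk (maximalIdeal (A i) ^ n)))) g hgcomp F
          x'sub.1 ?_
        intro z hz1 hz2
        refine hflat i z (hz1.trans hpx) ?_
        rw [hz2]
        have : pullback.snd f g x'sub.1 = IsLocalRing.closedPoint (A i ⧸ maximalIdeal (A i) ^ n) :=
          hqx
        rw [this]
        exact SpecMap_mk_closedPoint _
      rw [Fl.isFlatOverAt_iff_flat_localizedModule q' _ hUYaff hUT hqT x'sub.1 x'sub.2] at hfl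
      subst hPeq
      letI modSG : Module Γ(Spec (CommRingCat.of (A i ⧸ maximalIdeal (A i) ^ n)), ⊤)
          Γ((Scheme.Modules.pullback p).obj F, UY) := Module.compHom _ (q'.appLE ⊤ UY hqT).hom
      haveI tw4 : IsScalarTower Γ(Spec (CommRingCat.of (A i ⧸ maximalIdeal (A i) ^ n)), ⊤)
          Γ(pullback f g, UY) Γ((Scheme.Modules.pullback p).obj F, UY) :=
        IsScalarTower.of_algebraMap_smul (fun _ _ => rfl)
      exact flat_localizedModule_congr _ (pullbackSectionsEquiv p F hUYaff hW hpW) hfl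

end Groth.Agent.Lib.Helper6.FlFam
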