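import Mathlib
import Groth.Agent.Lib.Helper6.FlFam15

/-!
# S4857: reduction to the local base (helper6)
-/

set_option backward.isDefEq.respectTransparency.types false
set_option autoImplicit false
set_option linter.style.haveILetI false
set_option linter.unusedSectionVars false
universe u

namespace Groth.Agent.Lib.Helper6.FlFam

open TensorProduct AlgebraicGeometry CategoryTheory CategoryTheory.Limits IsLocalRing
open Groth.Agent.Lib.Helper29.QCoh Groth.Agent.Lib.Helper18

theorem isFlatOverAt_pullback_pullback {X Y Ybar Y' T : Scheme.{u}} (f : X ⟶ Y) (gbar : Ybar ⟶ Y)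
    (g : Y' ⟶ Y) (ubar : T ⟶ Ybar) (h : T ⟶ Y') (hcomm : ubar ≫ gbar = h ≫ g)
    (F : X.Modules) [F.IsQuasicoherent] (x'' : ↥(pullback (pullback.snd f gbar) ubar))
    (hfl : ∀ z : ↥(pullback f g),
      pullback.fst f g z = pullback.fst f gbar (pullback.fst (pullback.snd f gbar) ubar x'') →
      pullback.snd f g z = h (pullback.snd (pullback.snd f gbar) ubar x'') →
      FlatMod.IsFlatOverAt (pullback.snd f g)
        ((Scheme.Modules.pullback (pullback.fst f g)).obj F) z) :
    FlatMod.IsFlatOverAt (pullback.snd (pullback.snd f gbar) ubar)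
      ((Scheme.Modules.pullback (pullback.fst (pullback.snd f gbar) ubar)).obj
        ((Scheme.Modules.pullback (pullback.fst f gbar)).obj F)) x'' := by
  have hw : (pullback.fst (pullback.snd f gbar) ubar ≫ pullback.fst f gbar) ≫ f =
      (pullback.snd (pullback.snd f gbar) ubar ≫ h) ≫ g := by
    rw [Category.assoc, pullback.condition, ← Category.assoc, pullback.condition, Category.assoc,
      hcomm, Category.assoc]
  let k : pullback (pullback.snd f gbar) ubar ⟶ pullback f g :=
    pullback.lift (pullback.fst (pullback.snd f gbar) ubar ≫ pullback.fst f gbar)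
      (pullback.snd (pullback.snd f gbar) ubar ≫ h) hw
  have hk1 : k ≫ pullback.fst f g =
      pullback.fst (pullback.snd f gbar) ubar ≫ pullback.fst f gbar := pullback.lift_fst _ _ _
  have hk2 : k ≫ pullback.snd f g = pullback.snd (pullback.snd f gbar) ubar ≫ h :=
    pullback.lift_snd _ _ _
  have hbig : IsPullback (k ≫ pullback.fst f g) (pullback.snd (pullback.snd f gbar) ubar) f
      (h ≫ g) := by
    rw [hk1, ← hcomm]
    exact (IsPullback.of_hasPullback (pullback.snd f gbar) ubar).paste_horiz
      (IsPullback.of_hasPullback f gbar)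
  have hc : IsPullback k (pullback.snd (pullback.snd f gbar) ubar) (pullback.snd f g) h :=
    IsPullback.of_right hbig hk2 (IsPullback.of_hasPullback f g)
  have h1 := hfl (k x'') (by rw [← Scheme.Hom.comp_apply, hk1, Scheme.Hom.comp_apply])
    (by rw [← Scheme.Hom.comp_apply, hk2, Scheme.Hom.comp_apply])
  have h2 := Groth.Agent.Lib.Helper10.FibreProductStalk.isFlatOverAt_baseChange x''
    ((Scheme.Modules.pullback (pullback.fst f g)).obj F) hc h1
  have e : (Scheme.Modules.pullback k).obj ((Scheme.Modules.pullback (pullback.fst f g)).obj F) ≅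
      (Scheme.Modules.pullback (pullback.fst (pullback.snd f gbar) ubar)).obj
        ((Scheme.Modules.pullback (pullback.fst f gbar)).obj F) :=
    (Scheme.Modules.pullbackComp k (pullback.fst f g)).app F ≪≫
      (Scheme.Modules.pullbackCongr hk1).app F ≪≫
      ((Scheme.Modules.pullbackComp (pullback.fst (pullback.snd f gbar) ubar)
        (pullback.fst f gbar)).app F).symm
  exact isFlatOverAt_of_iso _ e x'' h2

theorem isFlatOverAt_of_local_family_locallyNoetherian {X Y : Scheme.{u}} [IsLocallyNoetherian Y]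
    (f : X ⟶ Y) [LocallyOfFiniteType f] (F : X.Modules) (hF : Coh.IsCoh F) (x : X)
    {ι : Type u} (A : ι → Type u) [∀ i, CommRing (A i)] [∀ i, IsLocalRing (A i)]
    (φ : ∀ i, (Y.presheaf.stalk (f x) : Type u) →+* A i) [∀ i, IsLocalHom (φ i)]
    (htop : ∀ N : ℕ, ∃ s : Finset (ι × ℕ),
      ⨅ p ∈ s, Ideal.comap (φ p.1) (IsLocalRing.maximalIdeal (A p.1) ^ p.2) ≤
        IsLocalRing.maximalIdeal ↑(Y.presheaf.stalk (f x)) ^ N) :
    letI g : ∀ i, Spec (CommRingCat.of (A i)) ⟶ Y :=
      fun i => Spec.map (CommRingCat.ofHom (φ i)) ≫ Y.fromSpecStalk (f x)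
    (∀ (i : ι) (x' : ↥(pullback f (g i))), pullback.fst f (g i) x' = x →
      pullback.snd f (g i) x' = IsLocalRing.closedPoint (A i) →
      FlatMod.IsFlatOverAt (pullback.snd f (g i))
        ((Scheme.Modules.pullback (pullback.fst f (g i))).obj F) x') →
    FlatMod.IsFlatOverAt f F x := by
  intro hflat
  haveI : F.IsQuasicoherent := hF.1
  haveI : F.IsFiniteType := hF.2
  obtain ⟨xO, hxO1, hxO2⟩ := Scheme.Pullback.exists_preimage_pullback (f := f)
    (g := Y.fromSpecStalk (f x)) x (closedPoint (Y.presheaf.stalk (f x)))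
    (by rw [Scheme.fromSpecStalk_closedPoint])
  have hc : IsPullback (pullback.fst f (Y.fromSpecStalk (f x)))
      (pullback.snd f (Y.fromSpecStalk (f x))) f (Y.fromSpecStalk (f x)) :=
    IsPullback.of_hasPullback _ _
  have hkey : FlatMod.IsFlatOverAt (pullback.snd f (Y.fromSpecStalk (f x)))
      ((Scheme.Modules.pullback (pullback.fst f (Y.fromSpecStalk (f x)))).obj F) xO := by
    haveI hN : IsNoetherianRing ↑(Y.presheaf.stalk (f x)) := inferInstance
    have hcoh : Coh.IsCoh ((Scheme.Modules.pullback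
        (pullback.fst f (Y.fromSpecStalk (f x)))).obj F) := ⟨inferInstance, inferInstance⟩
    refine @isFlatOverAt_of_local_family_noetherian ↑(Y.presheaf.stalk (f x)) _ hN _ _
      (pullback.snd f (Y.fromSpecStalk (f x))) _ _ hcoh xO hxO2 _ A _ _ φ _ htop ?_
    intro i x' hx'1 hx'2
    refine isFlatOverAt_pullback_pullback f (Y.fromSpecStalk (f x))
      (Spec.map (CommRingCat.ofHom (φ i)) ≫ Y.fromSpecStalk (f x))
      (Spec.map (CommRingCat.ofHom (φ i))) (𝟙 _) (Category.id_comp _).symm F x' ?_
    intro z hz1 hz2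
    refine hflat i z ?_ ?_
    · exact hz1.trans ((congrArg (pullback.fst f (Y.fromSpecStalk (f x))) hx'1).trans hxO1)
    · exact hz2.trans hx'2
  haveI := Groth.Agent.Lib.Helper10.FibreProductStalk.flat_fromSpecStalk Y (f x)
  have hfin := Groth.Agent.Lib.Helper10.FibreProductStalk.isFlatOverAt_of_baseChange xO F hc
    (Flat.stalkMap (Y.fromSpecStalk (f x)) _) hkey
  rwa [hxO1] at hfin

end Groth.Agent.Lib.Helper6.FlFam
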