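import Mathlib

/-!
# Ideals in complete Noetherian local rings: closedness and limits of chains (helper6)
-/

set_option autoImplicit false
set_option linter.style.haveILetI false
set_option linter.unusedSectionVars false
universe u

namespace Groth.Agent.Lib.Helper6.FlatCL

open IsLocalRing

section closed

variable {R : Type u} [CommRing R] [IsNoetherianRing R] [IsLocalRing R]

/-- Ideals of a Noetherian local ring are closed for the adic topology. -/
theorem iInf_sup_pow_eq (J : Ideal R) : ⨅ j : ℕ, J ⊔ maximalIdeal R ^ j = J := by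
  refine le_antisymm ?_ (le_iInf fun j => le_sup_left)
  intro x hx
  have hjac : maximalIdeal R ≤ Ideal.jacobson ⊥ := by
    rw [IsLocalRing.jacobson_eq_maximalIdeal ⊥ bot_ne_top]
  have hK := Ideal.iInf_pow_smul_eq_bot_of_le_jacobson (M := R ⧸ J) (maximalIdeal R) hjac
  have hmem : (Ideal.Quotient.mk J x : R ⧸ J) ∈
      ⨅ i : ℕ, maximalIdeal R ^ i • (⊤ : Submodule R (R ⧸ J)) := by
    rw [Submodule.mem_iInf]
    intro j
    have hxj : x ∈ J ⊔ maximalIdeal R ^ j := (Ideal.mem_iInf.mp hx) j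
    obtain ⟨a, ha, b, hb, rfl⟩ := Submodule.mem_sup.mp hxj
    have h1 : (Ideal.Quotient.mk J (a + b) : R ⧸ J) = b • (1 : R ⧸ J) := by
      rw [map_add, Ideal.Quotient.eq_zero_iff_mem.mpr ha, zero_add, Algebra.smul_def, mul_one]
      rfl
    rw [h1]
    exact Submodule.smul_mem_smul hb Submodule.mem_top
  rw [hK, Submodule.mem_bot] at hmem
  exact Ideal.Quotient.eq_zero_iff_mem.mp hmem

end closed

section complete

variable {R : Type u} [CommRing R] [IsNoetherianRing R] [IsLocalRing R]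
  [IsAdicComplete (maximalIdeal R) R]

/-- A decreasing chain of ideals `J k` with `J k ≤ J (k+1) + 𝔪^(k+1)` in a complete Noetherian local
ring satisfies `J k ≤ (⨅ J) + 𝔪^(k+1)`. -/
theorem le_iInf_sup_pow_of_chain (J : ℕ → Ideal R) (hanti : Antitone J)
    (hstep : ∀ k, J k ≤ J (k + 1) ⊔ maximalIdeal R ^ (k + 1)) (n : ℕ) :
    J n ≤ (⨅ k, J k) ⊔ maximalIdeal R ^ (n + 1) := by
  classical
  intro x hx
  set 𝔪 := maximalIdeal R with h𝔪
  -- choice of successors
  have hstep' : ∀ k (y : R), ∃ y' : R, y ∈ J k → (y' ∈ J (k + 1) ∧ y - y' ∈ 𝔪 ^ (k + 1)) := by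
    intro k y
    by_cases hy : y ∈ J k
    · obtain ⟨a, ha, b, hb, hab⟩ := Submodule.mem_sup.mp (hstep k hy)
      exact ⟨a, fun _ => ⟨ha, by rw [← hab]; simpa using hb⟩⟩
    · exact ⟨0, fun h => absurd h hy⟩
  choose nxt hnxt using hstep'
  let f : ℕ → R := fun k => Nat.rec x (fun j y => nxt (n + j) y) k
  have hf0 : f 0 = x := rfl
  have hfs : ∀ k, f (k + 1) = nxt (n + k) (f k) := fun k => rfl
  have hfmem : ∀ k, f k ∈ J (n + k) := by
    intro k
    induction k with
    | zero => simpa [hf0] using hx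
    | succ k ih =>
      rw [hfs]
      exact (hnxt (n + k) (f k) ih).1
  have hfdiff : ∀ k, f k - f (k + 1) ∈ 𝔪 ^ (n + k + 1) := by
    intro k
    rw [hfs]
    exact (hnxt (n + k) (f k) (hfmem k)).2
  -- telescoping
  have htel : ∀ k l, f k - f (k + l) ∈ 𝔪 ^ (n + k + 1) := by
    intro k l
    induction l with
    | zero => simp
    | succ l ih =>
      have h1 : f k - f (k + (l + 1)) = (f k - f (k + l)) + (f (k + l) - f (k + l + 1)) := by
        rw [← add_assoc]; ring
      rw [h1]
      refine Ideal.add_mem _ ih ?_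
      exact Ideal.pow_le_pow_right (by omega) (hfdiff (k + l))
  -- Cauchy
  have hcauchy : ∀ {a b : ℕ}, a ≤ b →
      f a ≡ f b [SMOD (𝔪 ^ a • ⊤ : Submodule R R)] := by
    intro a b hab
    obtain ⟨l, rfl⟩ := Nat.exists_eq_add_of_le hab
    rw [SModEq.sub_mem, smul_eq_mul, Ideal.mul_top]
    exact Ideal.pow_le_pow_right (by omega) (htel a l)
  obtain ⟨L, hL⟩ := IsPrecomplete.prec (I := 𝔪) (M := R) inferInstance hcauchy
  have hL' : ∀ k, f k - L ∈ 𝔪 ^ k := by
    intro k
    have := hL k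
    rw [SModEq.sub_mem, smul_eq_mul, Ideal.mul_top] at this
    exact this
  -- `L ∈ ⨅ J`
  have hLmem : L ∈ ⨅ k, J k := by
    rw [Ideal.mem_iInf]
    intro k
    rw [← iInf_sup_pow_eq (J k), Ideal.mem_iInf]
    intro j
    have h1 : f (k + j) ∈ J k := hanti (by omega) (hfmem (k + j))
    have h2 : L - f (k + j) ∈ 𝔪 ^ j := by
      have := hL' (k + j)
      have h3 : L - f (k + j) = -(f (k + j) - L) := by ring
      rw [h3]
      exact Ideal.neg_mem_iff _ |>.mpr (Ideal.pow_le_pow_right (by omega) this)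
    have h4 : L = f (k + j) + (L - f (k + j)) := by ring
    rw [h4]
    exact Submodule.add_mem_sup h1 h2
  -- `x - L ∈ 𝔪^(n+1)`
  have hxL : x - L ∈ 𝔪 ^ (n + 1) := by
    have h1 : x - L = (f 0 - f (0 + (n + 1))) + (f (0 + (n + 1)) - L) := by
      rw [hf0]; ring
    rw [h1]
    refine Ideal.add_mem _ ?_ ?_
    · exact Ideal.pow_le_pow_right (by omega) (htel 0 (n + 1))
    · have := hL' (0 + (n + 1))
      simpa using this
  have h5 : x = L + (x - L) := by ring
  rw [h5]
  exact Submodule.add_mem_sup hLmem hxL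

end complete

end Groth.Agent.Lib.Helper6.FlatCL
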