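import Mathlib
import Groth.Agent.Lib.Helper6.FlFam14
import Groth.Agent.Lib.Helper6.FlFam7

/-!
# Universal flattening ideal modulo a power of the maximal ideal (helper6)
-/

set_option backward.isDefEq.respectTransparency.types false
set_option autoImplicit false
set_option linter.style.haveILetI false
set_option linter.unusedSectionVars false
universe u

namespace Groth.Agent.Lib.Helper6.FlatCL

open IsLocalRing TensorProduct Groth.Agent.Lib.Helper6.FlFam

variable {R : Type u} [CommRing R] [IsNoetherianRing R] [IsLocalRing R]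

/-- flattening ideal for one module, modulo `𝔪^(k+1)`. -/
theorem exists_flattening_ideal_pow (k : ℕ) (X : Type u) [AddCommGroup X] [Module R X] :
    ∃ I : Ideal R, maximalIdeal R ^ (k + 1) ≤ I ∧
      ∀ (T : Type u) [CommRing T] [Algebra R T],
        (maximalIdeal R ^ (k + 1)).map (algebraMap R T) = ⊥ →
        (Module.Flat T (T ⊗[R] X) ↔ I.map (algebraMap R T) = ⊥) := by
  set 𝔞 : Ideal R := maximalIdeal R ^ (k + 1) with h𝔞
  have h𝔞le : 𝔞 ≤ maximalIdeal R := Ideal.pow_le_self (by omega)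
  have h𝔞ne : 𝔞 ≠ ⊤ := fun h => (Ideal.IsPrime.ne_top inferInstance :
    maximalIdeal R ≠ ⊤) (top_le_iff.mp (h ▸ h𝔞le))
  haveI : IsLocalRing (R ⧸ 𝔞) := isLocalRing_quotient 𝔞 h𝔞ne
  have hnil : IsNilpotent (maximalIdeal (R ⧸ 𝔞)) :=
    isNilpotent_maximalIdeal_quotient 𝔞 (k + 1) le_rfl
  haveI : IsArtinianRing (R ⧸ 𝔞) := (isArtinianRing_iff_isNilpotent_maximalIdeal _).mpr hnil
  obtain ⟨R₀, -, -, hR₀, -⟩ := exists_flattening_ideal (A := R ⧸ 𝔞) ((R ⧸ 𝔞) ⊗[R] X)
  refine ⟨R₀.comap (Ideal.Quotient.mk 𝔞), ?_, ?_⟩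
  · intro x hx
    rw [Ideal.mem_comap, Ideal.Quotient.eq_zero_iff_mem.mpr hx]
    exact Ideal.zero_mem _
  · intro T _ _ hT
    have hker : ∀ a ∈ 𝔞, algebraMap R T a = 0 := by
      intro a ha
      have : algebraMap R T a ∈ 𝔞.map (algebraMap R T) := Ideal.mem_map_of_mem _ ha
      rw [hT] at this
      exact this
    letI algT : Algebra (R ⧸ 𝔞) T := (Ideal.Quotient.lift 𝔞 (algebraMap R T) hker).toAlgebra
    haveI : IsScalarTower R (R ⧸ 𝔞) T := IsScalarTower.of_algebraMap_eq (fun r => by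
      change algebraMap R T r = Ideal.Quotient.lift 𝔞 (algebraMap R T) hker (Ideal.Quotient.mk 𝔞 r)
      rw [Ideal.Quotient.lift_mk])
    have hmap : (R₀.comap (Ideal.Quotient.mk 𝔞)).map (algebraMap R T) =
        R₀.map (algebraMap (R ⧸ 𝔞) T) := by
      rw [IsScalarTower.algebraMap_eq R (R ⧸ 𝔞) T, ← Ideal.map_map]
      congr 1
      exact Ideal.map_comap_of_surjective _ Ideal.Quotient.mk_surjective R₀
    rw [hmap, ← hR₀ T]
    let e : T ⊗[R ⧸ 𝔞] ((R ⧸ 𝔞) ⊗[R] X) ≃ₗ[T] T ⊗[R] X :=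
      TensorProduct.AlgebraTensorModule.cancelBaseChange R (R ⧸ 𝔞) T T X
    exact ⟨fun h => Module.Flat.of_linearEquiv e, fun h => Module.Flat.of_linearEquiv e.symm⟩

/-- flattening ideal for a family of modules, modulo `𝔪^(k+1)`. -/
theorem exists_flattening_ideal_pow_family (k : ℕ) {ι : Type*} (X : ι → Type u)
    [∀ i, AddCommGroup (X i)] [∀ i, Module R (X i)] :
    ∃ I : Ideal R, maximalIdeal R ^ (k + 1) ≤ I ∧
      ∀ (T : Type u) [CommRing T] [Algebra R T],
        (maximalIdeal R ^ (k + 1)).map (algebraMap R T) = ⊥ →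
        ((∀ i, Module.Flat T (T ⊗[R] X i)) ↔ I.map (algebraMap R T) = ⊥) := by
  choose I hI1 hI2 using fun i => exists_flattening_ideal_pow (R := R) k (X i)
  refine ⟨maximalIdeal R ^ (k + 1) ⊔ ⨆ i, I i, le_sup_left, ?_⟩
  intro T _ _ hT
  rw [Ideal.map_sup, Ideal.map_iSup, hT, bot_sup_eq, iSup_eq_bot]
  exact forall_congr' fun i => hI2 i T hT

end Groth.Agent.Lib.Helper6.FlatCL
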