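import Mathlib
import Groth.Agent.Lib.Helper9.FlatCrit2

/-!
# Flatness of `M/IM` over `R/I` from flatness modulo `I + 𝔪^n` (local criterion) (helper6)
-/

set_option backward.isDefEq.respectTransparency.types false
set_option autoImplicit false
set_option linter.style.haveILetI false
set_option linter.unusedSectionVars false
universe u

namespace Groth.Agent.Lib.Helper6.FlatCL

open IsLocalRing TensorProduct

variable {R : Type u} [CommRing R] [IsNoetherianRing R] [IsLocalRing R]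

theorem map_jacobson_bot_le {A B : Type*} [CommRing A] [CommRing B] (f : A →+* B)
    (hf : Function.Surjective f) : (Ideal.jacobson (⊥ : Ideal A)).map f ≤ Ideal.jacobson ⊥ := by
  rw [Ideal.map_le_iff_le_comap]
  intro x hx
  rw [Ideal.mem_comap, Ideal.mem_jacobson_bot]
  intro y
  obtain ⟨y', rfl⟩ := hf y
  have := (Ideal.mem_jacobson_bot.mp hx) y'
  have h2 := this.map f
  simpa using h2

theorem flat_quotient_tensor_of_forall_pow (I : Ideal R)
    {S' : Type u} [CommRing S'] [IsNoetherianRing S'] [Algebra R S']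
    (hjac : (maximalIdeal R).map (algebraMap R S') ≤ Ideal.jacobson ⊥)
    (X : Type u) [AddCommGroup X] [Module R X] [Module S' X] [IsScalarTower R S' X]
    [Module.Finite S' X]
    (h : ∀ (k : ℕ) (T : Type u) [CommRing T] [Algebra R T], I.map (algebraMap R T) = ⊥ →
        (maximalIdeal R ^ (k + 1)).map (algebraMap R T) = ⊥ → Module.Flat T (T ⊗[R] X)) :
    Module.Flat (R ⧸ I) ((R ⧸ I) ⊗[R] X) := by
  set IS : Ideal S' := I.map (algebraMap R S') with hIS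
  set N : Submodule S' X := IS • (⊤ : Submodule S' X) with hN
  letI modRbar : Module (R ⧸ I) (X ⧸ N) :=
    Module.compHom (X ⧸ N) (algebraMap (R ⧸ I) (S' ⧸ IS))
  haveI tw : IsScalarTower (R ⧸ I) (S' ⧸ IS) (X ⧸ N) :=
    IsScalarTower.of_algebraMap_smul fun _ _ => rfl
  haveI twR : IsScalarTower R (R ⧸ I) (X ⧸ N) := by
    refine IsScalarTower.of_algebraMap_smul fun r x => ?_
    obtain ⟨m, rfl⟩ := Submodule.Quotient.mk_surjective N x
    change (algebraMap (R ⧸ I) (S' ⧸ IS) (Ideal.Quotient.mk I r)) •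
      (Submodule.Quotient.mk m : X ⧸ N) = _
    have h1 : algebraMap (R ⧸ I) (S' ⧸ IS) (Ideal.Quotient.mk I r) =
        Ideal.Quotient.mk IS (algebraMap R S' r) := rfl
    rw [h1]
    change (Submodule.Quotient.mk ((algebraMap R S' r) • m) : X ⧸ N) = _
    rw [algebraMap_smul]
    rfl
  -- the comparison equivalence
  let e₁ : (R ⧸ I) ⊗[R] X ≃ₗ[R] X ⧸ (I • ⊤ : Submodule R X) :=
    TensorProduct.quotTensorEquivQuotSMul X I
  have hres : (I • ⊤ : Submodule R X) = N.restrictScalars R := by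
    rw [hN, hIS, Ideal.smul_restrictScalars]
    rfl
  let e₂ : (X ⧸ (I • ⊤ : Submodule R X)) ≃ₗ[R] X ⧸ N.restrictScalars R :=
    Submodule.quotEquivOfEq _ _ hres
  let e₃ : (X ⧸ N.restrictScalars R) ≃ₗ[R] X ⧸ N := Submodule.Quotient.restrictScalarsEquiv R N
  let eR : (X ⧸ N) ≃ₗ[R] (R ⧸ I) ⊗[R] X := (e₁ ≪≫ₗ e₂ ≪≫ₗ e₃).symm
  let e : (X ⧸ N) ≃ₗ[R ⧸ I] (R ⧸ I) ⊗[R] X :=
    eR.extendScalarsOfSurjective Ideal.Quotient.mk_surjective
  suffices hflat : Module.Flat (R ⧸ I) (X ⧸ N) from Module.Flat.of_linearEquiv e.symm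
  -- finiteness
  haveI : Module.Finite (S' ⧸ IS) (X ⧸ N) := Module.Finite.of_restrictScalars_finite S' _ _
  set 𝔪bar : Ideal (R ⧸ I) := (maximalIdeal R).map (Ideal.Quotient.mk I) with h𝔪bar
  refine Groth.Agent.Lib.Helper9.flat_of_injOnTorsion_pow (R := R ⧸ I) (S := S' ⧸ IS)
    (M := X ⧸ N) 𝔪bar ?_ ?_
  · -- Jacobson
    have h1 : 𝔪bar.map (algebraMap (R ⧸ I) (S' ⧸ IS)) =
        ((maximalIdeal R).map (algebraMap R S')).map (Ideal.Quotient.mk IS) := by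
      rw [h𝔪bar, Ideal.map_map, Ideal.map_map]
      rfl
    rw [h1]
    exact (Ideal.map_mono hjac).trans (map_jacobson_bot_le _ Ideal.Quotient.mk_surjective)
  · intro n hn
    obtain ⟨k, rfl⟩ : ∃ k, n = k + 1 := ⟨n - 1, by omega⟩
    have hI0 : I.map (algebraMap R ((R ⧸ I) ⧸ 𝔪bar ^ (k + 1))) = ⊥ := by
      rw [IsScalarTower.algebraMap_eq R (R ⧸ I) ((R ⧸ I) ⧸ 𝔪bar ^ (k + 1)), ← Ideal.map_map]
      have : I.map (algebraMap R (R ⧸ I)) = ⊥ := Ideal.map_quotient_self I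
      rw [this, Ideal.map_bot]
    have hm0 : (maximalIdeal R ^ (k + 1)).map (algebraMap R ((R ⧸ I) ⧸ 𝔪bar ^ (k + 1))) = ⊥ := by
      rw [IsScalarTower.algebraMap_eq R (R ⧸ I) ((R ⧸ I) ⧸ 𝔪bar ^ (k + 1)), ← Ideal.map_map,
        Ideal.map_pow]
      exact Ideal.map_quotient_self _
    haveI hfl := h k ((R ⧸ I) ⧸ 𝔪bar ^ (k + 1)) hI0 hm0
    let e' : ((R ⧸ I) ⧸ 𝔪bar ^ (k + 1)) ⊗[R ⧸ I] (X ⧸ N) ≃ₗ[(R ⧸ I) ⧸ 𝔪bar ^ (k + 1)]
        ((R ⧸ I) ⧸ 𝔪bar ^ (k + 1)) ⊗[R] X :=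
      (TensorProduct.AlgebraTensorModule.congr (LinearEquiv.refl _ _) e) ≪≫ₗ
        TensorProduct.AlgebraTensorModule.cancelBaseChange R (R ⧸ I) _ _ X
    haveI : Module.Flat ((R ⧸ I) ⧸ 𝔪bar ^ (k + 1))
        (((R ⧸ I) ⧸ 𝔪bar ^ (k + 1)) ⊗[R ⧸ I] (X ⧸ N)) := Module.Flat.of_linearEquiv e'
    exact Groth.Agent.Lib.Helper9.injOnTorsion_of_flat

end Groth.Agent.Lib.Helper6.FlatCL
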