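import Mathlib
import Groth.Agent.Lib.Helper6.FlatCL1
import Groth.Agent.Lib.Helper6.FlatCL2
import Groth.Agent.Lib.Helper6.FlatCL3

/-!
# The flattening ideal over a complete Noetherian local ring (helper6)

Stacks 0526-0528 (abstract family form).
-/

set_option backward.isDefEq.respectTransparency.types false
set_option autoImplicit false
set_option linter.style.haveILetI false
set_option linter.unusedSectionVars false
universe u

namespace Groth.Agent.Lib.Helper6.FlatCL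

open IsLocalRing TensorProduct

section basics

variable {R : Type u} [CommRing R]

theorem map_quotient_eq_bot_iff (a b : Ideal R) :
    a.map (algebraMap R (R ⧸ b)) = ⊥ ↔ a ≤ b := by
  change a.map (Ideal.Quotient.mk b) = ⊥ ↔ _
  rw [Ideal.map_eq_bot_iff_le_ker, Ideal.mk_ker]

/-- flatness of `M/JM` over `R/J` passes to any `R`-algebra killing `J`. -/
theorem flat_tensor_of_flat_quotient (J : Ideal R) (X : Type u) [AddCommGroup X] [Module R X]
    [Module.Flat (R ⧸ J) ((R ⧸ J) ⊗[R] X)]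
    (T : Type u) [CommRing T] [Algebra R T] (hT : J.map (algebraMap R T) = ⊥) :
    Module.Flat T (T ⊗[R] X) := by
  have hker : ∀ a ∈ J, algebraMap R T a = 0 := by
    intro a ha
    have : algebraMap R T a ∈ J.map (algebraMap R T) := Ideal.mem_map_of_mem _ ha
    rw [hT] at this
    exact this
  letI algT : Algebra (R ⧸ J) T := (Ideal.Quotient.lift J (algebraMap R T) hker).toAlgebra
  haveI : IsScalarTower R (R ⧸ J) T := IsScalarTower.of_algebraMap_eq (fun r => by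
    change algebraMap R T r = Ideal.Quotient.lift J (algebraMap R T) hker (Ideal.Quotient.mk J r)
    rw [Ideal.Quotient.lift_mk])
  let e : T ⊗[R ⧸ J] ((R ⧸ J) ⊗[R] X) ≃ₗ[T] T ⊗[R] X :=
    TensorProduct.AlgebraTensorModule.cancelBaseChange R (R ⧸ J) T T X
  exact Module.Flat.of_linearEquiv e.symm

end basics

variable {R : Type u} [CommRing R] [IsNoetherianRing R] [IsLocalRing R]
  [IsAdicComplete (maximalIdeal R) R]

theorem exists_flattening_ideal_complete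
    {ι : Type*} (S' : ι → Type u) [∀ i, CommRing (S' i)] [∀ i, IsNoetherianRing (S' i)]
    [∀ i, Algebra R (S' i)]
    (hjac : ∀ i, (maximalIdeal R).map (algebraMap R (S' i)) ≤ Ideal.jacobson ⊥)
    (X : ι → Type u) [∀ i, AddCommGroup (X i)] [∀ i, Module R (X i)] [∀ i, Module (S' i) (X i)]
    [∀ i, IsScalarTower R (S' i) (X i)] [∀ i, Module.Finite (S' i) (X i)] :
    ∃ I : Ideal R, I ≤ maximalIdeal R ∧
      (∀ i, Module.Flat (R ⧸ I) ((R ⧸ I) ⊗[R] X i)) ∧
      (∀ J : Ideal R, (∀ i, Module.Flat (R ⧸ J) ((R ⧸ J) ⊗[R] X i)) → I ≤ J) ∧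
      (∀ (k : ℕ) (T : Type u) [CommRing T] [Algebra R T],
        (maximalIdeal R ^ (k + 1)).map (algebraMap R T) = ⊥ →
        (∀ i, Module.Flat T (T ⊗[R] X i)) → I.map (algebraMap R T) = ⊥) := by
  classical
  choose J hJ1 hJ2 using fun k => exists_flattening_ideal_pow_family (R := R) k X
  set 𝔪 := maximalIdeal R with h𝔪
  have hpow : ∀ k, 𝔪 ^ (k + 2) ≤ 𝔪 ^ (k + 1) := fun k => Ideal.pow_le_pow_right (by omega)
  have hsucc : ∀ k, J (k + 1) ≤ J k := by
    intro k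
    have h1 : (𝔪 ^ (k + 1)).map (algebraMap R (R ⧸ J k)) = ⊥ :=
      (map_quotient_eq_bot_iff _ _).mpr (hJ1 k)
    have h2 : (𝔪 ^ (k + 1 + 1)).map (algebraMap R (R ⧸ J k)) = ⊥ :=
      (map_quotient_eq_bot_iff _ _).mpr ((hpow k).trans (hJ1 k))
    have h3 : ∀ i, Module.Flat (R ⧸ J k) ((R ⧸ J k) ⊗[R] X i) :=
      (hJ2 k (R ⧸ J k) h1).mpr ((map_quotient_eq_bot_iff _ _).mpr le_rfl)
    exact (map_quotient_eq_bot_iff _ _).mp ((hJ2 (k + 1) (R ⧸ J k) h2).mp h3)
  have hanti : Antitone J := antitone_nat_of_succ_le hsucc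
  have hstep : ∀ k, J k ≤ J (k + 1) ⊔ 𝔪 ^ (k + 1) := by
    intro k
    set K := J (k + 1) ⊔ 𝔪 ^ (k + 1) with hK
    have h1 : (𝔪 ^ (k + 1)).map (algebraMap R (R ⧸ K)) = ⊥ :=
      (map_quotient_eq_bot_iff _ _).mpr le_sup_right
    have h2 : (𝔪 ^ (k + 1 + 1)).map (algebraMap R (R ⧸ K)) = ⊥ :=
      (map_quotient_eq_bot_iff _ _).mpr ((hpow k).trans le_sup_right)
    have h3 : ∀ i, Module.Flat (R ⧸ K) ((R ⧸ K) ⊗[R] X i) :=
      (hJ2 (k + 1) (R ⧸ K) h2).mpr ((map_quotient_eq_bot_iff _ _).mpr le_sup_left)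
    exact (map_quotient_eq_bot_iff _ _).mp ((hJ2 k (R ⧸ K) h1).mp h3)
  have hA : ∀ k, J k ≤ (⨅ j, J j) ⊔ 𝔪 ^ (k + 1) := le_iInf_sup_pow_of_chain J hanti hstep
  have hJ0 : J 0 ≤ 𝔪 := by
    have h1 : (𝔪 ^ (0 + 1)).map (algebraMap R (R ⧸ 𝔪)) = ⊥ :=
      (map_quotient_eq_bot_iff _ _).mpr (by simp)
    have h3 : ∀ i, Module.Flat (R ⧸ 𝔪) ((R ⧸ 𝔪) ⊗[R] X i) := by
      intro i
      letI : Field (R ⧸ 𝔪) := Ideal.Quotient.field 𝔪
      haveI : Module.Free (R ⧸ 𝔪) ((R ⧸ 𝔪) ⊗[R] X i) := Module.Free.of_divisionRing _ _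
      infer_instance
    exact (map_quotient_eq_bot_iff _ _).mp ((hJ2 0 (R ⧸ 𝔪) h1).mp h3)
  refine ⟨⨅ j, J j, (iInf_le J 0).trans hJ0, ?_, ?_, ?_⟩
  · intro i
    refine flat_quotient_tensor_of_forall_pow (⨅ j, J j) (hjac i) (X i) ?_
    intro k T _ _ hIT hmT
    have h1 : (J k).map (algebraMap R T) = ⊥ := by
      rw [eq_bot_iff]
      refine (Ideal.map_mono (hA k)).trans ?_
      rw [Ideal.map_sup, hIT, hmT, bot_sup_eq]
    exact (hJ2 k T hmT).mpr h1 i
  · intro Jp hJp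
    rw [← iInf_sup_pow_eq Jp]
    refine le_iInf fun k => ?_
    rcases k with _ | k
    · simp
    · refine (iInf_le J k).trans ?_
      set K := Jp ⊔ 𝔪 ^ (k + 1) with hK
      have h1 : (𝔪 ^ (k + 1)).map (algebraMap R (R ⧸ K)) = ⊥ :=
        (map_quotient_eq_bot_iff _ _).mpr le_sup_right
      have h3 : ∀ i, Module.Flat (R ⧸ K) ((R ⧸ K) ⊗[R] X i) := by
        intro i
        haveI := hJp i
        exact flat_tensor_of_flat_quotient Jp (X i) (R ⧸ K)
          ((map_quotient_eq_bot_iff _ _).mpr le_sup_left)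
      exact (map_quotient_eq_bot_iff _ _).mp ((hJ2 k (R ⧸ K) h1).mp h3)
  · intro k T _ _ hmT hfl
    have h1 := (hJ2 k T hmT).mp hfl
    rw [eq_bot_iff, ← h1]
    exact Ideal.map_mono (iInf_le J k)

end Groth.Agent.Lib.Helper6.FlatCL
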