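import Mathlib
import Groth.Agent.Lib.Helper6.FlatCL4

/-!
# The flattening ideal over a complete Noetherian local ring: primes over the closed point (helper6)
-/

set_option backward.isDefEq.respectTransparency.types false
set_option autoImplicit false
set_option linter.style.haveILetI false
set_option linter.unusedSectionVars false
universe u

namespace Groth.Agent.Lib.Helper6.FlatCL

open IsLocalRing TensorProduct

variable (R S : Type u) [CommRing R] [IsLocalRing R] [IsNoetherianRing R]
  [IsAdicComplete (maximalIdeal R) R] [CommRing S] [Algebra R S] [IsNoetherianRing S]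
  (M : Type u) [AddCommGroup M] [Module S M] [Module R M] [IsScalarTower R S M] [Module.Finite S M]

/-- primes of `S` over the closed point of `R` -/
abbrev PrimesOver : Type u :=
  {q : PrimeSpectrum S // q.asIdeal.comap (algebraMap R S) = maximalIdeal R}

omit [IsNoetherianRing R] [IsAdicComplete (maximalIdeal R) R] [IsNoetherianRing S] in
theorem map_maximalIdeal_le_jacobson (q : Ideal S) [q.IsPrime]
    (hq : q.comap (algebraMap R S) = maximalIdeal R) :
    (maximalIdeal R).map (algebraMap R (Localization.AtPrime q)) ≤ Ideal.jacobson ⊥ := by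
  rw [IsLocalRing.jacobson_eq_maximalIdeal ⊥ bot_ne_top, Ideal.map_le_iff_le_comap]
  intro a ha
  rw [Ideal.mem_comap, IsScalarTower.algebraMap_apply R S (Localization.AtPrime q)]
  have h1 : algebraMap R S a ∈ q := by
    have : a ∈ q.comap (algebraMap R S) := by rw [hq]; exact ha
    exact this
  rw [← Localization.AtPrime.map_eq_maximalIdeal]
  exact Ideal.mem_map_of_mem _ h1

theorem exists_flattening_ideal_primesOver :
    ∃ I : Ideal R, I ≤ maximalIdeal R ∧
      (∀ (q : Ideal S) [q.IsPrime], q.comap (algebraMap R S) = maximalIdeal R →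
        Module.Flat (R ⧸ I) ((R ⧸ I) ⊗[R] LocalizedModule q.primeCompl M)) ∧
      (∀ J : Ideal R, (∀ (q : Ideal S) [q.IsPrime], q.comap (algebraMap R S) = maximalIdeal R →
        Module.Flat (R ⧸ J) ((R ⧸ J) ⊗[R] LocalizedModule q.primeCompl M)) → I ≤ J) ∧
      (∀ (k : ℕ) (T : Type u) [CommRing T] [Algebra R T],
        (maximalIdeal R ^ (k + 1)).map (algebraMap R T) = ⊥ →
        (∀ (q : Ideal S) [q.IsPrime], q.comap (algebraMap R S) = maximalIdeal R →
          Module.Flat T (T ⊗[R] LocalizedModule q.primeCompl M)) → I.map (algebraMap R T) = ⊥) := by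
  obtain ⟨I, h1, h2, h3, h4⟩ := exists_flattening_ideal_complete (R := R)
    (ι := PrimesOver R S) (fun i => Localization.AtPrime i.1.asIdeal)
    (fun i => map_maximalIdeal_le_jacobson R S i.1.asIdeal i.2)
    (fun i => LocalizedModule i.1.asIdeal.primeCompl M)
  refine ⟨I, h1, ?_, ?_, ?_⟩
  · intro q _ hq
    exact h2 ⟨⟨q, inferInstance⟩, hq⟩
  · intro J hJ
    exact h3 J fun i => hJ i.1.asIdeal i.2
  · intro k T _ _ hT hfl
    exact h4 k T hT fun i => hfl i.1.asIdeal i.2

theorem exists_flattening_ideal_s6925 :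
    ∃ I : Ideal R, I ≤ IsLocalRing.maximalIdeal R ∧
      (∀ (q : Ideal S) [q.IsPrime], q.comap (algebraMap R S) = IsLocalRing.maximalIdeal R →
        Module.Flat (R ⧸ I) ((R ⧸ I) ⊗[R] LocalizedModule q.primeCompl M)) ∧
      ∀ J : Ideal R, (∀ (q : Ideal S) [q.IsPrime], q.comap (algebraMap R S) = IsLocalRing.maximalIdeal R →
        Module.Flat (R ⧸ J) ((R ⧸ J) ⊗[R] LocalizedModule q.primeCompl M)) → I ≤ J := by
  obtain ⟨I, h1, h2, h3, -⟩ := exists_flattening_ideal_primesOver R S M
  exact ⟨I, h1, h2, h3⟩

end Groth.Agent.Lib.Helper6.FlatCL
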