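import Mathlib
import Groth.Agent.Lib.Helper6.FlatCL5
import Groth.Agent.Lib.Helper6.FlatCL6
import Groth.Agent.Lib.Helper6.FlFam8
import Groth.Agent.Lib.Helper18.FlC1

/-!
# The flattening ideal over a complete Noetherian local ring: universality for Noetherian
local base changes (helper6)
-/

set_option backward.isDefEq.respectTransparency.types false
set_option autoImplicit false
set_option linter.style.haveILetI false
set_option linter.unusedSectionVars false
universe u

namespace Groth.Agent.Lib.Helper6.FlatCL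

open IsLocalRing TensorProduct

section Bridge

variable {R S R' S' : Type u} [CommRing R] [CommRing S] [CommRing R'] [CommRing S']
  [Algebra R S] [Algebra R R'] [Algebra S S'] [Algebra R' S'] [Algebra R S']
  [IsScalarTower R S S'] [IsScalarTower R R' S'] [Algebra.IsPushout R S R' S']
  {M M' : Type u} [AddCommGroup M] [Module S M] [Module R M] [IsScalarTower R S M]
  [AddCommGroup M'] [Module S' M'] [Module R' M'] [IsScalarTower R' S' M'] [Module S M']
  [IsScalarTower S S' M']
  (f : M →ₗ[S] M') (hf : IsBaseChange S' f) (W : Submonoid S)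

include hf in
theorem nonempty_localizedModule_equiv_tensor :
    Nonempty (LocalizedModule (Algebra.algebraMapSubmonoid S' W) M' ≃ₗ[R']
      R' ⊗[R] LocalizedModule W M) := by
  set W' := Algebra.algebraMapSubmonoid S' W with hW'
  let Sq := Localization W
  let S'W := Localization W'
  let Mq := LocalizedModule W M
  let Y := LocalizedModule W' M'
  let ℓ : M →ₗ[S] Mq := LocalizedModule.mkLinearMap W M
  let ℓ' : M' →ₗ[S'] Y := LocalizedModule.mkLinearMap W' M'
  have hℓ : IsBaseChange Sq ℓ := IsLocalizedModule.isBaseChange W Sq ℓ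
  have hℓ' : IsBaseChange S'W ℓ' := IsLocalizedModule.isBaseChange W' S'W ℓ'
  have hc := IsBaseChange.comp hf hℓ'
  haveI : IsScalarTower R Sq S'W := IsScalarTower.of_algebraMap_eq fun r => by
    rw [IsScalarTower.algebraMap_apply R S Sq, ← IsScalarTower.algebraMap_apply S Sq S'W,
      ← IsScalarTower.algebraMap_apply R S S'W]
  haveI h1 : Algebra.IsPushout S S' Sq S'W := Algebra.isPushout_of_isLocalization W Sq S' S'W
  haveI h2 : Algebra.IsPushout S Sq S' S'W := h1.symm
  haveI h3 : Algebra.IsPushout R Sq R' S'W := (Algebra.IsPushout.comp_iff R S R' S').mpr h2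
  haveI h4 : Algebra.IsPushout R R' Sq S'W := h3.symm
  let e1 : Y ≃ₗ[S'W] S'W ⊗[S] M := hc.equiv.symm
  let e2 : S'W ⊗[S] M ≃ₗ[S'W] S'W ⊗[Sq] (Sq ⊗[S] M) :=
    (AlgebraTensorModule.cancelBaseChange S Sq S'W S'W M).symm
  let e3 : S'W ⊗[Sq] (Sq ⊗[S] M) ≃ₗ[S'W] S'W ⊗[Sq] Mq :=
    AlgebraTensorModule.congr (LinearEquiv.refl S'W S'W) hℓ.equiv
  let e4 : S'W ⊗[Sq] Mq ≃ₗ[R'] R' ⊗[R] Mq := Algebra.IsPushout.cancelBaseChange R R' Sq S'W Mq
  exact ⟨((e1 ≪≫ₗ e2 ≪≫ₗ e3).restrictScalars R') ≪≫ₗ e4⟩

end Bridge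

variable {R S R' S' : Type u} [CommRing R] [IsLocalRing R]
  [IsNoetherianRing R] [IsAdicComplete (IsLocalRing.maximalIdeal R) R] [CommRing S]
  [IsNoetherianRing S]
  [CommRing R'] [IsLocalRing R'] [IsNoetherianRing R'] [CommRing S']
  [Algebra R S] [Algebra R R'] [IsLocalHom (algebraMap R R')] [Algebra S S'] [Algebra R' S']
  [Algebra R S']
  [IsScalarTower R S S'] [IsScalarTower R R' S'] [Algebra.IsPushout R S R' S']
  {M M' : Type u} [AddCommGroup M] [Module S M] [Module R M] [IsScalarTower R S M]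
  [Module.Finite S M]
  [AddCommGroup M'] [Module S' M'] [Module R' M'] [IsScalarTower R' S' M'] [Module S M']
  [IsScalarTower S S' M']

theorem flat_iff_le_ker
    (f : M →ₗ[S] M') (hf : IsBaseChange S' f) (I : Ideal R)
    (hI : (∀ (q : Ideal S) [q.IsPrime],
      q.comap (algebraMap R S) = IsLocalRing.maximalIdeal R →
        Module.Flat (R ⧸ I) ((R ⧸ I) ⊗[R] LocalizedModule q.primeCompl M)))
    (hmin : ∀ J : Ideal R, (∀ (q : Ideal S) [q.IsPrime],
      q.comap (algebraMap R S) = IsLocalRing.maximalIdeal R →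
        Module.Flat (R ⧸ J) ((R ⧸ J) ⊗[R] LocalizedModule q.primeCompl M)) → I ≤ J) :
    (∀ (q' : Ideal S') [q'.IsPrime],
      q'.comap (algebraMap R' S') = IsLocalRing.maximalIdeal R' →
        Module.Flat R' (LocalizedModule q'.primeCompl M')) ↔
      I ≤ RingHom.ker (algebraMap R R') := by
  classical
  obtain ⟨I₀, -, h2, h3, h4⟩ := exists_flattening_ideal_primesOver R S M
  have hII₀ : I = I₀ := le_antisymm (hmin I₀ h2) (h3 I hI)
  subst hII₀
  have h𝔪 : ∀ a ∈ maximalIdeal R, algebraMap R R' a ∈ maximalIdeal R' := by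
    intro a ha
    rw [IsLocalRing.mem_maximalIdeal, mem_nonunits_iff] at ha ⊢
    intro hu
    exact ha (isUnit_of_map_unit (algebraMap R R') a hu)
  haveI hpo : Algebra.IsPushout R R' S S' := Algebra.IsPushout.symm inferInstance
  constructor
  · intro hfl
    have hk : ∀ k : ℕ, I.map (algebraMap R R') ≤ maximalIdeal R' ^ (k + 1) := by
      intro k
      set 𝔠' : Ideal R' := maximalIdeal R' ^ (k + 1) with h𝔠'
      have h𝔠 : (maximalIdeal R ^ (k + 1)).map (algebraMap R R') ≤ 𝔠' := by
        rw [Ideal.map_pow]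
        refine Ideal.pow_right_mono ?_ _
        rw [Ideal.map_le_iff_le_comap]
        exact h𝔪
      have hT : (maximalIdeal R ^ (k + 1)).map (algebraMap R (R' ⧸ 𝔠')) = ⊥ := by
        rw [IsScalarTower.algebraMap_eq R R' (R' ⧸ 𝔠'), ← Ideal.map_map, eq_bot_iff]
        refine (Ideal.map_mono h𝔠).trans ?_
        rw [le_bot_iff, map_quotient_eq_bot_iff]
      have := h4 k (R' ⧸ 𝔠') hT ?_
      · rw [IsScalarTower.algebraMap_eq R R' (R' ⧸ 𝔠'), ← Ideal.map_map,
          map_quotient_eq_bot_iff] at this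
        exact this
      intro q _ hq
      obtain ⟨Iq, hIq1, hIq2⟩ := exists_flattening_ideal_pow (R := R) k
        (LocalizedModule q.primeCompl M)
      have hIqle : Iq ≤ maximalIdeal R := by
        have h1 : (maximalIdeal R ^ (k + 1)).map (algebraMap R (R ⧸ maximalIdeal R)) = ⊥ :=
          (map_quotient_eq_bot_iff _ _).mpr (Ideal.pow_le_self (by omega))
        have h3 : Module.Flat (R ⧸ maximalIdeal R)
            ((R ⧸ maximalIdeal R) ⊗[R] LocalizedModule q.primeCompl M) := by
          letI : Field (R ⧸ maximalIdeal R) := Ideal.Quotient.field (maximalIdeal R)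
          haveI : Module.Free (R ⧸ maximalIdeal R)
            ((R ⧸ maximalIdeal R) ⊗[R] LocalizedModule q.primeCompl M) :=
              Module.Free.of_divisionRing _ _
          infer_instance
        exact (map_quotient_eq_bot_iff _ _).mp ((hIq2 (R ⧸ maximalIdeal R) h1).mp h3)
      have hle : Iq.map (algebraMap R R') ≤ 𝔠' := by
        refine map_le_of_forall_flat (A := R) (B := S) (A' := R') (C := S') q M h𝔪
          (maximalIdeal R ^ (k + 1)) 𝔠' h𝔠 Iq hIqle hIq2 ?_
        intro P _ hPq hPm
        have h := hfl P hPm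
        exact FlFam.flat_localizedModule_congr P hf.equiv.symm h
      rw [hIq2 (R' ⧸ 𝔠') hT, IsScalarTower.algebraMap_eq R R' (R' ⧸ 𝔠'), ← Ideal.map_map,
        map_quotient_eq_bot_iff]
      exact hle
    have hbot : I.map (algebraMap R R') = ⊥ := by
      rw [eq_bot_iff, ← Ideal.iInf_pow_eq_bot_of_isLocalRing (maximalIdeal R')
        (Ideal.IsPrime.ne_top inferInstance)]
      refine le_iInf fun j => ?_
      rcases j with _ | j
      · simp
      · exact hk j
    rw [← Ideal.map_eq_bot_iff_le_ker]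
    exact hbot
  · intro hle q' _ hq'
    have hbot : I.map (algebraMap R R') = ⊥ := (Ideal.map_eq_bot_iff_le_ker _).mpr hle
    set q : Ideal S := q'.comap (algebraMap S S') with hqdef
    have hq : q.comap (algebraMap R S) = maximalIdeal R := by
      rw [hqdef, Ideal.comap_comap, ← IsScalarTower.algebraMap_eq R S S',
        IsScalarTower.algebraMap_eq R R' S', ← Ideal.comap_comap, hq']
      exact IsLocalRing.maximalIdeal_comap (algebraMap R R')
    haveI := hI q hq
    haveI hflq : Module.Flat R' (R' ⊗[R] LocalizedModule q.primeCompl M) :=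
      flat_tensor_of_flat_quotient I (LocalizedModule q.primeCompl M) R' hbot
    obtain ⟨e⟩ := nonempty_localizedModule_equiv_tensor (R := R) (R' := R') f hf q.primeCompl
    haveI : Module.Flat R'
        (LocalizedModule (Algebra.algebraMapSubmonoid S' q.primeCompl) M') :=
      Module.Flat.of_linearEquiv e
    refine Groth.Agent.Lib.Helper18.Fl.flat_localizedModule_of_le
      (S := Algebra.algebraMapSubmonoid S' q.primeCompl) (S' := q'.primeCompl) ?_
    rintro _ ⟨s, hs, rfl⟩
    exact hs

end Groth.Agent.Lib.Helper6.FlatCL
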