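import Mathlib
import Groth.Agent.Lib.Helper6.FlatCL7

/-!
# Flatness at primes over a closed subset is stable under base change (helper6)
-/

set_option backward.isDefEq.respectTransparency.types false
set_option autoImplicit false
set_option linter.style.haveILetI false
set_option linter.unusedSectionVars false
universe u

namespace Groth.Agent.Lib.Helper6.FlatCL

open IsLocalRing TensorProduct

variable {R S R' S' : Type u} [CommRing R] [CommRing S] [CommRing R'] [CommRing S']
  [Algebra R S] [Algebra R R'] [Algebra S S'] [Algebra R' S'] [Algebra R S']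
  [IsScalarTower R S S'] [IsScalarTower R R' S'] [Algebra.IsPushout R S R' S']
  {M M' : Type u} [AddCommGroup M] [Module S M] [Module R M] [IsScalarTower R S M]
  [AddCommGroup M'] [Module S' M'] [Module R' M'] [IsScalarTower R' S' M'] [Module S M']
  [IsScalarTower S S' M']

/-- flatness at a prime is stable under base change -/
theorem flat_localizedModule_baseChange (f : M →ₗ[S] M') (hf : IsBaseChange S' f)
    (q' : Ideal S') [q'.IsPrime]
    (h : Module.Flat R (LocalizedModule (q'.comap (algebraMap S S')).primeCompl M)) :
    Module.Flat R' (LocalizedModule q'.primeCompl M') := by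
  set q : Ideal S := q'.comap (algebraMap S S') with hqdef
  obtain ⟨e⟩ := nonempty_localizedModule_equiv_tensor (R := R) (R' := R') f hf q.primeCompl
  haveI : Module.Flat R'
      (LocalizedModule (Algebra.algebraMapSubmonoid S' q.primeCompl) M') :=
    Module.Flat.of_linearEquiv e
  refine Groth.Agent.Lib.Helper18.Fl.flat_localizedModule_of_le
    (S := Algebra.algebraMapSubmonoid S' q.primeCompl) (S' := q'.primeCompl) ?_
  rintro _ ⟨s, hs, rfl⟩
  exact hs

theorem flatAt_over_ideals_baseChange
    (I : Ideal R) (I' : Ideal R') (hII' : I.map (algebraMap R R') ≤ I')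
    (f : M →ₗ[S] M') (hf : IsBaseChange S' f) (J : Ideal S)
    (h : (∀ (q : Ideal S) [q.IsPrime], I.map (algebraMap R S) ⊔ J ≤ q →
      Module.Flat R (LocalizedModule q.primeCompl M))) :
    (∀ (q : Ideal S') [q.IsPrime], I'.map (algebraMap R' S') ⊔ J.map (algebraMap S S') ≤ q →
      Module.Flat R' (LocalizedModule q.primeCompl M')) := by
  intro q' _ hq'
  refine flat_localizedModule_baseChange (R := R) f hf q' (h _ ?_)
  refine sup_le ?_ ?_
  · rw [Ideal.map_le_iff_le_comap]
    intro a ha
    rw [Ideal.mem_comap, Ideal.mem_comap, ← IsScalarTower.algebraMap_apply R S S',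
      IsScalarTower.algebraMap_apply R R' S']
    exact hq' (Ideal.mem_sup_left (Ideal.mem_map_of_mem _ (hII' (Ideal.mem_map_of_mem _ ha))))
  · intro s hs
    rw [Ideal.mem_comap]
    exact hq' (Ideal.mem_sup_right (Ideal.mem_map_of_mem _ hs))

end Groth.Agent.Lib.Helper6.FlatCL
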