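import Mathlib
import Groth.Prelude.Def_CurvBase
import Groth.Agent.Lib.Helper1.GalLevel
import Groth.Agent.Lib.Helper6.EtLocSepScheme

/-!
# Geometric connectedness of a fibre via étale neighbourhoods (Stacks 0573-style)
-/

set_option autoImplicit false
universe u

open CategoryTheory CategoryTheory.Limits AlgebraicGeometry IsLocalRing

namespace Groth.Agent.Lib.Helper6.GCEt

/-- A pullback of `f` along a field-valued point is connected if the fibre through the image
point is geometrically connected. -/
theorem connectedSpace_of_isPullback {X S : Scheme.{u}} (f : X ⟶ S) {K : Type u} [Field K]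
    (b : Spec (.of K) ⟶ S)
    (hgc : GeometricallyConnected (f.fiberToSpecResidueField (b (closedPoint K))))
    {Z : Scheme.{u}} (p : Z ⟶ X) (q : Z ⟶ Spec (.of K)) (h : IsPullback p q f b) :
    ConnectedSpace Z := by
  set s' := b (closedPoint K) with hs'
  let y : Spec (.of K) ⟶ Spec (S.residueField s') :=
    Spec.map (Scheme.descResidueField (Scheme.stalkClosedPointTo b))
  have hy : y ≫ S.fromSpecResidueField s' = b :=
    Scheme.descResidueField_stalkClosedPointTo_fromSpecResidueField K S b
  have hR : IsPullback (f.fiberι s') (f.fiberToSpecResidueField s') f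
      (S.fromSpecResidueField s') := IsPullback.of_hasPullback _ _
  let l : Z ⟶ f.fiber s' := hR.lift p (q ≫ y) (by rw [Category.assoc, hy, h.w])
  have hl1 : l ≫ f.fiberι s' = p := hR.lift_fst _ _ _
  have hl2 : l ≫ f.fiberToSpecResidueField s' = q ≫ y := hR.lift_snd _ _ _
  have hL : IsPullback l q (f.fiberToSpecResidueField s') y := by
    refine IsPullback.of_right ?_ hl2 hR
    rw [hl1, hy]
    exact h
  exact hgc.1 y l q hL

end Groth.Agent.Lib.Helper6.GCEt
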