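import Mathlib
import Groth.Prelude.Def_CurvBase
import Groth.Agent.Lib.Helper6.GCEt1

/-!
# Geometric connectedness of a fibre via étale neighbourhoods: main theorem
-/

set_option autoImplicit false
universe u

open CategoryTheory CategoryTheory.Limits AlgebraicGeometry IsLocalRing

namespace Groth.Agent.Lib.Helper6.GCEt

theorem connectedSpace_fiber_of_geomConn {X S : Scheme.{u}} (f : X ⟶ S) {U : Scheme.{u}}
    (g : U ⟶ S) (u : U) (hgc : GeometricallyConnected (f.fiberToSpecResidueField (g u))) :
    ConnectedSpace ↑((pullback.snd f g).fiber u) := by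
  let b : Spec (.of (U.residueField u)) ⟶ S := U.fromSpecResidueField u ≫ g
  have hb : b (closedPoint (U.residueField u)) = g u := by
    change (U.fromSpecResidueField u ≫ g) (closedPoint (U.residueField u)) = g u
    rw [Scheme.Hom.comp_apply, Scheme.fromSpecResidueField_apply]
  have hgc' : GeometricallyConnected
      (f.fiberToSpecResidueField (b (closedPoint (U.residueField u)))) := by
    rw [hb]; exact hgc
  exact connectedSpace_of_isPullback f b hgc'
    ((pullback.snd f g).fiberι u ≫ pullback.fst f g)
    ((pullback.snd f g).fiberToSpecResidueField u)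
    ((IsPullback.of_hasPullback (pullback.snd f g) (U.fromSpecResidueField u)).paste_horiz
      (IsPullback.of_hasPullback f g))

set_option maxHeartbeats 800000 in
theorem main {X S : Scheme.{u}} (f : X ⟶ S) (s : S) :
    GeometricallyConnected (f.fiberToSpecResidueField s) ↔
      ∀ (U : Scheme.{u}) (g : U ⟶ S) (u : U), Etale g → g u = s →
        ConnectedSpace ↑((pullback.snd f g).fiber u) := by
  constructor
  · intro hgc U g u _ hgu
    subst hgu
    exact connectedSpace_fiber_of_geomConn f g u hgc
  · intro H
    letI : (f.fiber s).Over (Spec (CommRingCat.of (S.residueField s))) :=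
      ⟨f.fiberToSpecResidueField s⟩
    refine Groth.Agent.Lib.Helper1.GalLevel.geometricallyConnected_of_forall_finite_separable
      (S.residueField s) (f.fiber s) ?_
    intro k' _ _ _ _
    obtain ⟨U, g, φ, hEt, -, hφ, hsurj⟩ := EtLoc.exists_etale_nbhd_lift S s k'
    have hgu : g (φ (closedPoint k')) = s := by
      rw [← Scheme.Hom.comp_apply, hφ, Scheme.Hom.comp_apply, Scheme.fromSpecResidueField_apply]
    haveI := H U g (φ (closedPoint k')) hEt hgu
    let θ : U.residueField (φ (closedPoint k')) ⟶ .of k' :=
      Scheme.descResidueField (Scheme.stalkClosedPointTo φ)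
    haveI : IsIso θ := (ConcreteCategory.isIso_iff_bijective θ).mpr
      ⟨θ.hom.injective, hsurj⟩
    have hψ : Spec.map θ ≫ U.fromSpecResidueField (φ (closedPoint k')) = φ :=
      Scheme.descResidueField_stalkClosedPointTo_fromSpecResidueField k' U φ
    have hB : IsPullback ((pullback.snd f g).fiberι (φ (closedPoint k')) ≫ pullback.fst f g)
        ((pullback.snd f g).fiberToSpecResidueField (φ (closedPoint k'))) f
        (U.fromSpecResidueField (φ (closedPoint k')) ≫ g) :=
      (IsPullback.of_hasPullback (pullback.snd f g)
        (U.fromSpecResidueField (φ (closedPoint k')))).paste_horiz (IsPullback.of_hasPullback f g)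
    have hC : IsPullback (𝟙 ((pullback.snd f g).fiber (φ (closedPoint k'))))
        ((pullback.snd f g).fiberToSpecResidueField (φ (closedPoint k')) ≫ inv (Spec.map θ))
        ((pullback.snd f g).fiberToSpecResidueField (φ (closedPoint k'))) (Spec.map θ) :=
      IsPullback.of_horiz_isIso ⟨by simp⟩
    have hB' := hC.paste_horiz hB
    have hbot : Spec.map θ ≫ U.fromSpecResidueField (φ (closedPoint k')) ≫ g =
        Spec.map (CommRingCat.ofHom (algebraMap (S.residueField s) k')) ≫
          S.fromSpecResidueField s := by
      rw [← Category.assoc, hψ, hφ]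
    rw [hbot] at hB'
    have hA : IsPullback (Curv2.bcFst (S.residueField s) (f.fiber s) k' ≫ f.fiberι s)
        (Curv2.bcSnd (S.residueField s) (f.fiber s) k') f
        (Spec.map (CommRingCat.ofHom (algebraMap (S.residueField s) k')) ≫
          S.fromSpecResidueField s) :=
      (IsPullback.of_hasPullback _ _).paste_horiz
        (IsPullback.of_hasPullback f (S.fromSpecResidueField s))
    let e := hB'.isoIsPullback _ _ hA
    exact (Scheme.homeoOfIso e).surjective.connectedSpace (Scheme.homeoOfIso e).continuous

end Groth.Agent.Lib.Helper6.GCEt
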