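import Mathlib
import Groth.Agent.Lib.Helper6.GN3

/-!
# The geometric number of points of a finite étale morphism is its rank
-/

set_option autoImplicit false
universe u

open CategoryTheory AlgebraicGeometry Limits IsLocalRing Topology

namespace Groth.Agent.Lib.Helper6.GN

/-- An étale algebra of finite rank over a separably closed field has as many primes as its
dimension. -/
theorem card_primeSpectrum_eq_finrank (L B : Type u) [Field L] [IsSepClosed L] [CommRing B]
    [Algebra L B] [Algebra.Etale L B] :
    Nat.card (PrimeSpectrum B) = Module.finrank L B := by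
  haveI : Algebra.EssFiniteType L B := inferInstance
  haveI := Algebra.FormallyUnramified.finite_of_free L B
  haveI : IsArtinianRing B := isArtinian_of_tower L inferInstance
  haveI : Finite (PrimeSpectrum B) := inferInstance
  cases nonempty_fintype (PrimeSpectrum B)
  let e := Algebra.FormallyEtale.equivPiOfIsSepClosed L B
  rw [e.toLinearEquiv.finrank_eq, Module.finrank_pi, Nat.card_eq_fintype_card]

theorem card_eq_finrank_of_etale_of_isSepClosed {P : Scheme.{u}} {L : Type u} [Field L]
    [IsSepClosed L] (q : P ⟶ Spec (CommRingCat.of L)) [IsFinite q] [Etale q]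
    (s : Spec (CommRingCat.of L)) : ENat.card P = (q.finrank s : ℕ∞) := by
  haveI : IsAffine P := isAffine_of_isAffineHom q
  obtain ⟨φ, hφ⟩ := Spec.map_surjective (P.isoSpec.inv ≫ q)
  have hq : q = P.isoSpec.hom ≫ Spec.map φ := by rw [hφ, Iso.hom_inv_id_assoc]
  haveI : IsFinite (Spec.map φ) := by rw [hφ]; infer_instance
  haveI : Etale (Spec.map φ) := by rw [hφ]; infer_instance
  have h1 : q.finrank s = (Spec.map φ).finrank s := by
    rw [hq, Scheme.Hom.finrank_comp_left_of_isIso]
  have hfin : φ.hom.Finite := (IsFinite.SpecMap_iff φ).mp inferInstance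
  have het : φ.hom.Etale := (HasRingHomProperty.Spec_iff (P := @Etale)).mp inferInstance
  have hflat : φ.hom.Flat := (Flat.SpecMap_iff).mp inferInstance
  rw [h1, Scheme.Hom.finrank_SpecMap_eq_finrank hfin hflat]
  have h2 : ENat.card P = ENat.card (PrimeSpectrum Γ(P, ⊤)) :=
    ENat.card_congr (Scheme.homeoOfIso P.isoSpec).toEquiv
  rw [h2]
  unfold RingHom.finrank
  algebraize [φ.hom]
  rw [Module.rankAtStalk_eq_finrank_of_free]
  change _ = ((Module.finrank L Γ(P, ⊤) : ℕ) : ℕ∞)
  rw [← card_primeSpectrum_eq_finrank L Γ(P, ⊤)]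
  haveI := Algebra.FormallyUnramified.finite_of_free L Γ(P, ⊤)
  haveI : IsArtinianRing Γ(P, ⊤) := isArtinian_of_tower L inferInstance
  haveI : Finite (PrimeSpectrum Γ(P, ⊤)) := inferInstance
  exact ENat.card_eq_coe_natCard _

/-- The geometric number of points of a finite étale morphism is its rank. -/
theorem nGeomConnComp_eq_finrank {X Y : Scheme.{u}} (f : X ⟶ Y) [IsFinite f] [Etale f] (y : Y) :
    MoreMor.nGeomConnComp f y = (f.finrank y : ℕ∞) := by
  rw [nGeomConnComp_eq_cnt]
  unfold cnt
  rw [card_eq_finrank_of_etale_of_isSepClosed (pullback.snd f (sepPt Y y)) (closedPoint _),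
    Scheme.Hom.finrank_pullback_snd, sepPt_apply]

theorem isLocallyConstant_nGeomConnComp {X Y : Scheme.{u}} (f : X ⟶ Y) [IsFinite f] [Etale f] :
    IsLocallyConstant (fun y : Y => MoreMor.nGeomConnComp f y) := by
  have h : (fun y : Y => MoreMor.nGeomConnComp f y) = (fun n : ℕ => (n : ℕ∞)) ∘ f.finrank := by
    ext y
    exact nGeomConnComp_eq_finrank f y
  rw [h]
  exact (Scheme.Hom.isLocallyConstant_finrank f).comp _

theorem card_geomFiber_eq {X Y : Scheme.{u}} (f : X ⟶ Y) [LocallyQuasiFinite f] (y : Y) :
    ENat.card ↥(MoreMor.geomFiber f y) = MoreMor.nGeomConnComp f y := by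
  haveI := discreteTopology_geomFiber f y
  unfold MoreMor.nGeomConnComp
  rw [(card_components_of_discrete _).2]

end Groth.Agent.Lib.Helper6.GN
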