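import Mathlib
import Groth.Agent.Lib.Helper6.GN4

/-!
# Local structure over the locus where the geometric number of points is constant
-/

set_option autoImplicit false
universe u

open CategoryTheory AlgebraicGeometry Limits IsLocalRing Topology

namespace Groth.Agent.Lib.Helper6.GN

set_option maxHeartbeats 1600000 in
/-- Over the locus where the geometric number of points is constant, étale locally the source is
a disjoint union of opens mapping bijectively to the base. -/
theorem exists_etale_nbhd_sheets {X Y : Scheme.{u}} (f : X ⟶ Y)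
    [LocallyOfFiniteType f] [IsSeparated f] [LocallyQuasiFinite f] [QuasiCompact f]
    (y : Y) (hopenAt : ∀ x : X, f x = y → EGA43.IsUnivOpenAt f x) :
    ∃ (V : Scheme.{u}) (a : V ⟶ Y) (v₀ : V) (N₁ : V.Opens), Etale a ∧ a v₀ = y ∧ v₀ ∈ N₁ ∧
      (∀ NV : V.Opens, NV ≤ N₁ →
        (∀ v ∈ NV, MoreMor.nGeomConnComp f (a v) = MoreMor.nGeomConnComp f y) →
        ∀ x' : ↑(pullback f a), pullback.snd f a x' ∈ NV →
          ∃ T : (pullback f a).Opens, x' ∈ T ∧ Set.InjOn (pullback.snd f a) (T : Set _) ∧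
            (NV : Set V) ⊆ (pullback.snd f a) '' (T : Set _)) := by
  classical
  have hfin : ∀ y : Y, (f ⁻¹' {y}).Finite := fun y => f.finite_preimage_singleton y
  obtain ⟨V, a, v₀, hEt, hav₀, κ, hκ, D, z, hD, -, hdisj, hcov⟩ :=
    Wt.exists_etale_nbhd_fibre f hfin y
  haveI := hEt
  haveI := hκ
  have hsq : IsPullback (pullback.fst f a) (pullback.snd f a) f a :=
    IsPullback.of_hasPullback f a
  -- the number of geometric points at `y`
  have hny : MoreMor.nGeomConnComp f y = (Fintype.card κ : ℕ∞) := by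
    rw [← hav₀, ← nGeomConnComp_baseChange hsq v₀]
    rw [nGeomConnComp_eq_card_fibre (pullback.snd f a) v₀ (fun x hx => by
      obtain ⟨k, rfl⟩ := hcov x hx
      exact (hD k).2.2.2.2)]
    have hbij : Function.Bijective (fun k : κ =>
        (⟨z k, (hD k).2.2.1⟩ : ((pullback.snd f a) ⁻¹' {v₀}))) := by
      constructor
      · intro k l hkl
        by_contra hne
        have h1 : z k ∈ (D k : Set ↑(pullback f a)) := (hD k).1
        have h2 : z k ∈ (D l : Set ↑(pullback f a)) := by
          have : z k = z l := congrArg Subtype.val hkl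
          rw [this]
          exact (hD l).1
        exact Set.disjoint_left.mp (hdisj hne) h1 h2
      · rintro ⟨x, hx⟩
        obtain ⟨k, rfl⟩ := hcov x hx
        exact ⟨k, rfl⟩
    rw [← ENat.card_congr (Equiv.ofBijective _ hbij), ENat.card_eq_coe_fintype_card]
  have hnhds : ∀ k, (pullback.snd f a) '' (D k : Set ↑(pullback f a)) ∈ nhds v₀ := fun k => by
    have hfz : f (pullback.fst f a (z k)) = y := by
      rw [← Scheme.Hom.comp_apply, pullback.condition, Scheme.Hom.comp_apply, (hD k).2.2.1, hav₀]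
    have h1 := hopenAt _ hfz V a (z k) rfl (D k : Set ↑(pullback f a))
      ((D k).isOpen.mem_nhds (hD k).1)
    have h2 : (pullback.snd f a).base (z k) = v₀ := (hD k).2.2.1
    rw [h2] at h1
    exact h1
  let N₁ : V.Opens := ⟨⋂ k, interior ((pullback.snd f a) '' (D k : Set ↑(pullback f a))),
    isOpen_iInter_of_finite fun k => isOpen_interior⟩
  have hv₀N : v₀ ∈ N₁ := Set.mem_iInter.mpr fun k => mem_interior_iff_mem_nhds.mpr (hnhds k)
  have hpts : ∀ v ∈ N₁, ∀ k, ∃ x, x ∈ (D k : Set ↑(pullback f a)) ∧ pullback.snd f a x = v :=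
    fun v hv k => (interior_subset (Set.mem_iInter.mp hv k) :
      v ∈ (pullback.snd f a) '' (D k : Set ↑(pullback f a)))
  -- lower bound for the number of points of the fibres
  have hlow : ∀ (v : V) (ζ : κ → ↑(pullback f a)),
      (∀ k, ζ k ∈ (D k : Set ↑(pullback f a)) ∧ pullback.snd f a (ζ k) = v) →
      ∀ (S : Set ↑(pullback f a)), S ⊆ (pullback.snd f a) ⁻¹' {v} → (∀ k, ζ k ∉ S) →
      (Fintype.card κ : ℕ∞) + S.encard ≤ MoreMor.nGeomConnComp f (a v) := by
    intro v ζ hζ S hS hSD
    rw [← nGeomConnComp_baseChange hsq v]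
    refine le_trans ?_ (card_fibre_le_nGeomConnComp (pullback.snd f a) v)
    have hζinj : Function.Injective ζ := by
      intro k l hkl
      by_contra hne
      have h2 : ζ k ∈ (D l : Set ↑(pullback f a)) := by
        rw [hkl]
        exact (hζ l).1
      exact Set.disjoint_left.mp (hdisj hne) (hζ k).1 h2
    have hdisj2 : Disjoint (Set.range ζ) S := by
      rw [Set.disjoint_left]
      rintro _ ⟨k, rfl⟩ hS'
      exact hSD k hS'
    have hsub : Set.range ζ ∪ S ⊆ (pullback.snd f a) ⁻¹' {v} := by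
      rintro x (⟨k, rfl⟩ | hx)
      · exact (hζ k).2
      · exact hS hx
    calc (Fintype.card κ : ℕ∞) + S.encard = (Set.range ζ).encard + S.encard := by
          rw [← Set.image_univ, hζinj.encard_image, Set.encard_univ,
            ENat.card_eq_coe_fintype_card]
      _ = (Set.range ζ ∪ S).encard := (Set.encard_union_eq hdisj2).symm
      _ ≤ ((pullback.snd f a) ⁻¹' {v}).encard := Set.encard_le_encard hsub
      _ = ENat.card ((pullback.snd f a) ⁻¹' {v}) := rfl
  refine ⟨V, a, v₀, N₁, hEt, hav₀, hv₀N, fun NV hNV hconst x' hx' => ?_⟩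
  have hcontra : ∀ (v : V), v ∈ NV → ∀ (ζ : κ → ↑(pullback f a)),
      (∀ k, ζ k ∈ (D k : Set ↑(pullback f a)) ∧ pullback.snd f a (ζ k) = v) →
      ∀ x : ↑(pullback f a), pullback.snd f a x = v → ∃ k, x = ζ k := by
    intro v hv ζ hζ x hx
    by_contra hcon
    push Not at hcon
    have := hlow v ζ hζ {x} (by simpa using hx) (fun k hk => hcon k hk.symm)
    rw [hconst _ hv, hny, Set.encard_singleton] at this
    have h2 : ((Fintype.card κ + 1 : ℕ) : ℕ∞) ≤ (Fintype.card κ : ℕ) := by
      exact_mod_cast this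
    have h3 : Fintype.card κ + 1 ≤ Fintype.card κ := by exact_mod_cast h2
    omega
  -- the sheet through `x'`
  choose ζ₀ hζ₀ using hpts _ (hNV hx')
  obtain ⟨k, hk⟩ := hcontra _ hx' ζ₀ hζ₀ x' rfl
  refine ⟨D k ⊓ (pullback.snd f a) ⁻¹ᵁ NV, ⟨hk ▸ (hζ₀ k).1, hx'⟩, ?_, ?_⟩
  · rintro x₁ ⟨hx₁D, hx₁N⟩ x₂ ⟨hx₂D, hx₂N⟩ h12
    have hx₁N' : pullback.snd f a x₁ ∈ NV := hx₁N
    choose ζ hζ using hpts _ (hNV hx₁N')
    let ζ' : κ → ↑(pullback f a) := Function.update ζ k x₁
    have hζ' : ∀ l, ζ' l ∈ (D l : Set ↑(pullback f a)) ∧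
        pullback.snd f a (ζ' l) = pullback.snd f a x₁ := by
      intro l
      by_cases hl : l = k
      · subst hl
        have : ζ' l = x₁ := Function.update_self _ _ _
        rw [this]
        exact ⟨hx₁D, rfl⟩
      · have : ζ' l = ζ l := Function.update_of_ne hl _ _
        rw [this]
        exact hζ l
    obtain ⟨l, hl⟩ := hcontra _ hx₁N' ζ' hζ' x₂ h12.symm
    by_cases hlk : l = k
    · subst hlk
      have : ζ' l = x₁ := Function.update_self _ _ _
      rw [this] at hl
      exact hl.symm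
    · exfalso
      have h1 : x₂ ∈ (D l : Set ↑(pullback f a)) := hl ▸ (hζ' l).1
      exact Set.disjoint_left.mp (hdisj hlk) h1 hx₂D
  · intro v hv
    obtain ⟨x, hxD, hxv⟩ := hpts v (hNV hv) k
    exact ⟨x, ⟨hxD, by
      change pullback.snd f a x ∈ NV
      rw [hxv]; exact hv⟩, hxv⟩

end Groth.Agent.Lib.Helper6.GN
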