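import Mathlib
import Groth.Agent.Lib.Helper6.GN5
import Groth.Agent.Lib.Helper6.UB10

/-!
# Points with a least generization, and EGA IV 15.5.9 (iii)
-/

set_option autoImplicit false
universe u

open CategoryTheory AlgebraicGeometry Limits IsLocalRing Topology

namespace Groth.Agent.Lib.Helper6.GN

/-- The point `w` has a least generization. -/
def LG (W : Type*) [TopologicalSpace W] (w : W) : Prop :=
  ∃ ζ : W, ζ ⤳ w ∧ ∀ t : W, t ⤳ w → ζ ⤳ t

theorem lg_of_least_prime {X : Scheme.{u}} (x : X)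
    (N : Ideal (X.presheaf.stalk x)) [N.IsPrime]
    (hN : ∀ P : Ideal (X.presheaf.stalk x), P.IsPrime → N ≤ P) : LG X x := by
  let b : Spec (X.presheaf.stalk x) := ⟨N, inferInstance⟩
  refine ⟨X.fromSpecStalk x b, ?_, fun t ht => ?_⟩
  · have : X.fromSpecStalk x b ∈ Set.range (X.fromSpecStalk x) := ⟨b, rfl⟩
    rw [AlgebraicGeometry.Scheme.range_fromSpecStalk] at this
    exact this
  · have hmem : t ∈ Set.range (X.fromSpecStalk x) := by
      rw [AlgebraicGeometry.Scheme.range_fromSpecStalk]; exact ht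
    obtain ⟨z, hz⟩ := hmem
    have hbz : b ⤳ z :=
      (PrimeSpectrum.le_iff_specializes (R := X.presheaf.stalk x) b z).mp
        (hN z.asIdeal z.2)
    have h1 : X.fromSpecStalk x b ⤳ X.fromSpecStalk x z := hbz.map (X.fromSpecStalk x).continuous
    rw [hz] at h1
    exact h1

theorem lg_of_sheet {P V : Type*} [TopologicalSpace P] [TopologicalSpace V] (p : P → V)
    (hc : Continuous p) (ho : IsOpenMap p) (T : Set P) (hT : IsOpen T) (hinj : Set.InjOn p T)
    (N : Set V) (hN : IsOpen N) (hNT : N ⊆ p '' T) (x' : P) (hx'T : x' ∈ T) (hx'N : p x' ∈ N)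
    (h : LG V (p x')) : LG P x' := by
  obtain ⟨ζV, hζV, hζVle⟩ := h
  have key : ∀ a ∈ T, ∀ b ∈ T, p a ⤳ p b → a ⤳ b := by
    intro a ha b hb hab
    rw [specializes_iff_forall_open]
    intro O hO hbO
    have h1 : IsOpen (p '' (O ∩ T)) := ho _ (hO.inter hT)
    have h2 : p b ∈ p '' (O ∩ T) := ⟨b, ⟨hbO, hb⟩, rfl⟩
    obtain ⟨c, ⟨hcO, hcT⟩, hca⟩ := hab.mem_open h1 h2
    have : c = a := hinj hcT ha hca
    rw [← this]
    exact hcO
  have hζN : ζV ∈ N := hζV.mem_open hN hx'N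
  obtain ⟨ζ', hζ'T, rfl⟩ := hNT hζN
  refine ⟨ζ', key _ hζ'T _ hx'T hζV, fun t ht => ?_⟩
  have htT : t ∈ T := ht.mem_open hT hx'T
  exact key _ hζ'T _ htT (hζVle _ (ht.map hc))

theorem lg_of_generalizingMap {P X : Type*} [TopologicalSpace P] [TopologicalSpace X] (q : P → X)
    (hc : Continuous q) (hg : GeneralizingMap q) (x' : P) (h : LG P x') : LG X (q x') := by
  obtain ⟨ζ', hζ', hle⟩ := h
  refine ⟨q ζ', hζ'.map hc, fun t ht => ?_⟩
  obtain ⟨t', ht', rfl⟩ := hg ht
  exact (hle t' ht').map hc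

theorem eq_of_lg {X : Type*} [TopologicalSpace X] (x : X) (h : LG X x) (e₁ e₂ : X)
    (h₁ : e₁ ⤳ x) (h₂ : e₂ ⤳ x) (hm₁ : ∀ t : X, t ⤳ e₁ → t = e₁)
    (hm₂ : ∀ t : X, t ⤳ e₂ → t = e₂) : e₁ = e₂ := by
  obtain ⟨ζ, -, hle⟩ := h
  rw [← hm₁ ζ (hle _ h₁), ← hm₂ ζ (hle _ h₂)]

/-- Irreducible components through a point with a least generization coincide. -/
theorem eq_of_mem_irreducibleComponents_of_lg {X : Type*} [TopologicalSpace X] [QuasiSober X]
    [T0Space X] (x : X) (h : LG X x) (Z Z' : Set X) (hZ : Z ∈ irreducibleComponents X)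
    (hZ' : Z' ∈ irreducibleComponents X) (hx : x ∈ Z) (hx' : x ∈ Z') : Z = Z' := by
  have gen : ∀ W ∈ irreducibleComponents X, x ∈ W →
      ∃ η : X, closure {η} = W ∧ η ⤳ x ∧ ∀ t : X, t ⤳ η → t = η := by
    intro W hW hxW
    have hirr : IsIrreducible W := hW.1
    have hcl : IsClosed W := isClosed_of_mem_irreducibleComponents W hW
    obtain ⟨η, hη⟩ := QuasiSober.sober hirr hcl
    have hη' : closure {η} = W := hη
    refine ⟨η, hη', ?_, fun t ht => ?_⟩
    · rw [specializes_iff_mem_closure, hη']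
      exact hxW
    · have h1 : W ⊆ closure {t} := by
        rw [← hη']
        exact closure_minimal (Set.singleton_subset_iff.mpr
          (specializes_iff_mem_closure.mp ht)) isClosed_closure
      have h2 : closure {t} ⊆ W := hW.2 isIrreducible_singleton.closure h1
      have h3 : closure {t} = closure {η} := by
        rw [hη']
        exact le_antisymm h2 h1
      have ht' : IsGenericPoint t (closure {η}) := h3
      exact ht'.eq isGenericPoint_closure
  obtain ⟨η, hη, hηx, hηm⟩ := gen Z hZ hx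
  obtain ⟨η', hη', hηx', hηm'⟩ := gen Z' hZ' hx'
  rw [← hη, ← hη', eq_of_lg x h η η' hηx hηx' hηm hηm']

set_option maxHeartbeats 800000 in
/-- **EGA IV 15.5.9 (iii)**. -/
theorem irreducibleComponents_disjoint {X Y : Scheme.{u}}
    (hY : ∀ y : Y, CAlg2.IsGeomUnibranch (Y.presheaf.stalk y)) (f : X ⟶ Y)
    [IsSeparated f] [LocallyQuasiFinite f] [LocallyOfFiniteType f] [QuasiCompact f]
    [UniversallyOpen f]
    (hn : IsLocallyConstant (fun z : Y => MoreMor.nGeomConnComp f z)) (x : X) : LG X x := by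
  obtain ⟨M, hMo, hyM, hM⟩ := (IsLocallyConstant.iff_exists_open _).mp hn (f x)
  obtain ⟨V, a, v₀, N₁, hEt, hav₀, hv₀N, hsheet⟩ := exists_etale_nbhd_sheets f (f x)
    (fun x _ => isUnivOpenAt_of_universallyOpen f x)
  haveI := hEt
  let NV : V.Opens := ⟨(N₁ : Set V) ∩ a ⁻¹' M, N₁.isOpen.inter (hMo.preimage a.continuous)⟩
  have hv₀NV : v₀ ∈ NV := ⟨hv₀N, by
    change a v₀ ∈ M
    rw [hav₀]; exact hyM⟩
  obtain ⟨x', hx'1, hx'2⟩ := Scheme.Pullback.exists_preimage_pullback (f := f) (g := a) x v₀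
    hav₀.symm
  have hx'NV : pullback.snd f a x' ∈ NV := by rw [hx'2]; exact hv₀NV
  obtain ⟨T, hx'T, hinj, hNT⟩ := hsheet NV (fun v hv => hv.1) (fun v hv => hM _ hv.2) x' hx'NV
  obtain ⟨N, hNp, hNle⟩ := UB.exists_least_prime_stalk_of_etale a v₀ (hY (a v₀))
  haveI := hNp
  have hlgV : LG V (pullback.snd f a x') := by
    rw [hx'2]
    exact lg_of_least_prime v₀ N hNle
  have hlgP : LG ↑(pullback f a) x' :=
    lg_of_sheet (pullback.snd f a) (pullback.snd f a).continuous (pullback.snd f a).isOpenMap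
      (T : Set _) T.isOpen hinj (NV : Set V) NV.isOpen hNT x' hx'T hx'NV hlgV
  have := lg_of_generalizingMap (pullback.fst f a) (pullback.fst f a).continuous
    (Flat.generalizingMap _) x' hlgP
  rwa [hx'1] at this

end Groth.Agent.Lib.Helper6.GN
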