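import Mathlib.RingTheory.Spectrum.Prime.Chevalley
import Mathlib.RingTheory.LocalRing.ResidueField.Fiber
import Mathlib.RingTheory.Spectrum.Prime.Topology
import Mathlib.Topology.Irreducible

/-!
# Geometrically irreducible algebras over a field (ring-level)

`GeomIrr k S` : `Spec (k' ⊗[k] S)` is irreducible for all field extensions `k'/k` (in the universe
of `k`).  Main results: for any `k`-algebra `R`, the map `Spec (R ⊗[k] S) → Spec R` is open,
surjective with irreducible fibres; hence it induces a bijection on minimal primes and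
`Spec (R ⊗[k] S)` is irreducible if `Spec R` is.
-/

set_option autoImplicit false

namespace Groth.Agent.Lib.Helper6

open TensorProduct

universe u

/-- Geometric irreducibility of a `k`-algebra, phrased with test fields in the universe of `k`. -/
def GeomIrr (k S : Type u) [Field k] [CommRing S] [Algebra k S] : Prop :=
  ∀ (k' : Type u) [Field k'] [Algebra k k'], IrreducibleSpace (PrimeSpectrum (k' ⊗[k] S))

variable {k R S : Type u} [Field k] [CommRing R] [CommRing S] [Algebra k R] [Algebra k S]

theorem isIrreducible_fiber (hS : GeomIrr k S) (p : PrimeSpectrum R) :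
    IsIrreducible (PrimeSpectrum.comap (algebraMap R (R ⊗[k] S)) ⁻¹' {p}) := by
  have h1 := hS p.asIdeal.ResidueField
  let e := Algebra.TensorProduct.cancelBaseChange k R p.asIdeal.ResidueField p.asIdeal.ResidueField S
  have h2 : IrreducibleSpace (PrimeSpectrum (p.asIdeal.Fiber (R ⊗[k] S))) :=
    (PrimeSpectrum.homeomorphOfRingEquiv e.toRingEquiv).irreducibleSpace_iff.mpr h1
  have h3 : IrreducibleSpace (PrimeSpectrum.comap (algebraMap R (R ⊗[k] S)) ⁻¹' {p}) :=
    (PrimeSpectrum.preimageHomeomorphFiber R (R ⊗[k] S) p).irreducibleSpace_iff.mpr h2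
  exact IsIrreducible.of_subtype

theorem comap_surjective (hS : GeomIrr k S) :
    Function.Surjective (PrimeSpectrum.comap (algebraMap R (R ⊗[k] S))) := by
  intro p
  obtain ⟨q, hq⟩ := (isIrreducible_fiber hS p).1
  exact ⟨q, hq⟩

theorem isOpenMap_comap :
    IsOpenMap (PrimeSpectrum.comap (algebraMap R (R ⊗[k] S))) :=
  PrimeSpectrum.isOpenMap_comap_algebraMap_tensorProduct_of_field

theorem isIrreducible_preimage (hS : GeomIrr k S) {t : Set (PrimeSpectrum R)}
    (ht : IsIrreducible t) :
    IsIrreducible (PrimeSpectrum.comap (algebraMap R (R ⊗[k] S)) ⁻¹' t) := by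
  apply ht.preimage_of_isPreirreducible_fiber _ isOpenMap_comap
    (fun p => (isIrreducible_fiber hS p).2)
  rw [(comap_surjective hS).range_eq, Set.inter_univ]
  exact ht.1

theorem irreducibleSpace_tensor (hS : GeomIrr k S) [IrreducibleSpace (PrimeSpectrum R)] :
    IrreducibleSpace (PrimeSpectrum (R ⊗[k] S)) := by
  have := isIrreducible_preimage (R := R) hS (IrreducibleSpace.isIrreducible_univ _)
  rw [Set.preimage_univ] at this
  exact (irreducibleSpace_def _).mpr this

theorem vanishingIdeal_image_comap {A B : Type*} [CommRing A] [CommRing B] (φ : A →+* B)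
    (s : Set (PrimeSpectrum B)) :
    PrimeSpectrum.vanishingIdeal (PrimeSpectrum.comap φ '' s)
      = (PrimeSpectrum.vanishingIdeal s).comap φ := by
  ext x
  simp [PrimeSpectrum.mem_vanishingIdeal]

theorem vanishingIdeal_zeroLocus_prime {A : Type*} [CommRing A] (q : Ideal A) [q.IsPrime] :
    PrimeSpectrum.vanishingIdeal (PrimeSpectrum.zeroLocus (q : Set A)) = q := by
  rw [PrimeSpectrum.vanishingIdeal_zeroLocus_eq_radical, Ideal.IsPrime.radical ‹_›]

theorem zeroLocus_mem_irreducibleComponents {A : Type*} [CommRing A] {q : Ideal A}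
    (hq : q ∈ minimalPrimes A) :
    PrimeSpectrum.zeroLocus (q : Set A) ∈ irreducibleComponents (PrimeSpectrum A) := by
  have : q.IsPrime := hq.1.1
  rw [PrimeSpectrum.zeroLocus_ideal_mem_irreducibleComponents, Ideal.IsPrime.radical ‹_›]
  exact hq

/-- Stacks 037A / 00I? : for geometrically irreducible `S`, contraction along `R → R ⊗[k] S`
is a bijection on minimal primes. -/
theorem bijOn_minimalPrimes (hS : GeomIrr k S) :
    Set.BijOn (Ideal.comap (algebraMap R (R ⊗[k] S))) (minimalPrimes (R ⊗[k] S))
      (minimalPrimes R) := by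
  set φ := algebraMap R (R ⊗[k] S) with hφ
  set f := PrimeSpectrum.comap φ with hf
  have hf₁ : Continuous f := PrimeSpectrum.continuous_comap φ
  have hf₂ : IsOpenMap f := isOpenMap_comap
  have hf₃ : ∀ x, IsPreirreducible (f ⁻¹' {x}) := fun p => (isIrreducible_fiber hS p).2
  have hf₄ : Function.Surjective f := comap_surjective hS
  have key : ∀ q ∈ minimalPrimes (R ⊗[k] S),
      f '' PrimeSpectrum.zeroLocus (q : Set (R ⊗[k] S)) ∈ irreducibleComponents (PrimeSpectrum R) ∧
      PrimeSpectrum.vanishingIdeal (f '' PrimeSpectrum.zeroLocus (q : Set (R ⊗[k] S)))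
        = q.comap φ := by
    intro q hq
    have : q.IsPrime := hq.1.1
    refine ⟨image_mem_irreducibleComponents_of_isPreirreducible_fiber f hf₁ hf₂ hf₃ hf₄
      (zeroLocus_mem_irreducibleComponents hq), ?_⟩
    rw [vanishingIdeal_image_comap, vanishingIdeal_zeroLocus_prime]
  refine ⟨?_, ?_, ?_⟩
  · intro q hq
    obtain ⟨h1, h2⟩ := key q hq
    rw [← h2, PrimeSpectrum.vanishingIdeal_mem_minimalPrimes,
      (isClosed_of_mem_irreducibleComponents _ h1).closure_eq]
    exact h1
  · intro q₁ hq₁ q₂ hq₂ heq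
    obtain ⟨h1, h2⟩ := key q₁ hq₁
    obtain ⟨h1', h2'⟩ := key q₂ hq₂
    have hp₁ : q₁.IsPrime := hq₁.1.1
    have hp₂ : q₂.IsPrime := hq₂.1.1
    have himg : f '' PrimeSpectrum.zeroLocus (q₁ : Set (R ⊗[k] S))
        = f '' PrimeSpectrum.zeroLocus (q₂ : Set (R ⊗[k] S)) := by
      rw [← (isClosed_of_mem_irreducibleComponents _ h1).closure_eq,
        ← (isClosed_of_mem_irreducibleComponents _ h1').closure_eq,
        ← PrimeSpectrum.zeroLocus_vanishingIdeal_eq_closure,
        ← PrimeSpectrum.zeroLocus_vanishingIdeal_eq_closure, h2, h2']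
      exact congrArg _ (congrArg _ heq)
    let e := irreducibleComponentsEquivOfIsPreirreducibleFiber f hf₁ hf₂ hf₃ hf₄
    have h3 : e.symm ⟨_, zeroLocus_mem_irreducibleComponents hq₁⟩
        = e.symm ⟨_, zeroLocus_mem_irreducibleComponents hq₂⟩ := Subtype.ext himg
    have h4 := congrArg Subtype.val (e.symm.injective h3)
    have h5 := congrArg PrimeSpectrum.vanishingIdeal h4
    simpa only [vanishingIdeal_zeroLocus_prime] using h5
  · intro p hp
    have hpp : p.IsPrime := hp.1.1
    have hW : f ⁻¹' PrimeSpectrum.zeroLocus (p : Set R)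
        ∈ irreducibleComponents (PrimeSpectrum (R ⊗[k] S)) := by
      apply preimage_mem_irreducibleComponents_of_isPreirreducible_fiber
        (zeroLocus_mem_irreducibleComponents hp) hf₁ hf₂ hf₃
      rw [hf₄.range_eq, Set.inter_univ]
      exact ⟨⟨p, hpp⟩, by simp⟩
    refine ⟨PrimeSpectrum.vanishingIdeal (f ⁻¹' PrimeSpectrum.zeroLocus (p : Set R)), ?_, ?_⟩
    · rw [PrimeSpectrum.vanishingIdeal_mem_minimalPrimes,
        (isClosed_of_mem_irreducibleComponents _ hW).closure_eq]
      exact hW
    · rw [← vanishingIdeal_image_comap, Set.image_preimage_eq _ hf₄, vanishingIdeal_zeroLocus_prime]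

end Groth.Agent.Lib.Helper6
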