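import Mathlib
import Groth.Prelude.Def_FDesc
import Groth.Agent.Lib.Helper16.ReducedSub
import Groth.Agent.Lib.Helper6.FibCrit9

/-!
# Reduced closure of the image of a geometrically reduced family commutes with field extension
(helper6): general lemmas on schematically dominant families and reducedness
-/

set_option autoImplicit false
set_option linter.style.haveILetI false
set_option linter.unusedSectionVars false

open CategoryTheory CategoryTheory.Limits AlgebraicGeometry

universe u

namespace Groth.Agent.Lib.Helper6.GeomRedClos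

open Groth.Agent.Lib.Helper6.SepFam

/-- The target of a schematically dominant family of reduced schemes is reduced. -/
theorem isReduced_of_schDominant {Y : Scheme.{u}} {ι : Type*} (Z : ι → Scheme.{u})
    [∀ i, IsReduced (Z i)] (g : ∀ i, Z i ⟶ Y)
    (h : ∀ (V : Y.Opens) (t : Γ(Y, V)), (∀ i, (g i).app V t = 0) → t = 0) : IsReduced Y := by
  refine ⟨fun V => ⟨fun t ht => ?_⟩⟩
  apply h
  intro i
  exact (ht.map ((g i).app V).hom).eq_zero

/-- A schematically dominant family is jointly (topologically) dominant. -/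
theorem dense_iUnion_range_of_schDominant {Y : Scheme.{u}} {ι : Type*} (Z : ι → Scheme.{u})
    (g : ∀ i, Z i ⟶ Y)
    (h : ∀ (V : Y.Opens) (t : Γ(Y, V)), (∀ i, (g i).app V t = 0) → t = 0) :
    Dense (⋃ i, Set.range (g i)) := by
  rw [dense_iff_inter_open]
  intro O hO hne
  by_contra hcon
  let V : Y.Opens := ⟨O, hO⟩
  have h1 : (1 : Γ(Y, V)) = 0 := by
    apply h
    intro i
    have hbot : (g i) ⁻¹ᵁ V = ⊥ := by
      ext z
      simp only [TopologicalSpace.Opens.coe_bot, Set.mem_empty_iff_false, iff_false]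
      intro hz
      exact hcon ⟨g i z, hz, Set.mem_iUnion.mpr ⟨i, z, rfl⟩⟩
    have hsub : Subsingleton Γ(Z i, (g i) ⁻¹ᵁ V) := by
      rw [hbot]
      infer_instance
    exact Subsingleton.elim _ _
  obtain ⟨x, hx⟩ := hne
  have hx' : x ∈ V := hx
  have : (1 : Y.presheaf.stalk x) = 0 := by
    rw [← map_one (Y.presheaf.germ V x hx').hom, ← map_zero (Y.presheaf.germ V x hx').hom, h1]
  exact one_ne_zero this

/-- On a reduced scheme, a jointly dominant family is schematically dominant. -/
theorem schDominant_of_dense_of_isReduced {Y : Scheme.{u}} [IsReduced Y] {ι : Type*}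
    (Z : ι → Scheme.{u}) (g : ∀ i, Z i ⟶ Y) (hd : Dense (⋃ i, Set.range (g i))) :
    ∀ (V : Y.Opens) (t : Γ(Y, V)), (∀ i, (g i).app V t = 0) → t = 0 := by
  intro V t ht
  apply eq_zero_of_basicOpen_eq_bot
  by_contra hne
  obtain ⟨y, hy⟩ : ∃ y, y ∈ Y.basicOpen t := by
    by_contra hcon
    apply hne
    ext y
    simp only [TopologicalSpace.Opens.coe_bot, Set.mem_empty_iff_false, iff_false]
    intro hy
    exact hcon ⟨y, hy⟩
  obtain ⟨y', hy'1, hy'2⟩ := hd.inter_open_nonempty _ (Y.basicOpen t).isOpen ⟨y, hy⟩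
  obtain ⟨i, z, rfl⟩ := Set.mem_iUnion.mp hy'2
  have hz : z ∈ (g i) ⁻¹ᵁ (Y.basicOpen t) := hy'1
  rw [Scheme.preimage_basicOpen, ht i, Scheme.basicOpen_zero] at hz
  exact hz

end Groth.Agent.Lib.Helper6.GeomRedClos
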