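import Mathlib
import Groth.Prelude.Def_FDesc
import Groth.Agent.Lib.Helper6.GeomRedClos1
import Groth.Agent.Lib.Helper6.SepFam18

/-!
# Reduced closure of the image of a geometrically reduced family commutes with field extension
(helper6)
-/

set_option autoImplicit false
set_option linter.style.haveILetI false
set_option linter.unusedSectionVars false

open CategoryTheory CategoryTheory.Limits AlgebraicGeometry

universe u

namespace Groth.Agent.Lib.Helper6.GeomRedClos

open Groth.Agent.Lib.Helper6.SepFam Groth.Agent.Lib.Helper16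

theorem stalkMap_injective_of_flat {X Y : Scheme.{u}} (f : X ⟶ Y) [Flat f] (x : X) :
    Function.Injective (f.stalkMap x).hom := by
  algebraize [(f.stalkMap x).hom]
  have : Module.FaithfullyFlat (Y.presheaf.stalk (f x)) (X.presheaf.stalk x) :=
    @Module.FaithfullyFlat.of_flat_of_isLocalHom _ _ _ _ _ _ _
      (Flat.stalkMap f x) (f.toLRSHom.prop x)
  exact ‹RingHom.FaithfullyFlat _›.injective

/-- a point of geometric reducedness has a reduced local ring -/
theorem isReduced_stalk_of_isGeomReducedAt {K : Type u} [Field K] {W : Scheme.{u}}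
    (q : W ⟶ Spec (CommRingCat.of K)) (w : W) (h : FBase.IsGeomReducedAt q w) :
    IsReduced (W.presheaf.stalk w) := by
  have hsub : Subsingleton ↥(Spec (CommRingCat.of K)) :=
    (inferInstance : Subsingleton (PrimeSpectrum K))
  obtain ⟨x', hx1, -⟩ := Scheme.Pullback.exists_preimage_pullback (f := q)
    (g := Spec.map (CommRingCat.ofHom (algebraMap K K))) w (IsLocalRing.closedPoint K)
    (Subsingleton.elim _ _)
  have hred := h K x' hx1
  have hfl : Flat (FBase.bcπ q K) :=
    inferInstanceAs (Flat (pullback.fst q (Spec.map (CommRingCat.ofHom (algebraMap K K)))))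
  have := isReduced_of_injective _ (stalkMap_injective_of_flat (FBase.bcπ q K) x')
  have hx1' : (FBase.bcπ q K) x' = w := hx1
  rwa [hx1'] at this

theorem isReduced_of_forall_isGeomReducedAt {K : Type u} [Field K] {W : Scheme.{u}}
    (q : W ⟶ Spec (CommRingCat.of K)) (h : ∀ w : W, FBase.IsGeomReducedAt q w) : IsReduced W := by
  have : ∀ w : W, _root_.IsReduced (W.presheaf.stalk w) :=
    fun w => isReduced_stalk_of_isGeomReducedAt q w (h w)
  exact isReduced_of_isReduced_stalk W

theorem isReduced_bc_of_forall_isGeomReducedAt {K : Type u} [Field K] {W : Scheme.{u}}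
    (q : W ⟶ Spec (CommRingCat.of K)) (h : ∀ w : W, FBase.IsGeomReducedAt q w)
    (K' : Type u) [Field K'] [Algebra K K'] :
    IsReduced (pullback q (Spec.map (CommRingCat.ofHom (algebraMap K K')))) := by
  have : ∀ x' : ↥(pullback q (Spec.map (CommRingCat.ofHom (algebraMap K K')))),
      _root_.IsReduced ((pullback q (Spec.map (CommRingCat.ofHom (algebraMap K K')))).presheaf.stalk
        x') := fun x' => h _ K' x' rfl
  exact isReduced_of_isReduced_stalk _

/-- the kernel of a closed immersion from a reduced scheme, in terms of a jointly dominant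
family -/
theorem ker_eq_vanishingIdeal_of_dense {Y X : Scheme.{u}} [IsReduced Y] (ψ : Y ⟶ X)
    [IsClosedImmersion ψ] {ι : Type*} (Z : ι → Scheme.{u}) (h : ∀ i, Z i ⟶ Y)
    (hd : Dense (⋃ i, Set.range (h i))) :
    ψ.ker = Scheme.IdealSheafData.vanishingIdeal
      (TopologicalSpace.Closeds.closure (⋃ i, Set.range (h i ≫ ψ))) := by
  rw [ker_eq_vanishingIdeal_of_isReduced]
  congr 1
  ext1
  change closure (Set.range ψ) = closure (⋃ i, Set.range (h i ≫ ψ))
  have himg : ψ '' (⋃ i, Set.range (h i)) = ⋃ i, Set.range (h i ≫ ψ) := by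
    rw [Set.image_iUnion]
    congr 1
    ext i : 1
    rw [← Set.range_comp]
    rfl
  apply subset_antisymm
  · rw [← himg, ← Set.image_univ, ← hd.closure_eq]
    exact closure_minimal (image_closure_subset_closure_image ψ.continuous) isClosed_closure
  · apply closure_mono
    rw [← himg]
    exact Set.image_subset_range _ _

end Groth.Agent.Lib.Helper6.GeomRedClos
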