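import Mathlib
import Groth.Prelude.Def_FDesc
import Groth.Agent.Lib.Helper6.GeomRedClos2

/-!
# Reduced closure of the image of a geometrically reduced family commutes with field extension
(helper6): main theorem
-/

set_option autoImplicit false
set_option linter.style.haveILetI false
set_option linter.unusedSectionVars false

open CategoryTheory CategoryTheory.Limits AlgebraicGeometry

universe u

namespace Groth.Agent.Lib.Helper6.GeomRedClos

open Groth.Agent.Lib.Helper6.SepFam Groth.Agent.Lib.Helper16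

set_option maxHeartbeats 1600000 in
open CategoryTheory.Limits in
theorem vanishingIdeal_closure_iUnion_range_baseChange {k : Type u} [Field k] {X : Scheme.{u}}
    (p : X ⟶ Spec (CommRingCat.of k)) {ι : Type u} (Z : ι → Scheme.{u}) (f : ∀ i, Z i ⟶ X)
    (hred : ∀ (i : ι) (z : Z i), FBase.IsGeomReducedAt (f i ≫ p) z)
    (k' : Type u) [Field k'] [Algebra k k'] :
    letI q : Spec (CommRingCat.of k') ⟶ Spec (CommRingCat.of k) := Spec.map (CommRingCat.ofHom (algebraMap k k'))
    letI f' : ∀ i, pullback (f i ≫ p) q ⟶ pullback p q :=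
      fun i => pullback.map (f i ≫ p) q p q (f i) (𝟙 _) (𝟙 _) (Category.comp_id _) ((Category.comp_id _).trans (Category.id_comp _).symm)
    Scheme.IdealSheafData.vanishingIdeal (TopologicalSpace.Closeds.closure (⋃ i, Set.range (f' i))) =
      (Scheme.IdealSheafData.vanishingIdeal (TopologicalSpace.Closeds.closure (⋃ i, Set.range (f i)))).comap
        (pullback.fst p q) := by
  beta_reduce
  obtain ⟨q, hq⟩ : ∃ q : Spec (CommRingCat.of k') ⟶ Spec (CommRingCat.of k),
      q = Spec.map (CommRingCat.ofHom (algebraMap k k')) := ⟨_, rfl⟩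
  rw [← hq]
  have hZ : ∀ i, IsReduced (Z i) := fun i =>
    isReduced_of_forall_isGeomReducedAt (f i ≫ p) (hred i)
  obtain ⟨C, hC⟩ : ∃ C : TopologicalSpace.Closeds X,
      C = TopologicalSpace.Closeds.closure (⋃ i, Set.range (f i)) := ⟨_, rfl⟩
  rw [← hC]
  obtain ⟨𝓘, h𝓘⟩ : ∃ 𝓘, 𝓘 = Scheme.IdealSheafData.vanishingIdeal C := ⟨_, rfl⟩
  rw [← h𝓘]
  have hYred : IsReduced 𝓘.subscheme := by
    rw [h𝓘]
    exact isReduced_subscheme_vanishingIdeal C
  have hle : ∀ i, 𝓘.subschemeι.ker ≤ (f i).ker := by
    intro i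
    rw [Scheme.IdealSheafData.ker_subschemeι, ker_eq_vanishingIdeal_of_isReduced, h𝓘]
    apply Scheme.IdealSheafData.vanishingIdeal_antimono
    rw [hC]
    exact closure_mono (Set.subset_iUnion (fun i => Set.range (f i)) i)
  let g : ∀ i, Z i ⟶ 𝓘.subscheme := fun i => IsClosedImmersion.lift 𝓘.subschemeι (f i) (hle i)
  have hg : ∀ i, g i ≫ 𝓘.subschemeι = f i := fun i => IsClosedImmersion.lift_fac _ _ _
  have hdY : Dense (⋃ i, Set.range (g i)) := by
    have hind : Topology.IsInducing 𝓘.subschemeι :=
      𝓘.subschemeι.isClosedEmbedding.isInducing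
    rw [hind.dense_iff]
    intro y
    have himg : 𝓘.subschemeι '' (⋃ i, Set.range (g i)) = ⋃ i, Set.range (f i) := by
      rw [Set.image_iUnion]
      congr 1
      ext i : 1
      rw [← Set.range_comp, ← hg i]
      rfl
    rw [himg]
    have hy : 𝓘.subschemeι y ∈ (𝓘.support : Set X) := by
      rw [← Scheme.IdealSheafData.range_subschemeι]
      exact ⟨y, rfl⟩
    have hsupp : (𝓘.support : Set X) = closure (⋃ i, Set.range (f i)) := by
      rw [h𝓘, Scheme.IdealSheafData.coe_support_vanishingIdeal, hC]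
      rfl
    rw [hsupp] at hy
    exact hy
  have hdomY := schDominant_of_dense_of_isReduced Z g hdY
  obtain ⟨pY, hpY⟩ : ∃ pY : 𝓘.subscheme ⟶ Spec (CommRingCat.of k), pY = 𝓘.subschemeι ≫ p :=
    ⟨_, rfl⟩
  have hdom'' := schDominant_baseChange_over_field Z g pY q hdomY
  have heq : ∀ i, g i ≫ pY = f i ≫ p := fun i => by rw [hpY, ← Category.assoc, hg i]
  have hZ'' : ∀ i, IsReduced (pullback (g i ≫ pY) q) := fun i => by
    rw [heq i, hq]
    exact isReduced_bc_of_forall_isGeomReducedAt (f i ≫ p) (hred i) k'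
  have hY''red : IsReduced (pullback pY q) := isReduced_of_schDominant _ _ hdom''
  have hd'' := dense_iUnion_range_of_schDominant _ _ hdom''
  subst hpY
  have hpb := isPullback_map_fst p q 𝓘.subschemeι
  have hψci : IsClosedImmersion (pullback.map (𝓘.subschemeι ≫ p) q p q 𝓘.subschemeι (𝟙 _) (𝟙 _)
      (Category.comp_id _) ((Category.comp_id _).trans (Category.id_comp _).symm)) :=
    MorphismProperty.of_isPullback (P := @IsClosedImmersion) hpb inferInstance
  have hcomap : 𝓘.comap (pullback.fst p q) =
      (pullback.map (𝓘.subschemeι ≫ p) q p q 𝓘.subschemeι (𝟙 _) (𝟙 _)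
      (Category.comp_id _) ((Category.comp_id _).trans (Category.id_comp _).symm)).ker := by
    rw [Scheme.IdealSheafData.comap]
    have he := hpb.flip.isoPullback_hom_fst
    rw [← he, Scheme.Hom.ker_comp_of_isIso]
  rw [hcomap, ker_eq_vanishingIdeal_of_dense _ _ _ hd'']
  congr 3
  ext1 i
  have hcomp : pullback.map (g i ≫ 𝓘.subschemeι ≫ p) q (𝓘.subschemeι ≫ p) q (g i) (𝟙 _) (𝟙 _)
      (Category.comp_id _) ((Category.comp_id _).trans (Category.id_comp _).symm) ≫
      pullback.map (𝓘.subschemeι ≫ p) q p q 𝓘.subschemeι (𝟙 _) (𝟙 _)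
      (Category.comp_id _) ((Category.comp_id _).trans (Category.id_comp _).symm) =
      (pullback.congrHom (heq i) rfl).hom ≫ pullback.map (f i ≫ p) q p q (f i) (𝟙 _) (𝟙 _)
      (Category.comp_id _) ((Category.comp_id _).trans (Category.id_comp _).symm) := by
    apply pullback.hom_ext
    · simp only [Category.assoc, pullback.map, pullback.lift_fst, pullback.lift_fst_assoc,
        pullback.congrHom_hom, Category.id_comp, Category.comp_id, hg i]
    · simp only [Category.assoc, pullback.map, pullback.lift_snd, pullback.lift_snd_assoc,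
        pullback.congrHom_hom, Category.id_comp, Category.comp_id]
  rw [hcomp, Scheme.Hom.comp_base, TopCat.coe_comp, Set.range_comp,
    Set.range_eq_univ.mpr (pullback.congrHom (heq i) rfl).hom.surjective, Set.image_univ]

end Groth.Agent.Lib.Helper6.GeomRedClos
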