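import Groth.Agent.Lib.Helper6.GeomReduced
import Groth.Agent.S9636
import Mathlib.LinearAlgebra.TensorProduct.Quotient

/-!
# Descent of geometric reducedness along separable algebraic extensions

`isReduced_tensor_of_isSeparable_tower`: `k'/k` separable algebraic, `K/k'` a field, `A` a
`k'`-algebra with `K ⊗[k] A` reduced. Then `K ⊗[k'] A` is reduced.  (Uses that the multiplication
`k' ⊗[k] k' → k'` is a localization, `Groth.Agent.S9636.exists_mul_eq_zero`.)
-/

set_option autoImplicit false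

open TensorProduct
namespace Groth.Agent.Lib.Helper6

section Descent

variable {k k' K A : Type*} [Field k] [Field k'] [Algebra k k'] [Field K] [Algebra k' K]
  [Algebra k K] [IsScalarTower k k' K] [CommRing A] [Algebra k' A] [Algebra k A]
  [IsScalarTower k k' A]

/-- the ring map `k' ⊗[k] k' → K ⊗[k] A`. -/
noncomputable def phiMap : k' ⊗[k] k' →ₐ[k] K ⊗[k] A :=
  Algebra.TensorProduct.map (IsScalarTower.toAlgHom k k' K) (IsScalarTower.toAlgHom k k' A)

variable (k k' K A) in
/-- the surjection `K ⊗[k] A → K ⊗[k'] A`. -/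
noncomputable def piMap : K ⊗[k] A →ₐ[k'] K ⊗[k'] A :=
  Algebra.TensorProduct.mapOfCompatibleSMul k' k k' K A

theorem piMap_phiMap (c : k' ⊗[k] k') :
    piMap k k' K A (phiMap (K := K) (A := A) c)
      = algebraMap k' (K ⊗[k'] A) (Algebra.TensorProduct.lmul' (S := k') k c) := by
  induction c with
  | zero => simp
  | tmul a b =>
    simp only [phiMap, piMap, Algebra.TensorProduct.map_tmul, IsScalarTower.coe_toAlgHom',
      Algebra.TensorProduct.mapOfCompatibleSMul_tmul, Algebra.TensorProduct.lmul'_apply_tmul,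
      Algebra.TensorProduct.algebraMap_apply]
    rw [Algebra.algebraMap_eq_smul_one b, ← TensorProduct.smul_tmul, Algebra.smul_def, map_mul,
      mul_comm]
  | add a b ha hb => simp only [map_add, ha, hb]

theorem exists_phiMap_mul_eq_zero [Algebra.IsSeparable k k'] (z : K ⊗[k] A)
    (hz : piMap k k' K A z = 0) :
    ∃ c : k' ⊗[k] k', Algebra.TensorProduct.lmul' (S := k') k c = 1 ∧
      phiMap (K := K) (A := A) c * z = 0 := by
  have hz' : z ∈ LinearMap.ker (TensorProduct.mapOfCompatibleSMul k' k k' K A) := hz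
  rw [TensorProduct.AlgebraTensorModule.ker_mapOfCompatibleSMul] at hz'
  clear hz
  induction hz' using Submodule.span_induction with
  | mem z hz =>
    obtain ⟨a, m, n, rfl⟩ := hz
    have hx : Algebra.TensorProduct.lmul' (S := k') k (a ⊗ₜ[k] (1 : k') - 1 ⊗ₜ[k] a) = 0 := by
      simp
    obtain ⟨c, hc1, hc2⟩ := Groth.Agent.S9636.exists_mul_eq_zero _ hx
    refine ⟨c, hc1, ?_⟩
    have : (a • m) ⊗ₜ[k] n - m ⊗ₜ[k] (a • n)
        = (m ⊗ₜ[k] n) * phiMap (K := K) (A := A) (a ⊗ₜ[k] (1 : k') - 1 ⊗ₜ[k] a) := by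
      simp only [phiMap, map_sub, Algebra.TensorProduct.map_tmul, IsScalarTower.coe_toAlgHom',
        map_one, mul_sub, Algebra.TensorProduct.tmul_mul_tmul, mul_one]
      rw [Algebra.smul_def, Algebra.smul_def, mul_comm m, mul_comm n]
    rw [this, mul_comm, mul_assoc, ← map_mul, mul_comm _ c, hc2, map_zero, mul_zero]
  | zero => exact ⟨1, map_one _, by simp⟩
  | add z₁ z₂ _ _ h₁ h₂ =>
    obtain ⟨c₁, hc₁, hz₁⟩ := h₁
    obtain ⟨c₂, hc₂, hz₂⟩ := h₂
    refine ⟨c₁ * c₂, by rw [map_mul, hc₁, hc₂, mul_one], ?_⟩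
    rw [map_mul, mul_add, mul_right_comm, hz₁, zero_mul, mul_assoc, hz₂, mul_zero, add_zero]
  | smul a z _ h =>
    obtain ⟨c, hc, hz⟩ := h
    exact ⟨c, hc, by rw [mul_smul_comm, hz, smul_zero]⟩

/-- Stacks 030U-type descent: if `k'/k` is separable algebraic and `K ⊗[k] A` is reduced then
`K ⊗[k'] A` is reduced. -/
theorem isReduced_tensor_of_isSeparable_tower [Algebra.IsSeparable k k']
    (h : IsReduced (K ⊗[k] A)) : IsReduced (K ⊗[k'] A) := by
  constructor
  intro y hy
  obtain ⟨t, rfl⟩ := Algebra.TensorProduct.mapOfCompatibleSMul_surjective k' k k' K A y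
  obtain ⟨n, hn⟩ := hy
  have hn' : piMap k k' K A (t ^ (n + 1)) = 0 := by
    rw [map_pow, pow_succ]
    change (Algebra.TensorProduct.mapOfCompatibleSMul k' k k' K A t) ^ n * _ = 0
    rw [hn, zero_mul]
  obtain ⟨c, hc1, hc2⟩ := exists_phiMap_mul_eq_zero _ hn'
  have hnil : IsNilpotent (phiMap (K := K) (A := A) c * t) := by
    refine ⟨n + 1, ?_⟩
    rw [mul_pow, pow_succ (phiMap c), mul_assoc, hc2, mul_zero]
  have h0 : phiMap (K := K) (A := A) c * t = 0 := hnil.eq_zero
  have h1 := congrArg (piMap k k' K A) h0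
  rw [map_mul, piMap_phiMap, hc1, map_one, one_mul, map_zero] at h1
  exact h1

end Descent

end Groth.Agent.Lib.Helper6
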