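import Mathlib
import Groth.Agent.Lib.Helper6.CMConstr1
import Groth.Agent.Lib.Helper14.FieldBase

/-!
# Group schemes locally of finite type over a field are Cohen–Macaulay
-/

set_option autoImplicit false
set_option linter.style.haveILetI false
universe u
open CategoryTheory MonoidalCategory CartesianMonoidalCategory MonObj AlgebraicGeometry

namespace Groth.Agent.Lib.Helper6.GrpCM

open Groth.Agent.Lib.Helper14.AS Groth.Agent.Lib.Helper6.CMChart Groth.Agent.Lib.Helper6.CMConstr

/-- over a field, the Cohen–Macaulay locus of a scheme locally of finite type is open and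
contains the maximal points -/
theorem isOpen_cm_field {K : Type u} [Field K] {G : Scheme.{u}}
    (f : G ⟶ Spec (.of K)) [LocallyOfFiniteType f] :
    IsOpen {x : G | LocCoh.IsCohenMacaulayLocalRing (G.presheaf.stalk x)} := by
  haveI : LocallyOfFinitePresentation f :=
    LocallyOfFinitePresentation.iff_locallyOfFiniteType.mpr inferInstance
  have := Groth.Agent.S4961.result f
  convert this using 1
  ext x
  exact (cmAt_iff_of_stalksFields f (stalksFields_spec_field K) x).symm

theorem exists_cm_field {K : Type u} [Field K] {G : Scheme.{u}}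
    (f : G ⟶ Spec (.of K)) [LocallyOfFiniteType f] (x : G) :
    ∃ ζ : G, LocCoh.IsCohenMacaulayLocalRing (G.presheaf.stalk ζ) := by
  obtain ⟨ζ, N, -, -, hζmax, -, -⟩ :=
    Groth.Agent.Lib.Helper21.OpenAt.exists_maximal_generization_fibreDimAt f x
  refine ⟨ζ, (cmAt_iff_of_stalksFields f (stalksFields_spec_field K) ζ).mp ?_⟩
  exact isCMAt_of_maximal f ζ hζmax (flat_stalkMap_of_bot f ζ (stalksFields_spec_field K _))

set_option backward.defeqAttrib.useBackward true in
set_option backward.isDefEq.respectTransparency false in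
/-- homogeneity: over an algebraically closed field -/
theorem cm_of_grpObj_of_isAlgClosed {K : Type u} [Field K] {G : Scheme.{u}}
    (f : G ⟶ Spec (.of K)) [LocallyOfFiniteType f] [GrpObj (Over.mk f)] [IsAlgClosed K] (x₁ : G) :
    LocCoh.IsCohenMacaulayLocalRing (G.presheaf.stalk x₁) := by
  have := LocallyOfFiniteType.jacobsonSpace f
  have hopen := isOpen_cm_field f
  have hne : {x : G | LocCoh.IsCohenMacaulayLocalRing (G.presheaf.stalk x)}.Nonempty :=
    exists_cm_field f x₁
  by_contra hx₁
  have H : ({x : G | LocCoh.IsCohenMacaulayLocalRing (G.presheaf.stalk x)}ᶜ).Nonempty := ⟨x₁, hx₁⟩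
  obtain ⟨x, hx, hxc⟩ := nonempty_inter_closedPoints H hopen.isClosed_compl.isLocallyClosed
  obtain ⟨y, hy, hyc⟩ := nonempty_inter_closedPoints hne hopen.isLocallyClosed
  let x' : 𝟙_ _ ⟶ Over.mk f := Over.homMk _ ((pointEquivClosedPoint f).symm ⟨x, hxc⟩).2
  let y' : 𝟙_ _ ⟶ Over.mk f := Over.homMk _ ((pointEquivClosedPoint f).symm ⟨y, hyc⟩).2
  let α := (GrpObj.mulRight (A := Over.mk f) x').symm ≪≫
    (GrpObj.mulRight (A := Over.mk f) y')
  have hα : x' ≫ α.hom = y' := by
    dsimp only [Iso.trans_hom, Iso.symm_hom, α]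
    rw [← Category.assoc, ← Iso.eq_comp_inv]
    simp [comp_lift_assoc]
  have hα' : α.hom.left x = y := by
    simpa [x', y', pointEquivClosedPoint] using congr(($hα).left (IsLocalRing.closedPoint K))
  apply hx
  have hy' : LocCoh.IsCohenMacaulayLocalRing (G.presheaf.stalk (α.hom.left x)) := by
    rw [hα']
    exact hy
  haveI : IsIso α.hom.left := inferInstance
  let e : G.presheaf.stalk (α.hom.left x) ≃+* G.presheaf.stalk x :=
    (asIso (α.hom.left.stalkMap x)).commRingCatIsoToRingEquiv
  haveI := hy'
  exact Groth.Agent.Lib.Helper18.FibQuot.isCohenMacaulayLocalRing_of_ringEquiv e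

end Groth.Agent.Lib.Helper6.GrpCM
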