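import Mathlib
import Groth.Prelude.Def_CInt
import Groth.Agent.Lib.Helper9.GrpShear
import Groth.Agent.Lib.Helper12.SchDense

/-!
# Homomorphisms of group schemes are determined on a relatively schematically dense open (helper6)
-/

set_option autoImplicit false
set_option linter.style.haveILetI false
set_option linter.unusedSectionVars false

open CategoryTheory MonoidalCategory CartesianMonoidalCategory MonObj GrpObj CategoryTheory.Limits

namespace Groth.Agent.Lib.Helper6.GrpDense

section Abstract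

universe v u

variable {C : Type u} [Category.{v} C] [CartesianMonoidalCategory C] (G : C) [GrpObj G] {T : C}
  (τ : T ⟶ G)

/-- `(x, t) ↦ (τ t * x⁻¹, x)`. -/
def psi : G ⊗ T ⟶ G ⊗ G := lift ((snd G T ≫ τ) * (fst G T)⁻¹) (fst G T)

lemma psi_mul : psi G τ ≫ μ[G] = snd G T ≫ τ := by
  rw [psi, ← Hom.mul_def, inv_mul_cancel_right]

lemma psi_snd : psi G τ ≫ snd G G = fst G T := by
  rw [psi, lift_snd]

/-- `(x, t) ↦ (τ t * x⁻¹, t)`. -/
def theta : G ⊗ T ≅ G ⊗ T where
  hom := lift ((snd G T ≫ τ) * (fst G T)⁻¹) (snd G T)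
  inv := lift ((fst G T)⁻¹ * (snd G T ≫ τ)) (snd G T)
  hom_inv_id := by
    apply CartesianMonoidalCategory.hom_ext
    · rw [Category.assoc, lift_fst, MonObj.comp_mul, GrpObj.comp_inv, lift_fst, ← Category.assoc,
        lift_snd, Category.id_comp]
      group
    · simp
  inv_hom_id := by
    apply CartesianMonoidalCategory.hom_ext
    · rw [Category.assoc, lift_fst, MonObj.comp_mul, GrpObj.comp_inv, lift_fst, ← Category.assoc,
        lift_snd, Category.id_comp]
      group
    · simp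

lemma psi_fst : psi G τ ≫ fst G G = (theta G τ).hom ≫ fst G T := by
  rw [psi, theta, lift_fst, lift_fst]

end Abstract

section Scheme

open AlgebraicGeometry

universe u

variable {S : Scheme.{u}} (G : Over S) [GrpObj G]

lemma flat_mul [Flat G.hom] : Flat μ[G].left :=
  MorphismProperty.of_isPullback (P := @Flat) (Groth.Agent.Lib.Helper9.isPullback_mul_fst G).flip
    inferInstance

lemma lfp_mul [LocallyOfFinitePresentation G.hom] : LocallyOfFinitePresentation μ[G].left :=
  MorphismProperty.of_isPullback (P := @LocallyOfFinitePresentation)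
    (Groth.Agent.Lib.Helper9.isPullback_mul_fst G).flip inferInstance

/-- The open `U × U` of `G × G`. -/
noncomputable def prodOpen (U : G.left.Opens) : (G ⊗ G).left.Opens :=
  (fst G G).left ⁻¹ᵁ U ⊓ (snd G G).left ⁻¹ᵁ U

/-- The open `U × U` as an object over `S`. -/
noncomputable def prodOver (U : G.left.Opens) : Over S :=
  Over.mk ((prodOpen G U).ι ≫ (G ⊗ G).hom)

/-- The inclusion of `U × U` in `G × G`. -/
noncomputable def prodIncl (U : G.left.Opens) : prodOver G U ⟶ G ⊗ G :=
  Over.homMk (prodOpen G U).ι rfl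

lemma prodIncl_fst_eq {H : Over S} (U : G.left.Opens) (f g : G ⟶ H)
    (h : U.ι ≫ f.left = U.ι ≫ g.left) :
    prodIncl G U ≫ fst G G ≫ f = prodIncl G U ≫ fst G G ≫ g := by
  apply Over.OverMorphism.ext
  simp only [Over.comp_left, prodIncl, Over.homMk_left]
  have hle : prodOpen G U ≤ (fst G G).left ⁻¹ᵁ U := inf_le_left
  change (prodOpen G U).ι ≫ (fst G G).left ≫ f.left = (prodOpen G U).ι ≫ (fst G G).left ≫ g.left
  rw [← Category.assoc, ← Category.assoc, ← Scheme.Hom.resLE_comp_ι _ hle, Category.assoc,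
    Category.assoc, h]

lemma prodIncl_snd_eq {H : Over S} (U : G.left.Opens) (f g : G ⟶ H)
    (h : U.ι ≫ f.left = U.ι ≫ g.left) :
    prodIncl G U ≫ snd G G ≫ f = prodIncl G U ≫ snd G G ≫ g := by
  apply Over.OverMorphism.ext
  simp only [Over.comp_left, prodIncl, Over.homMk_left]
  have hle : prodOpen G U ≤ (snd G G).left ⁻¹ᵁ U := inf_le_right
  change (prodOpen G U).ι ≫ (snd G G).left ≫ f.left = (prodOpen G U).ι ≫ (snd G G).left ≫ g.left
  rw [← Category.assoc, ← Category.assoc, ← Scheme.Hom.resLE_comp_ι _ hle, Category.assoc,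
    Category.assoc, h]

lemma prodIncl_mul_eq {H : Over S} [GrpObj H] (U : G.left.Opens) (f g : G ⟶ H) [IsMonHom f]
    [IsMonHom g] (h : U.ι ≫ f.left = U.ι ≫ g.left) :
    (prodOpen G U).ι ≫ μ[G].left ≫ f.left = (prodOpen G U).ι ≫ μ[G].left ≫ g.left := by
  have key : prodIncl G U ≫ μ[G] ≫ f = prodIncl G U ≫ μ[G] ≫ g := by
    rw [MonObj.mul_eq_mul, MonObj.mul_comp, MonObj.mul_comp, MonObj.comp_mul, MonObj.comp_mul,
      prodIncl_fst_eq G U f g h, prodIncl_snd_eq G U f g h]
  have := congrArg (fun φ => φ.left) key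
  simp only [Over.comp_left, prodIncl, Over.homMk_left] at this
  exact this

lemma surjective_mul (U : G.left.Opens)
    (hU : ∀ (S' : Scheme.{u}) (g : S' ⟶ S),
      CInt.IsSchematicallyDense ((pullback.fst G.hom g) ⁻¹ᵁ U)) :
    Surjective ((prodOpen G U).ι ≫ μ[G].left) := by
  refine ⟨fun t => ?_⟩
  let τ₀ := G.left.fromSpecResidueField t
  let T : Over S := Over.mk (τ₀ ≫ G.hom)
  let τ : T ⟶ G := Over.homMk τ₀ rfl
  let UT : (G ⊗ T).left.Opens := (fst G T).left ⁻¹ᵁ U
  have hUT : Dense (UT : Set (G ⊗ T).left) :=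
    Groth.Agent.Lib.Helper12.SchDense.dense (hU _ T.hom)
  let e : (G ⊗ T).left ≅ (G ⊗ T).left := (Over.forget S).mapIso (theta G τ)
  have hθ : Dense ((e.hom ⁻¹ᵁ UT : (G ⊗ T).left.Opens) : Set (G ⊗ T).left) :=
    hUT.preimage e.hom.isOpenEmbedding.isOpenMap
  have hne : Nonempty (G ⊗ T).left := by
    have h0 : Nonempty T.left :=
      (inferInstance : Nonempty (PrimeSpectrum (G.left.residueField t)))
    obtain ⟨s⟩ := h0
    exact ⟨(lift τ (𝟙 T)).left s⟩
  have hd : Dense (((e.hom ⁻¹ᵁ UT : (G ⊗ T).left.Opens) : Set (G ⊗ T).left) ∩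
      (UT : Set (G ⊗ T).left)) :=
    hθ.inter_of_isOpen_left hUT (e.hom ⁻¹ᵁ UT).isOpen
  obtain ⟨z, hz1, hz2⟩ := hd.nonempty
  have hzW : (psi G τ).left z ∈ prodOpen G U := by
    refine ⟨?_, ?_⟩
    · change (fst G G).left ((psi G τ).left z) ∈ U
      rw [← Scheme.Hom.comp_apply, ← Over.comp_left, psi_fst, Over.comp_left,
        Scheme.Hom.comp_apply]
      exact hz1
    · change (snd G G).left ((psi G τ).left z) ∈ U
      rw [← Scheme.Hom.comp_apply, ← Over.comp_left, psi_snd]
      exact hz2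
  refine ⟨⟨(psi G τ).left z, hzW⟩, ?_⟩
  rw [Scheme.Hom.comp_apply]
  change μ[G].left ((psi G τ).left z) = t
  rw [← Scheme.Hom.comp_apply, ← Over.comp_left, psi_mul, Over.comp_left, Scheme.Hom.comp_apply]
  exact Scheme.fromSpecResidueField_apply t _

theorem hom_eq_of_eq_on_relSchDense (S : Scheme.{u}) (G H : Over S) [GrpObj G] [GrpObj H]
    [Flat G.hom] [LocallyOfFinitePresentation G.hom]
    (U : G.left.Opens) (hU : (∀ (S' : Scheme.{u}) (g : S' ⟶ S),
      CInt.IsSchematicallyDense ((pullback.fst G.hom g) ⁻¹ᵁ U)))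
    (f g : G ⟶ H) [IsMonHom f] [IsMonHom g] (h : U.ι ≫ f.left = U.ι ≫ g.left) : f = g := by
  apply Over.OverMorphism.ext
  have h1 := prodIncl_mul_eq G U f g h
  have : Flat μ[G].left := flat_mul G
  have : LocallyOfFinitePresentation μ[G].left := lfp_mul G
  have : Surjective ((prodOpen G U).ι ≫ μ[G].left) := surjective_mul G U hU
  have : EffectiveEpi ((prodOpen G U).ι ≫ μ[G].left) := inferInstance
  rw [← Category.assoc, ← Category.assoc] at h1
  exact (cancel_epi _).mp h1

end Scheme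

end Groth.Agent.Lib.Helper6.GrpDense
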