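import Mathlib
import Groth.Prelude.Def_Flat
import Groth.Agent.Lib.Helper26.DimFun
import Groth.Agent.Lib.Helper14.LscSp

/-!
# The fibre dimension of a flat, locally finitely presented group scheme is locally constant
-/

set_option autoImplicit false
universe u

open CategoryTheory CategoryTheory.Limits MonoidalCategory CartesianMonoidalCategory MonObj GrpObj
  AlgebraicGeometry

namespace Groth.Agent.Lib.Helper6.GrpDimLC

open Groth.Agent.Lib.Helper26.DimFun

variable {S : Scheme.{u}} (G : Over S) [GrpObj G]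

theorem isOpen_lt [Flat G.hom] [LocallyOfFinitePresentation G.hom] (m : ℕ) :
    IsOpen {t : S | (m : WithBot ℕ∞) < topologicalKrullDim ↥(G.hom.base ⁻¹' {t})} := by
  have h := Groth.Agent.Lib.Helper14.AS.isOpen_exists_lt_fibreDimAt G.hom m
  have e : {t : S | (m : WithBot ℕ∞) < topologicalKrullDim ↥(G.hom.base ⁻¹' {t})} =
      {s : S | ∃ x : G.left, G.hom x = s ∧ (m : WithBot ℕ∞) < FlatMor.fibreDimAt G.hom x} := by
    ext t
    constructor
    · intro ht
      refine ⟨unitSec G t, hom_unitSec G t, ?_⟩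
      rw [← dim_eq G t]
      exact ht
    · rintro ⟨x, rfl, hx⟩
      rw [fibreDimAt_eq G x] at hx
      exact hx
  rw [e]
  exact h

theorem main [Flat G.hom] [LocallyOfFinitePresentation G.hom] :
    IsLocallyConstant (fun s : S => topologicalKrullDim ↥(G.hom.base ⁻¹' {s})) := by
  rw [IsLocallyConstant.iff_exists_open]
  intro s
  obtain ⟨n, hn⟩ := exists_nat G s
  have husc := usc G
  have h1 : IsOpen {t : S | topologicalKrullDim ↥(G.hom.base ⁻¹' {t}) <
      ((n + 1 : ℕ) : WithBot ℕ∞)} := by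
    rw [isOpen_iff_mem_nhds]
    intro t ht
    exact husc t _ ht
  have hs1 : s ∈ {t : S | topologicalKrullDim ↥(G.hom.base ⁻¹' {t}) <
      ((n + 1 : ℕ) : WithBot ℕ∞)} := by
    change topologicalKrullDim ↥(G.hom.base ⁻¹' {s}) < _
    rw [hn]
    exact_mod_cast Nat.lt_succ_self n
  rcases Nat.eq_zero_or_pos n with h0 | hpos
  · refine ⟨_, h1, hs1, fun t ht => ?_⟩
    obtain ⟨k, hk⟩ := exists_nat G t
    change topologicalKrullDim ↥(G.hom.base ⁻¹' {t}) < _ at ht
    rw [hn, hk] at *
    have : k < n + 1 := by exact_mod_cast ht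
    have hk0 : k = n := by omega
    rw [hk0]
  · have h2 := isOpen_lt G (n - 1)
    have hs2 : s ∈ {t : S | ((n - 1 : ℕ) : WithBot ℕ∞) <
        topologicalKrullDim ↥(G.hom.base ⁻¹' {t})} := by
      change _ < topologicalKrullDim ↥(G.hom.base ⁻¹' {s})
      rw [hn]
      exact_mod_cast Nat.sub_lt hpos Nat.one_pos
    refine ⟨_, h1.inter h2, ⟨hs1, hs2⟩, fun t ht => ?_⟩
    obtain ⟨k, hk⟩ := exists_nat G t
    obtain ⟨ht1, ht2⟩ := ht
    change topologicalKrullDim ↥(G.hom.base ⁻¹' {t}) < _ at ht1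
    change _ < topologicalKrullDim ↥(G.hom.base ⁻¹' {t}) at ht2
    rw [hk] at ht1 ht2
    rw [hn, hk]
    have a1 : k < n + 1 := by exact_mod_cast ht1
    have a2 : n - 1 < k := by exact_mod_cast ht2
    have hk0 : k = n := by omega
    rw [hk0]

end Groth.Agent.Lib.Helper6.GrpDimLC
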