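import Mathlib
import Groth.Agent.Lib.Helper4.HenselEtale

set_option autoImplicit false
universe u

open CategoryTheory AlgebraicGeometry Limits

namespace Groth.Agent.Lib.Helper6.HenselSplit

set_option backward.isDefEq.respectTransparency.types false in
/-- If `Spec B ⟶ Spec R` has surjective residue field map at `P` and `P` lies over a maximal ideal,
then `R` surjects onto the residue field of `P`. -/
theorem exists_algebraMap_eq_of_residueFieldMap_surjective {R B : CommRingCat.{u}} (ψ : R ⟶ B)
    (P : Spec B) (hmax : ((Spec.map ψ) P).asIdeal.IsMaximal)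
    (hres : Function.Surjective ((Spec.map ψ).residueFieldMap P).hom)
    (z : P.asIdeal.ResidueField) :
    ∃ r : R, algebraMap B P.asIdeal.ResidueField (ψ.hom r) = z := by
  obtain ⟨y, hy⟩ := hres ((Scheme.Spec.residueFieldIso B P).inv.hom z)
  haveI := hmax
  obtain ⟨r, hr⟩ := Ideal.algebraMap_residueField_surjective ((Spec.map ψ) P).asIdeal
    ((Scheme.Spec.residueFieldIso R ((Spec.map ψ) P)).hom.hom y)
  refine ⟨r, ?_⟩
  have h1 : y = ((Spec R).Γevaluation ((Spec.map ψ) P)).hom ((Scheme.ΓSpecIso R).inv.hom r) := by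
    have := congr(($(Scheme.Spec.algebraMap_residueFieldIso_inv R ((Spec.map ψ) P))).hom r)
    change (Scheme.Spec.residueFieldIso R ((Spec.map ψ) P)).inv.hom (algebraMap _ _ r) = _ at this
    refine Eq.trans ?_ this
    rw [hr]
    change y = ((Scheme.Spec.residueFieldIso R ((Spec.map ψ) P)).hom ≫
      (Scheme.Spec.residueFieldIso R ((Spec.map ψ) P)).inv).hom y
    rw [Iso.hom_inv_id]; rfl
  have h2 : ((Spec.map ψ).residueFieldMap P).hom y =
      ((Spec B).Γevaluation P).hom ((Scheme.ΓSpecIso B).inv.hom (ψ.hom r)) := by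
    rw [h1]
    have e1 := Scheme.Γevaluation_naturality_apply (Spec.map ψ) P ((Scheme.ΓSpecIso R).inv.hom r)
    have e2 := congr(($(Scheme.ΓSpecIso_inv_naturality ψ)).hom r)
    refine e1.trans ?_
    congr 1
    exact e2.symm
  have h3 := congr(($(Scheme.Spec.algebraMap_residueFieldIso_inv B P)).hom (ψ.hom r))
  change (Scheme.Spec.residueFieldIso B P).inv.hom (algebraMap _ _ (ψ.hom r)) = _ at h3
  have h4 : (Scheme.Spec.residueFieldIso B P).inv.hom (algebraMap B _ (ψ.hom r)) =
      (Scheme.Spec.residueFieldIso B P).inv.hom z := by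
    rw [h3, ← hy, h2]; rfl
  exact (ConcreteCategory.bijective_of_isIso (Scheme.Spec.residueFieldIso B P).inv).1 h4

set_option backward.isDefEq.respectTransparency.types false in
/-- Sections of étale morphisms over a henselian local ring through a point with trivial residue
field extension over the closed point. -/
theorem exists_section_of_etale (R : Type u) [CommRing R] [HenselianLocalRing R]
    {U : Scheme.{u}} (g : U ⟶ Spec (CommRingCat.of R)) [Etale g] (u : U)
    (hu : g u = IsLocalRing.closedPoint R)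
    (hres : Function.Surjective (g.residueFieldMap u).hom) :
    ∃ σ : Spec (CommRingCat.of R) ⟶ U, σ ≫ g = 𝟙 _ ∧ σ (IsLocalRing.closedPoint R) = u := by
  obtain ⟨_, ⟨U', hU', rfl⟩, huU', -⟩ :=
    U.isBasis_affineOpens.exists_subset_of_mem_open (Set.mem_univ u) isOpen_univ
  haveI := hU'.isOpenImmersion_fromSpec
  let ψ : CommRingCat.of R ⟶ Γ(U, U') := Spec.preimage (hU'.fromSpec ≫ g)
  have hψ : Spec.map ψ = hU'.fromSpec ≫ g := Spec.map_preimage _
  let P : Spec Γ(U, U') := hU'.primeIdealOf ⟨u, huU'⟩
  have hP : hU'.fromSpec P = u := hU'.fromSpec_primeIdealOf ⟨u, huU'⟩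
  have hkP : (Spec.map ψ) P = IsLocalRing.closedPoint R := by
    rw [hψ, Scheme.Hom.comp_apply, hP, hu]
  have hmax : ((Spec.map ψ) P).asIdeal.IsMaximal := by
    rw [hkP]
    exact IsLocalRing.maximalIdeal.isMaximal R
  have hres' : Function.Surjective ((Spec.map ψ).residueFieldMap P).hom := by
    rw [hψ, Scheme.residueFieldMap_comp]
    have h1 : ∀ u', u' = u → Function.Surjective (g.residueFieldMap u').hom := by
      rintro _ rfl; exact hres
    change Function.Surjective ((hU'.fromSpec.residueFieldMap P).hom ∘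
      (g.residueFieldMap (hU'.fromSpec P)).hom)
    exact (ConcreteCategory.bijective_of_isIso (hU'.fromSpec.residueFieldMap P)).surjective.comp
      (h1 _ hP)
  letI : Algebra R Γ(U, U') := ψ.hom.toAlgebra
  haveI : Etale (Spec.map ψ) := by rw [hψ]; infer_instance
  haveI : Algebra.Etale R Γ(U, U') := by
    have h1 : ψ.hom.Etale := (HasRingHomProperty.Spec_iff (P := @Etale)).mp ‹_›
    rw [← RingHom.etale_algebraMap]
    exact h1
  haveI : P.asIdeal.IsPrime := P.isPrime
  have hsurj : Function.Surjective (algebraMap R P.asIdeal.ResidueField) := by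
    intro z
    obtain ⟨r, hr⟩ := exists_algebraMap_eq_of_residueFieldMap_surjective ψ P hmax hres' z
    exact ⟨r, by rw [IsScalarTower.algebraMap_apply R Γ(U, U') P.asIdeal.ResidueField]; exact hr⟩
  obtain ⟨σ, hσ⟩ := Groth.Agent.Lib.Helper4.exists_section_of_etale_of_henselian P.asIdeal hsurj
  refine ⟨Spec.map (CommRingCat.ofHom σ.toRingHom) ≫ hU'.fromSpec, ?_, ?_⟩
  · rw [Category.assoc, ← hψ, ← Spec.map_comp]
    have : ψ ≫ CommRingCat.ofHom σ.toRingHom = 𝟙 _ := by
      ext r
      exact σ.commutes r
    rw [this, Spec.map_id]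
  · rw [Scheme.Hom.comp_apply]
    have : (Spec.map (CommRingCat.ofHom σ.toRingHom)) (IsLocalRing.closedPoint R) = P := by
      apply PrimeSpectrum.ext
      exact hσ.symm
    rw [this, hP]

end Groth.Agent.Lib.Helper6.HenselSplit
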