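import Mathlib
import Groth.Agent.Lib.Helper6.HenselSection
import Groth.Agent.Lib.Helper6.EtLocScheme4

set_option autoImplicit false
universe u

open CategoryTheory AlgebraicGeometry Limits

namespace Groth.Agent.Lib.Helper6.HenselSplit

open Groth.Agent.Lib.Helper6.EtLoc

/-- Over a henselian local ring, a separated morphism locally of finite type whose closed fibre is
finite and consists of quasi-finite points splits off a clopen part finite over the base and
containing the closed fibre (Stacks 04GG/04GJ). -/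
theorem exists_clopen_finite (R : Type u) [CommRing R] [HenselianLocalRing R]
    {X : Scheme.{u}} (f : X ⟶ Spec (CommRingCat.of R)) [LocallyOfFiniteType f] [IsSeparated f]
    (hfib : (f ⁻¹' {IsLocalRing.closedPoint R}).Finite)
    (hqf : ∀ x, f x = IsLocalRing.closedPoint R → f.QuasiFiniteAt x) :
    ∃ W : X.Opens, IsClosed (W : Set X) ∧ IsFinite (W.ι ≫ f) ∧
      ∀ x : X, f x = IsLocalRing.closedPoint R → x ∈ W := by
  classical
  obtain ⟨n, x, hrange⟩ := hfib.fin_embedding
  have hs : ∀ i, f (x i) = IsLocalRing.closedPoint R := fun i => by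
    have : x i ∈ f ⁻¹' {IsLocalRing.closedPoint R} := hrange ▸ Set.mem_range_self i
    exact this
  obtain ⟨U, g, u, -, hg, hu, hbij, V, v, -, hV, hclopen, hfinite⟩ :=
    exists_etale_nbhd_family_separated f (IsLocalRing.closedPoint R) x x.injective hs
      (fun i => hqf _ (hs i))
  obtain ⟨σ, hσ1, hσ2⟩ := exists_section_of_etale R g u hu hbij.2
  let τ : X ⟶ pullback f g := pullback.lift (𝟙 X) (f ≫ σ)
    (by rw [Category.id_comp, Category.assoc, hσ1, Category.comp_id])
  have hτ1 : τ ≫ pullback.fst f g = 𝟙 X := pullback.lift_fst _ _ _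
  have hτ2 : τ ≫ pullback.snd f g = f ≫ σ := pullback.lift_snd _ _ _
  have hpb : IsPullback τ f (pullback.snd f g) σ := by
    refine IsPullback.of_right ?_ hτ2 (IsPullback.of_hasPullback f g)
    rw [hτ1, hσ1]
    exact IsPullback.of_horiz_isIso ⟨by simp⟩
  let Vs : (pullback f g).Opens := ⨆ i, V i
  refine ⟨τ ⁻¹ᵁ Vs, hclopen.1.preimage τ.continuous, ?_, fun x₀ hx₀ => ?_⟩
  · have h1 := (isPullback_morphismRestrict τ Vs).paste_vert hpb
    exact MorphismProperty.of_isPullback h1 hfinite
  · have hx₀' : x₀ ∈ Set.range x := by rw [hrange]; exact hx₀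
    obtain ⟨i, rfl⟩ := hx₀'
    change τ (x i) ∈ Vs
    have h1 : pullback.snd f g (τ (x i)) = u := by
      have := congr($hτ2 (x i))
      refine this.trans ?_
      change σ (f (x i)) = u
      rw [hs i, hσ2]
    have h2 : pullback.fst f g (τ (x i)) = x i := congr($hτ1 (x i))
    have h3 := (hV i).2.2.2.2.2.2.2 (τ (x i)) h1 h2
    rw [h3]
    exact (le_iSup V i) (hV i).2.1

/-- A clopen part finite over a local base and containing the closed fibre is unique. -/
theorem clopen_finite_unique (R : Type u) [CommRing R] [IsLocalRing R]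
    {X : Scheme.{u}} (f : X ⟶ Spec (CommRingCat.of R)) (W W' : X.Opens)
    (hW : IsClosed (W : Set X)) (hWfin : IsFinite (W.ι ≫ f))
    (hW' : ∀ x : X, f x = IsLocalRing.closedPoint R → x ∈ W') : W ≤ W' := by
  intro x hxW
  by_contra hxW'
  -- the closed set `W \\ W'` maps to a closed subset of `Spec R` missing the closed point
  have hcl : IsClosed ((W : Set X) \ W') := hW.sdiff W'.2
  have hcl' : IsClosed (W.ι ⁻¹' ((W : Set X) \ W')) := hcl.preimage W.ι.continuous
  have him : IsClosed ((W.ι ≫ f) '' (W.ι ⁻¹' ((W : Set X) \ W'))) :=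
    (W.ι ≫ f).isClosedMap _ hcl'
  have hne : ((W.ι ≫ f) '' (W.ι ⁻¹' ((W : Set X) \ W'))).Nonempty :=
    ⟨_, ⟨x, hxW⟩, ⟨hxW, hxW'⟩, rfl⟩
  have hmem : IsLocalRing.closedPoint R ∈ (W.ι ≫ f) '' (W.ι ⁻¹' ((W : Set X) \ W')) := by
    obtain ⟨y, hy⟩ := hne
    exact (IsLocalRing.specializes_closedPoint (R := R) y).mem_closed him hy
  obtain ⟨w, ⟨-, hw⟩, hwf⟩ := hmem
  exact hw (hW' _ hwf)

end Groth.Agent.Lib.Helper6.HenselSplit
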