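import Mathlib.RingTheory.Smooth.Basic
import Mathlib.Algebra.Module.LinearMap.Defs

set_option autoImplicit false
set_option linter.unusedSectionVars false
universe u v

namespace Groth.Agent.Lib.Helper6

section

variable {A : Type u} {B : Type v} [CommRing A] [CommRing B] [Algebra A B]
  {L : Type v} [AddCommGroup L] [Module B L] [Module A L] [IsScalarTower A B L]

/-- The Hochschild extension of `B` by `L` attached to a symmetric 2-cocycle. -/
@[nolint unusedArguments]
def HExt (f : B →ₗ[A] B →ₗ[A] L) (_hsymm : ∀ x y : B, f x y = f y x)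
    (_hcoc : ∀ x y z : B, f (x * y) z + z • f x y = x • f y z + f x (y * z)) : Type v := B × L

variable (f : B →ₗ[A] B →ₗ[A] L) (hsymm : ∀ x y : B, f x y = f y x)
    (hcoc : ∀ x y z : B, f (x * y) z + z • f x y = x • f y z + f x (y * z))

namespace HExt

instance : AddCommGroup (HExt f hsymm hcoc) := inferInstanceAs (AddCommGroup (B × L))
instance : Module A (HExt f hsymm hcoc) := inferInstanceAs (Module A (B × L))

instance : Mul (HExt f hsymm hcoc) :=
  ⟨fun x y => ((x.1 * y.1, x.1 • y.2 + y.1 • x.2 + f x.1 y.1) : B × L)⟩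

instance : One (HExt f hsymm hcoc) := ⟨((1, - f 1 1) : B × L)⟩

variable {f hsymm hcoc}

@[ext] theorem ext {x y : HExt f hsymm hcoc} (h1 : x.1 = y.1) (h2 : x.2 = y.2) : x = y :=
  Prod.ext h1 h2

@[simp] theorem mul_fst (x y : HExt f hsymm hcoc) : (x * y).1 = x.1 * y.1 := rfl
@[simp] theorem mul_snd (x y : HExt f hsymm hcoc) :
    (x * y).2 = x.1 • y.2 + y.1 • x.2 + f x.1 y.1 := rfl
@[simp] theorem one_fst : (1 : HExt f hsymm hcoc).1 = 1 := rfl
@[simp] theorem one_snd : (1 : HExt f hsymm hcoc).2 = - f 1 1 := rfl
@[simp] theorem add_fst (x y : HExt f hsymm hcoc) : (x + y).1 = x.1 + y.1 := rfl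
@[simp] theorem add_snd (x y : HExt f hsymm hcoc) : (x + y).2 = x.2 + y.2 := rfl
@[simp] theorem zero_fst : (0 : HExt f hsymm hcoc).1 = 0 := rfl
@[simp] theorem zero_snd : (0 : HExt f hsymm hcoc).2 = 0 := rfl
@[simp] theorem smul_fst (a : A) (x : HExt f hsymm hcoc) : (a • x).1 = a • x.1 := rfl
@[simp] theorem smul_snd (a : A) (x : HExt f hsymm hcoc) : (a • x).2 = a • x.2 := rfl

include hcoc in
theorem f_one (b : B) : f 1 b = b • f 1 1 := by
  have := hcoc 1 1 b
  simp only [mul_one, one_mul, one_smul] at this
  exact (add_left_cancel this).symm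

noncomputable instance : CommRing (HExt f hsymm hcoc) :=
  { (inferInstance : AddCommGroup (HExt f hsymm hcoc)),
    (inferInstance : Mul (HExt f hsymm hcoc)),
    (inferInstance : One (HExt f hsymm hcoc)) with
    mul_assoc := by
      intro x y z
      ext
      · simp [mul_assoc]
      · simp only [mul_snd, mul_fst, smul_add, mul_smul]
        have := hcoc x.1 y.1 z.1
        rw [smul_comm z.1 x.1 y.2, smul_comm z.1 y.1 x.2]
        have h2 : z.1 • (f x.1) y.1 + (f (x.1 * y.1)) z.1 =
            x.1 • (f y.1) z.1 + (f x.1) (y.1 * z.1) := by rw [add_comm]; exact this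
        calc x.1 • y.1 • z.2 + (x.1 • z.1 • y.2 + y.1 • z.1 • x.2 + z.1 • (f x.1) y.1)
              + (f (x.1 * y.1)) z.1
            = (x.1 • y.1 • z.2 + x.1 • z.1 • y.2 + y.1 • z.1 • x.2)
              + (z.1 • (f x.1) y.1 + (f (x.1 * y.1)) z.1) := by abel
          _ = (x.1 • y.1 • z.2 + x.1 • z.1 • y.2 + y.1 • z.1 • x.2)
              + (x.1 • (f y.1) z.1 + (f x.1) (y.1 * z.1)) := by rw [h2]
          _ = _ := by abel
    one_mul := by
      intro x
      ext
      · simp
      · simp only [mul_snd, one_fst, one_snd, one_smul, smul_neg]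
        rw [f_one (hcoc := hcoc) x.1]
        abel
    mul_one := by
      intro x
      ext
      · simp
      · simp only [mul_snd, one_fst, one_snd, one_smul, smul_neg]
        rw [hsymm x.1 1, f_one (hcoc := hcoc) x.1]
        abel
    left_distrib := by
      intro x y z
      ext
      · simp [mul_add]
      · simp only [mul_snd, add_snd, add_fst, smul_add, add_smul, map_add]
        abel
    right_distrib := by
      intro x y z
      ext
      · simp [add_mul]
      · simp only [mul_snd, add_snd, add_fst, smul_add, add_smul, map_add, LinearMap.add_apply]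
        abel
    mul_comm := by
      intro x y
      ext
      · simp [mul_comm]
      · simp only [mul_snd, hsymm x.1 y.1]
        abel
    zero_mul := by
      intro x
      ext <;> simp
    mul_zero := by
      intro x
      ext <;> simp }

noncomputable instance : Algebra A (HExt f hsymm hcoc) :=
  Algebra.ofModule
    (by
      intro r x y
      ext
      · simp
      · simp only [mul_snd, smul_snd, smul_fst, smul_add, map_smul, LinearMap.smul_apply,
          smul_assoc]
        rw [smul_comm y.1 r x.2])
    (by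
      intro r x y
      ext
      · simp
      · simp only [mul_snd, smul_snd, smul_fst, smul_add, map_smul,
          smul_assoc]
        rw [smul_comm x.1 r y.2])

theorem algebraMap_fst (a : A) : (algebraMap A (HExt f hsymm hcoc) a).1 = algebraMap A B a := by
  rw [Algebra.algebraMap_eq_smul_one, Algebra.algebraMap_eq_smul_one]
  rfl

/-- The projection of the Hochschild extension to `B`. -/
noncomputable def proj : HExt f hsymm hcoc →ₐ[A] B where
  toFun x := x.1
  map_one' := rfl
  map_mul' _ _ := rfl
  map_zero' := rfl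
  map_add' _ _ := rfl
  commutes' a := algebraMap_fst a

@[simp] theorem proj_apply (x : HExt f hsymm hcoc) : proj x = x.1 := rfl

theorem proj_surjective : Function.Surjective (proj (f := f) (hsymm := hsymm) (hcoc := hcoc)) :=
  fun b => ⟨((b, 0) : B × L), rfl⟩

theorem ker_proj_sq :
    RingHom.ker (proj (f := f) (hsymm := hsymm) (hcoc := hcoc)).toRingHom ^ 2 = ⊥ := by
  rw [eq_bot_iff, pow_two, Ideal.mul_le]
  intro x hx y hy
  have hx' : x.1 = 0 := hx
  have hy' : y.1 = 0 := hy
  rw [Ideal.mem_bot]
  ext
  · simp [hx', hy']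
  · simp [hx', hy']

/-- The second projection as an `A`-linear map. -/
noncomputable def sndₗ : HExt f hsymm hcoc →ₗ[A] L where
  toFun x := x.2
  map_add' _ _ := rfl
  map_smul' _ _ := rfl

end HExt

include hsymm hcoc in
theorem exists_coboundary [Algebra.FormallySmooth A B] :
    ∃ g : B →ₗ[A] L, ∀ x y : B, f x y = x • g y - g (x * y) + y • g x := by
  let π := HExt.proj (f := f) (hsymm := hsymm) (hcoc := hcoc)
  let σ : B →ₐ[A] HExt f hsymm hcoc :=
    Algebra.FormallySmooth.liftOfSurjective (AlgHom.id A B) π HExt.proj_surjective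
      ⟨2, HExt.ker_proj_sq⟩
  have hσ : ∀ x, (σ x).1 = x := fun x =>
    AlgHom.congr_fun (Algebra.FormallySmooth.comp_liftOfSurjective (AlgHom.id A B) π
      HExt.proj_surjective ⟨2, HExt.ker_proj_sq⟩) x
  refine ⟨- (HExt.sndₗ ∘ₗ σ.toLinearMap), fun x y => ?_⟩
  have h := congrArg (fun e : HExt f hsymm hcoc => e.2) (map_mul σ x y)
  simp only [HExt.mul_snd, hσ] at h
  simp only [LinearMap.neg_apply, LinearMap.comp_apply, AlgHom.toLinearMap_apply, smul_neg]
  change f x y = - (x • (σ y).2) - - (σ (x * y)).2 + - (y • (σ x).2)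
  rw [h]
  abel

end

end Groth.Agent.Lib.Helper6
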