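import Mathlib.RingTheory.Smooth.Basic
import Mathlib.Algebra.Module.Projective

set_option autoImplicit false
set_option linter.unusedSectionVars false
universe u

namespace Groth.Agent.Lib.Helper6

section Converse

variable {A : Type u} {B : Type u} [CommRing A] [CommRing B] [Algebra A B]
variable {C : Type u} [CommRing C] [Algebra A C]

theorem mul_eq_zero_of_sq_bot {I : Ideal C} (hI : I ^ 2 = ⊥) {i j : C} (hi : i ∈ I) (hj : j ∈ I) :
    i * j = 0 := by
  have : i * j ∈ I ^ 2 := by rw [pow_two]; exact Ideal.mul_mem_mul hi hj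
  rw [hI] at this
  exact this

/-- The square-zero ideal `I`, seen as a `B`-module through a linear almost-multiplicative
section. -/
@[nolint unusedArguments]
def LMod (I : Ideal C) (_hI : I ^ 2 = ⊥) (s : B →ₗ[A] C) (_hs1 : s 1 - 1 ∈ I)
    (_hsm : ∀ x y, s x * s y - s (x * y) ∈ I) : Type u := ↥I

variable (I : Ideal C) (hI : I ^ 2 = ⊥) (s : B →ₗ[A] C) (hs1 : s 1 - 1 ∈ I)
    (hsm : ∀ x y, s x * s y - s (x * y) ∈ I)

namespace LMod

instance : AddCommGroup (LMod I hI s hs1 hsm) := inferInstanceAs (AddCommGroup ↥I)
instance : Module A (LMod I hI s hs1 hsm) := inferInstanceAs (Module A ↥I)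

variable {I hI s hs1 hsm}

/-- The underlying element. -/
def val (i : LMod I hI s hs1 hsm) : C := Subtype.val i

theorem val_mem (i : LMod I hI s hs1 hsm) : i.val ∈ I := Subtype.property i

@[ext] theorem ext {i j : LMod I hI s hs1 hsm} (h : i.val = j.val) : i = j := Subtype.ext h

@[simp] theorem val_add (i j : LMod I hI s hs1 hsm) : (i + j).val = i.val + j.val := rfl
@[simp] theorem val_zero : (0 : LMod I hI s hs1 hsm).val = 0 := rfl
@[simp] theorem val_neg (i : LMod I hI s hs1 hsm) : (-i).val = -i.val := rfl
@[simp] theorem val_sub (i j : LMod I hI s hs1 hsm) : (i - j).val = i.val - j.val := rfl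
@[simp] theorem val_smulA (a : A) (i : LMod I hI s hs1 hsm) : (a • i).val = a • i.val := rfl

instance : SMul B (LMod I hI s hs1 hsm) := ⟨fun b i => ⟨s b * i.val, I.mul_mem_left _ i.val_mem⟩⟩

@[simp] theorem val_smul (b : B) (i : LMod I hI s hs1 hsm) : (b • i).val = s b * i.val := rfl

instance : Module B (LMod I hI s hs1 hsm) where
  one_smul i := by
    ext
    have := mul_eq_zero_of_sq_bot hI hs1 i.val_mem
    rw [val_smul]
    linear_combination this
  mul_smul x y i := by
    ext
    have := mul_eq_zero_of_sq_bot hI (hsm x y) i.val_mem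
    simp only [val_smul]
    linear_combination -this
  smul_zero b := by ext; simp
  smul_add b i j := by ext; simp [mul_add]
  add_smul x y i := by ext; simp [add_mul]
  zero_smul i := by ext; simp

instance : IsScalarTower A B (LMod I hI s hs1 hsm) where
  smul_assoc a b i := by
    ext
    simp only [val_smul, val_smulA, map_smul, smul_mul_assoc]

/-- The Hochschild cocycle of a linear section. -/
noncomputable def cocycle : B →ₗ[A] B →ₗ[A] LMod I hI s hs1 hsm :=
  LinearMap.mk₂ A (fun x y => (⟨s x * s y - s (x * y), hsm x y⟩ : ↥I))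
    (by intro x x' y; ext; simp only [val_add]; change s (x + x') * s y - s ((x + x') * y) =
          (s x * s y - s (x * y)) + (s x' * s y - s (x' * y))
        rw [map_add, add_mul, add_mul, map_add]; ring)
    (by intro a x y; ext; change s (a • x) * s y - s ((a • x) * y) = a • (s x * s y - s (x * y))
        rw [map_smul, smul_mul_assoc, smul_mul_assoc, map_smul, smul_sub])
    (by intro x y y'; ext; simp only [val_add]; change s x * s (y + y') - s (x * (y + y')) =
          (s x * s y - s (x * y)) + (s x * s y' - s (x * y'))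
        rw [map_add, mul_add, mul_add, map_add]; ring)
    (by intro a x y; ext; change s x * s (a • y) - s (x * (a • y)) = a • (s x * s y - s (x * y))
        rw [map_smul, mul_smul_comm, mul_smul_comm, map_smul, smul_sub])

@[simp] theorem cocycle_val (x y : B) :
    (cocycle (I := I) (hI := hI) (s := s) (hs1 := hs1) (hsm := hsm) x y).val =
      s x * s y - s (x * y) := rfl

end LMod

/-- A linear almost-multiplicative section of a square-zero extension whose Hochschild
cocycle is a coboundary can be corrected to a multiplicative one. -/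
theorem exists_algHom_of_coboundary
    (g : B →ₗ[A] LMod I hI s hs1 hsm)
    (hg : ∀ x y : B, LMod.cocycle (I := I) (hI := hI) (s := s) (hs1 := hs1) (hsm := hsm) x y =
      x • g y - g (x * y) + y • g x) :
    ∃ t : B →ₐ[A] C, ∀ x, t x - s x ∈ I := by
  have hmul : ∀ x y, (s (x * y) - (g (x * y)).val) = (s x - (g x).val) * (s y - (g y).val) := by
    intro x y
    have h1 := congrArg LMod.val (hg x y)
    simp only [LMod.cocycle_val, LMod.val_add, LMod.val_sub, LMod.val_smul] at h1
    have h2 := mul_eq_zero_of_sq_bot hI (g x).val_mem (g y).val_mem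
    linear_combination -h1 - h2
  have hone : s 1 - (g 1).val = 1 := by
    have h1 := hmul 1 1
    rw [mul_one] at h1
    have hmem : s 1 - (g 1).val - 1 ∈ I := by
      have : s 1 - (g 1).val - 1 = (s 1 - 1) - (g 1).val := by ring
      rw [this]
      exact I.sub_mem hs1 (g 1).val_mem
    have h2 := mul_eq_zero_of_sq_bot hI hmem hmem
    linear_combination -h2 - h1
  let t₀ : B →ₗ[A] C :=
    s - (I.subtype.restrictScalars A) ∘ₗ (show B →ₗ[A] ↥I from g)
  have ht₀ : ∀ x, t₀ x = s x - (g x).val := fun x => rfl
  refine ⟨AlgHom.ofLinearMap t₀ (by rw [ht₀]; exact hone)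
    (by intro x y; rw [ht₀, ht₀, ht₀]; exact hmul x y), fun x => ?_⟩
  change t₀ x - s x ∈ I
  rw [ht₀]
  have : s x - (g x).val - s x = - (g x).val := by ring
  rw [this]
  exact I.neg_mem (g x).val_mem

end Converse

theorem formallySmooth_of_coboundary {A B : Type u} [CommRing A] [CommRing B] [Algebra A B]
    [Module.Projective A B]
    (h : ∀ (L : Type u) [AddCommGroup L] [Module B L] [Module A L] [IsScalarTower A B L]
      (f : B →ₗ[A] B →ₗ[A] L), (∀ x y : B, f x y = f y x) →
        (∀ x y z : B, f (x * y) z + z • f x y = x • f y z + f x (y * z)) →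
          ∃ g : B →ₗ[A] L, ∀ x y : B, f x y = x • g y - g (x * y) + y • g x) :
    Algebra.FormallySmooth A B := by
  apply Algebra.FormallySmooth.of_comp_surjective
  intro C _ _ I hI φ
  obtain ⟨s, hs⟩ := Module.projective_lifting_property
    ((Ideal.Quotient.mkₐ A I).toLinearMap) φ.toLinearMap (Ideal.Quotient.mkₐ_surjective A I)
  have hs' : ∀ x, Ideal.Quotient.mk I (s x) = φ x := fun x => LinearMap.congr_fun hs x
  have hs1 : s 1 - 1 ∈ I := by
    rw [← Ideal.Quotient.eq, hs', map_one, map_one]
  have hsm : ∀ x y, s x * s y - s (x * y) ∈ I := by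
    intro x y
    rw [← Ideal.Quotient.eq, map_mul, hs', hs', hs', map_mul]
  obtain ⟨g, hg⟩ := h (LMod I hI s hs1 hsm) LMod.cocycle
    (by intro x y; ext; simp only [LMod.cocycle_val]; rw [mul_comm (s x), mul_comm x])
    (by intro x y z; ext
        simp only [LMod.val_add, LMod.val_smul, LMod.cocycle_val, mul_assoc x y z]
        ring)
  obtain ⟨t, ht⟩ := exists_algHom_of_coboundary I hI s hs1 hsm g hg
  refine ⟨t, ?_⟩
  ext x
  change Ideal.Quotient.mk I (t x) = φ x
  rw [← hs', Ideal.Quotient.eq]
  exact ht x

end Groth.Agent.Lib.Helper6
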