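import Mathlib
import Groth.Prelude.Def_CohB1
import Groth.Agent.Lib.Helper25.ChartPoly1

/-!
# Projective space is smooth over its base
-/
set_option autoImplicit false
universe u
open CategoryTheory CategoryTheory.Limits AlgebraicGeometry HomogeneousLocalization MvPolynomial

namespace Groth.Agent.Lib.Helper6.PnSmooth

open Groth.Agent.Lib.Helper29.QCoh Groth.Agent.Lib.Helper25.ChartPoly

variable (n : ℕ) (R : Type u) [CommRing R]

theorem iSup_basicOpen_X_eq_top :
    ⨆ i : Fin (n + 1), Proj.basicOpen (CohB1.polyGrading n R) (MvPolynomial.X i) = ⊤ := by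
  apply Proj.iSup_basicOpen_eq_top' (CohB1.polyGrading n R) (fun i => MvPolynomial.X i)
  · intro i
    exact ⟨1, MvPolynomial.isHomogeneous_X R i⟩
  · rw [eq_top_iff]
    intro p hp0
    clear hp0
    induction p using MvPolynomial.induction_on with
    | C a =>
      have : (MvPolynomial.C a : MvPolynomial (Fin (n + 1)) R) =
          algebraMap (CohB1.polyGrading n R 0) _
            ⟨MvPolynomial.C a, MvPolynomial.isHomogeneous_C _ a⟩ := rfl
      rw [this]
      exact Subalgebra.algebraMap_mem _ _
    | add p q hp hq => exact Subalgebra.add_mem _ hp hq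
    | mul_X p i hp =>
      exact Subalgebra.mul_mem _ hp (Algebra.subset_adjoin ⟨i, rfl⟩)

theorem bij_zero : Function.Bijective (algebraMap R (CohB1.polyGrading n R 0)) := by
  constructor
  · intro a b h
    have h' := congrArg Subtype.val h
    exact MvPolynomial.C_injective _ _ h'
  · rintro ⟨p, hp⟩
    have hp' : p ∈ MvPolynomial.homogeneousSubmodule (Fin (n + 1)) R 0 := hp
    rw [MvPolynomial.homogeneousSubmodule_zero, Submodule.mem_one] at hp'
    obtain ⟨r, rfl⟩ := hp'
    exact ⟨r, Subtype.ext rfl⟩

/-- The chart ring map `A₀ → A_(X_i)` is smooth. -/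
theorem smooth_fromZero (i : Fin (n + 1)) :
    (fromZeroRingHom (CohB1.polyGrading n R)
      (Submonoid.powers (MvPolynomial.X i : MvPolynomial (Fin (n + 1)) R))).Smooth := by
  let e := RingEquiv.ofBijective _ (bij_zero n R)
  have h1 : ((fromZeroRingHom (CohB1.polyGrading n R)
      (Submonoid.powers (MvPolynomial.X i : MvPolynomial (Fin (n + 1)) R))).comp
      (algebraMap R (CohB1.polyGrading n R 0))).Smooth := by
    have : (fromZeroRingHom (CohB1.polyGrading n R)
      (Submonoid.powers (MvPolynomial.X i : MvPolynomial (Fin (n + 1)) R))).comp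
      (algebraMap R (CohB1.polyGrading n R 0)) = (theta n R i).comp MvPolynomial.C := by
      ext r
      rw [RingHom.comp_apply, RingHom.comp_apply, theta_C]
      rfl
    rw [this]
    refine RingHom.Smooth.comp ?_ (RingHom.Smooth.of_bijective (theta_bijective n R i))
    have : Algebra.Smooth R (MvPolynomial {j : Fin (n + 1) // j ≠ i} R) := {}
    exact RingHom.smooth_algebraMap.mpr this
  have h2 : fromZeroRingHom (CohB1.polyGrading n R)
      (Submonoid.powers (MvPolynomial.X i : MvPolynomial (Fin (n + 1)) R)) =
      ((fromZeroRingHom (CohB1.polyGrading n R)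
      (Submonoid.powers (MvPolynomial.X i : MvPolynomial (Fin (n + 1)) R))).comp
      (algebraMap R (CohB1.polyGrading n R 0))).comp (e.symm : _ →+* R) := by
    ext x
    simp only [RingHom.comp_apply]
    have hx : algebraMap R (CohB1.polyGrading n R 0) ((e.symm : _ →+* R) x) = x :=
      e.apply_symm_apply x
    rw [hx]
  rw [h2]
  exact RingHom.Smooth.comp (RingHom.Smooth.of_bijective e.symm.bijective) h1


set_option backward.isDefEq.respectTransparency.types false in
theorem smooth_toSpecZero : Smooth (Proj.toSpecZero (CohB1.polyGrading n R)) := by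
  rw [IsZariskiLocalAtSource.iff_of_iSup_eq_top (P := @Smooth) _ (iSup_basicOpen_X_eq_top n R)]
  intro i
  rw [← MorphismProperty.cancel_left_of_respectsIso (P := @Smooth)
    (Proj.basicOpenIsoSpec (CohB1.polyGrading n R) (MvPolynomial.X i)
      (MvPolynomial.isHomogeneous_X R i) one_pos).inv, ← Category.assoc,
    ← Proj.awayι, Proj.awayι_toSpecZero, HasRingHomProperty.Spec_iff (P := @Smooth)]
  exact smooth_fromZero n R i

theorem smooth_toSpec : Smooth (CohB1.ProjSpace.toSpec n R) := by
  unfold CohB1.ProjSpace.toSpec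
  have h1 : Smooth (Spec.map (CommRingCat.ofHom (algebraMap R (CohB1.polyGrading n R 0)))) := by
    rw [HasRingHomProperty.Spec_iff (P := @Smooth)]
    exact RingHom.Smooth.of_bijective (bij_zero n R)
  have h2 := smooth_toSpecZero n R
  exact MorphismProperty.comp_mem _ _ _ h2 h1

theorem smooth_toBase (S : Scheme.{u}) : Smooth (CohB1.ProjSpaceOver.toBase n S) := by
  unfold CohB1.ProjSpaceOver.toBase
  exact MorphismProperty.pullback_snd _ _ (smooth_toSpec n (ULift.{u} ℤ))

end Groth.Agent.Lib.Helper6.PnSmooth
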