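import Mathlib
import Groth.Prelude.Def_CohB1
import Groth.Agent.Lib.Helper6.PnSmooth
import Groth.Agent.Lib.Helper1.ChowMain2
import Groth.Agent.Lib.Helper29.VA7

/-!
# Local factorization `U → W → P → Y` with `P = P^n_Y` smooth and proper
-/
set_option autoImplicit false
universe u
open CategoryTheory CategoryTheory.Limits AlgebraicGeometry

namespace Groth.Agent.Lib.Helper6.LocFactor

theorem main {X Y : Scheme.{u}}
    [IsNoetherian X] [IsNoetherian Y] (f : X ⟶ Y) [LocallyOfFiniteType f]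
    (U : X.Opens) (hU : IsAffineOpen U) (V : Y.Opens) (hV : IsAffineOpen V) (hUV : U ≤ f ⁻¹ᵁ V) :
    ∃ (W P : Scheme.{u}) (g : (U : Scheme.{u}) ⟶ W) (h : W ⟶ P) (k : P ⟶ Y),
      IsOpenImmersion g ∧ IsClosedImmersion h ∧ Smooth k ∧ IsProper k ∧ g ≫ h ≫ k = U.ι ≫ f := by
  haveI : IsAffine (U : Scheme.{u}) := hU
  obtain ⟨n, i, hi, hif⟩ := Groth.Agent.Lib.Helper1.Chow.exists_immersion_of_isAffine (U.ι ≫ f)
  haveI : QuasiSeparatedSpace (CohB1.ProjSpaceOver n Y) :=
    quasiSeparatedSpace_of_quasiSeparated (CohB1.ProjSpaceOver.toBase n Y)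
  haveI : QuasiCompact i := inferInstance
  refine ⟨i.image, CohB1.ProjSpaceOver n Y, i.toImage, i.imageι, CohB1.ProjSpaceOver.toBase n Y,
    inferInstance, inferInstance, Groth.Agent.Lib.Helper6.PnSmooth.smooth_toBase n Y,
    Groth.Agent.Lib.Helper29.QCoh.isProper_toBase n Y, ?_⟩
  rw [← Category.assoc, i.toImage_imageι, hif]

end Groth.Agent.Lib.Helper6.LocFactor
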