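import Mathlib
import Groth.Prelude.Def_CAlg
import Groth.Agent.Lib.Helper18.Miracle

set_option autoImplicit false
set_option linter.style.haveILetI false
universe u
open TensorProduct IsLocalRing

namespace Groth.Agent.Lib.Helper6.MiracleEtale

attribute [local instance] Algebra.FormallyEtale.of_formallyUnramified_of_field in
theorem isEtaleAt_of_isUnramifiedAt_of_dim_eq (A B : Type u) [CommRing A] [CommRing B]
    [Algebra A B] [IsNoetherianRing A] [IsNoetherianRing B] [Algebra.FiniteType A B]
    (q : Ideal B) [q.IsPrime]
    (hdim : ringKrullDim (Localization.AtPrime (q.under A)) = ringKrullDim (Localization.AtPrime q))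
    [IsRegularLocalRing (Localization.AtPrime (q.under A))]
    [LocCoh.IsCohenMacaulayLocalRing (Localization.AtPrime q)]
    [Algebra.IsUnramifiedAt A q] : Algebra.IsEtaleAt A q := by
  classical
  let p := q.under A
  haveI : q.LiesOver p := ⟨rfl⟩
  let Rp := Localization.AtPrime p
  let Sp := Localization (Algebra.algebraMapSubmonoid B p.primeCompl)
  let Sq := Localization.AtPrime q
  let _ := Localization.AtPrime.algebraOfLiesOver p q
  haveI : Algebra.FormallyUnramified Rp Sq := inferInstance
  haveI : IsLocalHom (algebraMap Rp Sq) := inferInstance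
  haveI : Algebra.EssFiniteType Rp Sq := by
    haveI : Algebra.EssFiniteType A Sq := Algebra.EssFiniteType.comp A B Sq
    exact Algebra.EssFiniteType.of_comp A Rp Sq
  have hmax : (maximalIdeal Rp).map (algebraMap Rp Sq) = maximalIdeal Sq :=
    Algebra.FormallyUnramified.map_maximalIdeal
  haveI hflat : Module.Flat Rp Sq := by
    apply Groth.Agent.Lib.Helper18.CM.miracle_flatness
    rw [hmax]
    have : ringKrullDim (Sq ⧸ maximalIdeal Sq) = 0 := by
      haveI : IsField (Sq ⧸ maximalIdeal Sq) :=
        (Ideal.Quotient.maximal_ideal_iff_isField_quotient _).mp inferInstance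
      exact ringKrullDim_eq_zero_of_isField this
    rw [this, add_zero]
    exact hdim.symm
  -- the tower Rp → Sp → Sq
  let f : Sp →ₐ[B] Sq := IsLocalization.liftAlgHom (M := Algebra.algebraMapSubmonoid B p.primeCompl)
        (f := Algebra.ofId _ _) (by
      rintro ⟨_, x, hx, rfl⟩
      simpa using! IsLocalization.map_units (M := q.primeCompl) Sq ⟨algebraMap _ _ x,
        by simp_all [q.over_def p]⟩)
  algebraize [f.toRingHom]
  have : IsScalarTower A Sp Sq := .to₁₃₄ _ B _ _
  have : IsScalarTower Rp Sp Sq := .of_algebraMap_eq' <| by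
    apply IsLocalization.ringHom_ext p.primeCompl
    simp only [RingHom.comp_assoc, ← IsScalarTower.algebraMap_eq]
  have : IsLocalization (Algebra.algebraMapSubmonoid Sp q.primeCompl) Sq :=
    .isLocalization_of_submonoid_le _ _ (Algebra.algebraMapSubmonoid B p.primeCompl) _
    (by rintro _ ⟨x, hx, rfl⟩; simp_all [q.over_def p])
  haveI : Algebra.FinitePresentation A B := Algebra.FinitePresentation.of_finiteType.mp inferInstance
  have : Algebra.FinitePresentation Rp Sp := by
    have : Algebra.IsPushout A Rp B Sp :=
      .symm <| Algebra.isPushout_of_isLocalization p.primeCompl _ _ _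
    exact .equiv (Algebra.IsPushout.equiv A Rp B Sp)
  -- the fibre is formally smooth
  have : Algebra.FormallySmooth (ResidueField Rp) (ResidueField Rp ⊗[Rp] Sq) := by
    haveI : Algebra.FormallyUnramified (ResidueField Rp) (ResidueField Rp ⊗[Rp] Sq) := inferInstance
    haveI : Algebra.EssFiniteType (ResidueField Rp) (ResidueField Rp ⊗[Rp] Sq) := inferInstance
    haveI : Algebra.FormallyEtale (ResidueField Rp) (ResidueField Rp ⊗[Rp] Sq) := inferInstance
    infer_instance
  have hsm : Algebra.FormallySmooth Rp Sq := Algebra.FormallySmooth.of_formallySmooth_residueField_tensor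
    (R := Rp) (S := Sq) (P := Sp) (Algebra.algebraMapSubmonoid _ q.primeCompl)
  haveI : Algebra.FormallyEtale Rp Sq := Algebra.FormallyEtale.of_formallyUnramified_and_formallySmooth
  haveI : Algebra.FormallyEtale A Rp := Algebra.FormallyEtale.of_isLocalization p.primeCompl
  exact Algebra.FormallyEtale.comp A Rp Sq

end Groth.Agent.Lib.Helper6.MiracleEtale
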