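import Mathlib

/-!
# Finite ring maps send nowhere dense sets to nowhere dense sets (algebraic core)
-/

set_option autoImplicit false
universe u v

namespace Groth.Agent.Lib.Helper6.ND

open PrimeSpectrum

theorem exists_notMem_mul_nilpotent {S : Type*} [CommRing S] {q : Ideal S}
    (hq : q ∈ minimalPrimes S) {h : S} (hh : h ∈ q) : ∃ b, b ∉ q ∧ IsNilpotent (b * h) := by
  have hqp : q.IsPrime := hq.1.1
  have hrad := IsLocalization.AtPrime.radical_map_of_mem_minimalPrimes
    (A := Localization.AtPrime q) q ⊥ hq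
  have hmem : algebraMap S (Localization.AtPrime q) h ∈
      (Ideal.map (algebraMap S (Localization.AtPrime q)) ⊥).radical := by
    rw [hrad]; exact Ideal.mem_map_of_mem _ hh
  rw [Ideal.map_bot] at hmem
  obtain ⟨n, hn⟩ := hmem
  rw [Ideal.mem_bot, ← map_pow, IsLocalization.map_eq_zero_iff q.primeCompl] at hn
  obtain ⟨t, ht⟩ := hn
  refine ⟨t.1, t.2, n + 1, ?_⟩
  calc (t.1 * h) ^ (n + 1) = t.1 ^ n * h * (t.1 * h ^ n) := by ring
    _ = 0 := by rw [ht, mul_zero]

theorem mem_minimalPrimes_of_comap {R S : Type*} [CommRing R] [CommRing S] [Algebra R S]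
    [Algebra.IsIntegral R S] {q : Ideal S} [hq : q.IsPrime]
    (h : q.comap (algebraMap R S) ∈ minimalPrimes R) : q ∈ minimalPrimes S := by
  refine ⟨⟨hq, bot_le⟩, fun q' ⟨hq', _⟩ hle => ?_⟩
  by_contra hne
  have hlt : q' < q := lt_of_le_not_ge hle hne
  have := Ideal.IsIntegral.comap_lt_comap (R := R) hlt
  have h2 : q.comap (algebraMap R S) ≤ q'.comap (algebraMap R S) :=
    h.2 ⟨inferInstance, bot_le⟩ this.le
  exact absurd this (not_lt_of_ge h2)

theorem core {R S : Type*} [CommRing R] [CommRing S] [Algebra R S] [Module.Finite R S]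
    (J : Ideal S) (a : R) (ha : ¬ IsNilpotent a)
    (hsurj : ∀ p : Ideal R, p.IsPrime → a ∉ p →
      ∃ q : Ideal S, q.IsPrime ∧ J ≤ q ∧ q.comap (algebraMap R S) = p) :
    ∃ b : S, ¬ IsNilpotent b ∧ ∀ c ∈ J, IsNilpotent (b * c) := by
  classical
  let J' : Submodule R S := J.restrictScalars R
  let P : ℕ → Prop := fun k => ∃ s : R, ¬ IsNilpotent (s * a) ∧ ∃ G : Finset S, G.card = k ∧
    ∀ x : S, s • x ∈ Submodule.span R (G : Set S) ⊔ J'
  obtain ⟨Ggen, hGgen⟩ := (Module.Finite.fg_top : (⊤ : Submodule R S).FG)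
  have hP : ∃ k, P k := ⟨Ggen.card, 1, by simpa using ha, Ggen, rfl, fun x => by
    rw [hGgen]; exact Submodule.mem_sup_left trivial⟩
  obtain ⟨s, hs, G, hGk, hG⟩ := Nat.find_spec hP
  -- key: relations have "nilpotent" coefficients
  have key : ∀ b : S → R, (∑ g ∈ G, b g • g) ∈ J → ∀ g₀ ∈ G, IsNilpotent (s * a * b g₀) := by
    intro b hb g₀ hg₀
    by_contra hnil
    have hk : 0 < Nat.find hP := by
      rw [← hGk]; exact Finset.card_pos.mpr ⟨g₀, hg₀⟩
    have hP' : P (Nat.find hP - 1) := by
      refine ⟨s * b g₀, ?_, G.erase g₀, ?_, fun x => ?_⟩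
      · rwa [show s * b g₀ * a = s * a * b g₀ by ring]
      · rw [Finset.card_erase_of_mem hg₀, hGk]
      · obtain ⟨y, hy, j, hj, hyj⟩ := Submodule.mem_sup.mp (hG x)
        have h1 : (s * b g₀) • x = b g₀ • y + b g₀ • j := by
          rw [mul_comm, mul_smul, ← hyj, smul_add]
        rw [h1]
        refine add_mem ?_ (Submodule.mem_sup_right (J'.smul_mem _ hj))
        -- b g₀ • y ∈ span (G.erase g₀) ⊔ J'
        have hle : Submodule.span R (G : Set S) ≤
            (Submodule.span R ((G.erase g₀ : Finset S) : Set S) ⊔ J').comap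
              (LinearMap.lsmul R S (b g₀)) := by
          rw [Submodule.span_le]
          intro g hg
          simp only [Submodule.comap_coe, Set.mem_preimage, SetLike.mem_coe,
            LinearMap.lsmul_apply]
          by_cases hgg : g = g₀
          · subst hgg
            have h2 : b g • g = (∑ g' ∈ G, b g' • g') - ∑ g' ∈ G.erase g, b g' • g' := by
              rw [← Finset.add_sum_erase G (fun g' => b g' • g') hg₀]; abel
            rw [h2]
            refine sub_mem (Submodule.mem_sup_right hb) (Submodule.mem_sup_left ?_)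
            exact sum_mem fun g' hg' => Submodule.smul_mem _ _ (Submodule.subset_span hg')
          · exact Submodule.mem_sup_left (Submodule.smul_mem _ _
              (Submodule.subset_span (Finset.mem_erase.mpr ⟨hgg, hg⟩)))
        exact hle hy
    exact Nat.find_min hP (Nat.sub_lt hk one_pos) hP'
  -- decompositions
  have hdec : ∀ x : S, ∃ (l : S → R) (j : S), j ∈ J ∧ s • x = (∑ g ∈ G, l g • g) + j := by
    intro x
    obtain ⟨y, hy, j, hj, hyj⟩ := Submodule.mem_sup.mp (hG x)
    obtain ⟨l, -, hl⟩ := Submodule.mem_span_finset.mp hy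
    exact ⟨l, j, hj, by rw [hl, hyj]⟩
  choose l j hjJ hlj using hdec
  -- a minimal prime avoiding s * a
  obtain ⟨p, hp, hsp⟩ : ∃ p ∈ minimalPrimes R, s * a ∉ p := by
    by_contra hcon
    push Not at hcon
    apply hs
    rw [← mem_nilradical, nilradical, ← Ideal.sInf_minimalPrimes]
    exact Ideal.mem_sInf.mpr fun {I} hI => hcon I hI
  have hpp : p.IsPrime := hp.1.1
  have hap : a ∉ p := fun h => hsp (p.mul_mem_left _ h)
  have hs'p : s ∉ p := fun h => hsp (p.mul_mem_right _ h)
  obtain ⟨q, hqp, hJq, hqcomap⟩ := hsurj p hpp hap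
  have hqmin : q ∈ minimalPrimes S := by
    apply mem_minimalPrimes_of_comap (R := R)
    rw [hqcomap]; exact hp
  have hbex : ∀ e : S, ∃ b, b ∉ q ∧ IsNilpotent (b * j e) := fun e =>
    exists_notMem_mul_nilpotent hqmin (hJq (hjJ e))
  choose bb hbbq hbbnil using hbex
  let Bp : S := ∏ e ∈ Ggen, bb e
  have hBpq : Bp ∉ q := by
    intro h
    obtain ⟨e, -, he⟩ := (Ideal.IsPrime.prod_mem_iff).mp h
    exact hbbq e he
  have hsaq : algebraMap R S (s * a * s) ∉ q := by
    intro h
    have : s * a * s ∈ q.comap (algebraMap R S) := h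
    rw [hqcomap] at this
    rcases hpp.mem_or_mem this with h' | h'
    · exact hsp h'
    · exact hs'p h'
  refine ⟨Bp * algebraMap R S (s * a * s), ?_, ?_⟩
  · intro hnil
    have : Bp * algebraMap R S (s * a * s) ∈ q :=
      nilradical_le_prime q ((mem_nilradical).mpr hnil)
    rcases hqp.mem_or_mem this with h' | h'
    · exact hBpq h'
    · exact hsaq h'
  · intro c hc
    have hcspan : c ∈ Submodule.span R (Ggen : Set S) := by rw [hGgen]; trivial
    obtain ⟨r, -, hr⟩ := Submodule.mem_span_finset.mp hcspan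
    -- s • c = ∑_g β g • g + ∑_e r e • j e
    let β : S → R := fun g => ∑ e ∈ Ggen, r e * l e g
    have h1 : s • c = (∑ g ∈ G, β g • g) + ∑ e ∈ Ggen, r e • j e := by
      rw [← hr, Finset.smul_sum]
      have : ∀ e ∈ Ggen, s • (r e • e) = (∑ g ∈ G, (r e * l e g) • g) + r e • j e := by
        intro e _
        rw [smul_comm, hlj e, smul_add, Finset.smul_sum]
        simp only [mul_smul]
      rw [Finset.sum_congr rfl this, Finset.sum_add_distrib, Finset.sum_comm]
      congr 1
      refine Finset.sum_congr rfl fun g _ => ?_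
      rw [Finset.sum_smul]
    have h2 : (∑ g ∈ G, β g • g) ∈ J := by
      have : (∑ g ∈ G, β g • g) = s • c - ∑ e ∈ Ggen, r e • j e := by rw [h1]; abel
      rw [this]
      refine sub_mem ?_ (sum_mem fun e _ => ?_)
      · rw [Algebra.smul_def]; exact J.mul_mem_left _ hc
      · rw [Algebra.smul_def]; exact J.mul_mem_left _ (hjJ e)
    have h3 := key β h2
    -- (s*a) • ∑ β g • g is nilpotent
    have h4 : (s * a) • (∑ g ∈ G, β g • g) ∈ nilradical S := by
      rw [Finset.smul_sum]
      refine sum_mem fun g hg => ?_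
      rw [smul_smul, Algebra.smul_def]
      exact (nilradical S).mul_mem_right _ (mem_nilradical.mpr ((h3 g hg).map (algebraMap R S)))
    have h5 : ∀ e ∈ Ggen, Bp * j e ∈ nilradical S := by
      intro e he
      have : Bp = (∏ e' ∈ Ggen.erase e, bb e') * bb e := by
        rw [Finset.prod_erase_mul _ _ he]
      rw [this, mul_assoc]
      exact (nilradical S).mul_mem_left _ (mem_nilradical.mpr (hbbnil e))
    have h6 : Bp * algebraMap R S (s * a * s) * c =
        Bp * ((s * a) • (∑ g ∈ G, β g • g)) +
          ∑ e ∈ Ggen, algebraMap R S (s * a * r e) * (Bp * j e) := by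
      have : algebraMap R S (s * a * s) * c = (s * a) • (s • c) := by
        rw [smul_smul, Algebra.smul_def]
      have h7 : (s * a) • (∑ e ∈ Ggen, r e • j e) = ∑ e ∈ Ggen, (s * a * r e) • j e := by
        rw [Finset.smul_sum]
        exact Finset.sum_congr rfl fun e _ => by rw [smul_smul]
      rw [mul_assoc, this, h1, smul_add, mul_add, h7, Finset.mul_sum]
      congr 1
      refine Finset.sum_congr rfl fun e _ => ?_
      rw [Algebra.smul_def]; ring
    rw [← mem_nilradical, h6]
    refine add_mem ((nilradical S).mul_mem_left _ h4) (sum_mem fun e he => ?_)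
    exact (nilradical S).mul_mem_left _ (h5 e he)

theorem isNowhereDense_image_comap_of_finite {A B : Type*} [CommRing A] [CommRing B] [Algebra A B]
    [Module.Finite A B] {T : Set (PrimeSpectrum B)} (hT : IsNowhereDense T) :
    IsNowhereDense (PrimeSpectrum.comap (algebraMap A B) '' T) := by
  set f := PrimeSpectrum.comap (algebraMap A B) with hf
  refine IsNowhereDense.mono (Set.image_mono (subset_closure (s := T))) ?_
  have hint : (algebraMap A B).IsIntegral := algebraMap_isIntegral_iff.mpr inferInstance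
  have hcl : IsClosed (f '' closure T) :=
    PrimeSpectrum.isClosedMap_comap_of_isIntegral _ hint _ isClosed_closure
  rw [hcl.isNowhereDense_iff]
  by_contra hne
  obtain ⟨x, hx⟩ := Set.nonempty_iff_ne_empty.mpr hne
  obtain ⟨_, ⟨a, rfl⟩, hxa, hasub⟩ :=
    PrimeSpectrum.isTopologicalBasis_basic_opens.exists_subset_of_mem_open hx isOpen_interior
  have ha : ¬ IsNilpotent a := fun h =>
    hxa (nilradical_le_prime x.asIdeal (mem_nilradical.mpr h))
  let J := vanishingIdeal (closure T)
  have hJ : zeroLocus (J : Set B) = closure T := by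
    rw [zeroLocus_vanishingIdeal_eq_closure, closure_closure]
  obtain ⟨b, hb, hbJ⟩ := core (R := A) J a ha (by
    intro p hp hap
    have : (⟨p, hp⟩ : PrimeSpectrum A) ∈ f '' closure T :=
      interior_subset (hasub (show (⟨p, hp⟩ : PrimeSpectrum A) ∈ (basicOpen a : Set _) from hap))
    obtain ⟨q, hq, hqp⟩ := this
    refine ⟨q.asIdeal, q.isPrime, ?_, congrArg PrimeSpectrum.asIdeal hqp⟩
    rw [← hJ] at hq
    exact (mem_zeroLocus _ _).mp hq)
  have hsub : (basicOpen b : Set (PrimeSpectrum B)) ⊆ closure T := by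
    intro q' hq'
    rw [← hJ, mem_zeroLocus]
    intro c hc
    have : b * c ∈ q'.asIdeal := nilradical_le_prime q'.asIdeal (mem_nilradical.mpr (hbJ c hc))
    exact (q'.isPrime.mem_or_mem this).resolve_left hq'
  have hne' : (basicOpen b : Set (PrimeSpectrum B)).Nonempty := by
    rw [Set.nonempty_iff_ne_empty]
    intro h
    apply hb
    rw [← basicOpen_eq_bot_iff]
    exact TopologicalSpace.Opens.ext h
  have : (basicOpen b : Set (PrimeSpectrum B)) ⊆ interior (closure T) :=
    interior_maximal hsub (basicOpen b).isOpen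
  rw [hT] at this
  exact hne'.ne_empty (Set.subset_empty_iff.mp this)

end Groth.Agent.Lib.Helper6.ND
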