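import Mathlib
import Groth.Agent.Lib.Helper6.ND1

/-!
# Quasi-finite morphisms send nowhere dense sets to nowhere dense sets
-/

set_option autoImplicit false
universe u v

namespace Groth.Agent.Lib.Helper6.ND

open PrimeSpectrum AlgebraicGeometry CategoryTheory

section Top

variable {X Y : Type*} [TopologicalSpace X] [TopologicalSpace Y]

theorem isNowhereDense_preimage_of_isOpenMap {f : X → Y} (hc : Continuous f) (ho : IsOpenMap f)
    {T : Set Y} (hT : IsNowhereDense T) : IsNowhereDense (f ⁻¹' T) := by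
  rw [IsNowhereDense, Set.eq_empty_iff_forall_notMem]
  intro x hx
  have h1 : interior (closure (f ⁻¹' T)) ⊆ f ⁻¹' closure T :=
    interior_subset.trans (hc.closure_preimage_subset T)
  have h2 : f '' interior (closure (f ⁻¹' T)) ⊆ interior (closure T) :=
    interior_maximal (Set.image_subset_iff.mpr h1) (ho _ isOpen_interior)
  rw [hT] at h2
  exact h2 ⟨x, hx, rfl⟩

theorem isNowhereDense_union {s t : Set X} (hs : IsNowhereDense s) (ht : IsNowhereDense t) :
    IsNowhereDense (s ∪ t) := by
  rw [IsNowhereDense, closure_union,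
    interior_union_isClosed_of_interior_empty isClosed_closure ht]
  exact hs

theorem isNowhereDense_biUnion_finset {ι : Type*} (F : Finset ι) (s : ι → Set X)
    (h : ∀ i ∈ F, IsNowhereDense (s i)) : IsNowhereDense (⋃ i ∈ F, s i) := by
  classical
  induction F using Finset.induction_on with
  | empty => simp
  | insert a F ha ih =>
    rw [Finset.set_biUnion_insert]
    exact isNowhereDense_union (h a (Finset.mem_insert_self _ _))
      (ih fun i hi => h i (Finset.mem_insert_of_mem hi))

theorem isNowhereDense_of_forall_inter {ι : Type*} (U : ι → Set X) (hU : ∀ i, IsOpen (U i))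
    (hcov : ∀ x, ∃ i, x ∈ U i) {s : Set X} (h : ∀ i, IsNowhereDense (s ∩ U i)) :
    IsNowhereDense s := by
  rw [IsNowhereDense, Set.eq_empty_iff_forall_notMem]
  intro x hx
  obtain ⟨i, hi⟩ := hcov x
  have h1 : interior (closure s) ∩ U i ⊆ interior (closure (s ∩ U i)) :=
    interior_maximal
      ((Set.inter_subset_inter_left _ interior_subset).trans ((hU i).closure_inter))
      (isOpen_interior.inter (hU i))
  rw [h i] at h1
  exact h1 ⟨hx, hi⟩

end Top

section Alg

variable {A B : Type u} [CommRing A] [CommRing B] [Algebra A B]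

theorem nd_away (S' : Subalgebra A B) (hS' : S'.toSubmodule.FG) (r : S')
    (hbij : Function.Bijective (Localization.awayMap S'.val.toRingHom r))
    {T : Set (PrimeSpectrum B)} (hT : IsNowhereDense T) :
    IsNowhereDense (comap (algebraMap A B) '' (T ∩ (basicOpen (r : B) : Set _))) := by
  have hfin : Module.Finite A S' := ⟨(Submodule.fg_top _).mpr hS'⟩
  let Br := Localization.Away (S'.val.toRingHom r)
  let Sr := Localization.Away r
  let ιB := comap (algebraMap B Br)
  have hιB : Topology.IsOpenEmbedding ιB := localization_away_isOpenEmbedding Br (S'.val.toRingHom r)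
  have hrange : Set.range ιB = (basicOpen (r : B) : Set _) :=
    localization_away_comap_range Br (S'.val.toRingHom r)
  let T₁ := ιB ⁻¹' T
  have hT₁ : IsNowhereDense T₁ :=
    isNowhereDense_preimage_of_isOpenMap hιB.continuous hιB.isOpenMap hT
  have hTr : T ∩ (basicOpen (r : B) : Set _) = ιB '' T₁ := by
    rw [Set.image_preimage_eq_inter_range, hrange]
  let e := comap (Localization.awayMap S'.val.toRingHom r)
  have he : Topology.IsInducing e :=
    (isClosedEmbedding_comap_of_surjective _ _ hbij.2).isInducing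
  let ιS := comap (algebraMap S' Sr)
  have hιS : Topology.IsOpenEmbedding ιS := localization_away_isOpenEmbedding Sr r
  let g := comap (algebraMap A S')
  have h3 : IsNowhereDense (g '' (ιS '' (e '' T₁))) :=
    isNowhereDense_image_comap_of_finite
      (hιS.isInducing.isNowhereDense_image (he.isNowhereDense_image hT₁))
  convert h3 using 1
  rw [hTr, Set.image_image, Set.image_image, Set.image_image]
  refine Set.image_congr fun x _ => ?_
  simp only [ιB, g, ιS, e, ← comap_comp_apply]
  congr 1
  ext a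
  simp only [RingHom.comp_apply]
  change algebraMap B Br (algebraMap A B a) = _
  rw [show Localization.awayMap S'.val.toRingHom r =
    IsLocalization.Away.map _ _ S'.val.toRingHom r from rfl]
  rw [IsLocalization.Away.map, IsLocalization.map_eq]
  rfl

theorem isNowhereDense_image_comap_of_quasiFinite [Algebra.FiniteType A B]
    [Algebra.QuasiFinite A B] {T : Set (PrimeSpectrum B)} (hT : IsNowhereDense T) :
    IsNowhereDense (comap (algebraMap A B) '' T) := by
  classical
  have key : ∀ q : PrimeSpectrum B, ∃ (S' : Subalgebra A B) (_ : S'.toSubmodule.FG) (r : S'),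
      (r : B) ∉ q.asIdeal ∧ Function.Bijective (Localization.awayMap S'.val.toRingHom r) := by
    intro q
    obtain ⟨S', hS', r, hrq, hbij⟩ :=
      Algebra.QuasiFiniteAt.exists_fg_and_exists_notMem_and_awayMap_bijective (R := A) q.asIdeal
    exact ⟨S', hS', r, hrq, hbij⟩
  choose S' hS' r hrq hbij using key
  obtain ⟨F, hF⟩ := isCompact_univ.elim_finite_subcover
    (fun q : PrimeSpectrum B => (basicOpen ((r q : S' q) : B) : Set (PrimeSpectrum B)))
    (fun q => (basicOpen _).isOpen) (fun q _ => Set.mem_iUnion.mpr ⟨q, hrq q⟩)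
  have hTeq : T = ⋃ q ∈ F, (T ∩ (basicOpen ((r q : S' q) : B) : Set (PrimeSpectrum B))) := by
    rw [← Set.inter_iUnion₂]
    exact (Set.inter_eq_left.mpr (fun x _ => hF (Set.mem_univ x))).symm
  rw [hTeq, Set.image_iUnion₂]
  exact isNowhereDense_biUnion_finset F _ fun q _ => nd_away (S' q) (hS' q) (r q) (hbij q) hT

end Alg

/-- A quasi-finite morphism maps nowhere dense subsets to nowhere dense subsets. -/
theorem isNowhereDense_image {Y X : Scheme.{u}} (f : Y ⟶ X) [LocallyQuasiFinite f]
    [LocallyOfFiniteType f] [QuasiCompact f] {T : Set Y} (hT : IsNowhereDense T) :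
    IsNowhereDense (f '' T) := by
  refine isNowhereDense_of_forall_inter (fun U : X.affineOpens => ((U : X.Opens) : Set X))
    (fun U => U.1.2) (fun x => ?_) fun U => ?_
  · obtain ⟨_, ⟨U, hU, rfl⟩, hxU, -⟩ := X.isBasis_affineOpens.exists_subset_of_mem_open
      (Set.mem_univ x) isOpen_univ
    exact ⟨⟨U, hU⟩, hxU⟩
  obtain ⟨U, hU⟩ := U
  have hcomp : IsCompact (f ⁻¹' (U : Set X)) :=
    QuasiCompact.isCompact_preimage _ U.2 hU.isCompact
  obtain ⟨s, hs, hsU⟩ := isCompact_and_isOpen_iff_finite_and_eq_biUnion_affineOpens.mp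
    ⟨hcomp, U.2.preimage f.continuous⟩
  have h1 : f '' T ∩ (U : Set X) = ⋃ V ∈ hs.toFinset, f '' (T ∩ ((V : Y.Opens) : Set Y)) := by
    have : f '' T ∩ (U : Set X) = f '' (T ∩ f ⁻¹' (U : Set X)) := by
      rw [Set.image_inter_preimage]
    rw [this, hsU, Set.inter_iUnion₂, Set.image_iUnion₂]
    simp
  simp only
  rw [h1]
  refine isNowhereDense_biUnion_finset _ _ fun V hV => ?_
  have hVs : V ∈ s := hs.mem_toFinset.mp hV
  obtain ⟨V, hVaff⟩ := V
  have hVU : V ≤ f ⁻¹ᵁ U := by
    intro y hy
    have : y ∈ f ⁻¹' (U : Set X) := by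
      rw [hsU]; exact Set.mem_iUnion₂.mpr ⟨⟨V, hVaff⟩, hVs, hy⟩
    exact this
  have hft : (f.appLE U V hVU).hom.FiniteType := f.finiteType_appLE hU hVaff hVU
  have hqf : (f.appLE U V hVU).hom.QuasiFinite :=
    LocallyQuasiFinite.quasiFinite_appLE hU hVaff hVU
  let _ : Algebra Γ(X, U) Γ(Y, V) := (f.appLE U V hVU).hom.toAlgebra
  have hft' : Algebra.FiniteType Γ(X, U) Γ(Y, V) := hft
  have hqf' : Algebra.QuasiFinite Γ(X, U) Γ(Y, V) := hqf
  have hoV : IsOpenImmersion hVaff.fromSpec := hVaff.isOpenImmersion_fromSpec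
  have hoU : IsOpenImmersion hU.fromSpec := hU.isOpenImmersion_fromSpec
  let T₁ : Set (Spec Γ(Y, V)) := hVaff.fromSpec ⁻¹' T
  have hT₁ : IsNowhereDense T₁ :=
    isNowhereDense_preimage_of_isOpenMap hVaff.fromSpec.continuous
      hVaff.fromSpec.isOpenEmbedding.isOpenMap hT
  have hTV : T ∩ (V : Set Y) = hVaff.fromSpec '' T₁ := by
    rw [Set.image_preimage_eq_inter_range, hVaff.range_fromSpec]
  have h2 : IsNowhereDense (Spec.map (f.appLE U V hVU) '' T₁) :=
    isNowhereDense_image_comap_of_quasiFinite (A := Γ(X, U)) (B := Γ(Y, V)) hT₁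
  have h3 : IsNowhereDense (hU.fromSpec '' (Spec.map (f.appLE U V hVU) '' T₁)) :=
    hU.fromSpec.isOpenEmbedding.isInducing.isNowhereDense_image h2
  convert h3 using 1
  rw [hTV, Set.image_image, Set.image_image]
  refine Set.image_congr fun x _ => ?_
  have e : Spec.map (f.appLE U V hVU) ≫ hU.fromSpec = hVaff.fromSpec ≫ f :=
    IsAffineOpen.SpecMap_appLE_fromSpec f hU hVaff hVU
  rw [← Scheme.Hom.comp_apply, ← Scheme.Hom.comp_apply, e]

end Groth.Agent.Lib.Helper6.ND
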