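import Mathlib
import Groth.Agent.Lib.Helper6.ND2
import Groth.Agent.Lib.Helper4.HenselPairZ

/-!
# A quasi-finite algebra is finite over a dense open of the base (affine case)
-/

set_option autoImplicit false
universe u v

namespace Groth.Agent.Lib.Helper6.ND

open PrimeSpectrum AlgebraicGeometry CategoryTheory Limits TensorProduct

section Alg

variable {A B : Type u} [CommRing A] [CommRing B] [Algebra A B]

/-- Algebraic form: there is a closed nowhere dense `Z ⊆ Spec A` such that `B` becomes finite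
after inverting any `a` with `D(a) ∩ Z = ∅`. -/
theorem exists_nowhereDense_finite_away [Algebra.FiniteType A B] [Algebra.QuasiFinite A B] :
    ∃ Z : Set (PrimeSpectrum A), IsClosed Z ∧ IsNowhereDense Z ∧
      ∀ a : A, (∀ p ∈ Z, a ∈ p.asIdeal) →
        Module.Finite (Localization.Away a) (Localization.Away a ⊗[A] B) := by
  classical
  obtain ⟨S', hS', t, htS', htop, hpow⟩ :=
    Groth.Agent.Lib.Helper4.HenselPair.exists_finite_subalgebra_cover (R := A) (S := B) ⊥
  have hfin : Module.Finite A S' := ⟨(Submodule.fg_top _).mpr hS'⟩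
  rw [sup_bot_eq] at htop
  -- the set of generators, seen in `S'`
  let t' : Set S' := {s | (s : B) ∈ t}
  let C : Set (PrimeSpectrum S') := zeroLocus t'
  have hCcl : IsClosed C := isClosed_zeroLocus _
  have hrange : Set.range (comap S'.val.toRingHom) ⊆ Cᶜ := by
    rintro _ ⟨q, rfl⟩ hq
    have hq' : ∀ r ∈ t, r ∈ q.asIdeal := by
      intro r hr
      have : (⟨r, htS' r hr⟩ : S') ∈ (comap S'.val.toRingHom q).asIdeal :=
        hq (show (⟨r, htS' r hr⟩ : S') ∈ t' from hr)
      exact this
    have : (Ideal.span (t : Set B)) ≤ q.asIdeal := Ideal.span_le.mpr hq'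
    rw [htop] at this
    exact q.isPrime.ne_top (top_le_iff.mp this)
  have hdense : Dense Cᶜ := by
    have h1 : DenseRange (comap S'.val.toRingHom) := by
      rw [denseRange_comap_iff_ker_le_nilRadical]
      have : RingHom.ker S'.val.toRingHom = ⊥ :=
        (RingHom.injective_iff_ker_eq_bot _).mp Subtype.val_injective
      rw [this]; exact bot_le
    exact h1.mono hrange
  have hCnd : IsNowhereDense C :=
    (isClosed_isNowhereDense_iff_compl.mpr ⟨hCcl.isOpen_compl, hdense⟩).2
  have hint : (algebraMap A S').IsIntegral := algebraMap_isIntegral_iff.mpr inferInstance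
  refine ⟨comap (algebraMap A S') '' C,
    PrimeSpectrum.isClosedMap_comap_of_isIntegral _ hint _ hCcl,
    isNowhereDense_image_comap_of_finite hCnd, fun a ha => ?_⟩
  -- `a` lies in the radical of the ideal generated by `t'`
  have harad : algebraMap A S' a ∈ (Ideal.span t').radical := by
    rw [← vanishingIdeal_zeroLocus_eq_radical, zeroLocus_span, mem_vanishingIdeal]
    intro q' hq'
    exact ha _ ⟨q', hq', rfl⟩
  -- every element of `B` is moved into `S'` by a power of `a`
  have hmove : ∀ x : B, ∃ M : ℕ, a ^ M • x ∈ S' := by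
    intro x
    let 𝔠 : Ideal S' :=
      { carrier := {s | (s : B) * x ∈ S'}
        add_mem' := fun {s₁ s₂} h₁ h₂ => by
          change ((s₁ + s₂ : S') : B) * x ∈ S'
          rw [Subalgebra.coe_add, add_mul]; exact S'.add_mem h₁ h₂
        zero_mem' := by
          change ((0 : S') : B) * x ∈ S'
          rw [Subalgebra.coe_zero, zero_mul]; exact S'.zero_mem
        smul_mem' := fun c s hs => by
          change ((c • s : S') : B) * x ∈ S'
          rw [smul_eq_mul, Subalgebra.coe_mul, mul_assoc]; exact S'.mul_mem c.2 hs }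
    have h1 : Ideal.span t' ≤ 𝔠.radical := by
      rw [Ideal.span_le]
      intro s hs
      obtain ⟨N, hN⟩ := hpow (s : B) hs x
      exact ⟨N, by change ((s ^ N : S') : B) * x ∈ S'; rwa [Subalgebra.coe_pow]⟩
    have h2 : algebraMap A S' a ∈ 𝔠.radical :=
      (Ideal.radical_mono h1).trans_eq (Ideal.radical_idem _) harad
    obtain ⟨M, hM⟩ := h2
    refine ⟨M, ?_⟩
    have : ((algebraMap A S' a ^ M : S') : B) * x ∈ S' := hM
    rwa [Subalgebra.coe_pow, Subalgebra.coe_algebraMap, ← map_pow, ← Algebra.smul_def] at this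
  -- surjection from the base change of `S'`
  let Aa := Localization.Away a
  let ψ : Aa ⊗[A] S' →ₗ[Aa] Aa ⊗[A] B := LinearMap.baseChange Aa S'.val.toLinearMap
  have hsurj : Function.Surjective ψ := by
    rw [← LinearMap.range_eq_top, eq_top_iff]
    rintro z -
    induction z using TensorProduct.induction_on with
    | zero => exact zero_mem _
    | add z₁ z₂ h₁ h₂ => exact add_mem h₁ h₂
    | tmul c x =>
      obtain ⟨M, hM⟩ := hmove x
      refine ⟨(c * IsLocalization.Away.invSelf a ^ M) ⊗ₜ[A] (⟨a ^ M • x, hM⟩ : S'), ?_⟩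
      change (c * IsLocalization.Away.invSelf a ^ M) ⊗ₜ[A] (a ^ M • x) = c ⊗ₜ[A] x
      rw [← TensorProduct.smul_tmul, Algebra.smul_def, map_pow, mul_left_comm, ← mul_pow,
        IsLocalization.Away.mul_invSelf, one_pow, mul_one]
  exact Module.Finite.of_surjective ψ hsurj

end Alg

end Groth.Agent.Lib.Helper6.ND

namespace Groth.Agent.Lib.Helper6.ND

open PrimeSpectrum AlgebraicGeometry CategoryTheory Limits TensorProduct

section Restrict

variable {P : MorphismProperty Scheme.{u}} [IsZariskiLocalAtTarget P]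

/-- A property local at the target passes to smaller restrictions. -/
theorem restrict_of_le {V U : Scheme.{u}} (h : V ⟶ U) {U₀ U' : U.Opens} (hle : U' ≤ U₀)
    (hQ : P (h ∣_ U₀)) : P (h ∣_ U') := by
  have h1 : P ((h ∣_ U₀) ∣_ (U₀.ι ⁻¹ᵁ U')) := IsZariskiLocalAtTarget.restrict hQ _
  have h2 := (P.arrow_mk_iso_iff (morphismRestrictRestrict h U₀ (U₀.ι ⁻¹ᵁ U'))).mp h1
  have e : U₀.ι ''ᵁ (U₀.ι ⁻¹ᵁ U') = U' := by
    rw [Scheme.Hom.image_preimage_eq_opensRange_inf, Scheme.Opens.opensRange_ι]
    exact inf_eq_right.mpr hle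
  exact (P.arrow_mk_iso_iff (morphismRestrictEq h e)).mp h2

theorem restrict_iSup {V U : Scheme.{u}} (h : V ⟶ U) {ι : Type*} (W : ι → U.Opens)
    (hQ : ∀ i, P (h ∣_ W i)) : P (h ∣_ ⨆ i, W i) := by
  refine IsZariskiLocalAtTarget.of_iSup_eq_top (fun i => (⨆ i, W i).ι ⁻¹ᵁ W i) ?_ fun i => ?_
  · apply (⨆ i, W i).ι.image_injective
    dsimp
    rw [Scheme.Hom.image_iSup, Scheme.Hom.image_top_eq_opensRange, Scheme.Opens.opensRange_ι]
    simp [Scheme.Hom.image_preimage_eq_opensRange_inf, le_iSup W]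
  · have e : (⨆ i, W i).ι ''ᵁ ((⨆ i, W i).ι ⁻¹ᵁ W i) = W i := by
      rw [Scheme.Hom.image_preimage_eq_opensRange_inf, Scheme.Opens.opensRange_ι]
      exact inf_eq_right.mpr (le_iSup W i)
    refine (P.arrow_mk_iso_iff (morphismRestrictRestrict h _ _)).mpr ?_
    exact (P.arrow_mk_iso_iff (morphismRestrictEq h e)).mpr (hQ i)

theorem restrict_iso {V X V' X' : Scheme.{u}} (g : V ⟶ X) (g' : V' ⟶ X') (eV : V ≅ V')
    (eX : X ≅ X') (comm : g ≫ eX.hom = eV.hom ≫ g') (W' : X'.Opens) (h : P (g' ∣_ W')) :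
    P (g ∣_ eX.hom ⁻¹ᵁ W') := by
  have h1 : P ((eV.hom ≫ g') ∣_ W') := by
    rw [morphismRestrict_comp]
    have : IsIso (eV.hom ∣_ g' ⁻¹ᵁ W') := inferInstance
    exact (MorphismProperty.cancel_left_of_respectsIso P (eV.hom ∣_ g' ⁻¹ᵁ W') _).mpr h
  rw [← comm, morphismRestrict_comp] at h1
  have : IsIso (eX.hom ∣_ W') := inferInstance
  exact (MorphismProperty.cancel_right_of_respectsIso P _ (eX.hom ∣_ W')).mp h1

end Restrict

section SpecCase

variable {A B : Type u} [CommRing A] [CommRing B] [Algebra A B]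

theorem isFinite_restrict_basicOpen_of_finite (a : A)
    (h : Module.Finite (Localization.Away a) (Localization.Away a ⊗[A] B)) :
    IsFinite (Spec.map (CommRingCat.ofHom (algebraMap A B)) ∣_
      (PrimeSpectrum.basicOpen a : (Spec (CommRingCat.of A)).Opens)) := by
  let g := Spec.map (CommRingCat.ofHom (algebraMap A B))
  let j := Spec.map (CommRingCat.ofHom (algebraMap A (Localization.Away a)))
  have hj : IsOpenImmersion j := inferInstance
  have hrange : j.opensRange = (PrimeSpectrum.basicOpen a : (Spec (CommRingCat.of A)).Opens) := by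
    apply TopologicalSpace.Opens.ext
    exact localization_away_comap_range (Localization.Away a) a
  refine (MorphismProperty.arrow_mk_iso_iff @IsFinite
    (morphismRestrictEq g hrange.symm ≪≫ morphismRestrictOpensRange g j)).mpr ?_
  change IsFinite (pullback.snd g j)
  rw [← pullbackSymmetry_hom_comp_fst]
  have h1 : pullback.fst j g = (pullbackSpecIso A (Localization.Away a) B).hom ≫
      Spec.map (CommRingCat.ofHom (algebraMap (Localization.Away a) (Localization.Away a ⊗[A] B))) := by
    rw [← pullbackSpecIso_inv_fst', Iso.hom_inv_id_assoc]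
  rw [h1]
  have h2 : IsFinite (Spec.map (CommRingCat.ofHom
      (algebraMap (Localization.Away a) (Localization.Away a ⊗[A] B)))) := by
    rw [IsFinite.SpecMap_iff]
    exact RingHom.finite_algebraMap.mpr h
  infer_instance

theorem exists_dense_isFinite_restrict_SpecMap [Algebra.FiniteType A B]
    [Algebra.QuasiFinite A B] :
    ∃ W : (Spec (CommRingCat.of A)).Opens, Dense (W : Set (Spec (CommRingCat.of A))) ∧
      IsFinite (Spec.map (CommRingCat.ofHom (algebraMap A B)) ∣_ W) := by
  obtain ⟨Z, hZcl, hZnd, hZ⟩ := exists_nowhereDense_finite_away (A := A) (B := B)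
  let W : (Spec (CommRingCat.of A)).Opens := ⟨Zᶜ, hZcl.isOpen_compl⟩
  refine ⟨W, (isClosed_isNowhereDense_iff_compl.mp ⟨hZcl, hZnd⟩).2, ?_⟩
  let I := {a : A // ((PrimeSpectrum.basicOpen a : Set (PrimeSpectrum A))) ⊆ Zᶜ}
  let U : I → (Spec (CommRingCat.of A)).Opens := fun i => PrimeSpectrum.basicOpen i.1
  have hW : W = ⨆ i, U i := by
    apply le_antisymm
    · intro x hx
      obtain ⟨_, ⟨a, rfl⟩, hxa, hasub⟩ :=
        PrimeSpectrum.isTopologicalBasis_basic_opens.exists_subset_of_mem_open hx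
          hZcl.isOpen_compl
      exact TopologicalSpace.Opens.mem_iSup.mpr ⟨⟨a, hasub⟩, hxa⟩
    · exact iSup_le fun i => i.2
  rw [hW]
  refine restrict_iSup _ U fun i => ?_
  apply isFinite_restrict_basicOpen_of_finite
  apply hZ
  intro p hp
  by_contra hnot
  exact i.2 (show p ∈ (PrimeSpectrum.basicOpen i.1 : Set _) from hnot) hp

end SpecCase

/-- A quasi-finite morphism of affine schemes is finite over a dense open of the target. -/
theorem exists_dense_isFinite_restrict_of_isAffine {V X : Scheme.{u}} [IsAffine V] [IsAffine X]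
    (g : V ⟶ X) [LocallyQuasiFinite g] [LocallyOfFiniteType g] :
    ∃ W : X.Opens, Dense (W : Set X) ∧ IsFinite (g ∣_ W) := by
  let φ := g.appTop
  let _ : Algebra Γ(X, ⊤) Γ(V, ⊤) := φ.hom.toAlgebra
  have hft : Algebra.FiniteType Γ(X, ⊤) Γ(V, ⊤) :=
    (HasRingHomProperty.iff_of_isAffine (P := @LocallyOfFiniteType)).mp inferInstance
  have hqf : Algebra.QuasiFinite Γ(X, ⊤) Γ(V, ⊤) :=
    (HasRingHomProperty.iff_of_isAffine (P := @LocallyQuasiFinite)).mp inferInstance
  obtain ⟨W', hW'd, hW'f⟩ :=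
    exists_dense_isFinite_restrict_SpecMap (A := Γ(X, ⊤)) (B := Γ(V, ⊤))
  have comm : g ≫ X.isoSpec.hom = V.isoSpec.hom ≫ Spec.map φ :=
    (Scheme.isoSpec_hom_naturality g).symm
  refine ⟨X.isoSpec.hom ⁻¹ᵁ W', ?_, restrict_iso g (Spec.map φ) V.isoSpec X.isoSpec comm W' hW'f⟩
  have : ((X.isoSpec.hom ⁻¹ᵁ W' : X.Opens) : Set X) = X.isoSpec.hom.homeomorph ⁻¹' (W' : Set _) := rfl
  rw [this]
  exact hW'd.preimage X.isoSpec.hom.homeomorph.isOpenMap

end Groth.Agent.Lib.Helper6.ND
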