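import Mathlib
import Groth.Agent.Lib.Helper6.ND3

/-!
# Gluing finiteness along a finite open cover with clopen overlaps
-/

set_option autoImplicit false
universe u v

namespace Groth.Agent.Lib.Helper6.ND

open AlgebraicGeometry CategoryTheory Limits

section Top

variable {X : Type*} [TopologicalSpace X]

theorem isNowhereDense_frontier_of_isOpen {O : Set X} (hO : IsOpen O) :
    IsNowhereDense (frontier O) := by
  rw [isClosed_frontier.isNowhereDense_iff, ← frontier_compl]
  exact interior_frontier hO.isClosed_compl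

theorem dense_biInter_finset_of_isOpen {ι : Type*} (F : Finset ι) (S : ι → Set X)
    (ho : ∀ i ∈ F, IsOpen (S i)) (hd : ∀ i ∈ F, Dense (S i)) : Dense (⋂ i ∈ F, S i) := by
  classical
  induction F using Finset.induction_on with
  | empty => simp
  | insert a F ha ih =>
    rw [Finset.set_biInter_insert]
    exact (hd a (Finset.mem_insert_self _ _)).inter_of_isOpen_left
      (ih (fun i hi => ho i (Finset.mem_insert_of_mem hi))
        (fun i hi => hd i (Finset.mem_insert_of_mem hi)))
      (ho a (Finset.mem_insert_self _ _))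

end Top

variable {Y X : Scheme.{u}} (f : Y ⟶ X) (U : X.Opens)

/-- binary gluing -/
theorem isFinite_resLE_sup (P Q : Y.Opens) (hP : P ≤ f ⁻¹ᵁ U) (hQ : Q ≤ f ⁻¹ᵁ U)
    (hdisj : P ⊓ Q = ⊥) (h1 : IsFinite (f.resLE U P hP)) (h2 : IsFinite (f.resLE U Q hQ)) :
    IsFinite (f.resLE U (P ⊔ Q) (sup_le hP hQ)) := by
  let iP : P.toScheme ⟶ (P ⊔ Q).toScheme := Y.homOfLE le_sup_left
  let iQ : Q.toScheme ⟶ (P ⊔ Q).toScheme := Y.homOfLE le_sup_right
  have hcompl : IsCompl iP.opensRange iQ.opensRange := by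
    simp only [iP, iQ, Scheme.opensRange_homOfLE]
    constructor
    · rw [disjoint_iff, ← Scheme.Hom.preimage_inf, hdisj]
      rfl
    · rw [codisjoint_iff, ← Scheme.Hom.preimage_sup, Scheme.Opens.ι_preimage_self]
  obtain ⟨H⟩ := nonempty_isColimit_binaryCofanMk_of_isCompl iP iQ hcompl
  let e : P.toScheme ⨿ Q.toScheme ≅ (P ⊔ Q).toScheme :=
    (coprodIsCoprod _ _).coconePointUniqueUpToIso H
  have he1 : coprod.inl ≫ e.hom = iP :=
    IsColimit.comp_coconePointUniqueUpToIso_hom (coprodIsCoprod _ _) H ⟨WalkingPair.left⟩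
  have he2 : coprod.inr ≫ e.hom = iQ :=
    IsColimit.comp_coconePointUniqueUpToIso_hom (coprodIsCoprod _ _) H ⟨WalkingPair.right⟩
  have heq : e.hom ≫ f.resLE U (P ⊔ Q) (sup_le hP hQ) =
      coprod.desc (f.resLE U P hP) (f.resLE U Q hQ) := by
    apply coprod.hom_ext
    · rw [← Category.assoc, he1, coprod.inl_desc]
      exact Scheme.Hom.map_resLE ..
    · rw [← Category.assoc, he2, coprod.inr_desc]
      exact Scheme.Hom.map_resLE ..
  refine (MorphismProperty.cancel_left_of_respectsIso @IsFinite e.hom _).mp ?_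
  rw [heq]
  infer_instance

theorem isFinite_restrict_of_finite_cover {ι : Type*} (s : Finset ι) (V : ι → Y.Opens)
    (hle : ∀ j ∈ s, V j ≤ f ⁻¹ᵁ U) (hcov : f ⁻¹ᵁ U ≤ ⨆ j ∈ s, V j)
    (hfin : ∀ j (hj : j ∈ s), IsFinite (f.resLE U (V j) (hle j hj)))
    (hclopen : ∀ j ∈ s, ∀ j' ∈ s, ∃ C : Set Y, IsClosed C ∧
      (V j : Set Y) ∩ (V j') = (V j : Set Y) ∩ C) :
    IsFinite (f ∣_ U) := by
  classical
  have key : ∀ F : Finset ι, F ⊆ s →
      ∃ h : (⨆ j ∈ F, V j) ≤ f ⁻¹ᵁ U, IsFinite (f.resLE U (⨆ j ∈ F, V j) h) := by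
    intro F
    induction F using Finset.induction_on with
    | empty =>
      intro _
      have hbot : (⨆ j ∈ (∅ : Finset ι), V j) = ⊥ := by simp
      refine ⟨hbot ▸ bot_le, ?_⟩
      rw [Scheme.Hom.resLE_congr f _ rfl hbot @IsFinite]
      have : IsEmpty ((⊥ : Y.Opens) : Type _) := by
        constructor
        rintro ⟨x, hx⟩
        exact hx
      infer_instance
    | insert a F ha ih =>
      intro hsub
      have haS : a ∈ s := hsub (Finset.mem_insert_self _ _)
      have hFs : F ⊆ s := fun j hj => hsub (Finset.mem_insert_of_mem hj)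
      obtain ⟨hF, hFfin⟩ := ih hFs
      choose! C hCcl hC using hclopen a haS
      let CC : Set Y := ⋃ j ∈ F, C j
      have hCC : IsClosed CC :=
        F.finite_toSet.isClosed_biUnion fun j hj => hCcl j (hFs hj)
      let WF : Y.Opens := ⨆ j ∈ F, V j
      have hWF : (WF : Set Y) = ⋃ j ∈ F, (V j : Set Y) := by
        simp [WF]
      have h1 : (V a : Set Y) ∩ WF = (V a : Set Y) ∩ CC := by
        rw [hWF, Set.inter_iUnion₂, Set.inter_iUnion₂]
        exact Set.iUnion₂_congr fun j hj => hC j (hFs hj)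
      let P : Y.Opens := V a ⊓ ⟨CCᶜ, hCC.isOpen_compl⟩
      have hPle : P ≤ V a := inf_le_left
      have hdisj : P ⊓ WF = ⊥ := by
        rw [eq_bot_iff]
        rintro y ⟨⟨hya, hyC⟩, hyW⟩
        have : y ∈ (V a : Set Y) ∩ CC := h1 ▸ ⟨hya, hyW⟩
        exact hyC this.2
      have hsup : P ⊔ WF = ⨆ j ∈ insert a F, V j := by
        rw [Finset.iSup_insert]
        apply le_antisymm
        · exact sup_le_sup_right hPle _
        · refine sup_le ?_ le_sup_right
          intro y hy
          by_cases hyC : y ∈ CC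
          · have : y ∈ (V a : Set Y) ∩ WF := h1 ▸ ⟨hy, hyC⟩
            exact (le_sup_right : WF ≤ P ⊔ WF) this.2
          · exact (le_sup_left : P ≤ P ⊔ WF) ⟨hy, hyC⟩
      have hPfin : IsFinite (f.resLE U P (hPle.trans (hle a haS))) := by
        have hcl : IsClosedImmersion (Y.homOfLE hPle) := by
          apply IsClosedImmersion.of_isPreimmersion
          have hr : Set.range (Y.homOfLE hPle) = ((V a).ι ⁻¹ᵁ P : (V a).toScheme.Opens) := by
            rw [← Scheme.opensRange_homOfLE]; rfl
          rw [hr]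
          have : (((V a).ι ⁻¹ᵁ P : (V a).toScheme.Opens) : Set (V a)) =
              (((V a).ι ⁻¹ᵁ WF : (V a).toScheme.Opens) : Set (V a))ᶜ := by
            ext y
            simp only [Scheme.Hom.coe_preimage, Set.mem_preimage, Set.mem_compl_iff, SetLike.mem_coe]
            constructor
            · intro hyP hyW
              have : (V a).ι y ∈ P ⊓ WF := ⟨hyP, hyW⟩
              rw [hdisj] at this
              exact this
            · intro hyW
              refine ⟨by simp, fun hyC => hyW ?_⟩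
              have : (V a).ι y ∈ (V a : Set Y) ∩ WF := h1 ▸ ⟨by simp, hyC⟩
              exact this.2
          rw [this]
          exact ((V a).ι ⁻¹ᵁ WF).isOpen.isClosed_compl
        have := hfin a haS
        rw [← Scheme.Hom.map_resLE f (hle a haS) hPle]
        infer_instance
      have := isFinite_resLE_sup f U P WF (hPle.trans (hle a haS)) hF hdisj hPfin hFfin
      refine ⟨hsup ▸ sup_le (hPle.trans (hle a haS)) hF, ?_⟩
      exact (Scheme.Hom.resLE_congr f _ rfl hsup @IsFinite).mp this
  obtain ⟨h, hfin'⟩ := key s (Finset.Subset.refl _)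
  have heq : (⨆ j ∈ s, V j) = f ⁻¹ᵁ U := le_antisymm h hcov
  rw [← Scheme.Hom.resLE_eq_morphismRestrict]
  exact (Scheme.Hom.resLE_congr f _ rfl heq @IsFinite).mp hfin'

end Groth.Agent.Lib.Helper6.ND
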