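import Mathlib
import Groth.Agent.Lib.Helper6.ND4

/-!
# A quasi-finite morphism is finite over a dense open of the target
-/

set_option autoImplicit false
universe u v

namespace Groth.Agent.Lib.Helper6.ND

open AlgebraicGeometry CategoryTheory Limits

variable {Y X : Scheme.{u}} (f : Y ⟶ X)

/-- translation between restrictions of `V.ι ≫ f` and `resLE` -/
theorem isFinite_resLE_inf_of_isFinite_restrict (U : X.Opens) (V : Y.Opens)
    (h : IsFinite ((V.ι ≫ f) ∣_ U)) : IsFinite (f.resLE U (V ⊓ f ⁻¹ᵁ U) inf_le_right) := by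
  let W : V.toScheme.Opens := (V.ι ≫ f) ⁻¹ᵁ U
  have hW : W ≤ V.ι ⁻¹ᵁ (V ⊓ f ⁻¹ᵁ U) := by
    intro y hy
    exact ⟨by simp, hy⟩
  have heq : (V.ι ≫ f) ∣_ U =
      V.ι.resLE (V ⊓ f ⁻¹ᵁ U) W hW ≫ f.resLE U (V ⊓ f ⁻¹ᵁ U) inf_le_right := by
    rw [Scheme.Hom.resLE_comp_resLE, ← Scheme.Hom.resLE_eq_morphismRestrict]
  have hopen : IsOpenImmersion (V.ι.resLE (V ⊓ f ⁻¹ᵁ U) W hW) := by
    delta Scheme.Hom.resLE; infer_instance
  have hsurj : Surjective (V.ι.resLE (V ⊓ f ⁻¹ᵁ U) W hW) := by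
    constructor
    rintro ⟨y, hyV, hyU⟩
    refine ⟨⟨⟨y, hyV⟩, hyU⟩, ?_⟩
    apply Subtype.ext
    rw [Scheme.Hom.coe_resLE_apply]
    rfl
  have hiso : IsIso (V.ι.resLE (V ⊓ f ⁻¹ᵁ U) W hW) :=
    (isIso_iff_isOpenImmersion_and_surjective _).mpr ⟨hopen, hsurj⟩
  rw [heq] at h
  exact (MorphismProperty.cancel_left_of_respectsIso @IsFinite _ _).mp h

/-- Affine target case. -/
theorem exists_dense_isFinite_restrict_of_isAffine_target [IsAffine X] [LocallyQuasiFinite f]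
    [LocallyOfFiniteType f] [QuasiCompact f] :
    ∃ U : X.Opens, Dense (U : Set X) ∧ IsFinite (f ∣_ U) := by
  classical
  have hYc : CompactSpace Y := QuasiCompact.compactSpace_of_compactSpace f
  obtain ⟨s, hs, hsU⟩ := isCompact_and_isOpen_iff_finite_and_eq_biUnion_affineOpens.mp
    ⟨(isCompact_univ : IsCompact (Set.univ : Set Y)), isOpen_univ⟩
  let Fs : Finset Y.affineOpens := hs.toFinset
  have hcovY : ∀ y : Y, ∃ V ∈ Fs, y ∈ (V : Y.Opens) := by
    intro y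
    have : y ∈ (Set.univ : Set Y) := trivial
    rw [hsU] at this
    obtain ⟨V, hV, hy⟩ := Set.mem_iUnion₂.mp this
    exact ⟨V, hs.mem_toFinset.mpr hV, hy⟩
  have haff : ∀ V : Y.affineOpens, IsAffine (V : Y.Opens).toScheme := fun V => V.2
  have key : ∀ V : Y.affineOpens, ∃ W : X.Opens, Dense (W : Set X) ∧
      IsFinite (((V : Y.Opens).ι ≫ f) ∣_ W) := fun V =>
    exists_dense_isFinite_restrict_of_isAffine ((V : Y.Opens).ι ≫ f)
  choose W hWd hWf using key
  -- frontier sets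
  let T : Y.affineOpens → Y.affineOpens → Set X := fun V V' =>
    ((V : Y.Opens).ι ≫ f) '' frontier ((V : Y.Opens).ι ⁻¹' ((V' : Y.Opens) : Set Y))
  have hTnd : ∀ V V', IsNowhereDense (T V V') := by
    intro V V'
    have hlqf : LocallyQuasiFinite ((V : Y.Opens).ι ≫ f) := inferInstance
    have hqc : QuasiCompact ((V : Y.Opens).ι ≫ f) :=
      (HasAffineProperty.iff_of_isAffine (P := @QuasiCompact)).mpr
        (inferInstance : CompactSpace (V : Y.Opens).toScheme)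
    exact isNowhereDense_image _ (isNowhereDense_frontier_of_isOpen
      ((V' : Y.Opens).2.preimage (V : Y.Opens).ι.continuous))
  let Nall : Set X := ⋃ V ∈ Fs, ⋃ V' ∈ Fs, T V V'
  have hNall : IsNowhereDense Nall :=
    isNowhereDense_biUnion_finset Fs _ fun V _ =>
      isNowhereDense_biUnion_finset Fs _ fun V' _ => hTnd V V'
  let K : Set X := closure Nall
  have hKd : Dense Kᶜ := (isClosed_isNowhereDense_iff_compl.mp ⟨isClosed_closure, hNall.closure⟩).2
  let W₀ : Set X := ⋂ V ∈ Fs, ((W V : X.Opens) : Set X)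
  have hW₀o : IsOpen W₀ := isOpen_biInter_finset fun V _ => (W V).2
  have hW₀d : Dense W₀ :=
    dense_biInter_finset_of_isOpen Fs _ (fun V _ => (W V).2) (fun V _ => hWd V)
  let U : X.Opens := ⟨W₀ ∩ Kᶜ, hW₀o.inter isClosed_closure.isOpen_compl⟩
  have hUd : Dense (U : Set X) := hW₀d.inter_of_isOpen_left hKd hW₀o
  refine ⟨U, hUd, ?_⟩
  refine isFinite_restrict_of_finite_cover f U Fs (fun V => (V : Y.Opens) ⊓ f ⁻¹ᵁ U)
    (fun V _ => inf_le_right) ?_ ?_ ?_
  · intro y hy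
    obtain ⟨V, hV, hyV⟩ := hcovY y
    have : y ∈ ((V : Y.Opens) ⊓ f ⁻¹ᵁ U : Y.Opens) := ⟨hyV, hy⟩
    exact (le_iSup₂ (f := fun (V : Y.affineOpens) (_ : V ∈ Fs) => (V : Y.Opens) ⊓ f ⁻¹ᵁ U) V hV) this
  · intro V hV
    apply isFinite_resLE_inf_of_isFinite_restrict
    have hUW : U ≤ W V := by
      intro x hx
      exact Set.mem_iInter₂.mp hx.1 V hV
    exact restrict_of_le _ hUW (hWf V)
  · intro V hV V' hV'
    refine ⟨closure ((V' : Y.Opens) : Set Y), isClosed_closure, ?_⟩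
    ext y
    constructor
    · rintro ⟨hy1, hy2⟩
      exact ⟨hy1, subset_closure hy2.1⟩
    · rintro ⟨⟨hyV, hyU⟩, hycl⟩
      refine ⟨⟨hyV, hyU⟩, ?_, hyU⟩
      by_contra hyV'
      let y' : (V : Y.Opens).toScheme := ⟨y, hyV⟩
      have h1 : y' ∈ frontier ((V : Y.Opens).ι ⁻¹' ((V' : Y.Opens) : Set Y)) := by
        constructor
        · rw [← (V : Y.Opens).ι.isOpenEmbedding.isOpenMap.preimage_closure_eq_closure_preimage
            (V : Y.Opens).ι.continuous]
          exact hycl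
        · intro h
          have h' : y' ∈ (V : Y.Opens).ι ⁻¹' ((V' : Y.Opens) : Set Y) := interior_subset h
          exact hyV' h'
      have h2 : f y ∈ T V V' := ⟨y', h1, rfl⟩
      have h3 : f y ∈ K := subset_closure
        (Set.mem_iUnion₂.mpr ⟨V, hV, Set.mem_iUnion₂.mpr ⟨V', hV', h2⟩⟩)
      exact hyU.2 h3

/-- A quasi-finite morphism is finite over a dense open subset of the target. -/
theorem exists_dense_isFinite_restrict [LocallyQuasiFinite f] [LocallyOfFiniteType f]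
    [QuasiCompact f] : ∃ U : X.Opens, Dense (U : Set X) ∧ IsFinite (f ∣_ U) := by
  let I := {W : X.Opens // IsFinite (f ∣_ W)}
  let U : X.Opens := ⨆ i : I, i.1
  have hUfin : IsFinite (f ∣_ U) := restrict_iSup f (fun i : I => i.1) fun i => i.2
  refine ⟨U, ?_, hUfin⟩
  rw [dense_iff_inter_open]
  rintro O hO ⟨x, hx⟩
  obtain ⟨_, ⟨N', hN, rfl⟩, hxN, hNO⟩ := X.isBasis_affineOpens.exists_subset_of_mem_open hx hO
  let N : X.Opens := N'
  have : IsAffine N.toScheme := hN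
  obtain ⟨UN, hUNd, hUNf⟩ := exists_dense_isFinite_restrict_of_isAffine_target (f ∣_ N)
  have h1 : IsFinite (f ∣_ N.ι ''ᵁ UN) :=
    (MorphismProperty.arrow_mk_iso_iff @IsFinite (morphismRestrictRestrict f N UN)).mp hUNf
  have hle : N.ι ''ᵁ UN ≤ U := le_iSup (fun i : I => i.1) ⟨N.ι ''ᵁ UN, h1⟩
  have hne : (Set.univ : Set N).Nonempty := ⟨⟨x, hxN⟩, trivial⟩
  obtain ⟨z, -, hz⟩ := hUNd.inter_open_nonempty _ isOpen_univ hne
  refine ⟨N.ι z, hNO z.2, hle ⟨z, hz, rfl⟩⟩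

end Groth.Agent.Lib.Helper6.ND
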