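import Mathlib
import Groth.Agent.Lib.Helper22.FibreDim

/-!
# Noether normalization and maps to affine space: ring level (helper6)
-/

set_option autoImplicit false
universe u

namespace Groth.Agent.Lib.Helper6.NNDim

open MvPolynomial

section Ring

variable (k : Type u) [Field k] (A : Type u) [CommRing A] [Nontrivial A] [Algebra k A]
  [Algebra.FiniteType k A]

theorem comap_rename_surjective {σ τ : Type*} (ι : σ → τ) (hι : Function.Injective ι) :
    Function.Surjective (PrimeSpectrum.comap
      (rename ι : MvPolynomial σ k →ₐ[k] MvPolynomial τ k).toRingHom) := by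
  intro p
  refine ⟨PrimeSpectrum.comap (killCompl hι : MvPolynomial τ k →ₐ[k] MvPolynomial σ k).toRingHom
    p, ?_⟩
  apply PrimeSpectrum.ext
  ext x
  simp only [PrimeSpectrum.comap_asIdeal, Ideal.mem_comap]
  change killCompl hι (rename ι x) ∈ p.asIdeal ↔ _
  rw [killCompl_rename_app]

theorem exists_algHom_of_le (n : ℕ) (h : (n : WithBot ℕ∞) ≤ ringKrullDim A) :
    ∃ ψ : MvPolynomial (ULift.{u} (Fin n)) k →ₐ[k] A,
      Function.Surjective (PrimeSpectrum.comap ψ.toRingHom) := by
  obtain ⟨s, g, hinj, hfin⟩ := exists_finite_inj_algHom_of_fg k A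
  have hint : ∀ b : A, g.toRingHom.IsIntegralElem b := fun b => hfin.to_isIntegral b
  have hs : ringKrullDim A = s :=
    Groth.Agent.Lib.Helper22.ringKrullDim_eq_of_finite_inj s g hinj hint
  rw [hs] at h
  have hns : n ≤ s := by exact_mod_cast h
  let ι : ULift.{u} (Fin n) → Fin s := fun i => Fin.castLE hns i.down
  have hι : Function.Injective ι := by
    intro a b hab
    have := Fin.castLE_injective hns hab
    exact ULift.ext _ _ this
  refine ⟨g.comp (rename ι), ?_⟩
  have h1 : Function.Surjective (PrimeSpectrum.comap g.toRingHom) :=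
    RingHom.IsIntegral.comap_surjective (f := g.toRingHom) hint hinj
  intro p
  obtain ⟨q, hq⟩ := comap_rename_surjective k ι hι p
  obtain ⟨r, hr⟩ := h1 q
  refine ⟨r, ?_⟩
  rw [← hq, ← hr]
  rfl

theorem exists_algHom_of_ge (n : ℕ) (h : ringKrullDim A ≤ n) :
    ∃ ψ : MvPolynomial (ULift.{u} (Fin n)) k →ₐ[k] A, ψ.toRingHom.Finite := by
  obtain ⟨s, g, hinj, hfin⟩ := exists_finite_inj_algHom_of_fg k A
  have hint : ∀ b : A, g.toRingHom.IsIntegralElem b := fun b => hfin.to_isIntegral b
  have hs : ringKrullDim A = s :=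
    Groth.Agent.Lib.Helper22.ringKrullDim_eq_of_finite_inj s g hinj hint
  rw [hs] at h
  have hns : s ≤ n := by exact_mod_cast h
  let ι : Fin s → ULift.{u} (Fin n) := fun i => ULift.up (Fin.castLE hns i)
  have hι : Function.Injective ι := by
    intro a b hab
    exact Fin.castLE_injective hns (ULift.up_injective hab)
  refine ⟨g.comp (killCompl hι), ?_⟩
  have h2 : Function.Surjective (killCompl hι :
      MvPolynomial (ULift.{u} (Fin n)) k →ₐ[k] _).toRingHom := by
    intro x
    exact ⟨rename ι x, killCompl_rename_app hι x⟩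
  have h3 : (killCompl hι : MvPolynomial (ULift.{u} (Fin n)) k →ₐ[k]
      MvPolynomial (Fin s) k).toRingHom.Finite := RingHom.Finite.of_surjective _ h2
  exact RingHom.Finite.comp hfin h3

theorem exists_algHom_of_eq (n : ℕ) (h : ringKrullDim A = n) :
    ∃ ψ : MvPolynomial (ULift.{u} (Fin n)) k →ₐ[k] A, ψ.toRingHom.Finite ∧
      Function.Surjective (PrimeSpectrum.comap ψ.toRingHom) := by
  obtain ⟨s, g, hinj, hfin⟩ := exists_finite_inj_algHom_of_fg k A
  have hint : ∀ b : A, g.toRingHom.IsIntegralElem b := fun b => hfin.to_isIntegral b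
  have hs : ringKrullDim A = s :=
    Groth.Agent.Lib.Helper22.ringKrullDim_eq_of_finite_inj s g hinj hint
  rw [hs] at h
  have hns : s = n := by exact_mod_cast h
  subst hns
  let e : ULift.{u} (Fin s) ≃ Fin s := Equiv.ulift
  refine ⟨g.comp (rename e), ?_, ?_⟩
  · have h2 : Function.Surjective (rename e :
        MvPolynomial (ULift.{u} (Fin s)) k →ₐ[k] _).toRingHom :=
      rename_surjective _ e.surjective
    have h3 : (rename e : MvPolynomial (ULift.{u} (Fin s)) k →ₐ[k] _).toRingHom.Finite :=
      RingHom.Finite.of_surjective _ h2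
    exact RingHom.Finite.comp hfin h3
  · have h1 : Function.Surjective (PrimeSpectrum.comap g.toRingHom) :=
      RingHom.IsIntegral.comap_surjective (f := g.toRingHom) hint hinj
    intro p
    obtain ⟨q, hq⟩ := comap_rename_surjective k (e : ULift.{u} (Fin s) → Fin s) e.injective p
    obtain ⟨r, hr⟩ := h1 q
    refine ⟨r, ?_⟩
    rw [← hq, ← hr]
    rfl

end Ring

end Groth.Agent.Lib.Helper6.NNDim
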