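import Mathlib
import Groth.Agent.Lib.Helper18.SchDim3
import Groth.Agent.Lib.Helper14.IntDim
import Groth.Agent.Lib.Helper18.TopDim

/-!
# Dimension of schemes of finite type over a field: dense opens and dominant maps (helper6)
-/

set_option autoImplicit false
set_option linter.style.haveILetI false
universe u
open AlgebraicGeometry CategoryTheory TopologicalSpace

namespace Groth.Agent.Lib.Helper6.NNDim

/-- A Noetherian scheme has a dense affine open. -/
theorem exists_dense_isAffineOpen (X : Scheme.{u}) [NoetherianSpace X] :
    ∃ U : X.Opens, IsAffineOpen U ∧ Dense (U : Set X) := by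
  have hwf : WellFoundedGT (Opens X) := inferInstance
  obtain ⟨U, hU, hmax⟩ := hwf.wf.has_min {U : X.Opens | IsAffineOpen U} ⟨⊥, isAffineOpen_bot X⟩
  refine ⟨U, hU, ?_⟩
  by_contra hnd
  rw [dense_iff_closure_eq] at hnd
  obtain ⟨x, hx⟩ : ∃ x, x ∉ closure (U : Set X) := by
    by_contra hcon
    push Not at hcon
    exact hnd (Set.eq_univ_of_forall hcon)
  let O : X.Opens := ⟨(closure (U : Set X))ᶜ, isClosed_closure.isOpen_compl⟩
  obtain ⟨_, ⟨V, hV : IsAffineOpen V, rfl⟩, hxV, hVO⟩ :=
    X.isBasis_affineOpens.exists_subset_of_mem_open (show x ∈ O from hx) O.isOpen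
  have hdisj : Disjoint U V := by
    rw [← Opens.coe_disjoint, Set.disjoint_left]
    intro y hyU hyV
    exact hVO hyV (subset_closure hyU)
  have haff : IsAffineOpen (U ⊔ V) := hU.sup_of_disjoint hV hdisj
  refine hmax (U ⊔ V) haff ?_
  refine lt_of_le_of_ne le_sup_left ?_
  intro heq
  have : x ∈ U := by
    rw [heq]
    exact Or.inr hxV
  exact hx (subset_closure this)

/-- generic points of irreducible components lie in every dense open -/
theorem mem_of_dense_of_mem_irreducibleComponents {T : Type*} [TopologicalSpace T]
    [NoetherianSpace T] (U : Set T) (hU : IsOpen U) (hd : Dense U) (ξ : T)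
    (hξ : closure {ξ} ∈ irreducibleComponents T) : ξ ∈ U := by
  obtain ⟨o, ho, hone, hoZ⟩ :=
    NoetherianSpace.exists_isOpen_nonempty_subset_irreducibleComponent _ hξ
  obtain ⟨y, hyo, hyU⟩ := hd.inter_open_nonempty o ho hone
  have hsp : ξ ⤳ y := specializes_iff_mem_closure.mpr (hoZ hyo)
  exact hsp.mem_open hU hyU

theorem topologicalKrullDim_Spec_field (k : Type u) [Field k] :
    topologicalKrullDim ↥(Spec (CommRingCat.of k)) = 0 := by
  change topologicalKrullDim (PrimeSpectrum k) = 0
  rw [PrimeSpectrum.topologicalKrullDim_eq_ringKrullDim, ringKrullDim_eq_zero_of_field]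

theorem topologicalKrullDim_affineSpace (k : Type u) [Field k] (n : ℕ) :
    topologicalKrullDim ↥(𝔸(ULift.{u} (Fin n); Spec (CommRingCat.of k))) = n := by
  have h1 : topologicalKrullDim ↥(𝔸(ULift.{u} (Fin n); Spec (CommRingCat.of k))) =
      topologicalKrullDim (PrimeSpectrum (MvPolynomial (ULift.{u} (Fin n)) k)) :=
    IsHomeomorph.topologicalKrullDim_eq _
      (Scheme.homeoOfIso (AffineSpace.SpecIso (ULift.{u} (Fin n)) (CommRingCat.of k))).isHomeomorph
  rw [h1, PrimeSpectrum.topologicalKrullDim_eq_ringKrullDim,
    MvPolynomial.ringKrullDim_of_isNoetherianRing, ringKrullDim_eq_zero_of_field]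
  simp

open Groth.Agent.Lib.Helper18.SchDim Groth.Agent.Lib.Helper14.AS in
/-- If every generic point of an irreducible component of `Y` is in the image of `g : U ⟶ Y`
(both locally of finite type over a field) then `dim Y ≤ dim U`. -/
theorem topologicalKrullDim_le_of_generic_mem_range (k : Type u) [Field k] {U Y : Scheme.{u}}
    (fY : Y ⟶ Spec (CommRingCat.of k)) [LocallyOfFiniteType fY] (g : U ⟶ Y)
    [LocallyOfFiniteType (g ≫ fY)]
    (h : ∀ η : Y, closure {η} ∈ irreducibleComponents Y → η ∈ Set.range g.base) :
    topologicalKrullDim Y ≤ topologicalKrullDim U := by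
  rw [topologicalKrullDim_eq_iSup_stalk Y]
  refine iSup_le fun y => ?_
  obtain ⟨η, hη⟩ : ∃ η : Y, closure {η} ∈ irreducibleComponents Y := by
    have hZ := irreducibleComponent_mem_irreducibleComponents y
    have hirr : IsIrreducible (irreducibleComponent y) := isIrreducible_irreducibleComponent
    have hcl : IsClosed (irreducibleComponent y) := isClosed_irreducibleComponent
    refine ⟨hirr.genericPoint, ?_⟩
    rw [(hirr.isGenericPoint_genericPoint hcl).def]
    exact hZ
  obtain ⟨u₀, -⟩ := h η hη
  haveI : Nonempty U := ⟨u₀⟩
  have h0 : 0 ≤ topologicalKrullDim U := Groth.Agent.Lib.Helper18.TopDim.zero_le_topologicalKrullDim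
  refine (ringKrullDim_stalk_le_topologicalKrullDim Y y).trans ?_
  induction hd : topologicalKrullDim U using WithBot.recBotCoe with
  | bot => rw [hd] at h0; exact absurd h0 (by simp)
  | coe d =>
    induction d using ENat.recTopCoe with
    | top => exact le_top
    | coe m =>
      have key := topologicalKrullDim_le_add fY m ?_
      · rw [topologicalKrullDim_Spec_field, zero_add] at key
        exact key
      · intro ξ hξ
        obtain ⟨u, rfl⟩ := h ξ hξ
        obtain ⟨m', hm'⟩ := exists_nat_trdeg_residueField (g ≫ fY) u
        obtain ⟨ξ₀, -, hξ₀⟩ := exists_same_fibre_le_ringKrullDim_stalk (g ≫ fY) u m' hm'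
        have h1 : (m' : WithBot ℕ∞) ≤ (m : ℕ∞) :=
          hξ₀.trans ((ringKrullDim_stalk_le_topologicalKrullDim U ξ₀).trans hd.le)
        have hm'm : m' ≤ m := by exact_mod_cast h1
        have htower : @Algebra.trdeg ((Spec (CommRingCat.of k)).residueField (fY (g u)))
            (Y.residueField (g u)) _ _ (fY.residueFieldMap (g u)).hom.toAlgebra ≤
            @Algebra.trdeg ((Spec (CommRingCat.of k)).residueField ((g ≫ fY) u))
            (U.residueField u) _ _ ((g ≫ fY).residueFieldMap u).hom.toAlgebra := by
          letI a1 : Algebra ((Spec (CommRingCat.of k)).residueField (fY (g u)))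
            (Y.residueField (g u)) := (fY.residueFieldMap (g u)).hom.toAlgebra
          letI a2 : Algebra (Y.residueField (g u)) (U.residueField u) :=
            (g.residueFieldMap u).hom.toAlgebra
          letI a3 : Algebra ((Spec (CommRingCat.of k)).residueField (fY (g u)))
            (U.residueField u) := ((g ≫ fY).residueFieldMap u).hom.toAlgebra
          haveI : IsScalarTower ((Spec (CommRingCat.of k)).residueField (fY (g u)))
              (Y.residueField (g u)) (U.residueField u) := by
            refine IsScalarTower.of_algebraMap_eq fun x => ?_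
            change ((g ≫ fY).residueFieldMap u).hom x = _
            rw [Scheme.residueFieldMap_comp]
            rfl
          haveI : FaithfulSMul ((Spec (CommRingCat.of k)).residueField (fY (g u)))
              (Y.residueField (g u)) :=
            (faithfulSMul_iff_algebraMap_injective _ _).mpr (RingHom.injective _)
          haveI : FaithfulSMul (Y.residueField (g u)) (U.residueField u) :=
            (faithfulSMul_iff_algebraMap_injective _ _).mpr (RingHom.injective _)
          have := trdeg_add_eq ((Spec (CommRingCat.of k)).residueField (fY (g u)))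
            (Y.residueField (g u)) (A := U.residueField u)
          exact le_trans (self_le_add_right _
            (Algebra.trdeg (Y.residueField (g u)) (U.residueField u))) (le_of_eq this)
        calc _ ≤ _ := htower
          _ = (m' : Cardinal) := hm'
          _ ≤ m := by exact_mod_cast hm'm

end Groth.Agent.Lib.Helper6.NNDim
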