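import Mathlib
import Groth.Agent.Lib.Helper6.NNDim1
import Groth.Agent.Lib.Helper6.NNDim2
import Groth.Agent.Lib.Helper6.BddFibBasic

/-!
# Maps from affine schemes of finite type over a field to affine space (helper6)
-/

set_option autoImplicit false
set_option linter.style.haveILetI false
universe u
open AlgebraicGeometry CategoryTheory TopologicalSpace

namespace Groth.Agent.Lib.Helper6.NNDim

theorem exists_hom_affineSpace (k : Type u) [Field k] {W : Scheme.{u}} [IsAffine W] [Nonempty W]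
    (h : W ⟶ Spec (CommRingCat.of k)) [LocallyOfFiniteType h] (n : ℕ) :
    ((n : WithBot ℕ∞) ≤ topologicalKrullDim W →
      ∃ g : W ⟶ 𝔸(ULift.{u} (Fin n); Spec (CommRingCat.of k)),
        g ≫ (𝔸(ULift.{u} (Fin n); Spec (CommRingCat.of k)) ↘ Spec (CommRingCat.of k)) = h ∧
          Function.Surjective g.base) ∧
    (topologicalKrullDim W ≤ n →
      ∃ g : W ⟶ 𝔸(ULift.{u} (Fin n); Spec (CommRingCat.of k)),
        g ≫ (𝔸(ULift.{u} (Fin n); Spec (CommRingCat.of k)) ↘ Spec (CommRingCat.of k)) = h ∧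
          IsFinite g) ∧
    (topologicalKrullDim W = n →
      ∃ g : W ⟶ 𝔸(ULift.{u} (Fin n); Spec (CommRingCat.of k)),
        g ≫ (𝔸(ULift.{u} (Fin n); Spec (CommRingCat.of k)) ↘ Spec (CommRingCat.of k)) = h ∧
          IsFinite g ∧ Function.Surjective g.base) := by
  let χ : (CommRingCat.of k) ⟶ Γ(W, ⊤) := (Scheme.ΓSpecIso (CommRingCat.of k)).inv ≫ h.appTop
  letI alg : Algebra k Γ(W, ⊤) := χ.hom.toAlgebra
  have hh : h = W.isoSpec.hom ≫ Spec.map χ :=
    Groth.Agent.Lib.Helper6.BddFibLib.eq_isoSpec_hom_comp h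
  haveI hft : Algebra.FiniteType k Γ(W, ⊤) := by
    have h1 : LocallyOfFiniteType (Spec.map χ) := by
      have : Spec.map χ = W.isoSpec.inv ≫ h := by rw [hh, Iso.inv_hom_id_assoc]
      rw [this]; infer_instance
    have h2 : χ.hom.FiniteType := (HasRingHomProperty.Spec_iff (P := @LocallyOfFiniteType)).mp h1
    exact h2
  have hdim : topologicalKrullDim W = ringKrullDim Γ(W, ⊤) := by
    have h2 : topologicalKrullDim W = topologicalKrullDim (PrimeSpectrum Γ(W, ⊤)) :=
      IsHomeomorph.topologicalKrullDim_eq _ (Scheme.homeoOfIso W.isoSpec).isHomeomorph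
    rw [h2, PrimeSpectrum.topologicalKrullDim_eq_ringKrullDim]
  haveI : Nontrivial Γ(W, ⊤) := by
    obtain ⟨w⟩ := ‹Nonempty W›
    have : Nonempty (PrimeSpectrum Γ(W, ⊤)) := ⟨W.isoSpec.hom w⟩
    exact (PrimeSpectrum.nonempty_iff_nontrivial).mp this
  have key : ∀ ψ : MvPolynomial (ULift.{u} (Fin n)) k →ₐ[k] Γ(W, ⊤),
      (W.isoSpec.hom ≫ Spec.map (CommRingCat.ofHom ψ.toRingHom) ≫
        (AffineSpace.SpecIso (ULift.{u} (Fin n)) (CommRingCat.of k)).inv) ≫
        (𝔸(ULift.{u} (Fin n); Spec (CommRingCat.of k)) ↘ Spec (CommRingCat.of k)) = h ∧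
      (ψ.toRingHom.Finite → IsFinite (W.isoSpec.hom ≫ Spec.map (CommRingCat.ofHom ψ.toRingHom) ≫
        (AffineSpace.SpecIso (ULift.{u} (Fin n)) (CommRingCat.of k)).inv)) ∧
      (Function.Surjective (PrimeSpectrum.comap ψ.toRingHom) →
        Function.Surjective (W.isoSpec.hom ≫ Spec.map (CommRingCat.ofHom ψ.toRingHom) ≫
        (AffineSpace.SpecIso (ULift.{u} (Fin n)) (CommRingCat.of k)).inv).base) := by
    intro ψ
    refine ⟨?_, ?_, ?_⟩
    · rw [Category.assoc, Category.assoc, AffineSpace.SpecIso_inv_over, ← Spec.map_comp, hh]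
      congr 2
      ext a
      exact ψ.commutes a
    · intro hfin
      haveI : IsFinite (Spec.map (CommRingCat.ofHom ψ.toRingHom)) :=
        (IsFinite.SpecMap_iff _).mpr hfin
      infer_instance
    · intro hsurj
      have h1 : Function.Surjective (Spec.map (CommRingCat.ofHom ψ.toRingHom)).base := hsurj
      have h2 : Function.Surjective W.isoSpec.hom.base :=
        (Scheme.homeoOfIso W.isoSpec).surjective
      have h3 : Function.Surjective
          (AffineSpace.SpecIso (ULift.{u} (Fin n)) (CommRingCat.of k)).inv.base :=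
        (Scheme.homeoOfIso (AffineSpace.SpecIso (ULift.{u} (Fin n)) (CommRingCat.of k)).symm).surjective
      exact (h3.comp h1).comp h2
  refine ⟨?_, ?_, ?_⟩
  · intro hn
    rw [hdim] at hn
    obtain ⟨ψ, hψ⟩ := exists_algHom_of_le k Γ(W, ⊤) n hn
    exact ⟨_, (key ψ).1, (key ψ).2.2 hψ⟩
  · intro hn
    rw [hdim] at hn
    obtain ⟨ψ, hψ⟩ := exists_algHom_of_ge k Γ(W, ⊤) n hn
    exact ⟨_, (key ψ).1, (key ψ).2.1 hψ⟩
  · intro hn
    rw [hdim] at hn
    obtain ⟨ψ, hψ1, hψ2⟩ := exists_algHom_of_eq k Γ(W, ⊤) n hn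
    exact ⟨_, (key ψ).1, (key ψ).2.1 hψ1, (key ψ).2.2 hψ2⟩

end Groth.Agent.Lib.Helper6.NNDim
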