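import Mathlib
import Groth.Prelude.Def_Pi1
import Groth.Agent.Lib.Helper6.NormIsoD

set_option autoImplicit false
set_option linter.style.haveILetI false
universe u
open CategoryTheory AlgebraicGeometry

namespace Groth.Agent.Lib.Helper6.NormIso

open Groth.Agent.Lib.Helper6.GU

/-- For an integral morphism `f : Y ⟶ X` of integral schemes which is an isomorphism on generic
stalks, the normalization of `X` maps dominantly to `Y` over `X`. -/
theorem exists_desc (X : Scheme.{u}) [IsIntegral X]
    (h : Spec (CommRingCat.of X.functionField) ⟶ X) (hh : h = genHom X X.functionField (𝟙 _))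
    [QuasiCompact h] [QuasiSeparated h]
    {Y : Scheme.{u}} [IsIntegral Y] (f : Y ⟶ X) [IsIntegralHom f]
    (hfη : f (genericPoint Y) = genericPoint X)
    (hiso : IsIso (f.stalkMap (genericPoint Y))) :
    ∃ l : h.normalization ⟶ Y, l ≫ f = h.fromNormalization ∧ IsDominant l := by
  have hsp : genericPoint X ⤳ f (genericPoint Y) := by rw [hfη]
  let ψ : Y.presheaf.stalk (genericPoint Y) ⟶ X.presheaf.stalk (genericPoint X) :=
    inv (f.stalkMap (genericPoint Y)) ≫ X.presheaf.stalkSpecializes hsp
  let h₁ : Spec (CommRingCat.of X.functionField) ⟶ Y :=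
    Spec.map ψ ≫ Y.fromSpecStalk (genericPoint Y)
  have H : h = h₁ ≫ f := by
    rw [hh]
    simp only [h₁, ψ, genHom, Category.assoc]
    rw [← Scheme.SpecMap_stalkMap_fromSpecStalk, ← Spec.map_comp_assoc, ← Category.assoc,
      IsIso.hom_inv_id, Category.id_comp, Scheme.SpecMap_stalkSpecializes_fromSpecStalk]
    erw [Spec.map_id]
    exact Category.id_comp _
  let l := h.normalizationDesc h₁ f H
  have hl1 : h.toNormalization ≫ l = h₁ := h.toNormalization_normalizationDesc h₁ f H
  have hl2 : l ≫ f = h.fromNormalization := h.normalizationDesc_comp h₁ f H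
  haveI : IsDominant h₁ := inferInstanceAs (IsDominant (genHom Y X.functionField ψ))
  have : IsDominant (h.toNormalization ≫ l) := by rw [hl1]; infer_instance
  exact ⟨l, hl2, IsDominant.of_comp h.toNormalization l⟩

/-- An integral birational morphism from an integral scheme to a normal integral scheme is an
isomorphism. -/
theorem isIso_of_birational_of_normal (X : Scheme.{u}) [IsIntegral X]
    (hX : Pi1.IsNormalScheme X) {Y : Scheme.{u}} [IsIntegral Y] (f : Y ⟶ X) [IsIntegralHom f]
    (hfη : f (genericPoint Y) = genericPoint X)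
    (hiso : IsIso (f.stalkMap (genericPoint Y))) : IsIso f := by
  haveI : QuasiCompact (genHom X X.functionField (𝟙 _)) := quasiCompact_of_field_source _
  obtain ⟨e0, he0⟩ := exists_iso_of_good X (genHom X X.functionField (𝟙 _)) rfl (𝟙 X) hX
    (by simp) inferInstance
  have hι : (genHom X X.functionField (𝟙 _)).fromNormalization = e0.inv := by
    rw [← cancel_epi e0.hom, he0, Iso.hom_inv_id]
  obtain ⟨l, hl2, hdom⟩ := exists_desc X (genHom X X.functionField (𝟙 _)) rfl f hfη hiso
  have hlf : l ≫ f ≫ e0.hom = 𝟙 _ := by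
    rw [← Category.assoc, hl2, hι, Iso.inv_hom_id]
  have hfl : (f ≫ e0.hom) ≫ l = 𝟙 _ := by
    refine ext_of_isDominant_of_isSeparated f ?_ l ?_
    · rw [Category.assoc, Category.assoc, hl2, hι, Iso.hom_inv_id, Category.comp_id,
        Category.id_comp]
    · rw [← Category.assoc, hlf, Category.id_comp, Category.comp_id]
  have hk : IsIso (f ≫ e0.hom) := ⟨l, hfl, hlf⟩
  have : f = (f ≫ e0.hom) ≫ e0.inv := by rw [Category.assoc, Iso.hom_inv_id, Category.comp_id]
  rw [this]
  infer_instance

end Groth.Agent.Lib.Helper6.NormIso
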