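import Mathlib

set_option autoImplicit false
set_option linter.style.haveILetI false
universe u
open CategoryTheory AlgebraicGeometry

namespace Groth.Agent.Lib.Helper6.NormalClosedPts

theorem normal_of_localization {R S T : Type*} [CommRing R] [CommRing S] [CommRing T]
    [Algebra R S] [Algebra R T] [Algebra S T] [IsScalarTower R S T] (M N : Submonoid R)
    (h : M ≤ N) [IsLocalization M S] [IsLocalization N T] [Nontrivial T] [IsDomain S]
    [IsIntegrallyClosed S] : IsDomain T ∧ IsIntegrallyClosed T := by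
  haveI := IsLocalization.isLocalization_of_submonoid_le S T M N h
  have hM : N.map (algebraMap R S) ≤ nonZeroDivisors S := by
    rintro _ ⟨a, ha, rfl⟩
    rw [mem_nonZeroDivisors_iff_ne_zero]
    intro h0
    have hu : IsUnit (algebraMap R T a) := IsLocalization.map_units T (⟨a, ha⟩ : N)
    rw [IsScalarTower.algebraMap_apply R S T, h0, map_zero] at hu
    exact not_isUnit_zero hu
  exact ⟨IsLocalization.isDomain_of_le_nonZeroDivisors T hM,
    isIntegrallyClosed_of_isLocalization T _ hM⟩

theorem normal_of_specializes (X : Scheme.{u}) {x y : X} (hxy : x ⤳ y)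
    [IsDomain (X.presheaf.stalk y)] [IsIntegrallyClosed (X.presheaf.stalk y)] :
    IsDomain (X.presheaf.stalk x) ∧ IsIntegrallyClosed (X.presheaf.stalk x) := by
  obtain ⟨_, ⟨U, hU : IsAffineOpen U, rfl⟩, hyU, -⟩ :=
    X.isBasis_affineOpens.exists_subset_of_mem_open (Set.mem_univ y) isOpen_univ
  have hxU : x ∈ U := hxy.mem_open U.2 hyU
  letI := X.presheaf.algebra_section_stalk ⟨y, hyU⟩
  letI := X.presheaf.algebra_section_stalk ⟨x, hxU⟩
  haveI := hU.isLocalization_stalk ⟨y, hyU⟩
  haveI := hU.isLocalization_stalk ⟨x, hxU⟩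
  letI : Algebra (X.presheaf.stalk y) (X.presheaf.stalk x) :=
    (X.presheaf.stalkSpecializes hxy).hom.toAlgebra
  haveI : IsScalarTower Γ(X, U) (X.presheaf.stalk y) (X.presheaf.stalk x) :=
    .of_algebraMap_eq' (by
      change _ = (X.presheaf.stalkSpecializes hxy).hom.comp (X.presheaf.germ U y hyU).hom
      rw [← CommRingCat.hom_comp, TopCat.Presheaf.germ_stalkSpecializes]
      rfl)
  have hsp : (⟨x, hxU⟩ : U) ⤳ ⟨y, hyU⟩ := (subtype_specializes_iff _ _).mpr hxy
  have hle : (hU.primeIdealOf ⟨y, hyU⟩).asIdeal.primeCompl ≤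
      (hU.primeIdealOf ⟨x, hxU⟩).asIdeal.primeCompl := by
    have h1 : hU.primeIdealOf ⟨x, hxU⟩ ⤳ hU.primeIdealOf ⟨y, hyU⟩ :=
      hsp.map hU.isoSpec.hom.base.hom.2
    have h2 := (PrimeSpectrum.le_iff_specializes _ _).mpr h1
    intro a ha hax
    exact ha (h2 hax)
  exact normal_of_localization (R := Γ(X, U)) (S := X.presheaf.stalk y) (T := X.presheaf.stalk x)
    _ _ hle

end Groth.Agent.Lib.Helper6.NormalClosedPts
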