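import Mathlib
import Groth.Agent.Lib.Helper6.PUO2
import Groth.Agent.Lib.Helper6.PUO7
import Groth.Agent.Lib.Helper6.UO4
import Groth.Agent.Lib.Helper17.ProCons

/-!
# Pointwise universal openness and discrete valuation rings (EGA IV 14.3.?)
-/

set_option autoImplicit false
set_option linter.style.haveILetI false
universe u

open CategoryTheory AlgebraicGeometry Limits TopologicalSpace

namespace Groth.Agent.Lib.Helper6.PUO

open Groth.Agent.Lib.Helper14.UOA EGA43 Groth.Agent.Lib.Helper6.UO

/-- Variant of `isUnivOpenAt_of_isOpenAt_affineSpace` with the base change to `𝔸ⁿ_Y`. -/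
theorem isUnivOpenAt_of_isOpenAt_pullback_affineSpace {X Y : Scheme.{u}} (f : X ⟶ Y) (x : X)
    (h : ∀ n : ℕ, 0 < n → ∀ x' : ↥(pullback f (𝔸(ULift.{u} (Fin n); Y) ↘ Y)),
      (pullback.fst f (𝔸(ULift.{u} (Fin n); Y) ↘ Y)).base x' = x →
      IsOpenAt (pullback.snd f (𝔸(ULift.{u} (Fin n); Y) ↘ Y)).base x') :
    IsUnivOpenAt f x := by
  refine isUnivOpenAt_of_isOpenAt_affineSpace f x fun n hn x'' hx'' => ?_
  have hpb := (AffineSpace.isPullback_map (n := ULift.{u} (Fin n)) f).flip
  have e : hpb.isoPullback.hom ≫ pullback.snd f (𝔸(ULift.{u} (Fin n); Y) ↘ Y) =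
      AffineSpace.map (ULift.{u} (Fin n)) f := hpb.isoPullback_hom_snd
  have e' : hpb.isoPullback.hom ≫ pullback.fst f (𝔸(ULift.{u} (Fin n); Y) ↘ Y) =
      (𝔸(ULift.{u} (Fin n); X) ↘ X) := hpb.isoPullback_hom_fst
  rw [← e, comp_base_eq]
  refine isOpenAt_comp _ _ _ (isOpenAt_of_isIso _ _) (h n hn _ ?_)
  rw [← Scheme.Hom.comp_apply, e']
  exact hx''

set_option maxHeartbeats 1000000 in
/-- DVR criterion ⇒ pointwise universal openness along the fibre. -/
theorem isUnivOpenAt_of_dvr {X Y : Scheme.{u}} [IsLocallyNoetherian Y] (f : X ⟶ Y)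
    [LocallyOfFiniteType f] (y : Y)
    (h : ∀ (A : Type u) [CommRing A] [IsDomain A] [IsDiscreteValuationRing A]
      (g : Spec (CommRingCat.of A) ⟶ Y), g.base (IsLocalRing.closedPoint A) = y →
      ∀ Z ∈ irreducibleComponents (↥(pullback f g) : Type u),
        Dense ((pullback.snd f g).base '' Z))
    (x : X) (hx : f.base x = y) : IsUnivOpenAt f x := by
  refine isUnivOpenAt_of_isOpenAt_pullback_affineSpace f x fun n _ x' hx' => ?_
  haveI : IsLocallyNoetherian 𝔸(ULift.{u} (Fin n); Y) :=
    LocallyOfFiniteType.isLocallyNoetherian (𝔸(ULift.{u} (Fin n); Y) ↘ Y)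
  haveI : LocallyOfFinitePresentation (pullback.snd f (𝔸(ULift.{u} (Fin n); Y) ↘ Y)) :=
    lfp_of_lft_of_isLocallyNoetherian _
  refine Groth.Agent.Lib.Helper17.ProConsLib.isOpenAt_of_generization_lift _ x' ?_
  intro y'' hy''
  by_cases hne : (pullback.snd f (𝔸(ULift.{u} (Fin n); Y) ↘ Y)).base x' = y''
  · exact ⟨x', specializes_rfl, hne⟩
  obtain ⟨A, m, hA, hcl, hgen⟩ := Groth.Agent.Lib.Helper21.DVRExt.exists_dvr_valuationSubring_of_specializes
    (𝟙 𝔸(ULift.{u} (Fin n); Y)) y'' _ hy'' hne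
  haveI := hA
  let pt : Spec (𝔸(ULift.{u} (Fin n); Y).residueField y'') :=
    IsLocalRing.closedPoint (𝔸(ULift.{u} (Fin n); Y).residueField y'')
  let t₁ : Spec (CommRingCat.of ↥A) := (Spec.map (CommRingCat.ofHom A.subtype)) pt
  have ht₁ : m t₁ = y'' := by
    simp only [t₁]
    rw [← Scheme.Hom.comp_apply, hgen, Category.comp_id]
    exact Scheme.fromSpecResidueField_apply _ _
  have hcl₁ : closure ({t₁} : Set (Spec (CommRingCat.of ↥A))) = Set.univ := by
    have hbot : (show PrimeSpectrum ↥A from t₁).asIdeal = ⊥ := by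
      change Ideal.comap A.subtype pt.asIdeal = ⊥
      rw [Ideal.eq_bot_of_prime pt.asIdeal]
      exact Ideal.comap_bot_of_injective _ Subtype.val_injective
    change closure ({(show PrimeSpectrum ↥A from t₁)} : Set (PrimeSpectrum ↥A)) = Set.univ
    rw [PrimeSpectrum.closure_singleton, hbot]
    simp
  have hgy : (m ≫ (𝔸(ULift.{u} (Fin n); Y) ↘ Y)).base (IsLocalRing.closedPoint ↥A) = y := by
    rw [comp_base_eq, Function.comp_apply, hcl, ← hx, ← hx']
    exact (congrArg (fun k : pullback f (𝔸(ULift.{u} (Fin n); Y) ↘ Y) ⟶ Y => k.base x')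
      pullback.condition).symm
  obtain ⟨x'', h1, h2⟩ := exists_generalization_pullback_snd f (𝔸(ULift.{u} (Fin n); Y) ↘ Y)
    m (h ↥A (m ≫ (𝔸(ULift.{u} (Fin n); Y) ↘ Y)) hgy) x' (IsLocalRing.closedPoint ↥A) t₁ hcl.symm
    hcl₁
  exact ⟨x'', h1, h2.trans ht₁⟩

/-- Pointwise universal openness along the fibre ⇒ DVR criterion. -/
theorem dense_of_isUnivOpenAt {X Y : Scheme.{u}} (f : X ⟶ Y) (y : Y)
    (h : ∀ x : X, f.base x = y → IsUnivOpenAt f x)
    (A : Type u) [CommRing A] [IsDomain A] [IsDiscreteValuationRing A]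
    (g : Spec (CommRingCat.of A) ⟶ Y) (hg : g.base (IsLocalRing.closedPoint A) = y)
    (Z : Set ↥(pullback f g)) (hZ : Z ∈ irreducibleComponents (↥(pullback f g) : Type u)) :
    Dense ((pullback.snd f g).base '' Z) := by
  obtain ⟨ζ, hζ⟩ := QuasiSober.sober hZ.1 (isClosed_of_mem_irreducibleComponents Z hZ)
  have hζZ : ζ ∈ Z := by rw [← hζ.def]; exact subset_closure rfl
  set η := genericPoint (Spec (CommRingCat.of A)) with hη
  suffices hsuff : (pullback.snd f g).base ζ = η by
    have h1 : closure {η} ⊆ closure ((pullback.snd f g).base '' Z) :=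
      closure_mono (Set.singleton_subset_iff.mpr ⟨ζ, hζZ, hsuff⟩)
    rw [(genericPoint_spec _).def] at h1
    exact dense_iff_closure_eq.mpr (Set.eq_univ_of_univ_subset h1)
  by_cases hs : (pullback.snd f g).base ζ = IsLocalRing.closedPoint A
  · have hfζ : f.base ((pullback.fst f g).base ζ) = y := by
      rw [← hg, ← hs]
      exact congrArg (fun k : pullback f g ⟶ Y => k.base ζ) pullback.condition
    have hop : IsOpenAt (pullback.snd f g).base ζ := h _ hfζ _ g ζ rfl
    obtain ⟨ζ', hζ'ζ, hζ'η⟩ := Groth.Agent.Lib.Helper17.ProConsLib.exists_generization_lift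
      (pullback.snd f g) ζ hop η (genericPoint_specializes _)
    have : ζ' = ζ :=
      Groth.Agent.Lib.Helper21.FibDim.eq_of_specializes_isGenericPoint Z hZ ζ ζ' hζ hζ'ζ
    rw [← this]
    exact hζ'η
  · -- a point of `Spec A` is the closed point or the generic point
    have h1 : (show PrimeSpectrum A from (pullback.snd f g).base ζ).asIdeal = ⊥ := by
      by_contra hne
      apply hs
      have hmax := (IsDiscreteValuationRing.iff_pid_with_one_nonzero_prime A).mp inferInstance
      have h2 : (show PrimeSpectrum A from (pullback.snd f g).base ζ).asIdeal =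
          IsLocalRing.maximalIdeal A :=
        hmax.2.unique ⟨hne, (show PrimeSpectrum A from (pullback.snd f g).base ζ).isPrime⟩
          ⟨IsDiscreteValuationRing.not_a_field A, inferInstance⟩
      exact PrimeSpectrum.ext h2
    have h2 : closure {(pullback.snd f g).base ζ} = (Set.univ : Set (Spec (CommRingCat.of A))) := by
      change closure ({(show PrimeSpectrum A from (pullback.snd f g).base ζ)} :
        Set (PrimeSpectrum A)) = Set.univ
      rw [PrimeSpectrum.closure_singleton, h1]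
      simp
    have h3 : IsGenericPoint ((pullback.snd f g).base ζ)
        (Set.univ : Set (Spec (CommRingCat.of A))) := h2
    exact h3.eq (genericPoint_spec _)

end Groth.Agent.Lib.Helper6.PUO
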