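import Mathlib
import Groth.Agent.Lib.Helper6.PUO7

/-!
# Universal openness along a fibre can be tested at the closed points of the fibre
-/

set_option autoImplicit false
set_option linter.style.haveILetI false
universe u

open CategoryTheory AlgebraicGeometry Limits TopologicalSpace

namespace Groth.Agent.Lib.Helper6.PUO

open Groth.Agent.Lib.Helper14.UOA EGA43

set_option maxHeartbeats 1000000 in
/-- In a base change of a morphism locally of finite type, every nonempty open subset of a fibre
contains a point lying over a closed point of the corresponding fibre of the original morphism. -/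
theorem exists_closed_point_of_isPullback {P X Y Z : Scheme.{u}} {fst : P ⟶ X} {snd : P ⟶ Y}
    {f : X ⟶ Z} {g : Y ⟶ Z} [LocallyOfFiniteType f] (h : IsPullback fst snd f g) (p : P)
    (O : Set P) (hO : IsOpen O) (hp : p ∈ O) :
    ∃ p₁ ∈ O, snd p₁ = snd p ∧ ∀ x' : X, f x' = f (fst p₁) → fst p₁ ⤳ x' → x' = fst p₁ := by
  have hsq := isPullback_fiberToSpecResidueField_of_isPullback h (snd p)
  set φ : snd.fiber (snd p) ⟶ f.fiber (g (snd p)) :=
    pullback.map snd (Y.fromSpecResidueField (snd p)) f (Z.fromSpecResidueField (g (snd p))) fst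
    (Spec.map (g.residueFieldMap (snd p))) g h.w.symm (by simp) with hφ
  haveI : UniversallyOpen (Spec.map (g.residueFieldMap (snd p))) := inferInstance
  haveI : UniversallyOpen φ :=
    MorphismProperty.of_isPullback (P := @UniversallyOpen) hsq.flip inferInstance
  have hφι : φ ≫ f.fiberι (g (snd p)) = snd.fiberι (snd p) ≫ fst := by
    rw [hφ]
    exact pullback.lift_fst _ _ _
  have key : ∀ w : snd.fiber (snd p),
      f.fiberι (g (snd p)) (φ w) = fst (snd.fiberι (snd p) w) := fun w =>
    congrArg (fun k : snd.fiber (snd p) ⟶ X => k w) hφι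
  set O' : Set (snd.fiber (snd p)) := (snd.fiberι (snd p)) ⁻¹' O with hO'
  have hO'open : IsOpen O' := hO.preimage (snd.fiberι (snd p)).continuous
  have hpO' : snd.asFiber p ∈ O' := by
    change snd.fiberι (snd p) (snd.asFiber p) ∈ O
    rw [Scheme.Hom.fiberι_asFiber]
    exact hp
  have himg : IsOpen (φ '' O') := φ.isOpenMap _ hO'open
  obtain ⟨c, hc1, hc2⟩ := nonempty_inter_closedPoints (Z := φ '' O')
    ⟨_, ⟨_, hpO', rfl⟩⟩ himg.isLocallyClosed
  obtain ⟨q, hqO', hqc⟩ := hc1
  have hsndq : snd (snd.fiberι (snd p) q) = snd p := (snd.fiberHomeo (snd p) q).2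
  refine ⟨snd.fiberι (snd p) q, hqO', hsndq, ?_⟩
  intro x' hx' hsp
  have hfx' : f x' = g (snd p) := by
    have e1 : f (fst (snd.fiberι (snd p) q)) = g (snd (snd.fiberι (snd p) q)) :=
      congrArg (fun k : P ⟶ Z => k (snd.fiberι (snd p) q)) h.w
    exact hx'.trans (e1.trans (congrArg (fun t => g t) hsndq))
  let c' : f.fiber (g (snd p)) := (f.fiberHomeo (g (snd p))).symm ⟨x', hfx'⟩
  have hc' : f.fiberι (g (snd p)) c' = x' :=
    Scheme.Hom.fiberι_fiberHomeo_symm f (g (snd p)) ⟨x', hfx'⟩
  have hcc' : c ⤳ c' := by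
    rw [← (f.fiberι (g (snd p))).isEmbedding.isInducing.specializes_iff, hc', ← hqc, key]
    exact hsp
  have hcl : IsClosed ({c} : Set (f.fiber (g (snd p)))) := hc2
  have h1 : c' ∈ closure ({c} : Set (f.fiber (g (snd p)))) := hcc'.mem_closure
  rw [hcl.closure_eq] at h1
  have h2 : c' = c := h1
  rw [← hc', h2, ← hqc, key]

/-- **Universal openness along a fibre can be tested at the closed points of the fibre.** -/
theorem isUnivOpenAt_of_forall_closed {X Y : Scheme.{u}} (f : X ⟶ Y) [LocallyOfFiniteType f]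
    (y : Y)
    (h : ∀ x : X, f.base x = y → (∀ x' : X, f.base x' = y → x ⤳ x' → x' = x) → IsUnivOpenAt f x)
    (x : X) (hx : f.base x = y) : IsUnivOpenAt f x := by
  intro Y' g p hp N hN
  obtain ⟨O, hON, hO, hpO⟩ := mem_nhds_iff.mp hN
  obtain ⟨p₁, hp₁O, hsnd, hcl⟩ :=
    exists_closed_point_of_isPullback (IsPullback.of_hasPullback f g) p O hO hpO
  have hf₁ : f.base ((pullback.fst f g).base p₁) = y := by
    have e1 : f.base ((pullback.fst f g).base p₁) = g.base ((pullback.snd f g).base p₁) :=
      congrArg (fun k : pullback f g ⟶ Y => k.base p₁) pullback.condition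
    have e2 : f.base ((pullback.fst f g).base p) = g.base ((pullback.snd f g).base p) :=
      congrArg (fun k : pullback f g ⟶ Y => k.base p) pullback.condition
    rw [e1, hsnd, ← e2, hp, hx]
  have h1 := h _ hf₁ (fun x' hx' => hcl x' (hx'.trans hf₁.symm)) Y' g p₁ rfl O (hO.mem_nhds hp₁O)
  rw [hsnd] at h1
  exact Filter.mem_of_superset h1 (Set.image_mono hON)

end Groth.Agent.Lib.Helper6.PUO
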