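import Mathlib
import Groth.Agent.Lib.Helper6.PUO8

/-!
# Quasi-sections through closed points of a fibre (EGA IV 14.5.10, c ⇒ d and d ⇒ a)
-/

set_option autoImplicit false
set_option linter.style.haveILetI false
universe u

open CategoryTheory AlgebraicGeometry Limits TopologicalSpace

namespace Groth.Agent.Lib.Helper6.PUO

open Groth.Agent.Lib.Helper14.UOA EGA43 Groth.Agent.Lib.Helper21.FibDim
  Groth.Agent.Lib.Helper21.EquidimAt Groth.Agent.Lib.Helper21.OpenAt
  Groth.Agent.Lib.Helper21.EquiSub Groth.Agent.Lib.Helper6.QFac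

set_option maxHeartbeats 2000000 in
/-- **EGA IV 14.5.10, c ⇒ d.** -/
theorem exists_quasiSection_of_component {X Y : Scheme.{u}} [IrreducibleSpace Y]
    [IsLocallyNoetherian Y] (f : X ⟶ Y) [LocallyOfFiniteType f] (x ζ : X)
    (hxcl : ∀ x' : X, f.base x' = f.base x → x ⤳ x' → x' = x)
    (hζx : ζ ⤳ x)
    (hζmax : ∀ τ : X, τ ⤳ ζ → f.base τ = f.base ζ → τ = ζ) (N : ℕ) (hζN : rtd f ζ = N)
    (hFN : FlatMor.fibreDimAt f x = N)
    (Z : Set X) (hZirr : IsIrreducible Z) (hZcl : IsClosed Z) (hζZ : ζ ∈ Z)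
    (hdense : Dense (f.base '' Z)) (y : Y) (hζy : f.base ζ = y)
    (hdim : FlatMor.localDim ↥(Z ∩ f.base ⁻¹' {y}) ⟨ζ, ⟨hζZ, hζy⟩⟩ =
      topologicalKrullDim ↥(Z ∩ f.base ⁻¹' {genericPoint Y})) :
    ∃ (T : Scheme.{u}) (i : T ⟶ X), IsImmersion i ∧ IrreducibleSpace ↥T ∧ IsReduced T ∧
      x ∈ Set.range i.base ∧ LocallyOfFiniteType (i ≫ f) ∧ LocallyQuasiFinite (i ≫ f) ∧
      QuasiCompact (i ≫ f) ∧ IsDominant (i ≫ f) := by
  subst hζy
  obtain ⟨W, ι, hcl, hr, hirr⟩ := exists_irreducible_closed_subscheme Z hZirr hZcl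
  haveI := hcl
  haveI := hirr
  have hemb : Topology.IsEmbedding ι.base := ι.isEmbedding
  have hxZ : x ∈ Z :=
    (hZcl.closure_subset_iff.mpr (Set.singleton_subset_iff.mpr hζZ)) hζx.mem_closure
  obtain ⟨wx, hwx⟩ : x ∈ Set.range ι.base := by rw [hr]; exact hxZ
  obtain ⟨wζ, hwζ⟩ : ζ ∈ Set.range ι.base := by rw [hr]; exact hζZ
  have hcl' : closure (f.base '' Z) = closure {(ι ≫ f).base (genericPoint W)} := by
    have h1 : f.base '' Z = (ι ≫ f).base '' closure {genericPoint W} := by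
      rw [(genericPoint_spec W).def, Set.image_univ, ← hr, comp_base_eq, Set.range_comp]
    rw [h1]
    exact closure_image_closure_singleton' _ (ι ≫ f).continuous _
  have hgen : (ι ≫ f).base (genericPoint W) = genericPoint Y := by
    have h1 : IsGenericPoint ((ι ≫ f).base (genericPoint W)) (Set.univ : Set Y) := by
      change closure _ = _
      rw [← hcl']
      exact hdense.closure_eq
    exact h1.eq (genericPoint_spec Y)
  have hmaxY : closure {(ι ≫ f).base (genericPoint W)} ∈ irreducibleComponents (Y : Type u) := by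
    rw [hgen, (genericPoint_spec Y).def, irreducibleComponents_eq_singleton]
    rfl
  -- dimensions
  have hd := hdim
  rw [localDim_inter_preimage_eq_fibreDimAt' ι hemb f Z hr wζ ζ hwζ hζZ,
    topologicalKrullDim_inter_preimage_generic ι hemb f Z hr _ hgen.symm] at hd
  have hwζmax : ∀ τ : W, τ ⤳ wζ → (ι ≫ f).base τ = (ι ≫ f).base wζ → τ = wζ := by
    intro τ hτ hfτ
    apply hemb.injective
    rw [hwζ]
    refine hζmax _ ?_ ?_
    · rw [← hwζ]; exact hτ.map ι.continuous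
    · rw [← hwζ]
      simpa [comp_base_eq] using hfτ
  have hrtd : rtd (ι ≫ f) wζ = N :=
    Groth.Agent.Lib.Helper21.IrrFib.trdeg_comp_of_surjectiveOnStalks ι f wζ N
      (trdeg_eq_of_eq f hwζ.symm N hζN)
  have hFwζ : FlatMor.fibreDimAt (ι ≫ f) wζ = N :=
    Groth.Agent.Lib.Helper21.OpenAt.fibreDimAt_eq_trdeg_of_maximal (ι ≫ f) wζ hwζmax N hrtd
  have hFwx : FlatMor.fibreDimAt (ι ≫ f) wx = FlatMor.fibreDimAt (ι ≫ f) (genericPoint W) := by
    rw [← hd, hFwζ]
    apply le_antisymm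
    · have h1 := Groth.Agent.Lib.Helper21.OpenAt.fibreDimAt_comp_le ι f wx
      rw [hwx, hFN] at h1
      exact h1
    · rw [← hFwζ, hd]
      exact fibreDimAt_le_of_specializes (ι ≫ f) (genericPoint_specializes wx)
  have hEq : IsEquidimAt (ι ≫ f) wx := isEquidimAt_of_fibreDimAt_eq_generic (ι ≫ f) wx hmaxY hFwx
  have hclw : ∀ w' : W, (ι ≫ f).base w' = (ι ≫ f).base wx → wx ⤳ w' → w' = wx := by
    intro w' hfw' hsp
    apply hemb.injective
    rw [hwx]
    refine hxcl _ ?_ ?_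
    · rw [← hwx]
      simpa [comp_base_eq] using hfw'
    · rw [← hwx]; exact hsp.map ι.continuous
  obtain ⟨T, i, h1, h2, h3, h4, h5, h6, h7, h8⟩ := exists_quasiSection (ι ≫ f) wx hEq hclw
  haveI := h1
  refine ⟨T, i ≫ ι, inferInstance, h2, h3, ?_, ?_, ?_, ?_, ?_⟩
  · obtain ⟨t, ht⟩ := h4
    exact ⟨t, by rw [comp_base_eq, Function.comp_apply, ht, hwx]⟩
  · rw [Category.assoc]; exact h5
  · rw [Category.assoc]; exact h6
  · rw [Category.assoc]; exact h7
  · rw [Category.assoc]; exact h8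

/-- **EGA IV 14.5.10, d ⇒ a at one point.** -/
theorem isUnivOpenAt_of_quasiSection {X Y T : Scheme.{u}} [IrreducibleSpace Y] [IrreducibleSpace T]
    (f : X ⟶ Y) (i : T ⟶ X) (x : X) (hx : x ∈ Set.range i.base)
    (hy : CAlg2.IsGeomUnibranch (Y.presheaf.stalk (f.base x)))
    [LocallyOfFiniteType (i ≫ f)] [LocallyQuasiFinite (i ≫ f)] [IsDominant (i ≫ f)] :
    IsUnivOpenAt f x := by
  obtain ⟨t, rfl⟩ := hx
  refine isUnivOpenAt_of_comp i f t
    (isUnivOpenAt_of_quasiFinite_of_irreducible (i ≫ f) (i ≫ f).denseRange t ?_)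
  have : (i ≫ f).base t = f.base (i.base t) := by
    rw [comp_base_eq]; rfl
  rw [this]
  exact hy

end Groth.Agent.Lib.Helper6.PUO
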