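import Groth.Agent.Lib.Helper6.AWNScheme2
import Groth.Agent.Lib.Helper6.FrobUH
import Groth.Prelude.Def_W4c1perfhdescPerf

set_option autoImplicit false
universe u

open CategoryTheory AlgebraicGeometry Limits

namespace Groth.Agent.Lib.Helper6.Perf

open Groth.Agent.Lib.Helper6.AWNSch Groth.Agent.Lib.Helper12

/-- A ring in which `p = 0` and the `p`-th power map is bijective is absolutely weakly normal. -/
theorem isAWNRing_of_perfect {R : Type u} [CommRing R] (p : ℕ) (hpp : p.Prime) (hp : (p : R) = 0)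
    (hbij : Function.Bijective (fun r : R => r ^ p)) : HTop.IsAWNRing R := by
  have hinj : ∀ a b : R, a ^ p = b ^ p → a = b := fun a b h => hbij.1 h
  have hsurj : ∀ x : R, ∃ a : R, a ^ p = x := fun x => hbij.2 x
  constructor
  · intro x y hxy
    obtain ⟨m, n, hmn⟩ : ∃ m n : ℕ, 2 * m + 3 * n = p := by
      rcases hpp.eq_two_or_odd' with h2 | hodd
      · exact ⟨1, 0, by omega⟩
      · obtain ⟨k, hk⟩ := hodd
        have : 2 ≤ p := hpp.two_le
        exact ⟨k - 1, 1, by omega⟩
    obtain ⟨a, ha⟩ := hsurj (x ^ m * y ^ n)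
    have h2 : a ^ 2 = x := by
      apply hinj
      rw [← pow_mul, mul_comm, pow_mul, ha, mul_pow, ← pow_mul, ← pow_mul, mul_comm n 2, pow_mul y,
        ← hxy, ← pow_mul, ← pow_add, ← hmn]
      congr 1; ring
    have h3 : a ^ 3 = y := by
      apply hinj
      rw [← pow_mul, mul_comm, pow_mul, ha, mul_pow, ← pow_mul, ← pow_mul, mul_comm m 3, pow_mul x,
        hxy, ← pow_mul, ← pow_add, ← hmn]
      congr 1; ring
    refine ⟨a, ⟨h2.symm, h3.symm⟩, ?_⟩
    rintro b ⟨hb2, hb3⟩
    apply hinj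
    rw [ha, ← hmn, pow_add, pow_mul, pow_mul, ← hb2, ← hb3]
  · intro ℓ hℓ x y hxy
    by_cases hℓp : ℓ = p
    · subst hℓp
      have hy : y = 0 := by
        apply hinj
        rw [← hxy, hp, zero_pow hpp.ne_zero, zero_mul]
      obtain ⟨a, ha⟩ := hsurj x
      refine ⟨a, ⟨ha.symm, by rw [hy, hp, zero_mul]⟩, ?_⟩
      rintro b ⟨hb, -⟩
      apply hinj
      rw [ha, ← hb]
    · have hcop : IsCoprime (ℓ : ℤ) (p : ℤ) := by
        rw [Nat.isCoprime_iff_coprime]
        exact (Nat.coprime_primes hℓ hpp).mpr hℓp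
      obtain ⟨u, v, huv⟩ := hcop
      have hu : (u : R) * (ℓ : R) = 1 := by
        have := congrArg (fun z : ℤ => (z : R)) huv
        simp only [Int.cast_add, Int.cast_mul, Int.cast_natCast, Int.cast_one] at this
        rw [hp, mul_zero, add_zero] at this
        exact this
      refine ⟨u * y, ⟨?_, ?_⟩, ?_⟩
      · rw [mul_pow, ← hxy, ← mul_assoc, ← mul_pow, hu, one_pow, one_mul]
      · rw [← mul_assoc, mul_comm (ℓ : R), hu, one_mul]
      · rintro b ⟨-, hb⟩
        rw [hb, ← mul_assoc, hu, one_mul]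

/-- A scheme which is perfect in the sections-wise sense is absolutely weakly normal. -/
theorem isAWN_of_perfSch (p : ℕ) [Fact p.Prime] {X : Scheme.{u}} (hX : PerfSch.IsPerfect p X) :
    HTop.IsAWN X := by
  rw [(Groth.Agent.S7420.result X).2]
  intro U
  exact isAWNRing_of_perfect p Fact.out (hX U.1).1 (hX U.1).2

section Frob

variable (X : Scheme.{u}) (p : ℕ) [Fact p.Prime] [FrobSch.IsCharP X p]

/-- A scheme whose absolute Frobenius is an isomorphism is perfect sections-wise. -/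
theorem perfSch_of_isPerfect (h : FrobSch.IsPerfect X p) : PerfSch.IsPerfect p X := by
  intro U
  refine ⟨FrobSch.natCast_eq_zero_app X p U, ?_⟩
  have : IsIso (FrobSch.frob X p) := h
  have h1 : IsIso ((FrobSch.frob X p).app U) := inferInstance
  exact ConcreteCategory.bijective_of_isIso ((FrobSch.frob X p).app U)

theorem isAWN_of_isPerfect (h : FrobSch.IsPerfect X p) : HTop.IsAWN X :=
  isAWN_of_perfSch p (perfSch_of_isPerfect X p h)

theorem isPerfect_of_isAWN (h : HTop.IsAWN X) : FrobSch.IsPerfect X p := by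
  have := isReduced_of_isAWN h
  exact isIso_of_isAWN_of_isReduced h (FrobSch.frob X p) (isUnivHomeo_frob X p)

theorem isPerfect_iff_isAWN : FrobSch.IsPerfect X p ↔ HTop.IsAWN X :=
  ⟨isAWN_of_isPerfect X p, isPerfect_of_isAWN X p⟩

end Frob

/-- Morphisms from an absolutely weakly normal scheme lift uniquely along universal homeomorphisms. -/
theorem existsUnique_lift_of_isAWN {X' X Y : Scheme.{u}} (ν : X' ⟶ X) (hν : FlatMor.IsUnivHomeo ν)
    (hY : HTop.IsAWN Y) (g : Y ⟶ X) : ∃! g' : Y ⟶ X', g' ≫ ν = g := by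
  have hsnd : FlatMor.IsUnivHomeo (pullback.snd ν g) := MorphismProperty.pullback_snd _ _ hν
  obtain ⟨s, hs, huniq⟩ := existsUnique_section hY (pullback.snd ν g) hsnd
  refine ⟨s ≫ pullback.fst ν g, ?_, ?_⟩
  · change (s ≫ pullback.fst ν g) ≫ ν = g
    rw [Category.assoc, pullback.condition, ← Category.assoc, hs, Category.id_comp]
  · intro h hh
    change h ≫ ν = g at hh
    have h1 : pullback.lift h (𝟙 _) (by rw [hh, Category.id_comp]) ≫ pullback.snd ν g = 𝟙 _ :=
      pullback.lift_snd _ _ _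
    have h2 := huniq _ h1
    rw [← h2, pullback.lift_fst]

/-- Transport of absolute weak normalizations along isomorphisms of the source. -/
theorem isAWNormalization_of_iso {X₁ X₂ X : Scheme.{u}} (e : X₁ ≅ X₂) (ν₁ : X₁ ⟶ X) (ν₂ : X₂ ⟶ X)
    (h : e.hom ≫ ν₂ = ν₁) (h₂ : HTop.IsAWNormalization ν₂) : HTop.IsAWNormalization ν₁ := by
  refine ⟨?_, ?_⟩
  · rw [← h]
    exact IsUnivHomeo.comp (isUnivHomeo_of_isIso e.hom) h₂.1
  · intro Y π hπ
    obtain ⟨k, hk, huniq⟩ := h₂.2 Y π hπ
    refine ⟨e.hom ≫ k, ?_, ?_⟩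
    · change (e.hom ≫ k) ≫ π = ν₁
      rw [Category.assoc, hk, h]
    · intro k' hk'
      change k' ≫ π = ν₁ at hk'
      have := huniq (e.inv ≫ k') (by
        change (e.inv ≫ k') ≫ π = ν₂
        rw [Category.assoc, hk', ← h, e.inv_hom_id_assoc])
      rw [← this, e.hom_inv_id_assoc]

section Perfection

variable (p : ℕ) [Fact p.Prime] {XP X : Scheme.{u}} [FrobSch.IsCharP XP p]

/-- An absolute weak normalization of a scheme of characteristic `p` is a perfection. -/
theorem isPerfection_of_isAWNormalization (ν : XP ⟶ X) (hν : HTop.IsAWNormalization ν) :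
    FrobSch.IsPerfection ν p := by
  refine ⟨isPerfect_of_isAWN XP p (isAWN_source_of_isAWNormalization ν hν), ?_⟩
  intro Y _ hY
  have hYawn := isAWN_of_isPerfect Y p hY
  constructor
  · intro g₁ g₂ h
    obtain ⟨g, -, huniq⟩ := existsUnique_lift_of_isAWN ν hν.1 hYawn (g₁ ≫ ν)
    rw [huniq g₁ rfl, huniq g₂ h.symm]
  · intro g
    obtain ⟨g', hg', -⟩ := existsUnique_lift_of_isAWN ν hν.1 hYawn g
    exact ⟨g', hg'⟩

/-- Every perfection of a scheme of characteristic `p` is an absolute weak normalization. -/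
theorem isAWNormalization_of_isPerfection [FrobSch.IsCharP X p] (π : XP ⟶ X)
    (hπ : FrobSch.IsPerfection π p) : HTop.IsAWNormalization π := by
  obtain ⟨X', ν, hν, hX'⟩ := exists_isAWNormalization X
  have : FrobSch.IsCharP X' p := FrobSch.IsCharP.of_hom ν p
  have hνP := isPerfection_of_isAWNormalization p ν hν
  obtain ⟨a, ha⟩ := (hνP.2 XP hπ.1).2 π
  obtain ⟨b, hb⟩ := (hπ.2 X' hνP.1).2 ν
  change a ≫ ν = π at ha
  change b ≫ π = ν at hb
  have hab : a ≫ b = 𝟙 XP := by
    apply (hπ.2 XP hπ.1).1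
    change (a ≫ b) ≫ π = 𝟙 XP ≫ π
    rw [Category.assoc, hb, ha, Category.id_comp]
  have hba : b ≫ a = 𝟙 X' := by
    apply (hνP.2 X' hνP.1).1
    change (b ≫ a) ≫ ν = 𝟙 X' ≫ ν
    rw [Category.assoc, ha, hb, Category.id_comp]
  exact isAWNormalization_of_iso ⟨a, b, hab, hba⟩ π ν ha hν

theorem isUnivHomeo_of_isPerfection [FrobSch.IsCharP X p] (π : XP ⟶ X)
    (hπ : FrobSch.IsPerfection π p) : FlatMor.IsUnivHomeo π :=
  (isAWNormalization_of_isPerfection p π hπ).1

theorem isAWN_of_isPerfection (π : XP ⟶ X) (hπ : FrobSch.IsPerfection π p) : HTop.IsAWN XP :=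
  isAWN_of_isPerfect XP p hπ.1

end Perfection

/-- Every scheme of characteristic `p` has a perfection. -/
theorem exists_isPerfection (p : ℕ) [Fact p.Prime] (X : Scheme.{u}) [FrobSch.IsCharP X p] :
    ∃ (XP : Scheme.{u}) (π : XP ⟶ X) (_ : FrobSch.IsCharP XP p), FrobSch.IsPerfection π p := by
  obtain ⟨X', ν, hν, -⟩ := exists_isAWNormalization X
  have : FrobSch.IsCharP X' p := FrobSch.IsCharP.of_hom ν p
  exact ⟨X', ν, this, isPerfection_of_isAWNormalization p ν hν⟩

end Groth.Agent.Lib.Helper6.Perf
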