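import Groth.Agent.Lib.Helper6.PerfAWN
import Groth.Agent.Lib.Helper6.UHDescent

set_option autoImplicit false
universe u

open CategoryTheory AlgebraicGeometry Limits

namespace Groth.Agent.Lib.Helper6.Perf

open Groth.Agent.Lib.Helper6.AWNSch Groth.Agent.Lib.Helper12

/-- A scheme weakly étale over a perfect scheme is perfect. -/
theorem isPerfect_of_weaklyEtale (p : ℕ) [Fact p.Prime] {P S : Scheme.{u}} [FrobSch.IsCharP S p]
    [FrobSch.IsCharP P p] (h : P ⟶ S) [WeaklyEtale h] (hS : FrobSch.IsPerfect S p) :
    FrobSch.IsPerfect P p := by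
  have : IsIso (FrobSch.frob S p) := hS
  have h1 : FlatMor.IsUnivHomeo (pullback.fst h (FrobSch.frob S p)) :=
    MorphismProperty.pullback_fst _ _ (isUnivHomeo_frob S p)
  have h2 : FlatMor.IsUnivHomeo (FrobSch.relFrob h p ≫ pullback.fst h (FrobSch.frob S p)) := by
    rw [FrobSch.relFrob_fst]
    exact isUnivHomeo_frob P p
  have h3 : FlatMor.IsUnivHomeo (FrobSch.relFrob h p) := IsUnivHomeo.of_comp_left h2 h1
  have h4 : WeaklyEtale (FrobSch.relFrob h p ≫ pullback.snd h (FrobSch.frob S p)) := by
    rw [FrobSch.relFrob_snd]; infer_instance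
  have h5 : WeaklyEtale (FrobSch.relFrob h p) :=
    WeaklyEtale.of_comp (FrobSch.relFrob h p) (pullback.snd h (FrobSch.frob S p))
  have h6 : IsIso (FrobSch.relFrob h p) := isIso_of_weaklyEtale_of_isUnivHomeo _ h3
  have h7 : IsIso (pullback.fst h (FrobSch.frob S p)) := inferInstance
  change IsIso (FrobSch.frob P p)
  rw [← FrobSch.relFrob_fst h p]
  infer_instance

section

variable (p : ℕ) [Fact p.Prime] {X Y XP YP : Scheme.{u}}
    [FrobSch.IsCharP X p] [FrobSch.IsCharP Y p] [FrobSch.IsCharP XP p] [FrobSch.IsCharP YP p]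
    (πX : XP ⟶ X) (πY : YP ⟶ Y) (hX : FrobSch.IsPerfection πX p) (hY : FrobSch.IsPerfection πY p)
    (f : X ⟶ Y) (fP : XP ⟶ YP) (w : fP ≫ πY = πX ≫ f)

include hX hY w in
/-- If the base change of the perfection of `Y` along `f` has an absolutely weakly normal source,
the perfection square is cartesian. -/
theorem isPullback_of_isAWN_pullback (hP : HTop.IsAWN (pullback πY f)) :
    IsPullback fP πX πY f := by
  have hπX := isAWNormalization_of_isPerfection p πX hX
  have hπY := isUnivHomeo_of_isPerfection p πY hY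
  have hsnd : FlatMor.IsUnivHomeo (pullback.snd πY f) := MorphismProperty.pullback_snd _ _ hπY
  have hν := isAWNormalization_of_isAWN (pullback.snd πY f) hsnd hP
  have hc : pullback.lift fP πX w ≫ pullback.snd πY f = πX := pullback.lift_snd _ _ _
  have : IsIso (pullback.lift fP πX w) :=
    isIso_of_isAWNormalization πX (pullback.snd πY f) hπX hν _ hc
  exact IsPullback.of_iso_pullback ⟨w⟩ (asIso (pullback.lift fP πX w)) (pullback.lift_fst _ _ _)
    (pullback.lift_snd _ _ _)

include hX hY w in
theorem isPullback_perfection_of_etale [Etale f] : IsPullback fP πX πY f := by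
  apply isPullback_of_isAWN_pullback p πX πY hX hY f fP w
  have : FrobSch.IsCharP (pullback πY f) p := FrobSch.IsCharP.of_hom (pullback.snd πY f) p
  have : Etale (pullback.fst πY f) := inferInstance
  exact isAWN_of_isPerfect _ p (isPerfect_of_weaklyEtale p (pullback.fst πY f) hY.1)

include hX hY w in
theorem isPullback_perfection_of_isOpenImmersion [IsOpenImmersion f] : IsPullback fP πX πY f := by
  apply isPullback_of_isAWN_pullback p πX πY hX hY f fP w
  exact isAWN_of_isOpenImmersion (pullback.fst πY f) (isAWN_of_isPerfection p πY hY)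

end

end Groth.Agent.Lib.Helper6.Perf
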