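import Groth.Agent.Lib.Helper6.CharPUH
import Groth.Agent.Lib.Helper6.PerfAWN
import Mathlib.FieldTheory.IsPerfectClosure

set_option autoImplicit false
universe u

open CategoryTheory AlgebraicGeometry Limits

namespace Groth.Agent.Lib.Helper6.CharPUH

open Groth.Agent.Lib.Helper6.AWN Groth.Agent.Lib.Helper6.SqCube Groth.Agent.Lib.Helper12
open Groth.Agent.Lib.Helper6.UnivHomeoRing

/-- A ring map inducing a universal homeomorphism into an absolutely weakly normal ring is an
absolute weak normalization. -/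
theorem isRingAWN_of_uh_of_isAWNRing {A A' : Type u} [CommRing A] [CommRing A'] (i : A →+* A')
    (hi : UH i) (hA' : HTop.IsAWNRing A') : HTop.IsRingAWN i := by
  obtain ⟨W, _, φ, hφ⟩ := Groth.Agent.S7422.result A
  obtain ⟨χ₀, hχ₀⟩ := ringAWN_exists_hom hφ i hi
  have hbij : Function.Bijective χ₀ := (bijective_iff_isAWNRing hφ i hi χ₀ hχ₀).mpr hA'
  let e : A' ≃+* W := RingEquiv.ofBijective χ₀ hbij
  have he : ∀ a : A, e (i a) = φ a := fun a => congrArg (fun f => f a) hχ₀
  refine ⟨(uh_iff _).mpr hi, ?_⟩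
  intro C _ ψ hψ
  obtain ⟨χ', hχ', huniq⟩ := hφ.2 C ψ hψ
  refine ⟨e.symm.toRingHom.comp χ', ?_, ?_⟩
  · ext a
    have : χ' (ψ a) = φ a := congrArg (fun f => f a) hχ'
    simp only [RingHom.comp_apply, this]
    rw [← he a]
    exact e.symm_apply_apply (i a)
  · intro χ₁ hχ₁
    have h1 : (e.toRingHom.comp χ₁).comp ψ = φ := by
      rw [RingHom.comp_assoc, hχ₁]
      ext a
      exact he a
    have h2 := huniq _ h1
    ext c
    have : e (χ₁ c) = χ' c := congrArg (fun f => f c) h2
    simp only [RingHom.comp_apply]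
    rw [← this]
    exact (e.symm_apply_apply (χ₁ c)).symm

/-- A `p`-radical ring map in characteristic `p` induces a universal homeomorphism. -/
theorem uh_of_isPRadical {A A' : Type u} [CommRing A] [CommRing A'] (p : ℕ) (hpp : p.Prime)
    (hp : (p : A') = 0) (i : A →+* A') [IsPRadical i p] : UH i := by
  have hint : i.IsIntegral := by
    intro x
    obtain ⟨n, y, hy⟩ := IsPRadical.pow_mem i p x
    refine ⟨Polynomial.X ^ (p ^ n) - Polynomial.C y,
      Polynomial.monic_X_pow_sub_C y (pow_ne_zero _ hpp.ne_zero), ?_⟩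
    rw [Polynomial.eval₂_sub, Polynomial.eval₂_pow, Polynomial.eval₂_X, Polynomial.eval₂_C, hy,
      sub_self]
  refine ⟨hint, ?_, ?_⟩
  · intro K _ σ τ hστ
    have hpK : (p : K) = 0 := by
      have := congrArg σ hp
      rwa [map_natCast, map_zero] at this
    have : CharP K p := (CharP.charP_iff_prime_eq_zero hpp).2 hpK
    have : Fact p.Prime := ⟨hpp⟩
    ext x
    obtain ⟨n, y, hy⟩ := IsPRadical.pow_mem i p x
    have h1 : σ x ^ p ^ n = τ x ^ p ^ n := by
      rw [← map_pow, ← map_pow, ← hy]
      exact congrArg (fun f => f y) hστ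
    exact (iterateFrobenius_inj K p n) h1
  · apply comap_surjective_of_isIntegral_of_ker_le i hint
    exact (IsPRadical.ker_le i p).trans pNilradical_le_nilradical

/-- A perfect closure (a `p`-radical map to a ring with bijective Frobenius) is an absolute weak
normalization. -/
theorem isRingAWN_of_isPRadical {A A' : Type u} [CommRing A] [CommRing A'] (p : ℕ)
    (hpp : p.Prime) (hp : (p : A') = 0) (hbij : Function.Bijective (fun r : A' => r ^ p))
    (i : A →+* A') [IsPRadical i p] : HTop.IsRingAWN i :=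
  isRingAWN_of_uh_of_isAWNRing i (uh_of_isPRadical p hpp hp i)
    (Groth.Agent.Lib.Helper6.Perf.isAWNRing_of_perfect p hpp hp hbij)

theorem isRingAWN_perfectClosure (p : ℕ) [Fact p.Prime] (A : Type u) [CommRing A] [CharP A p] :
    HTop.IsRingAWN (PerfectClosure.of A p) := by
  apply isRingAWN_of_isPRadical p Fact.out (CharP.cast_eq_zero _ p)
  exact bijective_frobenius (PerfectClosure A p) p

end Groth.Agent.Lib.Helper6.CharPUH
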