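import Mathlib
import Groth.Agent.Lib.Helper6.RelFrobEtale
import Groth.Agent.Lib.Helper6.PerfClosureAWN
import Groth.Agent.Lib.Helper10.SmoothReduced

set_option autoImplicit false
set_option linter.style.haveILetI false
set_option linter.unusedSectionVars false
universe u

open TensorProduct CategoryTheory AlgebraicGeometry Limits

namespace Groth.Agent.Lib.Helper6.PerfEtale

variable (p : ℕ) [Fact p.Prime]
  (A B A' : Type u) [CommRing A] [CommRing B] [CommRing A']
  [Algebra A B] [Algebra A A']

/-- the inclusion of `B` in the base change. -/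
noncomputable abbrev incl : B →+* A' ⊗[A] B :=
  (Algebra.TensorProduct.includeRight : B →ₐ[A] A' ⊗[A] B).toRingHom

open Groth.Agent.Lib.Helper6.SqCube in
/-- Base change of a ring map inducing a universal homeomorphism. -/
theorem uh_incl (h : UH (algebraMap A A')) : UH (incl A B A') := by
  have h1 : FlatMor.IsUnivHomeo (Spec.map (CommRingCat.ofHom (algebraMap A A'))) :=
    (Groth.Agent.Lib.Helper6.UnivHomeoRing.isUnivHomeo_SpecMap_iff _).mpr h
  have h2 : FlatMor.IsUnivHomeo (Spec.map (CommRingCat.ofHom (incl A B A'))) := by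
    have e : Spec.map (CommRingCat.ofHom (incl A B A')) = (pullbackSpecIso A A' B).inv ≫
        pullback.snd (Spec.map (CommRingCat.ofHom (algebraMap A A')))
          (Spec.map (CommRingCat.ofHom (algebraMap A B))) :=
      (pullbackSpecIso_inv_snd A A' B).symm
    rw [e, MorphismProperty.cancel_left_of_respectsIso (FlatMor.IsUnivHomeo.{u})]
    exact MorphismProperty.pullback_snd _ _ h1
  exact (Groth.Agent.Lib.Helper6.UnivHomeoRing.isUnivHomeo_SpecMap_iff _).mp h2

variable [CharP A' p] [CharP B p]

theorem natCast_tensor : ((p : ℕ) : A' ⊗[A] B) = 0 := by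
  have : ((p : ℕ) : A' ⊗[A] B) = incl A B A' ((p : ℕ) : B) := by rw [map_natCast]
  rw [this, CharP.cast_eq_zero B p, map_zero]

theorem isPRadical_incl [IsPRadical (algebraMap A A') p] : IsPRadical (incl A B A') p where
  pow_mem' := by
    rcases subsingleton_or_nontrivial (A' ⊗[A] B) with h | h
    · intro x
      exact ⟨0, 0, Subsingleton.elim _ _⟩
    haveI : CharP (A' ⊗[A] B) p :=
      (CharP.charP_iff_prime_eq_zero (Fact.out : p.Prime)).mpr (natCast_tensor p A B A')
    intro x
    induction x using TensorProduct.induction_on with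
    | zero => exact ⟨0, 0, by simp⟩
    | tmul a' b =>
      obtain ⟨n, a, ha⟩ := IsPRadical.pow_mem (algebraMap A A') p a'
      refine ⟨n, a • b ^ p ^ n, ?_⟩
      change (1 : A') ⊗ₜ[A] (a • b ^ p ^ n) = _
      rw [Algebra.TensorProduct.tmul_pow, ← ha, TensorProduct.tmul_smul,
        TensorProduct.smul_tmul', Algebra.smul_def, mul_one]
    | add x y hx hy =>
      obtain ⟨n, b, hb⟩ := hx
      obtain ⟨m, c, hc⟩ := hy
      refine ⟨n + m, b ^ p ^ m + c ^ p ^ n, ?_⟩
      rw [add_pow_char_pow, map_add, map_pow, map_pow, hb, hc, ← pow_mul, ← pow_mul,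
        ← pow_add, ← pow_add, add_comm m n]
  ker_le' := by
    have hpp : p.Prime := Fact.out
    have hp : ((p : ℕ) : A') = 0 := CharP.cast_eq_zero A' p
    have h1 := Groth.Agent.Lib.Helper6.CharPUH.uh_of_isPRadical p hpp hp (algebraMap A A')
    have h2 := uh_incl A B A' h1
    rw [pNilradical_eq_nilradical hpp.one_lt]
    exact Groth.Agent.Lib.Helper6.AWN.uh_ker_le_nilradical h2

theorem nontrivial_tensor [IsPRadical (algebraMap A A') p] : Nontrivial (A' ⊗[A] B) := by
  haveI : Nontrivial B := CharP.nontrivial_of_char_ne_one (R := B) (v := p)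
    (Fact.out : p.Prime).ne_one
  by_contra hne
  rw [not_nontrivial_iff_subsingleton] at hne
  have h1 : (1 : B) ∈ RingHom.ker (incl A B A') := by
    rw [RingHom.mem_ker]; exact Subsingleton.elim _ _
  have h2 := (isPRadical_incl p A B A').ker_le' h1
  rw [pNilradical_eq_nilradical (Fact.out : p.Prime).one_lt] at h2
  obtain ⟨n, hn⟩ := h2
  rw [one_pow] at hn
  exact one_ne_zero hn

/-- The base change of an étale algebra to a perfect ring is perfect. -/
theorem frobenius_bijective_of_etale (R S : Type u) [CommRing R] [CommRing S] [Algebra R S]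
    [CharP R p] [CharP S p] [PerfectRing R p] [Algebra.Etale R S] :
    Function.Bijective (frobenius S p) := by
  haveI : IsReduced R := by
    rw [← nilradical_eq_bot_iff, ← pNilradical_eq_nilradical (Fact.out : p.Prime).one_lt]
    exact PerfectRing.pNilradical_eq_bot R p
  haveI : IsReduced S := Groth.Agent.Lib.Helper10.SmoothReduced.isReduced_of_smooth R S
  refine ⟨frobenius_inj S p, ?_⟩
  intro s
  obtain ⟨x, rfl⟩ := (Groth.Agent.Lib.Helper6.RelFrob.bijective_relFrob_of_etale p R S).2 s
  induction x using TensorProduct.induction_on with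
  | zero => exact ⟨0, by simp⟩
  | tmul c t =>
    obtain ⟨r, hr⟩ := (bijective_frobenius R p).2 ((FrobAlg.toTwist p R).symm t)
    refine ⟨c * algebraMap R S r, ?_⟩
    rw [Groth.Agent.Lib.Helper6.RelFrob.relFrob_tmul, ← hr, frobenius_def, frobenius_def, mul_pow,
      map_pow]
  | add x y hx hy =>
    obtain ⟨a, ha⟩ := hx
    obtain ⟨b, hb⟩ := hy
    exact ⟨a + b, by rw [map_add, map_add, ha, hb]⟩

/-- Perfect closures commute with étale base change. -/
theorem bijective_lift (B' : Type u) [CommRing B'] [CharP A p] [CharP B' p]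
    [PerfectRing A' p] [PerfectRing B' p] [Algebra.Etale A B] [Algebra B B'] [Algebra A B']
    [IsScalarTower A B B']
    [IsPerfectClosure (algebraMap A A') p] [IsPerfectClosure (algebraMap B B') p]
    (φ' : A' →ₐ[A] B') :
    Function.Bijective (Algebra.TensorProduct.lift φ' (IsScalarTower.toAlgHom A B B')
      (fun a b => Commute.all (φ' a) (IsScalarTower.toAlgHom A B B' b))) := by
  haveI := nontrivial_tensor p A B A'
  haveI : CharP (A' ⊗[A] B) p :=
    (CharP.charP_iff_prime_eq_zero (Fact.out : p.Prime)).mpr (natCast_tensor p A B A')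
  haveI : Algebra.Etale A' (A' ⊗[A] B) := inferInstance
  haveI : PerfectRing (A' ⊗[A] B) p := ⟨frobenius_bijective_of_etale p A' (A' ⊗[A] B)⟩
  haveI : IsPRadical (incl A B A') p := isPRadical_incl p A B A'
  let e : A' ⊗[A] B ≃+* B' := IsPerfectClosure.equiv (incl A B A') (algebraMap B B') p
  set L := Algebra.TensorProduct.lift φ' (IsScalarTower.toAlgHom A B B')
      (fun a b => Commute.all (φ' a) (IsScalarTower.toAlgHom A B B' b)) with hL
  have h1 : (L : A' ⊗[A] B →+* B').comp (incl A B A') = algebraMap B B' := by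
    ext b
    change L ((1 : A') ⊗ₜ[A] b) = _
    rw [hL, Algebra.TensorProduct.lift_tmul, map_one, one_mul]
    rfl
  have h2 : (e : A' ⊗[A] B →+* B').comp (incl A B A') = algebraMap B B' :=
    IsPerfectClosure.equiv_comp (incl A B A') (algebraMap B B') p
  have h3 : (L : A' ⊗[A] B →+* B') = (e : A' ⊗[A] B →+* B') :=
    IsPRadical.injective_comp_of_perfect (incl A B A') p (M := B') (h1.trans h2.symm)
  have h4 : ⇑L = ⇑e := by
    ext x
    exact RingHom.congr_fun h3 x
  rw [h4]
  exact e.bijective

end Groth.Agent.Lib.Helper6.PerfEtale
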