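import Mathlib
import Groth.Agent.Lib.Helper6.PerfClosureAWN

set_option autoImplicit false
set_option linter.style.haveILetI false
set_option linter.unusedSectionVars false
universe u

namespace Groth.Agent.Lib.Helper6.PerfFlat

/-- A ring map making the target a free module (given by a bijection from a `Finsupp`) is flat. -/
theorem flat_of_finsupp_bijective {R S : Type u} [CommRing R] [CommRing S] (g : R →+* S)
    {E : Type u} (Φ : (E →₀ R) → S) (hadd : ∀ c d, Φ (c + d) = Φ c + Φ d)
    (hsmul : ∀ (a : R) c, Φ (a • c) = g a * Φ c) (hbij : Function.Bijective Φ) : g.Flat := by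
  letI := g.toAlgebra
  let e : (E →₀ R) ≃ₗ[R] S := LinearEquiv.ofBijective
    { toFun := Φ
      map_add' := hadd
      map_smul' := fun a c => by
        rw [hsmul, RingHom.id_apply, Algebra.smul_def]
        rfl } hbij
  exact Module.Flat.of_linearEquiv e.symm

theorem exists_trivial_relation' {R S : Type u} [CommRing R] [CommRing S] [Algebra R S]
    [Module.Flat R S] {l : ℕ} (f : Fin l → R) (s : Fin l → S)
    (h : ∑ i, algebraMap R S (f i) * s i = 0) :
    ∃ (k : ℕ) (a : Fin l → Fin k → R) (y : Fin k → S),
      (∀ i, s i = ∑ j, algebraMap R S (a i j) * y j) ∧ ∀ j, ∑ i, f i * a i j = 0 := by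
  have h' : ∑ i, f i • s i = 0 := by
    rw [← h]
    exact Finset.sum_congr rfl (fun i _ => Algebra.smul_def _ _)
  obtain ⟨k, a, y, h1, h2⟩ := Module.Flat.isTrivialRelation_of_sum_smul_eq_zero
    (R := R) (M := S) (f := f) (x := s) h'
  refine ⟨k, a, y, ?_, h2⟩
  intro i
  rw [h1 i]
  exact Finset.sum_congr rfl (fun j _ => Algebra.smul_def _ _)

/-- The equational criterion for a flat ring map. -/
theorem exists_trivial_relation {R S : Type u} [CommRing R] [CommRing S] (g : R →+* S)
    (hg : g.Flat) {l : ℕ} (f : Fin l → R) (s : Fin l → S) (h : ∑ i, g (f i) * s i = 0) :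
    ∃ (k : ℕ) (a : Fin l → Fin k → R) (y : Fin k → S),
      (∀ i, s i = ∑ j, g (a i j) * y j) ∧ ∀ j, ∑ i, f i * a i j = 0 := by
  letI := g.toAlgebra
  haveI : Module.Flat R S := hg
  exact exists_trivial_relation' f s h

theorem flat_of_trivial_relations {R S : Type u} [CommRing R] [CommRing S] (g : R →+* S)
    (H : ∀ {l : ℕ} (f : Fin l → R) (s : Fin l → S), ∑ i, g (f i) * s i = 0 →
      ∃ (k : ℕ) (a : Fin l → Fin k → R) (y : Fin k → S),
        (∀ i, s i = ∑ j, g (a i j) * y j) ∧ ∀ j, ∑ i, f i * a i j = 0) : g.Flat := by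
  letI := g.toAlgebra
  change Module.Flat R S
  apply Module.Flat.of_forall_isTrivialRelation
  intro l f s h
  have h' : ∑ i, g (f i) * s i = 0 := by
    rw [← h]
    exact Finset.sum_congr rfl (fun i _ => (Algebra.smul_def _ _).symm)
  obtain ⟨k, a, y, h1, h2⟩ := H f s h'
  refine ⟨k, a, y, ?_, h2⟩
  intro i
  rw [h1 i]
  exact Finset.sum_congr rfl (fun j _ => (Algebra.smul_def _ _).symm)

section Perf

variable (p : ℕ) [Fact p.Prime] (R : Type u) [CommRing R] [CharP R p]

/-- `r ↦ (of r)^{1/p^n}`. -/
noncomputable def psi (n : ℕ) : R →+* PerfectClosure R p :=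
  ((iterateFrobeniusEquiv (PerfectClosure R p) p n).symm : PerfectClosure R p →+* _).comp
    (PerfectClosure.of R p)

theorem psi_eq_mk (n : ℕ) (r : R) : psi p R n r = PerfectClosure.mk R p (n, r) := by
  unfold psi
  rw [RingHom.comp_apply]
  change (iterateFrobeniusEquiv (PerfectClosure R p) p n).symm _ = _
  rw [RingEquiv.symm_apply_eq, iterateFrobeniusEquiv_apply,
    coe_iterateFrobenius, PerfectClosure.iterate_frobenius_mk]

theorem pow_psi (n : ℕ) (r : R) : psi p R n r ^ p ^ n = PerfectClosure.of R p r := by
  unfold psi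
  rw [RingHom.comp_apply]
  change ((iterateFrobeniusEquiv (PerfectClosure R p) p n).symm _) ^ p ^ n = _
  rw [← iterateFrobenius_def, ← iterateFrobeniusEquiv_apply, RingEquiv.apply_symm_apply]

theorem of_eq_psi (n : ℕ) (a : R) : PerfectClosure.of R p a = psi p R n (a ^ p ^ n) := by
  rw [map_pow]
  have : Function.Injective (iterateFrobeniusEquiv (PerfectClosure R p) p n) :=
    (iterateFrobeniusEquiv (PerfectClosure R p) p n).injective
  apply this
  rw [iterateFrobeniusEquiv_apply, iterateFrobeniusEquiv_apply, iterateFrobenius_def,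
    iterateFrobenius_def, ← pow_mul, mul_comm, pow_mul, pow_psi]

theorem psi_add (n k : ℕ) (r : R) : psi p R n r = psi p R (n + k) (r ^ p ^ k) := by
  have : Function.Injective (iterateFrobeniusEquiv (PerfectClosure R p) p (n + k)) :=
    (iterateFrobeniusEquiv (PerfectClosure R p) p (n + k)).injective
  apply this
  rw [iterateFrobeniusEquiv_apply, iterateFrobeniusEquiv_apply, iterateFrobenius_def,
    iterateFrobenius_def, pow_psi, pow_add, pow_mul, pow_psi, map_pow]

theorem exists_psi (x : PerfectClosure R p) : ∃ n r, x = psi p R n r := by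
  obtain ⟨⟨n, r⟩, rfl⟩ := PerfectClosure.mk_surjective R p x
  exact ⟨n, r, (psi_eq_mk p R n r).symm⟩

theorem psi_injective [IsReduced R] (n : ℕ) : Function.Injective (psi p R n) := by
  rw [injective_iff_map_eq_zero]
  intro r hr
  rw [psi_eq_mk, ← PerfectClosure.mk_zero_right R p n, PerfectClosure.eq_iff] at hr
  simp only at hr
  rw [← coe_iterateFrobenius] at hr
  exact (iterateFrobenius_inj R p n) hr

/-- a finite family in the perfect closure has a common level. -/
theorem exists_common_psi {l : ℕ} (x : Fin l → PerfectClosure R p) :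
    ∃ (n : ℕ) (r : Fin l → R), ∀ i, x i = psi p R n (r i) := by
  choose n r h using fun i => exists_psi p R (x i)
  refine ⟨Finset.univ.sup n, fun i => r i ^ p ^ (Finset.univ.sup n - n i), fun i => ?_⟩
  have hle : n i ≤ Finset.univ.sup n := Finset.le_sup (Finset.mem_univ i)
  rw [h i, psi_add p R (n i) (Finset.univ.sup n - n i) (r i), Nat.add_sub_cancel' hle]

/-- If all iterated Frobenii of a reduced ring are flat, so is the map to the perfect closure. -/
theorem flat_of_of_flat_iterateFrobenius [IsReduced R]
    (hF : ∀ n, (iterateFrobenius R p n).Flat) : (PerfectClosure.of R p).Flat := by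
  apply flat_of_trivial_relations
  intro l f x h
  obtain ⟨n, r, hr⟩ := exists_common_psi p R x
  have h1 : ∑ i, iterateFrobenius R p n (f i) * r i = 0 := by
    apply psi_injective p R n
    rw [map_sum, map_zero, ← h]
    apply Finset.sum_congr rfl
    intro i _
    rw [map_mul, iterateFrobenius_def, ← of_eq_psi, hr i]
  obtain ⟨k, a, y, h2, h3⟩ := exists_trivial_relation _ (hF n) f r h1
  refine ⟨k, a, fun j => psi p R n (y j), ?_, h3⟩
  intro i
  rw [hr i, h2 i, map_sum]
  apply Finset.sum_congr rfl
  intro j _
  rw [map_mul, iterateFrobenius_def, ← of_eq_psi]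

theorem faithfullyFlat_of_of_flat_iterateFrobenius [IsReduced R]
    (hF : ∀ n, (iterateFrobenius R p n).Flat) : (PerfectClosure.of R p).FaithfullyFlat := by
  have hflat := flat_of_of_flat_iterateFrobenius p R hF
  have huh := Groth.Agent.Lib.Helper6.CharPUH.uh_of_isPRadical p (Fact.out : p.Prime)
    (CharP.cast_eq_zero (PerfectClosure R p) p) (PerfectClosure.of R p)
  letI := (PerfectClosure.of R p).toAlgebra
  haveI : Module.Flat R (PerfectClosure R p) := hflat
  exact Module.FaithfullyFlat.of_comap_surjective huh.2.2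

theorem flat_iterateFrobenius (hF : (frobenius R p).Flat) (n : ℕ) :
    (iterateFrobenius R p n).Flat := by
  induction n with
  | zero =>
    have : iterateFrobenius R p 0 = RingHom.id R := by
      ext x; simp [iterateFrobenius_def]
    rw [this]
    exact RingHom.Flat.id R
  | succ n ih =>
    have : iterateFrobenius R p (n + 1) = (frobenius R p).comp (iterateFrobenius R p n) := by
      ext x
      simp only [RingHom.comp_apply, iterateFrobenius_def, frobenius_def, pow_succ, pow_mul]
    rw [this]
    exact RingHom.Flat.comp ih hF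

theorem isReduced_of_frobenius_injective (h : Function.Injective (frobenius R p)) :
    IsReduced R := by
  constructor
  intro x ⟨k, hk⟩
  have h1 : Function.Injective (iterateFrobenius R p k) := by
    rw [coe_iterateFrobenius]
    exact h.iterate k
  apply h1
  rw [map_zero, iterateFrobenius_def]
  have hle : k ≤ p ^ k := (Nat.lt_pow_self (Fact.out : p.Prime).one_lt).le
  obtain ⟨m, hm⟩ := Nat.exists_eq_add_of_le hle
  rw [hm, pow_add, hk, zero_mul]

variable (ι : Type u) (x : ι → R)

/-- the `p`-basis map. -/
noncomputable def pBasisMap : ({e : ι →₀ ℕ // ∀ i, e i < p} →₀ R) → R :=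
  fun c => c.sum (fun e r => r ^ p * e.1.prod (fun i n => x i ^ n))

theorem pBasisMap_add (c d : {e : ι →₀ ℕ // ∀ i, e i < p} →₀ R) :
    pBasisMap p R ι x (c + d) = pBasisMap p R ι x c + pBasisMap p R ι x d := by
  unfold pBasisMap
  apply Finsupp.sum_add_index'
  · intro e
    rw [zero_pow (Fact.out : p.Prime).ne_zero, zero_mul]
  · intro e a b
    rw [add_pow_char, add_mul]

theorem pBasisMap_smul (a : R) (c : {e : ι →₀ ℕ // ∀ i, e i < p} →₀ R) :
    pBasisMap p R ι x (a • c) = frobenius R p a * pBasisMap p R ι x c := by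
  unfold pBasisMap
  rw [Finsupp.sum_smul_index', Finsupp.mul_sum]
  · apply Finsupp.sum_congr
    intro e _
    rw [smul_eq_mul, mul_pow, frobenius_def, mul_assoc]
  · intro e
    rw [zero_pow (Fact.out : p.Prime).ne_zero, zero_mul]

theorem frobenius_injective_of_pBasis (hx : Function.Bijective (pBasisMap p R ι x)) :
    Function.Injective (frobenius R p) := by
  intro r s hrs
  let e0 : {e : ι →₀ ℕ // ∀ i, e i < p} := ⟨0, fun i => (Fact.out : p.Prime).pos⟩
  have h1 : ∀ t : R, pBasisMap p R ι x (Finsupp.single e0 t) = t ^ p := by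
    intro t
    unfold pBasisMap
    rw [Finsupp.sum_single_index]
    · simp [e0]
    · rw [zero_pow (Fact.out : p.Prime).ne_zero, zero_mul]
  have h2 : Finsupp.single e0 r = Finsupp.single e0 s := by
    apply hx.1
    rw [h1, h1]
    exact hrs
  exact Finsupp.single_injective e0 h2

/-- A ring of characteristic `p` with a `p`-basis is faithfully flat under its perfect closure. -/
theorem faithfullyFlat_of_pBasis (hx : Function.Bijective (pBasisMap p R ι x)) :
    (PerfectClosure.of R p).FaithfullyFlat := by
  haveI := isReduced_of_frobenius_injective p R (frobenius_injective_of_pBasis p R ι x hx)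
  have hF : (frobenius R p).Flat :=
    flat_of_finsupp_bijective (frobenius R p) (pBasisMap p R ι x) (pBasisMap_add p R ι x)
      (pBasisMap_smul p R ι x) hx
  exact faithfullyFlat_of_of_flat_iterateFrobenius p R (flat_iterateFrobenius p R hF)

end Perf

end Groth.Agent.Lib.Helper6.PerfFlat
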