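import Groth.Agent.Lib.Helper6.PerfClosureAWN
import Groth.Agent.Lib.Helper6.PerfAWN2

set_option autoImplicit false
universe u

open CategoryTheory AlgebraicGeometry Limits

namespace Groth.Agent.Lib.Helper6.Perf

open Groth.Agent.Lib.Helper6.AWNSch Groth.Agent.Lib.Helper12 Groth.Agent.Lib.Helper6.SqCube
open Groth.Agent.Lib.Helper6.UHDesc Groth.Agent.Lib.Helper6.CharPUH

/-- A universal homeomorphism induces universal homeomorphisms of spectra of sections over affine
opens. -/
theorem isUnivHomeo_SpecMap_app {XP X : Scheme.{u}} (π : XP ⟶ X) (hπ : FlatMor.IsUnivHomeo π)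
    (V : X.Opens) (hV : IsAffineOpen V) : FlatMor.IsUnivHomeo (Spec.map (π.app V)) := by
  have : IsAffineHom π := IsUnivHomeo.isAffineHom hπ
  have hV' : IsAffineOpen (π ⁻¹ᵁ V) := hV.preimage π
  have h1 : FlatMor.IsUnivHomeo (π ∣_ V) := IsUnivHomeo.restrict hπ V
  have e1 := IsAffineOpen.SpecMap_appLE_fromSpec π hV hV' le_rfl
  rw [Scheme.Hom.appLE_eq_app] at e1
  have e2 : Spec.map (π.app V) ≫ hV.isoSpec.inv = hV'.isoSpec.inv ≫ (π ∣_ V) := by
    rw [← cancel_mono V.ι, Category.assoc, Category.assoc, morphismRestrict_ι]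
    exact e1
  have e3 : Spec.map (π.app V) = hV'.isoSpec.inv ≫ (π ∣_ V) ≫ hV.isoSpec.hom := by
    rw [← Category.assoc, ← e2, Category.assoc, Iso.inv_hom_id, Category.comp_id]
  rw [e3]
  exact (MorphismProperty.cancel_left_of_respectsIso FlatMor.IsUnivHomeo _ _).mpr
    ((MorphismProperty.cancel_right_of_respectsIso FlatMor.IsUnivHomeo _ _).mpr h1)

theorem uh_app {XP X : Scheme.{u}} (π : XP ⟶ X) (hπ : FlatMor.IsUnivHomeo π)
    (V : X.Opens) (hV : IsAffineOpen V) : UH (π.app V).hom :=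
  (Groth.Agent.Lib.Helper6.UnivHomeoRing.isUnivHomeo_SpecMap_iff (π.app V)).mp
    (isUnivHomeo_SpecMap_app π hπ V hV)

section

variable (p : ℕ) [Fact p.Prime] {XP X : Scheme.{u}} [FrobSch.IsCharP XP p] [FrobSch.IsCharP X p]
  (π : XP ⟶ X) (hπ : FrobSch.IsPerfection π p)

include hπ in
theorem isAffineOpen_preimage_of_isPerfection (V : X.Opens) (hV : IsAffineOpen V) :
    IsAffineOpen (π ⁻¹ᵁ V) := by
  have : IsAffineHom π := IsUnivHomeo.isAffineHom (isUnivHomeo_of_isPerfection p π hπ)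
  exact hV.preimage π

include hπ in
/-- Sections of the perfection over the preimage of an affine open are `p`-radical over the
sections downstairs. -/
theorem isPRadical_app_of_isPerfection (V : X.Opens) (hV : IsAffineOpen V) :
    IsPRadical (π.app V).hom p := by
  have hU := uh_app π (isUnivHomeo_of_isPerfection p π hπ) V hV
  have hp0 : (p : Γ(XP, π ⁻¹ᵁ V)) = 0 := FrobSch.natCast_eq_zero_app XP p _
  refine ⟨fun x => ?_, ?_⟩
  · obtain ⟨n, y, hy⟩ := exists_pow_mem_range_of_uh p Fact.out hp0 (π.app V).hom hU x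
    exact ⟨n, y, hy⟩
  · rw [pNilradical_prime Fact.out]
    exact Groth.Agent.Lib.Helper6.AWN.uh_ker_le_nilradical hU

include hπ in
theorem pow_bijective_of_isPerfection (U : XP.Opens) :
    Function.Bijective (fun s : Γ(XP, U) => s ^ p) :=
  (perfSch_of_isPerfect XP p hπ.1 U).2

end

end Groth.Agent.Lib.Helper6.Perf
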