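import Groth.Agent.Lib.Helper6.PerfLocal
import Groth.Agent.S14255

set_option autoImplicit false
universe u

open CategoryTheory AlgebraicGeometry Limits

namespace Groth.Agent.Lib.Helper6.Perf

open Groth.Agent.Lib.Helper6.AWNSch Groth.Agent.Lib.Helper12 Groth.Agent.Lib.Helper6.SqCube
open Groth.Agent.Lib.Helper6.UHDesc Groth.Agent.Lib.Helper6.CharPUH

theorem pow_pow_bijective {R : Type*} [CommRing R] (p : ℕ)
    (h : Function.Bijective (fun s : R => s ^ p)) (n : ℕ) :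
    Function.Bijective (fun s : R => s ^ (p ^ n)) := by
  induction n with
  | zero =>
    simp only [pow_zero, pow_one]
    exact Function.bijective_id
  | succ n ih =>
    have : (fun s : R => s ^ (p ^ (n + 1))) = (fun s : R => s ^ p) ∘ (fun s : R => s ^ (p ^ n)) := by
      funext s
      simp only [Function.comp_apply, pow_succ, pow_mul]
    rw [this]
    exact h.comp ih

theorem appLE_eq_of_eq {X Y : Scheme.{u}} {g₁ g₂ : X ⟶ Y} (h : g₁ = g₂) (U : Y.Opens)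
    (W : X.Opens) (e₁ : W ≤ g₁ ⁻¹ᵁ U) (e₂ : W ≤ g₂ ⁻¹ᵁ U) :
    g₁.appLE U W e₁ = g₂.appLE U W e₂ := by
  subst h; rfl

theorem surjective_app_of_eq {X Y : Scheme.{u}} (f : X ⟶ Y) {U W : Y.Opens} (h : W = U)
    (hs : Function.Surjective (f.app U)) : Function.Surjective (f.app W) := by
  subst h; exact hs

theorem surjective_morphismRestrict_appTop {X Y : Scheme.{u}} (f : X ⟶ Y) (U : Y.Opens)
    (h : Function.Surjective (f.app U)) : Function.Surjective (f ∣_ U).appTop := by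
  have e := morphismRestrict_appTop f U
  have h1 : Function.Surjective (f.app (U.ι ''ᵁ ⊤)) :=
    surjective_app_of_eq f (Scheme.Opens.ι_image_top U) h
  intro t
  have hiso : IsIso (X.presheaf.map
      (eqToHom (image_morphismRestrict_preimage f U ⊤)).op) := inferInstance
  obtain ⟨s, hs⟩ := (ConcreteCategory.bijective_of_isIso (X.presheaf.map
      (eqToHom (image_morphismRestrict_preimage f U ⊤)).op)).2 t
  obtain ⟨r, hr⟩ := h1 s
  refine ⟨r, ?_⟩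
  have e' := congrArg (fun φ => φ.hom r) e
  refine e'.trans ?_
  change (X.presheaf.map (eqToHom (image_morphismRestrict_preimage f U ⊤)).op).hom
    ((f.app (U.ι ''ᵁ ⊤)).hom r) = t
  exact (congrArg _ hr).trans hs

section

variable (p : ℕ) [Fact p.Prime] {X Y XP YP : Scheme.{u}}
    [FrobSch.IsCharP X p] [FrobSch.IsCharP Y p] [FrobSch.IsCharP XP p] [FrobSch.IsCharP YP p]
    (πX : XP ⟶ X) (πY : YP ⟶ Y) (hX : FrobSch.IsPerfection πX p) (hY : FrobSch.IsPerfection πY p)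
    (f : X ⟶ Y) (fP : XP ⟶ YP) (w : fP ≫ πY = πX ≫ f)

omit [Fact p.Prime] [FrobSch.IsCharP X p] [FrobSch.IsCharP Y p] [FrobSch.IsCharP XP p]
  [FrobSch.IsCharP YP p] in
include w in
theorem preimage_preimage_eq (U : Y.Opens) : fP ⁻¹ᵁ (πY ⁻¹ᵁ U) = πX ⁻¹ᵁ (f ⁻¹ᵁ U) := by
  rw [← Scheme.Hom.comp_preimage, ← Scheme.Hom.comp_preimage, w]

include hX hY w in
/-- The perfection of a closed immersion is surjective on sections over preimages of affines. -/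
theorem surjective_app_perfection_of_isClosedImmersion [IsClosedImmersion f] (U : Y.Opens)
    (hU : IsAffineOpen U) : Function.Surjective (fP.app (πY ⁻¹ᵁ U)) := by
  intro t
  have hV : IsAffineOpen (f ⁻¹ᵁ U) := hU.preimage f
  have hW : fP ⁻¹ᵁ (πY ⁻¹ᵁ U) = πX ⁻¹ᵁ (f ⁻¹ᵁ U) := preimage_preimage_eq πX πY f fP w U
  -- the p-radical structure, transported to `W`
  have hrad : IsPRadical (πX.appLE (f ⁻¹ᵁ U) (fP ⁻¹ᵁ (πY ⁻¹ᵁ U)) hW.le).hom p := by
    have := isPRadical_app_of_isPerfection p πX hX (f ⁻¹ᵁ U) hV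
    rw [← Scheme.Hom.appLE_eq_app] at this
    exact (Scheme.Hom.appLE_congr πX hW.le rfl hW (fun φ => IsPRadical φ.hom p)).mpr this
  obtain ⟨n, s, hs⟩ := hrad.pow_mem' t
  obtain ⟨r, rfl⟩ := Scheme.Hom.app_surjective f U hU s
  obtain ⟨r', hr'⟩ := (pow_pow_bijective p (pow_bijective_of_isPerfection p πY hY (πY ⁻¹ᵁ U)) n).2
    (πY.app U r)
  refine ⟨r', ?_⟩
  apply (pow_pow_bijective p (pow_bijective_of_isPerfection p πX hX (fP ⁻¹ᵁ (πY ⁻¹ᵁ U))) n).1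
  change (fP.app (πY ⁻¹ᵁ U) r') ^ p ^ n = t ^ p ^ n
  change r' ^ p ^ n = _ at hr'
  rw [← map_pow, hr', ← hs]
  have hle1 : fP ⁻¹ᵁ (πY ⁻¹ᵁ U) ≤ (fP ≫ πY) ⁻¹ᵁ U := le_rfl
  have hle2 : fP ⁻¹ᵁ (πY ⁻¹ᵁ U) ≤ (πX ≫ f) ⁻¹ᵁ U := hW.le
  have e1 : (fP ≫ πY).appLE U (fP ⁻¹ᵁ (πY ⁻¹ᵁ U)) hle1 = πY.app U ≫ fP.app (πY ⁻¹ᵁ U) := by
    rw [Scheme.Hom.comp_appLE, Scheme.Hom.appLE_eq_app]
  have e2 : (πX ≫ f).appLE U (fP ⁻¹ᵁ (πY ⁻¹ᵁ U)) hle2 =
      f.app U ≫ πX.appLE (f ⁻¹ᵁ U) (fP ⁻¹ᵁ (πY ⁻¹ᵁ U)) hW.le := by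
    rw [Scheme.Hom.comp_appLE]
  have e3 := appLE_eq_of_eq w U (fP ⁻¹ᵁ (πY ⁻¹ᵁ U)) hle1 hle2
  rw [e1, e2] at e3
  exact congrArg (fun φ => φ.hom r) e3

set_option backward.isDefEq.respectTransparency.types false in
include hX hY w in
theorem isClosedImmersion_perfection [IsClosedImmersion f] : IsClosedImmersion fP := by
  have hπY := isUnivHomeo_of_isPerfection p πY hY
  have : IsAffineHom πY := IsUnivHomeo.isAffineHom hπY
  have : IsAffineHom πX := IsUnivHomeo.isAffineHom (isUnivHomeo_of_isPerfection p πX hX)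
  let 𝒱 : Y.affineOpens → YP.affineOpens := fun U => ⟨πY ⁻¹ᵁ U.1, U.2.preimage πY⟩
  have hcov : ⨆ U : Y.affineOpens, ((𝒱 U : YP.affineOpens) : YP.Opens) = ⊤ := by
    have h1 : ⨆ U : Y.affineOpens, (U : Y.Opens) = ⊤ := iSup_affineOpens_eq_top Y
    have h2 := congrArg (fun W => πY ⁻¹ᵁ W) h1
    simp only [Scheme.Hom.preimage_iSup, Scheme.Hom.preimage_top] at h2
    exact h2
  apply HasAffineProperty.of_iSup_eq_top (P := @IsClosedImmersion) 𝒱 hcov
  intro U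
  constructor
  · have hW : fP ⁻¹ᵁ (πY ⁻¹ᵁ U.1) = πX ⁻¹ᵁ (f ⁻¹ᵁ U.1) :=
      preimage_preimage_eq πX πY f fP w U.1
    change IsAffineOpen (fP ⁻¹ᵁ (πY ⁻¹ᵁ U.1))
    rw [hW]
    exact (U.2.preimage f).preimage πX
  · exact surjective_morphismRestrict_appTop fP (πY ⁻¹ᵁ U.1)
      (surjective_app_perfection_of_isClosedImmersion p πX πY hX hY f fP w U.1 U.2)

end

end Groth.Agent.Lib.Helper6.Perf

namespace Groth.Agent.Lib.Helper6.Perf

open Groth.Agent.Lib.Helper6.AWNSch Groth.Agent.Lib.Helper12 Groth.Agent.Lib.Helper6.SqCube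
open Groth.Agent.Lib.Helper6.UHDesc Groth.Agent.Lib.Helper6.CharPUH

section

variable (p : ℕ) [Fact p.Prime] {X Y XP YP : Scheme.{u}}
    [FrobSch.IsCharP X p] [FrobSch.IsCharP Y p] [FrobSch.IsCharP XP p] [FrobSch.IsCharP YP p]
    (πX : XP ⟶ X) (πY : YP ⟶ Y) (hX : FrobSch.IsPerfection πX p) (hY : FrobSch.IsPerfection πY p)
    (f : X ⟶ Y) (fP : XP ⟶ YP) (w : fP ≫ πY = πX ≫ f)

include hX hY w in
theorem isOpenImmersion_perfection [IsOpenImmersion f] : IsOpenImmersion fP := by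
  have sq := isPullback_perfection_of_isOpenImmersion p πX πY hX hY f fP w
  exact MorphismProperty.of_isPullback (P := @IsOpenImmersion) sq.flip inferInstance

include hX hY w in
theorem surjective_perfection [Surjective f] : Surjective fP := by
  have hπX := isUnivHomeo_of_isPerfection p πX hX
  have hπY := isUnivHomeo_of_isPerfection p πY hY
  have : Surjective πX := IsUnivHomeo.surjective hπX
  have hinj : Function.Injective πY := (IsUnivHomeo.isHomeomorph hπY).injective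
  refine ⟨fun y => ?_⟩
  obtain ⟨x, hx⟩ := (πX ≫ f).surjective (πY y)
  refine ⟨x, hinj ?_⟩
  rw [← hx, ← Scheme.Hom.comp_apply, w]

include hX hY w in
theorem isImmersion_perfection [IsImmersion f] : IsImmersion fP := by
  have : FrobSch.IsCharP f.coborderRange.toScheme p := FrobSch.IsCharP.of_hom f.coborderRange.ι p
  obtain ⟨ZP, πZ, _, hZ⟩ := exists_isPerfection p f.coborderRange.toScheme
  -- induced maps
  obtain ⟨i', hi'⟩ := (hZ.2 XP hX.1).2 (πX ≫ f.liftCoborder)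
  obtain ⟨j', hj'⟩ := (hY.2 ZP hZ.1).2 (πZ ≫ f.coborderRange.ι)
  change i' ≫ πZ = πX ≫ f.liftCoborder at hi'
  change j' ≫ πY = πZ ≫ f.coborderRange.ι at hj'
  have e : i' ≫ j' = fP := by
    apply (hY.2 XP hX.1).1
    change (i' ≫ j') ≫ πY = fP ≫ πY
    rw [Category.assoc, hj', ← Category.assoc, hi', Category.assoc, f.liftCoborder_ι, w]
  have h1 : IsClosedImmersion i' :=
    isClosedImmersion_perfection p πX πZ hX hZ f.liftCoborder i' hi'
  have h2 : IsOpenImmersion j' :=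
    isOpenImmersion_perfection p πZ πY hZ hY f.coborderRange.ι j' hj'
  rw [← e]
  infer_instance

include hX hY w in
theorem flat_perfection [Flat f] : Flat fP := by
  have hpp : p.Prime := Fact.out
  have hπX := isUnivHomeo_of_isPerfection p πX hX
  have hπY := isUnivHomeo_of_isPerfection p πY hY
  have hQ : RingHom.StableUnderCompositionWithLocalizationAwaySource RingHom.Flat :=
    (RingHom.Flat.stableUnderComposition.stableUnderCompositionWithLocalizationAway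
      RingHom.Flat.holdsForLocalizationAway).left
  rw [HasRingHomProperty.iff_exists_appLE (P := @Flat) hQ]
  intro x
  obtain ⟨U, hU, hxU, -⟩ := TopologicalSpace.Opens.isBasis_iff_nbhd.mp Y.isBasis_affineOpens
    (TopologicalSpace.Opens.mem_top (f (πX x)))
  obtain ⟨V, hV, hxV, hVU⟩ := TopologicalSpace.Opens.isBasis_iff_nbhd.mp X.isBasis_affineOpens
    (show πX x ∈ f ⁻¹ᵁ U from hxU)
  have hU' : IsAffineOpen (πY ⁻¹ᵁ U) := isAffineOpen_preimage_of_isPerfection p πY hY U hU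
  have hV' : IsAffineOpen (πX ⁻¹ᵁ V) := isAffineOpen_preimage_of_isPerfection p πX hX V hV
  have hle : πX ⁻¹ᵁ V ≤ fP ⁻¹ᵁ (πY ⁻¹ᵁ U) := by
    rw [preimage_preimage_eq πX πY f fP w U]
    exact Scheme.Hom.preimage_mono πX hVU
  refine ⟨⟨πY ⁻¹ᵁ U, hU'⟩, ⟨πX ⁻¹ᵁ V, hV'⟩, hxV, hle, ?_⟩
  -- the four rings
  have hne : Nonempty (πX ⁻¹ᵁ V : XP.Opens) := ⟨⟨x, hxV⟩⟩
  have hntB' : Nontrivial Γ(XP, πX ⁻¹ᵁ V) := Scheme.component_nontrivial XP (πX ⁻¹ᵁ V)
  have hntB : Nontrivial Γ(X, V) := (πX.app V).hom.domain_nontrivial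
  have hntA' : Nontrivial Γ(YP, πY ⁻¹ᵁ U) := (fP.appLE (πY ⁻¹ᵁ U) (πX ⁻¹ᵁ V) hle).hom.domain_nontrivial
  have hntA : Nontrivial Γ(Y, U) := (πY.app U).hom.domain_nontrivial
  have : CharP Γ(Y, U) p := (CharP.charP_iff_prime_eq_zero hpp).2 (FrobSch.natCast_eq_zero_app Y p U)
  have : CharP Γ(X, V) p := (CharP.charP_iff_prime_eq_zero hpp).2 (FrobSch.natCast_eq_zero_app X p V)
  have : CharP Γ(YP, πY ⁻¹ᵁ U) p :=
    (CharP.charP_iff_prime_eq_zero hpp).2 (FrobSch.natCast_eq_zero_app YP p _)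
  have : CharP Γ(XP, πX ⁻¹ᵁ V) p :=
    (CharP.charP_iff_prime_eq_zero hpp).2 (FrobSch.natCast_eq_zero_app XP p _)
  have : PerfectRing Γ(YP, πY ⁻¹ᵁ U) p := ⟨pow_bijective_of_isPerfection p πY hY (πY ⁻¹ᵁ U)⟩
  have : PerfectRing Γ(XP, πX ⁻¹ᵁ V) p := ⟨pow_bijective_of_isPerfection p πX hX (πX ⁻¹ᵁ V)⟩
  have : IsPRadical (πY.app U).hom p := isPRadical_app_of_isPerfection p πY hY U hU
  have : IsPRadical (πX.app V).hom p := isPRadical_app_of_isPerfection p πX hX V hV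
  have hflat : (f.appLE U V hVU).hom.Flat :=
    HasRingHomProperty.appLE (P := @Flat) f inferInstance ⟨U, hU⟩ ⟨V, hV⟩ hVU
  refine Groth.Agent.S14255.result p (f.appLE U V hVU).hom hflat (πY.app U).hom (πX.app V).hom
    (fP.appLE (πY ⁻¹ᵁ U) (πX ⁻¹ᵁ V) hle).hom ?_
  have hle1 : πX ⁻¹ᵁ V ≤ (fP ≫ πY) ⁻¹ᵁ U := hle
  have hle2 : πX ⁻¹ᵁ V ≤ (πX ≫ f) ⁻¹ᵁ U := Scheme.Hom.preimage_mono πX hVU
  have e1 : πY.app U ≫ fP.appLE (πY ⁻¹ᵁ U) (πX ⁻¹ᵁ V) hle = (fP ≫ πY).appLE U (πX ⁻¹ᵁ V) hle1 := by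
    rw [Scheme.Hom.comp_appLE]
  have e2 : f.appLE U V hVU ≫ πX.app V = (πX ≫ f).appLE U (πX ⁻¹ᵁ V) hle2 := by
    rw [Scheme.Hom.app_eq_appLE, Scheme.Hom.appLE_comp_appLE]
  have e3 := appLE_eq_of_eq w U (πX ⁻¹ᵁ V) hle1 hle2
  rw [← e1, ← e2] at e3
  ext a
  exact congrArg (fun φ => φ.hom a) e3

end

end Groth.Agent.Lib.Helper6.Perf
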