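import Mathlib
import Groth.Agent.Lib.Helper6.PrimF3

/-!
# Primary extensions: non-nilpotent elements of `K ⊗[k] L` are non-zero-divisors (helper6)
-/

set_option autoImplicit false
set_option linter.style.haveILetI false
set_option linter.unusedSectionVars false
universe u v

namespace Groth.Agent.Lib.Helper6.Prim

open Polynomial TensorProduct IntermediateField
open scoped nonZeroDivisors

section abstract

theorem eq_zero_of_mul_eq_zero_of_not_isNilpotent (R' : Type*) {B : Type*} [CommRing R']
    [IsDomain R'] [CommRing B] [Algebra R' B] [Module.Flat R' B] [Algebra.IsAlgebraic R' B]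
    (hnil : (nilradical B).IsPrime) (d e : B) (hd : ¬ IsNilpotent d) (hde : d * e = 0) :
    e = 0 := by
  haveI := hnil
  have hdP : d ∉ nilradical B := fun h => hd (mem_nilradical.mp h)
  have halg : IsAlgebraic R' (Ideal.Quotient.mk (nilradical B) d) :=
    (Algebra.IsAlgebraic.isAlgebraic d).algHom (Ideal.Quotient.mkₐ R' (nilradical B))
  have hx0 : Ideal.Quotient.mk (nilradical B) d ∈ (B ⧸ nilradical B)⁰ := by
    apply mem_nonZeroDivisors_of_ne_zero
    rwa [Ne, Ideal.Quotient.eq_zero_iff_mem]
  obtain ⟨q, hq0, hq⟩ := halg.exists_nonzero_coeff_and_aeval_eq_zero hx0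
  have h1 : aeval d q ∈ nilradical B := by
    rw [← Ideal.Quotient.eq_zero_iff_mem]
    have : Ideal.Quotient.mk (nilradical B) (aeval d q) =
        aeval (Ideal.Quotient.mk (nilradical B) d) q :=
      (Polynomial.aeval_algHom_apply (Ideal.Quotient.mkₐ R' (nilradical B)) d q).symm
    rw [this, hq]
  have h2 : aeval d q = aeval d (divX q) * d + algebraMap R' B (q.coeff 0) := by
    conv_lhs => rw [← Polynomial.divX_mul_X_add q]
    rw [map_add, map_mul, aeval_X, aeval_C]
  have h3 : algebraMap R' B (q.coeff 0) * e = aeval d q * e := by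
    rw [h2, add_mul, mul_assoc, hde, mul_zero, zero_add]
  obtain ⟨m, hm⟩ := mem_nilradical.mp h1
  have h4 : ∀ n : ℕ, algebraMap R' B (q.coeff 0) ^ n * e = aeval d q ^ n * e := by
    intro n
    induction n with
    | zero => simp
    | succ n ih =>
      rw [pow_succ, mul_assoc, h3, ← mul_assoc, mul_comm _ (aeval d q), mul_assoc, ih, ← mul_assoc,
        ← pow_succ']
  have h5 : (q.coeff 0 ^ m) • e = 0 := by
    rw [Algebra.smul_def, map_pow, h4 m, hm, zero_mul]
  have hreg : IsSMulRegular B (q.coeff 0 ^ m) :=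
    Module.Flat.isSMulRegular_of_nonZeroDivisors
      (mem_nonZeroDivisors_of_ne_zero (pow_ne_zero m hq0))
  exact hreg (by simpa using h5)

end abstract

section app
variable {k K L : Type u} [Field k] [Field K] [Field L] [Algebra k K] [Algebra k L]

/-- in `L ⊗[k] K` (any fields), if the nilradical is prime, every non-nilpotent element is a
non-zero-divisor. -/
theorem eq_zero_of_mul_eq_zero_of_not_isNilpotent_tensor
    (hnil : (nilradical (L ⊗[k] K)).IsPrime) (d e : L ⊗[k] K) (hd : ¬ IsNilpotent d)
    (hde : d * e = 0) : e = 0 := by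
  obtain ⟨s, hs⟩ := exists_isTranscendenceBasis k L
  set C : Subalgebra k L := Algebra.adjoin k (Set.range ((↑) : s → L)) with hC
  haveI : Algebra.IsAlgebraic C L := hs.isAlgebraic
  haveI : IsDomain (C ⊗[k] K) := by
    let e₂ : C ⊗[k] K ≃ₐ[k] MvPolynomial s k ⊗[k] K :=
      Algebra.TensorProduct.congr hs.1.aevalEquiv.symm AlgEquiv.refl
    let e₃ : MvPolynomial s k ⊗[k] K ≃ₐ[k] K ⊗[k] MvPolynomial s k :=
      Algebra.TensorProduct.comm k _ _
    let e₄ : K ⊗[k] MvPolynomial s k ≃ₐ[K] MvPolynomial s K :=
      MvPolynomial.algebraTensorAlgEquiv k K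
    exact MulEquiv.isDomain (MvPolynomial s K)
      ((e₂.toRingEquiv.trans e₃.toRingEquiv).trans e₄.toRingEquiv).toMulEquiv
  letI : Algebra (C ⊗[k] K) (L ⊗[k] K) :=
    (Algebra.TensorProduct.map (C.val) (AlgHom.id k K)).toRingHom.toAlgebra
  have halg : ∀ z : C ⊗[k] K, algebraMap (C ⊗[k] K) (L ⊗[k] K) z =
      Algebra.TensorProduct.map (C.val) (AlgHom.id k K) z := fun _ => rfl
  haveI : Module.Flat C L := by
    letI := FractionRing.liftAlgebra C L
    haveI := FractionRing.isScalarTower_liftAlgebra C L
    haveI : Module.Free (FractionRing C) L := Module.Free.of_divisionRing _ _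
    haveI : Module.Flat (FractionRing C) L := Module.Flat.of_free
    exact Module.Flat.trans C (FractionRing C) L
  haveI : IsScalarTower C (C ⊗[k] K) (L ⊗[k] K) :=
      IsScalarTower.of_algebraMap_eq (R := C) (S := C ⊗[k] K) (A := L ⊗[k] K) fun c => by
    rw [halg, Algebra.TensorProduct.algebraMap_apply, Algebra.TensorProduct.map_tmul]
    rfl
  have hpush : Algebra.IsPushout C L (C ⊗[k] K) (L ⊗[k] K) :=
    Algebra.IsPushout.tensorProduct_tensorProduct k K C L (by
      ext a
      simp [halg])
  have hpush' : Algebra.IsPushout C (C ⊗[k] K) L (L ⊗[k] K) := hpush.symm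
  haveI : Module.Flat (C ⊗[k] K) (L ⊗[k] K) :=
    Module.Flat.isBaseChange C (C ⊗[k] K) L (L ⊗[k] K) hpush'.out
  haveI : Algebra.IsAlgebraic (C ⊗[k] K) (L ⊗[k] K) := by
    constructor
    have hmem : ∀ b : L ⊗[k] K, b ∈ Subalgebra.algebraicClosure (C ⊗[k] K) (L ⊗[k] K) := by
      intro b
      induction b using TensorProduct.induction_on with
      | zero => exact Subalgebra.zero_mem _
      | add x y hx hy => exact Subalgebra.add_mem _ hx hy
      | tmul y a =>
        have h1 : y ⊗ₜ[k] a = (y ⊗ₜ[k] (1 : K)) *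
            algebraMap (C ⊗[k] K) (L ⊗[k] K) ((1 : C) ⊗ₜ a) := by
          rw [halg, Algebra.TensorProduct.map_tmul, map_one, Algebra.TensorProduct.tmul_mul_tmul,
            mul_one, one_mul]
          rfl
        rw [h1]
        refine Subalgebra.mul_mem _ ?_ (Subalgebra.algebraMap_mem _ _)
        have hy : IsAlgebraic C y := Algebra.IsAlgebraic.isAlgebraic y
        have hinj : Function.Injective
            (Algebra.TensorProduct.includeLeftRingHom : C →+* C ⊗[k] K) :=
          Algebra.TensorProduct.includeLeft_injective (S := k) (algebraMap k K).injective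
        exact hy.ringHom_of_comp_eq (Algebra.TensorProduct.includeLeftRingHom : C →+* C ⊗[k] K)
          (Algebra.TensorProduct.includeLeftRingHom : L →+* L ⊗[k] K) hinj (by
            ext c
            simp [halg])
    exact hmem
  exact eq_zero_of_mul_eq_zero_of_not_isNilpotent (C ⊗[k] K) hnil d e hd hde

variable (hsc : ∀ a : L, IsSeparable k a → a ∈ (algebraMap k L).range)

include hsc in
/-- **F3**: if `k` is separably closed in `L`, every non-nilpotent element of `K ⊗[k] L` is a
non-zero-divisor. -/
theorem eq_zero_of_mul_eq_zero_of_sepClosedIn (d e : K ⊗[k] L) (hd : ¬ IsNilpotent d)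
    (hde : d * e = 0) : e = 0 := by
  have h1 : IrreducibleSpace (PrimeSpectrum (K ⊗[k] L)) :=
    irreducibleSpace_tensor_of_sepClosedIn hsc K
  let c : K ⊗[k] L ≃ₐ[k] L ⊗[k] K := Algebra.TensorProduct.comm k K L
  have h2 : IrreducibleSpace (PrimeSpectrum (L ⊗[k] K)) :=
    (PrimeSpectrum.homeomorphOfRingEquiv c.toRingEquiv).irreducibleSpace_iff.mp h1
  rw [PrimeSpectrum.irreducibleSpace_iff_isPrime_nilradical] at h2
  have h3 : c e = 0 := by
    refine eq_zero_of_mul_eq_zero_of_not_isNilpotent_tensor h2 (c d) (c e) ?_ ?_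
    · intro h
      apply hd
      have := h.map c.symm
      simpa using this
    · rw [← map_mul, hde, map_zero]
  exact (map_eq_zero_iff c c.injective).mp h3

end app

end Groth.Agent.Lib.Helper6.Prim
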