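import Mathlib
import Groth.Agent.Lib.Helper6.FlFam6

/-!
# The action of `A' ⊗[A] B` on `K ⊗[A] X` (helper6)
-/

set_option autoImplicit false
set_option linter.style.haveILetI false
set_option linter.unusedSectionVars false
universe u v

namespace Groth.Agent.Lib.Helper6.Prim

open TensorProduct Function IsLocalRing Groth.Agent.Lib.Helper6.FlFam

section Theta

variable {A B A' : Type u} [CommRing A] [CommRing B] [CommRing A'] [Algebra A B] [Algebra A A']
  (K : Type u) [CommRing K] [Algebra A' K] [Algebra A K] [IsScalarTower A A' K]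
  (X : Type u) [AddCommGroup X] [Module A X] [Module B X] [IsScalarTower A B X]
  (Y : Type u) [AddCommGroup Y] [Module A Y] [Module B Y] [IsScalarTower A B Y]

/-- the action of `A' ⊗[A] B` on `K ⊗[A] X` -/
noncomputable def Theta : A' ⊗[A] B →ₗ[A] Module.End A (K ⊗[A] X) :=
  (TensorProduct.homTensorHomMap (RingHom.id A) K X K X) ∘ₗ
    (TensorProduct.map (Algebra.lsmul A A K : A' →ₐ[A] Module.End A K).toLinearMap
      (Algebra.lsmul A A X : B →ₐ[A] Module.End A X).toLinearMap)

theorem Theta_tmul_tmul (a' : A') (b : B) (c : K) (x : X) :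
    Theta (A' := A') (B := B) K X (a' ⊗ₜ[A] b) (c ⊗ₜ[A] x) = (a' • c) ⊗ₜ[A] (b • x) := by
  simp [Theta]

theorem Theta_tmul (a' : A') (b : B) (w : K ⊗[A] X) :
    Theta (A' := A') (B := B) K X (a' ⊗ₜ[A] b) w = a' • (ell A X b).baseChange K w := by
  induction w using TensorProduct.induction_on with
  | zero => simp
  | tmul c x =>
    rw [Theta_tmul_tmul, LinearMap.baseChange_tmul, TensorProduct.smul_tmul']
    rfl
  | add w₁ w₂ h₁ h₂ => simp only [map_add, smul_add, h₁, h₂]

variable {X Y} in
/-- naturality of `Theta` -/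
theorem Theta_natural (φ : X →ₗ[B] Y) (y : A' ⊗[A] B) (w : K ⊗[A] X) :
    (φ.restrictScalars A).lTensor K (Theta (A' := A') (B := B) K X y w) =
      Theta (A' := A') (B := B) K Y y ((φ.restrictScalars A).lTensor K w) := by
  induction y using TensorProduct.induction_on with
  | zero => simp
  | add y₁ y₂ h₁ h₂ => simp only [map_add, LinearMap.add_apply, h₁, h₂]
  | tmul a' b =>
    induction w using TensorProduct.induction_on with
    | zero => simp
    | add w₁ w₂ h₁ h₂ => simp only [map_add, h₁, h₂]
    | tmul c x =>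
      rw [Theta_tmul_tmul, LinearMap.lTensor_tmul, LinearMap.lTensor_tmul, Theta_tmul_tmul]
      congr 1
      exact φ.map_smul b x

end Theta

section Retract

variable {A : Type u} [CommRing A] (𝔪 : Ideal A) [h𝔪 : 𝔪.IsMaximal]
  {N V : Type u} [AddCommGroup N] [Module A N] [AddCommGroup V] [Module A V]

/-- an injective map between modules killed by a maximal ideal has a retraction -/
theorem exists_retraction (i : N →ₗ[A] V) (hi : Function.Injective i)
    (hV : ∀ a ∈ 𝔪, ∀ v : V, a • v = 0) : ∃ r : V →ₗ[A] N, r ∘ₗ i = LinearMap.id := by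
  letI : Field (A ⧸ 𝔪) := Ideal.Quotient.field 𝔪
  have hV' : Module.IsTorsionBySet A V 𝔪 := fun v a => hV a a.2 v
  have hN' : Module.IsTorsionBySet A N 𝔪 := fun n a => by
    apply hi
    rw [map_smul, map_zero]
    exact hV a a.2 (i n)
  letI : Module (A ⧸ 𝔪) V := hV'.module
  letI : Module (A ⧸ 𝔪) N := hN'.module
  haveI : IsScalarTower A (A ⧸ 𝔪) V := hV'.isScalarTower
  haveI : IsScalarTower A (A ⧸ 𝔪) N := hN'.isScalarTower
  let i' : N →ₗ[A ⧸ 𝔪] V := i.extendScalarsOfSurjective Ideal.Quotient.mk_surjective
  have hi' : LinearMap.ker i' = ⊥ := LinearMap.ker_eq_bot.mpr hi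
  obtain ⟨r', hr'⟩ := i'.exists_leftInverse_of_injective hi'
  refine ⟨r'.restrictScalars A, ?_⟩
  ext n
  exact LinearMap.congr_fun hr' n

variable (K : Type u) [AddCommGroup K] [Module A K]

theorem lTensor_injective_of_killed (i : N →ₗ[A] V) (hi : Function.Injective i)
    (hV : ∀ a ∈ 𝔪, ∀ v : V, a • v = 0) : Function.Injective (i.lTensor K) := by
  obtain ⟨r, hr⟩ := exists_retraction 𝔪 i hi hV
  have : (r.lTensor K) ∘ₗ (i.lTensor K) = LinearMap.id := by
    rw [← LinearMap.lTensor_comp, hr, LinearMap.lTensor_id]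
  exact Function.LeftInverse.injective (g := r.lTensor K) (fun w => LinearMap.congr_fun this w)

end Retract

section Ext

variable {A B A' : Type u} [CommRing A] [CommRing B] [CommRing A'] [Algebra A B] [Algebra A A']
  (K : Type u) [CommRing K] [Algebra A' K] [Algebra A K] [IsScalarTower A A' K]
  (𝔪 : Ideal A) [h𝔪 : 𝔪.IsMaximal]
  {N V W : Type u} [AddCommGroup N] [Module A N] [Module B N] [IsScalarTower A B N]
  [AddCommGroup V] [Module A V] [Module B V] [IsScalarTower A B V]
  [AddCommGroup W] [Module A W] [Module B W] [IsScalarTower A B W]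

/-- injectivity of `Theta y` is stable under extensions (of modules killed by `𝔪`) -/
theorem Theta_injective_of_exact (y : A' ⊗[A] B) (i : N →ₗ[B] V) (p : V →ₗ[B] W)
    (hi : Function.Injective i) (hp : Function.Surjective p) (hex : Function.Exact i p)
    (hV : ∀ a ∈ 𝔪, ∀ v : V, a • v = 0)
    (hN : Function.Injective (Theta (A' := A') (B := B) K N y))
    (hW : Function.Injective (Theta (A' := A') (B := B) K W y)) :
    Function.Injective (Theta (A' := A') (B := B) K V y) := by
  rw [injective_iff_map_eq_zero]
  intro w hw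
  have hex' : Function.Exact ((i.restrictScalars A).lTensor K) ((p.restrictScalars A).lTensor K) :=
    lTensor_exact K hex hp
  have h1 : (p.restrictScalars A).lTensor K w = 0 := by
    apply hW
    rw [← Theta_natural, hw, map_zero, map_zero]
  obtain ⟨w', rfl⟩ := (hex' w).mp h1
  have h2 : w' = 0 := by
    apply hN
    apply lTensor_injective_of_killed 𝔪 K (i.restrictScalars A) hi hV
    rw [Theta_natural, hw, map_zero, map_zero]
  rw [h2, map_zero]

/-- injectivity of `Theta y` is invariant under isomorphisms -/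
theorem Theta_injective_of_equiv (y : A' ⊗[A] B) (e : N ≃ₗ[B] V)
    (hV : Function.Injective (Theta (A' := A') (B := B) K V y)) :
    Function.Injective (Theta (A' := A') (B := B) K N y) := by
  rw [injective_iff_map_eq_zero]
  intro w hw
  have h1 : (e.toLinearMap.restrictScalars A).lTensor K w = 0 := by
    apply hV
    rw [← Theta_natural, hw, map_zero, map_zero]
  have hinj : Function.Injective ((e.toLinearMap.restrictScalars A).lTensor K) :=
    (LinearEquiv.lTensor K (e.restrictScalars A)).injective
  exact hinj (by rw [h1, map_zero])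

end Ext

end Groth.Agent.Lib.Helper6.Prim
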