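import Mathlib
import Groth.Agent.Lib.Helper6.PrimF4
import Groth.Agent.Lib.Helper6.PrimNZ1

/-!
# The base case: `Theta` on the residue field (helper6)
-/

set_option autoImplicit false
set_option linter.style.haveILetI false
set_option linter.unusedSectionVars false
universe u v

namespace Groth.Agent.Lib.Helper6.Prim

open TensorProduct Function IsLocalRing Polynomial Groth.Agent.Lib.Helper6.FlFam

section FieldA

variable {A : Type u} [CommRing A] (𝔪 : Ideal A) [h𝔪 : 𝔪.IsMaximal]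
  (K : Type u) [Field K] [Algebra A K] (h𝔪K : ∀ a ∈ 𝔪, algebraMap A K a = 0)
  (L : Type u) [Field L] [Algebra A L] (h𝔪L : ∀ a ∈ 𝔪, algebraMap A L a = 0)
  (hsc : ∀ (l : L) (p : A[X]), (p.map (Ideal.Quotient.mk 𝔪)).Separable →
    eval₂ (algebraMap A L) l p = 0 → l ∈ (algebraMap A L).range)

include h𝔪K h𝔪L hsc in
/-- **F3 over a ring**: non-nilpotent elements of `K ⊗[A] L` are non-zero-divisors. -/
theorem eq_zero_of_mul_eq_zero_of_not_isNilpotent_ring (d e : K ⊗[A] L) (hd : ¬ IsNilpotent d)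
    (hde : d * e = 0) : e = 0 := by
  letI : Field (A ⧸ 𝔪) := Ideal.Quotient.field 𝔪
  letI algK : Algebra (A ⧸ 𝔪) K := (Ideal.Quotient.lift 𝔪 (algebraMap A K) h𝔪K).toAlgebra
  letI algL : Algebra (A ⧸ 𝔪) L := (Ideal.Quotient.lift 𝔪 (algebraMap A L) h𝔪L).toAlgebra
  haveI twK : IsScalarTower A (A ⧸ 𝔪) K := IsScalarTower.of_algebraMap_eq (fun a => rfl)
  haveI twL : IsScalarTower A (A ⧸ 𝔪) L := IsScalarTower.of_algebraMap_eq (fun a => rfl)
  have hsc' : ∀ a : L, IsSeparable (A ⧸ 𝔪) a → a ∈ (algebraMap (A ⧸ 𝔪) L).range := by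
    intro a ha
    obtain ⟨p, hp⟩ := Polynomial.map_surjective (Ideal.Quotient.mk 𝔪)
      Ideal.Quotient.mk_surjective (minpoly (A ⧸ 𝔪) a)
    have h1 : (p.map (Ideal.Quotient.mk 𝔪)).Separable := by rw [hp]; exact ha
    have h2 : eval₂ (algebraMap A L) a p = 0 := by
      have : eval₂ (algebraMap (A ⧸ 𝔪) L) a (p.map (Ideal.Quotient.mk 𝔪)) = 0 := by
        rw [hp]
        exact minpoly.aeval (A ⧸ 𝔪) a
      rw [Polynomial.eval₂_map] at this
      exact this
    obtain ⟨a₀, ha₀⟩ := hsc a p h1 h2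
    exact ⟨Ideal.Quotient.mk 𝔪 a₀, ha₀⟩
  haveI : TensorProduct.CompatibleSMul A (A ⧸ 𝔪) K L := ⟨fun r m n => by
    obtain ⟨a, rfl⟩ := Ideal.Quotient.mk_surjective r
    have e1 : (Ideal.Quotient.mk 𝔪 a) • m = a • m := by
      rw [← algebraMap_smul (A ⧸ 𝔪) a m]
      rfl
    have e2 : (Ideal.Quotient.mk 𝔪 a) • n = a • n := by
      rw [← algebraMap_smul (A ⧸ 𝔪) a n]
      rfl
    rw [e1, e2, TensorProduct.smul_tmul]⟩
  let E : K ⊗[A] L ≃ₐ[A] K ⊗[A ⧸ 𝔪] L :=
    Algebra.TensorProduct.equivOfCompatibleSMul (A ⧸ 𝔪) A A K L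
  have h3 : E e = 0 := by
    refine eq_zero_of_mul_eq_zero_of_sepClosedIn hsc' (E d) (E e) ?_ ?_
    · intro h
      apply hd
      have := h.map E.symm
      simpa using this
    · rw [← map_mul, hde, map_zero]
  exact (map_eq_zero_iff E E.injective).mp h3

end FieldA

section Base

variable {A B A' : Type u} [CommRing A] [CommRing B] [CommRing A'] [Algebra A B] [Algebra A A']
  (K : Type u) [CommRing K] [Algebra A' K] [Algebra A K] [IsScalarTower A A' K]
  (L : Type u) [CommRing L] [Algebra A L] [Algebra B L] [IsScalarTower A B L]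

/-- the ring map `A' ⊗[A] B → K ⊗[A] L` -/
noncomputable def psi0 : A' ⊗[A] B →ₐ[A] K ⊗[A] L :=
  Algebra.TensorProduct.map (IsScalarTower.toAlgHom A A' K) (IsScalarTower.toAlgHom A B L)

theorem Theta_eq_mul (y : A' ⊗[A] B) (w : K ⊗[A] L) :
    Theta (A' := A') (B := B) K L y w = psi0 (A' := A') (B := B) K L y * w := by
  induction y using TensorProduct.induction_on with
  | zero => simp
  | add y₁ y₂ h₁ h₂ => simp only [map_add, LinearMap.add_apply, h₁, h₂, add_mul]
  | tmul a' b =>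
    induction w using TensorProduct.induction_on with
    | zero => simp
    | add w₁ w₂ h₁ h₂ => simp only [map_add, h₁, h₂, mul_add]
    | tmul c l =>
      rw [Theta_tmul_tmul, psi0, Algebra.TensorProduct.map_tmul,
        Algebra.TensorProduct.tmul_mul_tmul, Algebra.smul_def, Algebra.smul_def]
      rfl

end Base

end Groth.Agent.Lib.Helper6.Prim
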