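import Mathlib
import Groth.Agent.Lib.Helper6.PrimNZ2

/-!
# `Theta` is injective on finite length modules (helper6)
-/

set_option autoImplicit false
set_option linter.style.haveILetI false
set_option linter.unusedSectionVars false
universe u v

namespace Groth.Agent.Lib.Helper6.Prim

open TensorProduct Function IsLocalRing Polynomial Groth.Agent.Lib.Helper6.FlFam

section FL

variable {R : Type u} [CommRing R] [IsLocalRing R] [IsNoetherianRing R]

/-- copy of helper16's lemma -/
theorem isFiniteLength_of_finite_of_pow_smul (N : Type u) [AddCommGroup N] [Module R N]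
    [Module.Finite R N] (k : ℕ)
    (hk : ∀ a ∈ maximalIdeal R ^ k, ∀ x : N, a • x = 0) : IsFiniteLength R N := by
  rcases Nat.eq_zero_or_pos k with rfl | hpos
  · have : Subsingleton N := by
      refine ⟨fun x y => ?_⟩
      have h1 : ∀ z : N, z = 0 := fun z => by
        have := hk 1 (by rw [pow_zero, Ideal.one_eq_top]; exact Submodule.mem_top) z
        rwa [one_smul] at this
      rw [h1 x, h1 y]
    exact IsFiniteLength.of_subsingleton
  · have hmin : maximalIdeal R ∈ (maximalIdeal R ^ k).minimalPrimes := by
      refine ⟨⟨inferInstance, Ideal.pow_le_self hpos.ne'⟩, fun q hq _ => ?_⟩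
      have := hq.1
      exact Ideal.IsPrime.le_of_pow_le hq.2
    have hart : IsArtinianRing (R ⧸ maximalIdeal R ^ k) :=
      IsLocalRing.quotient_artinian_of_mem_minimalPrimes_of_isLocalRing _ hmin
    have htors : Module.IsTorsionBySet R N (maximalIdeal R ^ k : Ideal R) :=
      fun x a => hk a.1 a.2 x
    let modB : Module (R ⧸ maximalIdeal R ^ k) N := htors.module
    have hfin : Module.Finite (R ⧸ maximalIdeal R ^ k) N :=
      Module.Finite.of_restrictScalars_finite R (R ⧸ maximalIdeal R ^ k) N
    have hartN : IsArtinian (R ⧸ maximalIdeal R ^ k) N := inferInstance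
    rw [isFiniteLength_iff_isNoetherian_isArtinian]
    refine ⟨inferInstance, ?_⟩
    exact (htors.semilinearMap.isArtinian_iff_of_bijective Function.bijective_id).mpr hartN

end FL

section Ind

variable {A B A' : Type u} [CommRing A] [CommRing B] [CommRing A'] [Algebra A B] [Algebra A A']
  (K : Type u) [CommRing K] [Algebra A' K] [Algebra A K] [IsScalarTower A A' K]
  (𝔪 : Ideal A) [h𝔪 : 𝔪.IsMaximal] (q : Ideal B) [q.IsPrime]

theorem Theta_injective_of_isFiniteLength (y : A' ⊗[A] B)
    (hL : Function.Injective (Theta (A' := A') (B := B) K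
      (Localization.AtPrime q ⧸ maximalIdeal (Localization.AtPrime q)) y))
    (V : Type u) [AddCommGroup V] [Module (Localization.AtPrime q) V]
    (hV : IsFiniteLength (Localization.AtPrime q) V) :
    ∀ [Module B V] [Module A V] [IsScalarTower B (Localization.AtPrime q) V] [IsScalarTower A B V]
      [IsScalarTower A (Localization.AtPrime q) V],
      (∀ a ∈ 𝔪, ∀ v : V, a • v = 0) →
        Function.Injective (Theta (A' := A') (B := B) K V y) := by
  induction hV with
  | @of_subsingleton V _ _ _ =>
    intro _ _ _ _ _ _
    have h0 : ∀ w : K ⊗[A] V, w = 0 := by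
      intro w
      induction w using TensorProduct.induction_on with
      | zero => rfl
      | tmul c v => rw [Subsingleton.elim v 0, TensorProduct.tmul_zero]
      | add w₁ w₂ h₁ h₂ => rw [h₁, h₂, add_zero]
    intro w₁ w₂ _
    rw [h0 w₁, h0 w₂]
  | @of_simple_quotient V _ _ N _ hN ih =>
    intro _ _ _ _ _ hkill
    have hNinj := ih (fun a ha n => Subtype.ext (hkill a ha n.1))
    obtain ⟨I, hI, ⟨e⟩⟩ := isSimpleModule_iff_quot_maximal.mp
      (inferInstance : IsSimpleModule (Localization.AtPrime q) (V ⧸ N))
    have hIeq : I = maximalIdeal (Localization.AtPrime q) := IsLocalRing.eq_maximalIdeal hI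
    subst hIeq
    have hWinj : Function.Injective (Theta (A' := A') (B := B) K (V ⧸ N) y) :=
      Theta_injective_of_equiv K y (e.restrictScalars B) hL
    exact Theta_injective_of_exact K 𝔪 y (N.subtype.restrictScalars B) (N.mkQ.restrictScalars B)
      N.injective_subtype N.mkQ_surjective (LinearMap.exact_subtype_mkQ N) hkill hNinj hWinj

end Ind

end Groth.Agent.Lib.Helper6.Prim
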