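import Mathlib
import Groth.Agent.Lib.Helper6.PrimNZ3

/-!
# The key vanishing lemma, one prime version (helper6)
-/

set_option autoImplicit false
set_option linter.style.haveILetI false
set_option linter.unusedSectionVars false
universe u v

namespace Groth.Agent.Lib.Helper6.Prim

open TensorProduct Function IsLocalRing Polynomial Groth.Agent.Lib.Helper6.FlFam

section Main

variable {A B A' C : Type u} [CommRing A] [CommRing B] [CommRing A'] [CommRing C]
  [Algebra A B] [Algebra A A'] [Algebra A C] [Algebra A' C] [Algebra B C]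
  [IsScalarTower A A' C] [IsScalarTower A B C] [Algebra.IsPushout A A' B C]
  (q : Ideal B) [q.IsPrime]
  (M : Type u) [AddCommGroup M] [Module B M] [Module A M] [IsScalarTower A B M]
  (K : Type u) [CommRing K] [Algebra A' K] [Algebra A K] [IsScalarTower A A' K]

theorem Psi_Theta (y : A' ⊗[A] B) (g : C ⊗[B] M) :
    Psi (A := A) A' C q M K ((Algebra.IsPushout.equiv A A' B C y) • g) =
      Theta (A' := A') (B := B) K (LocalizedModule q.primeCompl M) y
        (Psi (A := A) A' C q M K g) := by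
  induction y using TensorProduct.induction_on with
  | zero => simp
  | add y₁ y₂ h₁ h₂ => simp only [map_add, add_smul, LinearMap.add_apply, h₁, h₂]
  | tmul a' b =>
    rw [Algebra.IsPushout.equiv_tmul, mul_smul, algebraMap_smul, algebraMap_smul, map_smul,
      Psi_smul (A := A) q M K, Theta_tmul]

variable [IsNoetherianRing B] [Module.Finite B M] (𝔪 : Ideal A) [𝔪.IsMaximal]

/-- the submodule `𝔫ⁿ M_q + 𝔪 M_q` -/
noncomputable def Sn (n : ℕ) :
    Submodule (Localization.AtPrime q) (LocalizedModule q.primeCompl M) :=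
  maximalIdeal (Localization.AtPrime q) ^ n • ⊤ ⊔
    (𝔪.map (algebraMap A (Localization.AtPrime q))) • ⊤

omit [IsNoetherianRing B] [Module.Finite B M] [𝔪.IsMaximal] in
theorem mem_Sn_iff (n : ℕ) (x : LocalizedModule q.primeCompl M) :
    x ∈ Sn q M 𝔪 n ↔ x ∈ Qn (A := A) q M n ⊔
      𝔪 • (⊤ : Submodule A (LocalizedModule q.primeCompl M)) := by
  rw [← smul_top_restrictScalars q M 𝔪]
  constructor
  · intro h
    obtain ⟨y, hy, z, hz, rfl⟩ := Submodule.mem_sup.mp h
    exact Submodule.mem_sup.mpr ⟨y, hy, z, hz, rfl⟩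
  · intro h
    obtain ⟨y, hy, z, hz, rfl⟩ := Submodule.mem_sup.mp h
    exact Submodule.mem_sup.mpr ⟨y, hy, z, hz, rfl⟩

omit [𝔪.IsMaximal] in
theorem isFiniteLength_quot_Sn (n : ℕ) :
    IsFiniteLength (Localization.AtPrime q) (LocalizedModule q.primeCompl M ⧸ Sn q M 𝔪 n) := by
  refine isFiniteLength_of_finite_of_pow_smul _ n ?_
  intro a ha x
  obtain ⟨m, rfl⟩ := Submodule.Quotient.mk_surjective _ x
  rw [← Submodule.Quotient.mk_smul, Submodule.Quotient.mk_eq_zero]
  exact Submodule.mem_sup_left (Submodule.smul_mem_smul ha Submodule.mem_top)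

omit [IsNoetherianRing B] [Module.Finite B M] [𝔪.IsMaximal] in
theorem smul_quot_Sn_eq_zero (n : ℕ) (a : A) (ha : a ∈ 𝔪)
    (v : LocalizedModule q.primeCompl M ⧸ Sn q M 𝔪 n) : a • v = 0 := by
  obtain ⟨m, rfl⟩ := Submodule.Quotient.mk_surjective _ v
  rw [← Submodule.Quotient.mk_smul, Submodule.Quotient.mk_eq_zero]
  refine Submodule.mem_sup_right ?_
  rw [← algebraMap_smul (Localization.AtPrime q) a m]
  exact Submodule.smul_mem_smul (Ideal.mem_map_of_mem _ ha) Submodule.mem_top

variable (h𝔪 : ∀ a ∈ 𝔪, algebraMap A K a = 0)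

include h𝔪 in
/-- **Krull via functionals**: an element of `K ⊗ M_q` vanishing in all `K ⊗ M_q/Sₙ` is zero. -/
theorem eq_zero_of_forall_lTensor_mkQ_eq_zero (w : K ⊗[A] (LocalizedModule q.primeCompl M))
    (h : ∀ n, ((Sn q M 𝔪 n).mkQ.restrictScalars A).lTensor K w = 0) : w = 0 := by
  by_contra hz
  have hKk : ∀ a ∈ 𝔪, ∀ c : K, a • c = 0 := by
    intro a ha c
    rw [Algebra.smul_def, h𝔪 a ha, zero_mul]
  obtain ⟨l, hl⟩ := exists_functional_rTensor_ne_zero 𝔪 K hKk
    (LocalizedModule q.primeCompl M) w hz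
  apply hl
  obtain ⟨x, hx⟩ := exists_eq_one_tmul 𝔪 (LocalizedModule q.primeCompl M)
    (l.rTensor (LocalizedModule q.primeCompl M) w)
  rw [hx]
  apply one_tmul_eq_zero_of_mem_smul_top
  refine mem_smul_top_of_forall_mem_sup q M 𝔪 x fun n => ?_
  rw [← mem_Sn_iff]
  have h1 : l.rTensor _ (((Sn q M 𝔪 n).mkQ.restrictScalars A).lTensor K w) = 0 := by
    rw [h n, map_zero]
  have h2 : l.rTensor (LocalizedModule q.primeCompl M ⧸ Sn q M 𝔪 n)
      (((Sn q M 𝔪 n).mkQ.restrictScalars A).lTensor K w) =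
      ((Sn q M 𝔪 n).mkQ.restrictScalars A).lTensor (A ⧸ 𝔪)
        (l.rTensor (LocalizedModule q.primeCompl M) w) := by
    rw [← LinearMap.comp_apply, ← LinearMap.comp_apply, LinearMap.rTensor_comp_lTensor,
      LinearMap.lTensor_comp_rTensor]
  rw [h2, hx, LinearMap.lTensor_tmul] at h1
  have h3 := mem_smul_top_of_one_tmul_eq_zero 𝔪 _ _ h1
  have h4 : (𝔪 • (⊤ : Submodule A (LocalizedModule q.primeCompl M ⧸ Sn q M 𝔪 n))) = ⊥ := by
    rw [eq_bot_iff]
    intro v hv
    induction hv using Submodule.smul_induction_on' with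
    | smul a ha v _ => exact smul_quot_Sn_eq_zero q M 𝔪 n a ha v
    | add x _ y _ hx hy => exact Submodule.add_mem _ hx hy
  rw [h4, Submodule.mem_bot] at h3
  exact (Submodule.Quotient.mk_eq_zero _).mp h3

variable [IsLocalRing A'] (hK : ∀ a ∈ maximalIdeal A', algebraMap A' K a = 0)

omit [IsNoetherianRing B] [Module.Finite B M] [𝔪.IsMaximal] in
include hK in
theorem Psi_eq_zero_of_mem_smul_top (g' : C ⊗[B] M)
    (hg' : g' ∈ ((maximalIdeal A').map (algebraMap A' C)) • (⊤ : Submodule C (C ⊗[B] M))) :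
    Psi (A := A) A' C q M K g' = 0 := by
  have hkill : ∀ a ∈ maximalIdeal A', ∀ w : K ⊗[A] (LocalizedModule q.primeCompl M),
      a • w = 0 := by
    intro a ha w
    have ha0 : algebraMap A' K a = 0 := hK a ha
    induction w using TensorProduct.induction_on with
    | zero => simp
    | tmul c x =>
      rw [TensorProduct.smul_tmul', Algebra.smul_def, ha0, zero_mul, TensorProduct.zero_tmul]
    | add x y hx hy => rw [smul_add, hx, hy, add_zero]
  have h2 : ∀ g' ∈ maximalIdeal A' •
      (⊤ : Submodule C (C ⊗[B] M)).restrictScalars A', Psi (A := A) A' C q M K g' = 0 := by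
    intro g' hg'
    induction hg' using Submodule.smul_induction_on' with
    | smul a ha g' _ => rw [map_smul, hkill a ha]
    | add x _ y _ hx hy => rw [map_add, hx, hy, add_zero]
  have h1 : g' ∈ (((maximalIdeal A').map (algebraMap A' C)) •
      (⊤ : Submodule C (C ⊗[B] M))).restrictScalars A' := hg'
  rw [Ideal.smul_restrictScalars] at h1
  exact h2 g' h1

include h𝔪 hK in
/-- **Key lemma, one prime version**. -/
theorem Psi_eq_zero' (y : A' ⊗[A] B) (g : C ⊗[B] M)
    (hL : Function.Injective (Theta (A' := A') (B := B) K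
      (Localization.AtPrime q ⧸ maximalIdeal (Localization.AtPrime q)) y))
    (hyg : (Algebra.IsPushout.equiv A A' B C y) • g ∈
      ((maximalIdeal A').map (algebraMap A' C)) • (⊤ : Submodule C (C ⊗[B] M))) :
    Psi (A := A) A' C q M K g = 0 := by
  refine eq_zero_of_forall_lTensor_mkQ_eq_zero q M K 𝔪 h𝔪 _ fun n => ?_
  have hinj := Theta_injective_of_isFiniteLength K 𝔪 q y hL
    (LocalizedModule q.primeCompl M ⧸ Sn q M 𝔪 n) (isFiniteLength_quot_Sn q M 𝔪 n)
    (smul_quot_Sn_eq_zero q M 𝔪 n)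
  apply hinj
  rw [map_zero]
  have h1 := Theta_natural K ((Sn q M 𝔪 n).mkQ.restrictScalars B) y (Psi (A := A) A' C q M K g)
  rw [← Psi_Theta, Psi_eq_zero_of_mem_smul_top q M K hK _ hyg, map_zero] at h1
  exact h1.symm

end Main

end Groth.Agent.Lib.Helper6.Prim
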