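import Mathlib
import Groth.Agent.Lib.Helper6.PrimNZ4

/-!
# Injectivity of `Theta` on the residue field from `s ∉ P₀` (helper6)
-/

set_option autoImplicit false
set_option linter.style.haveILetI false
set_option linter.unusedSectionVars false
universe u v

namespace Groth.Agent.Lib.Helper6.Prim

open TensorProduct Function IsLocalRing Polynomial Groth.Agent.Lib.Helper6.FlFam

section Res

variable {A B A' C : Type u} [CommRing A] [CommRing B] [CommRing A'] [CommRing C]
  [Algebra A B] [Algebra A A'] [Algebra A C] [Algebra A' C] [Algebra B C]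
  [IsScalarTower A A' C] [IsScalarTower A B C] [Algebra.IsPushout A A' B C]
  (q : Ideal B) [q.IsPrime] [IsLocalRing A']
  (K : Type u) [Field K] [Algebra A' K] [Algebra A K] [IsScalarTower A A' K]
  (hsurjK : Function.Surjective (algebraMap A' K))
  (hK : RingHom.ker (algebraMap A' K) = maximalIdeal A')
  (𝔪 : Ideal A) [𝔪.IsMaximal] (h𝔪 : ∀ a ∈ 𝔪, algebraMap A A' a ∈ maximalIdeal A')
  (P₀ : Ideal C) [P₀.IsPrime] (hq : P₀.comap (algebraMap B C) = q)
  (hm : P₀.comap (algebraMap A' C) = maximalIdeal A')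

local notation "𝕃" => (Localization.AtPrime q ⧸ maximalIdeal (Localization.AtPrime q))

include hsurjK hK hm in
/-- the map `K → κ(P₀)` -/
theorem exists_psiK : ∃ ψK : K →ₐ[A] P₀.ResidueField,
    ∀ a' : A', ψK (algebraMap A' K a') = algebraMap C P₀.ResidueField (algebraMap A' C a') := by
  have hker : RingHom.ker (algebraMap A' K) ≤
      RingHom.ker ((algebraMap C P₀.ResidueField).comp (algebraMap A' C)) := by
    intro x hx
    rw [hK, ← hm, Ideal.mem_comap] at hx
    rw [RingHom.mem_ker, RingHom.comp_apply]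
    exact Ideal.algebraMap_residueField_eq_zero.mpr hx
  let φ : K →+* P₀.ResidueField := (algebraMap A' K).liftOfSurjective hsurjK
    ⟨(algebraMap C P₀.ResidueField).comp (algebraMap A' C), hker⟩
  have hφ : ∀ a' : A', φ (algebraMap A' K a') =
      algebraMap C P₀.ResidueField (algebraMap A' C a') := fun a' =>
    RingHom.liftOfSurjective_comp_apply (algebraMap A' K) hsurjK
      ⟨(algebraMap C P₀.ResidueField).comp (algebraMap A' C), hker⟩ a'
  refine ⟨{ φ with commutes' := fun a => ?_ }, hφ⟩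
  change φ (algebraMap A K a) = _
  rw [IsScalarTower.algebraMap_apply A A' K, hφ, ← IsScalarTower.algebraMap_apply A A' C,
    ← IsScalarTower.algebraMap_apply A C P₀.ResidueField]

include hsurjK hK hm hq in
theorem not_isNilpotent_psi0 (y : A' ⊗[A] B)
    (hy : Algebra.IsPushout.equiv A A' B C y ∉ P₀) :
    ¬ IsNilpotent (psi0 (A' := A') (B := B) K 𝕃 y) := by
  obtain ⟨ψK, hψK⟩ := exists_psiK (A := A) K hsurjK hK P₀ hm
  let ψL : 𝕃 →ₐ[A] P₀.ResidueField :=
    Ideal.ResidueField.mapₐ q P₀ (IsScalarTower.toAlgHom A B C) hq.symm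
  have hψL : ∀ b : B, ψL (algebraMap B 𝕃 b) = algebraMap C P₀.ResidueField (algebraMap B C b) :=
    fun b => Ideal.ResidueField.map_algebraMap q P₀ (algebraMap B C) hq.symm b
  let ψ : K ⊗[A] 𝕃 →ₐ[A] P₀.ResidueField :=
    Algebra.TensorProduct.lift ψK ψL (fun _ _ => Commute.all _ _)
  have key : ∀ y : A' ⊗[A] B, ψ (psi0 (A' := A') (B := B) K 𝕃 y) =
      algebraMap C P₀.ResidueField (Algebra.IsPushout.equiv A A' B C y) := by
    intro y
    induction y using TensorProduct.induction_on with
    | zero => simp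
    | add y₁ y₂ h₁ h₂ => simp only [map_add, h₁, h₂]
    | tmul a' b =>
      rw [psi0, Algebra.TensorProduct.map_tmul, Algebra.TensorProduct.lift_tmul,
        Algebra.IsPushout.equiv_tmul, map_mul]
      congr 1
      · exact hψK a'
      · exact hψL b
  intro hnil
  have h1 : IsNilpotent (ψ (psi0 (A' := A') (B := B) K 𝕃 y)) := hnil.map ψ
  rw [key] at h1
  have h2 := h1.eq_zero
  exact hy (Ideal.algebraMap_residueField_eq_zero.mp h2)

variable (hsc : ∀ (l : Localization.AtPrime q ⧸ maximalIdeal (Localization.AtPrime q)) (p : A[X]),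
    (p.map (Ideal.Quotient.mk 𝔪)).Separable →
    eval₂ (algebraMap A (Localization.AtPrime q ⧸ maximalIdeal (Localization.AtPrime q))) l p = 0 →
      l ∈ (algebraMap A (Localization.AtPrime q ⧸ maximalIdeal (Localization.AtPrime q))).range)

include hsurjK hK hm hq h𝔪 hsc in
theorem Theta_injective_residue (y : A' ⊗[A] B)
    (hy : Algebra.IsPushout.equiv A A' B C y ∉ P₀) :
    Function.Injective (Theta (A' := A') (B := B) K 𝕃 y) := by
  letI : Field 𝕃 := Ideal.Quotient.field _
  have h𝔪K : ∀ a ∈ 𝔪, algebraMap A K a = 0 := by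
    intro a ha
    rw [IsScalarTower.algebraMap_apply A A' K]
    have : algebraMap A A' a ∈ RingHom.ker (algebraMap A' K) := by rw [hK]; exact h𝔪 a ha
    exact this
  have h𝔪L : ∀ a ∈ 𝔪, algebraMap A 𝕃 a = 0 := by
    intro a ha
    have h1 : algebraMap A B a ∈ q := by
      rw [← hq, Ideal.mem_comap, ← IsScalarTower.algebraMap_apply A B C,
        IsScalarTower.algebraMap_apply A A' C]
      have h2 : algebraMap A A' a ∈ P₀.comap (algebraMap A' C) := by rw [hm]; exact h𝔪 a ha
      exact h2
    rw [IsScalarTower.algebraMap_apply A B 𝕃, IsScalarTower.algebraMap_apply B (Localization.AtPrime q) 𝕃]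
    change Ideal.Quotient.mk _ _ = 0
    rw [Ideal.Quotient.eq_zero_iff_mem, ← Localization.AtPrime.map_eq_maximalIdeal]
    exact Ideal.mem_map_of_mem _ h1
  rw [injective_iff_map_eq_zero]
  intro w hw
  rw [Theta_eq_mul] at hw
  exact eq_zero_of_mul_eq_zero_of_not_isNilpotent_ring 𝔪 K h𝔪K 𝕃 h𝔪L hsc _ w
    (not_isNilpotent_psi0 (A := A) q K hsurjK hK P₀ hq hm y hy) hw

end Res

end Groth.Agent.Lib.Helper6.Prim
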