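import Mathlib
import Groth.Agent.Lib.Helper6.PrimNZ5

/-!
# The detection property, one prime version (helper6)
-/

set_option autoImplicit false
set_option linter.style.haveILetI false
set_option linter.unusedSectionVars false
universe u v

namespace Groth.Agent.Lib.Helper6.Prim

open TensorProduct Function IsLocalRing Polynomial Groth.Agent.Lib.Helper6.FlFam

section Hdet2

variable {A B A' C : Type u} [CommRing A] [CommRing B] [CommRing A'] [CommRing C]
  [Algebra A B] [Algebra A A'] [Algebra A C] [Algebra A' C] [Algebra B C]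
  [IsScalarTower A A' C] [IsScalarTower A B C] [Algebra.IsPushout A A' B C]
  (q : Ideal B) [q.IsPrime]
  (M : Type u) [AddCommGroup M] [Module B M] [Module A M] [IsScalarTower A B M]
  [IsNoetherianRing B] [Module.Finite B M] [IsLocalRing A']
  (R : Type u) [CommRing R] [IsLocalRing R] [Algebra A' R] [Algebra A R] [IsScalarTower A A' R]
  (hR : Function.Surjective (algebraMap A' R))
  (𝔪 : Ideal A) [𝔪.IsMaximal] (h𝔪 : ∀ a ∈ 𝔪, algebraMap A A' a ∈ maximalIdeal A')
  (P₀ : Ideal C) [P₀.IsPrime] (hq : P₀.comap (algebraMap B C) = q)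
  (hm : P₀.comap (algebraMap A' C) = maximalIdeal A')
  (hsc : ∀ (l : Localization.AtPrime q ⧸ maximalIdeal (Localization.AtPrime q)) (p : A[X]),
    (p.map (Ideal.Quotient.mk 𝔪)).Separable →
    eval₂ (algebraMap A (Localization.AtPrime q ⧸ maximalIdeal (Localization.AtPrime q))) l p = 0 →
      l ∈ (algebraMap A (Localization.AtPrime q ⧸ maximalIdeal (Localization.AtPrime q))).range)

local notation "𝕂" => (R ⧸ maximalIdeal R)

include hR h𝔪 hm hsc in
theorem mem_smul_top_of_forall_rho0' (n : R ⊗[A] (LocalizedModule q.primeCompl M))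
    (h : ∀ t ∈ q.primeCompl,
        rho0 (A := A) (A' := A') q M R P₀ hq
          ((ell A (LocalizedModule q.primeCompl M) t).baseChange R n) ∈
            maximalIdeal R • (⊤ : Submodule R
              (R ⊗[A'] (LocalizedModule P₀.primeCompl (C ⊗[B] M))))) :
    n ∈ maximalIdeal R • (⊤ : Submodule R (R ⊗[A] (LocalizedModule q.primeCompl M))) := by
  letI : Field (R ⧸ maximalIdeal R) := Ideal.Quotient.field (maximalIdeal R)
  have hsurjK : Function.Surjective (algebraMap A' 𝕂) := by
    have : (algebraMap A' 𝕂) = (Ideal.Quotient.mk (maximalIdeal R)).comp (algebraMap A' R) := rfl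
    rw [this]
    exact Ideal.Quotient.mk_surjective.comp hR
  have hK : RingHom.ker (algebraMap A' 𝕂) = maximalIdeal A' :=
    IsLocalRing.eq_maximalIdeal (RingHom.ker_isMaximal_of_surjective _ hsurjK)
  have hK' : ∀ a ∈ maximalIdeal A', algebraMap A' 𝕂 a = 0 := by
    intro a ha
    have : a ∈ RingHom.ker (algebraMap A' 𝕂) := by rw [hK]; exact ha
    exact this
  have h𝔪K : ∀ a ∈ 𝔪, algebraMap A 𝕂 a = 0 := by
    intro a ha
    rw [IsScalarTower.algebraMap_apply A A' 𝕂]
    exact hK' _ (h𝔪 a ha)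
  obtain ⟨g, t, ht, e⟩ := exists_Psi_eq (A := A) (A' := A') (C := C) q M R hR n
  have hPsi : Psi (A := A) A' C q M 𝕂 g = 0 := by
    have h1 := h t ht
    rw [e, rho0_Psi] at h1
    have h2 := rTensor_eq_zero_of_mem_ker_smul_top (A := A')
      (Ideal.Quotient.mkₐ A' (maximalIdeal R)) (LocalizedModule P₀.primeCompl (C ⊗[B] M)) _
      (by
        have hk : RingHom.ker (Ideal.Quotient.mkₐ A' (maximalIdeal R)).toRingHom =
            maximalIdeal R := Ideal.Quotient.mkₐ_ker A' (maximalIdeal R)
        rw [hk]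
        exact h1)
    rw [LinearMap.rTensor_tmul] at h2
    have h3 : (1 : 𝕂) ⊗ₜ[A'] (LocalizedModule.mk g 1 :
        LocalizedModule P₀.primeCompl (C ⊗[B] M)) = 0 := by
      simpa using h2
    have h4 := mem_ker_smul_top_of_one_tmul_eq_zero
      (LocalizedModule P₀.primeCompl (C ⊗[B] M)) hsurjK _ h3
    rw [hK] at h4
    obtain ⟨s, hs, hsg⟩ := exists_smul_mem_of_mk_mem P₀ (C ⊗[B] M) (maximalIdeal A') g h4
    have hys : Algebra.IsPushout.equiv A A' B C ((Algebra.IsPushout.equiv A A' B C).symm s) = s :=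
      (Algebra.IsPushout.equiv A A' B C).apply_symm_apply s
    refine Psi_eq_zero' q M 𝕂 𝔪 h𝔪K hK' ((Algebra.IsPushout.equiv A A' B C).symm s) g ?_ ?_
    · exact Theta_injective_residue (A := A) q 𝕂 hsurjK hK 𝔪 h𝔪 P₀ hq hm hsc _ (by rwa [hys])
    · rwa [hys]
  have h5 := Psi_map (A := A) q M R (Ideal.Quotient.mkₐ A' (maximalIdeal R)) g
  rw [hPsi, ← e, rTensor_baseChange_comm] at h5
  have h6 : ((Ideal.Quotient.mkₐ A' (maximalIdeal R)).restrictScalars A).toLinearMap.rTensor
      (LocalizedModule q.primeCompl M) n = 0 := by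
    apply ell_lTensor_injective q M 𝕂 t ht
    rw [h5, map_zero]
  have h7 := mem_ker_smul_top_of_rTensor_eq_zero (A := A)
    ((Ideal.Quotient.mkₐ A' (maximalIdeal R)).restrictScalars A)
    (LocalizedModule q.primeCompl M) (Ideal.Quotient.mkₐ_surjective A' (maximalIdeal R)) n h6
  have hk : RingHom.ker ((Ideal.Quotient.mkₐ A' (maximalIdeal R)).restrictScalars A).toRingHom =
      maximalIdeal R := Ideal.Quotient.mkₐ_ker A' (maximalIdeal R)
  rw [hk] at h7
  exact h7

end Hdet2

end Groth.Agent.Lib.Helper6.Prim
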