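import Mathlib
import Groth.Agent.Lib.Helper6.PrimF1

/-!
# From primary residue field extensions to the ring-level condition (helper6)
-/

set_option autoImplicit false
set_option linter.style.haveILetI false
set_option linter.unusedSectionVars false
universe u v

namespace Groth.Agent.Lib.Helper6.Prim

open TensorProduct Function IsLocalRing Polynomial

section Ring

variable {A B : Type u} [CommRing A] [CommRing B] [Algebra A B] (q : Ideal B) [q.IsPrime]
  (𝔪 : Ideal A) [𝔪.IsMaximal]
  {κy κx : Type u} [Field κy] [Field κx] (evY : A →+* κy) (evX : B →+* κx) (ρ : κy →+* κx)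
  (hevY : Function.Surjective evY) (h𝔪 : ∀ a ∈ 𝔪, evY a = 0)
  (hevX : ∀ b : B, evX b = 0 ↔ b ∈ q)
  (hsq : ∀ a : A, ρ (evY a) = evX (algebraMap A B a))
  (hprim : ∀ a : κx, (∃ P : κy[X], P.Separable ∧ eval₂ ρ a P = 0) → a ∈ ρ.range)

include hevY h𝔪 hevX hsq hprim in
theorem hsc_of_hprim_ring
    (l : Localization.AtPrime q ⧸ maximalIdeal (Localization.AtPrime q)) (p : A[X])
    (hp : (p.map (Ideal.Quotient.mk 𝔪)).Separable)
    (hl : eval₂ (algebraMap A (Localization.AtPrime q ⧸ maximalIdeal (Localization.AtPrime q)))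
      l p = 0) :
    l ∈ (algebraMap A (Localization.AtPrime q ⧸ maximalIdeal (Localization.AtPrime q))).range := by
  letI : Field (Localization.AtPrime q ⧸ maximalIdeal (Localization.AtPrime q)) :=
    Ideal.Quotient.field _
  have hunit : ∀ y : q.primeCompl, IsUnit (evX y) := by
    intro y
    rw [isUnit_iff_ne_zero, Ne, hevX]
    exact y.2
  let θ₀ : Localization.AtPrime q →+* κx := IsLocalization.lift (M := q.primeCompl) hunit
  have hθ₀ : ∀ b : B, θ₀ (algebraMap B (Localization.AtPrime q) b) = evX b :=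
    fun b => IsLocalization.lift_eq hunit b
  have h0 : ∀ a ∈ maximalIdeal (Localization.AtPrime q), θ₀ a = 0 := by
    have hle : maximalIdeal (Localization.AtPrime q) ≤ RingHom.ker θ₀ := by
      rw [← Localization.AtPrime.map_eq_maximalIdeal, Ideal.map_le_iff_le_comap]
      intro b hb
      rw [Ideal.mem_comap, RingHom.mem_ker, hθ₀, hevX]
      exact hb
    exact fun a ha => hle ha
  let θ : (Localization.AtPrime q ⧸ maximalIdeal (Localization.AtPrime q)) →+* κx :=
    Ideal.Quotient.lift _ θ₀ h0
  have hθ : ∀ b : B, θ (algebraMap B _ b) = evX b := by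
    intro b
    rw [IsScalarTower.algebraMap_apply B (Localization.AtPrime q)
      (Localization.AtPrime q ⧸ maximalIdeal (Localization.AtPrime q))]
    change θ (Ideal.Quotient.mk _ _) = _
    rw [Ideal.Quotient.lift_mk, hθ₀]
  have hθA : ∀ a : A, θ (algebraMap A _ a) = ρ (evY a) := by
    intro a
    rw [IsScalarTower.algebraMap_apply A B
      (Localization.AtPrime q ⧸ maximalIdeal (Localization.AtPrime q)), hθ, hsq]
  -- the polynomial over `κy`
  let evYbar : A ⧸ 𝔪 →+* κy := Ideal.Quotient.lift 𝔪 evY h𝔪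
  have hP : (p.map evY).Separable := by
    have : p.map evY = (p.map (Ideal.Quotient.mk 𝔪)).map evYbar := by
      rw [Polynomial.map_map]
      congr 1
    rw [this]
    exact hp.map
  have hroot : eval₂ ρ (θ l) (p.map evY) = 0 := by
    rw [Polynomial.eval₂_map]
    have h1 : θ (eval₂ (algebraMap A (Localization.AtPrime q ⧸
        maximalIdeal (Localization.AtPrime q))) l p) = 0 := by rw [hl, map_zero]
    rw [Polynomial.hom_eval₂] at h1
    have h2 : θ.comp (algebraMap A (Localization.AtPrime q ⧸
        maximalIdeal (Localization.AtPrime q))) = ρ.comp evY := by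
      ext a
      exact hθA a
    rw [h2] at h1
    exact h1
  obtain ⟨c, hc⟩ := hprim (θ l) ⟨p.map evY, hP, hroot⟩
  obtain ⟨a₀, rfl⟩ := hevY c
  refine ⟨a₀, ?_⟩
  apply θ.injective
  rw [hθA, hc]

end Ring

end Groth.Agent.Lib.Helper6.Prim
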