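import Mathlib
import Groth.Agent.Lib.Helper6.PrimSC1
import Groth.Agent.Lib.Helper6.FlFam13

/-!
# From primary residue field extensions to the ring-level condition: scheme form (helper6)
-/

set_option backward.isDefEq.respectTransparency.types false
set_option autoImplicit false
set_option linter.style.haveILetI false
set_option linter.unusedSectionVars false
universe u v

namespace Groth.Agent.Lib.Helper6.Prim

open TensorProduct Function IsLocalRing Polynomial AlgebraicGeometry CategoryTheory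
  Groth.Agent.Lib.Helper6.FlFam

/-- evaluation vanishes exactly on the prime of the point -/
theorem evaluation_eq_zero_iff_mem_primeIdealOf {X : Scheme.{u}} {W : X.Opens}
    (hW : IsAffineOpen W) (x : X) (hxW : x ∈ W) (b : Γ(X, W)) :
    (X.evaluation W x hxW).hom b = 0 ↔ b ∈ (hW.primeIdealOf ⟨x, hxW⟩).asIdeal := by
  have h1 := X.evaluation_eq_zero_iff_notMem_basicOpen x hxW b
  have h2 := Groth.Agent.Lib.Helper29.QCoh.mem_basicOpen_iff_notMem_primeIdealOf hW x hxW b
  constructor
  · intro h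
    by_contra hb
    exact (h1.mp h) (h2.mpr hb)
  · intro h
    apply h1.mpr
    intro hx
    exact (h2.mp hx) h

/-- evaluation at a point whose prime is maximal is surjective -/
theorem evaluation_surjective_of_isMaximal {Y : Scheme.{u}} {V : Y.Opens}
    (hV : IsAffineOpen V) (y : Y) (hyV : y ∈ V)
    (hmax : (hV.primeIdealOf ⟨y, hyV⟩).asIdeal.IsMaximal) :
    Function.Surjective (Y.evaluation V y hyV).hom := by
  letI alg : Algebra Γ(Y, V) (Y.presheaf.stalk y) :=
    TopCat.Presheaf.algebra_section_stalk Y.presheaf ⟨y, hyV⟩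
  haveI hloc : IsLocalization.AtPrime (Y.presheaf.stalk y) (hV.primeIdealOf ⟨y, hyV⟩).asIdeal :=
    hV.isLocalization_stalk ⟨y, hyV⟩
  have hunder : (maximalIdeal (Y.presheaf.stalk y)).under Γ(Y, V) =
      (hV.primeIdealOf ⟨y, hyV⟩).asIdeal :=
    IsLocalization.AtPrime.under_maximalIdeal (Y.presheaf.stalk y)
      (hV.primeIdealOf ⟨y, hyV⟩).asIdeal
  have hsurj := IsLocalization.surjective_quotientMap_of_maximal_of_localization
    (M := (hV.primeIdealOf ⟨y, hyV⟩).asIdeal.primeCompl) (S := Y.presheaf.stalk y)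
    (I := maximalIdeal (Y.presheaf.stalk y)) (J := (hV.primeIdealOf ⟨y, hyV⟩).asIdeal)
    (H := hunder.ge) (by rw [hunder]; exact hmax)
  intro c
  obtain ⟨abar, habar⟩ := hsurj c
  obtain ⟨a, rfl⟩ := Ideal.Quotient.mk_surjective abar
  exact ⟨a, habar⟩

theorem hsc_of_hprim {X : Scheme.{u}} {O : Type u} [CommRing O] [IsLocalRing O]
    (f : X ⟶ Spec (CommRingCat.of O)) {W : X.Opens} (hW : IsAffineOpen W) (hWV : W ≤ f ⁻¹ᵁ ⊤)
    (x : X) (hxW : x ∈ W) (hx : f x = IsLocalRing.closedPoint O)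
    [IsLocalRing Γ(Spec (CommRingCat.of O), ⊤)]
    (hprim : letI := (f.residueFieldMap x).hom.toAlgebra
      ∀ a : ↑(X.residueField x), IsSeparable ↑((Spec (CommRingCat.of O)).residueField (f x)) a →
        a ∈ (f.residueFieldMap x).hom.range) :
    letI : Algebra Γ(Spec (CommRingCat.of O), ⊤) Γ(X, W) := (f.appLE ⊤ W hWV).hom.toAlgebra
    ∀ (l : Localization.AtPrime (hW.primeIdealOf ⟨x, hxW⟩).asIdeal ⧸
        maximalIdeal (Localization.AtPrime (hW.primeIdealOf ⟨x, hxW⟩).asIdeal))
      (p : Γ(Spec (CommRingCat.of O), ⊤)[X]),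
      (p.map (Ideal.Quotient.mk (maximalIdeal Γ(Spec (CommRingCat.of O), ⊤)))).Separable →
      eval₂ (algebraMap Γ(Spec (CommRingCat.of O), ⊤)
        (Localization.AtPrime (hW.primeIdealOf ⟨x, hxW⟩).asIdeal ⧸
          maximalIdeal (Localization.AtPrime (hW.primeIdealOf ⟨x, hxW⟩).asIdeal))) l p = 0 →
      l ∈ (algebraMap Γ(Spec (CommRingCat.of O), ⊤)
        (Localization.AtPrime (hW.primeIdealOf ⟨x, hxW⟩).asIdeal ⧸
          maximalIdeal (Localization.AtPrime (hW.primeIdealOf ⟨x, hxW⟩).asIdeal))).range := by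
  letI : Algebra Γ(Spec (CommRingCat.of O), ⊤) Γ(X, W) := (f.appLE ⊤ W hWV).hom.toAlgebra
  intro l p hp hl
  have hV : IsAffineOpen (⊤ : (Spec (CommRingCat.of O)).Opens) := isAffineOpen_top _
  have hpy : (hV.primeIdealOf ⟨f x, trivial⟩).asIdeal =
      maximalIdeal Γ(Spec (CommRingCat.of O), ⊤) := primeIdealOf_closedPoint (f x) hx
  refine hsc_of_hprim_ring (hW.primeIdealOf ⟨x, hxW⟩).asIdeal
    (maximalIdeal Γ(Spec (CommRingCat.of O), ⊤))
    ((Spec (CommRingCat.of O)).evaluation ⊤ (f x) trivial).hom (X.evaluation W x hxW).hom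
    (f.residueFieldMap x).hom ?_ ?_ ?_ ?_ ?_ l p hp hl
  · refine evaluation_surjective_of_isMaximal hV (f x) trivial ?_
    rw [hpy]
    infer_instance
  · intro a ha
    rw [evaluation_eq_zero_iff_mem_primeIdealOf hV, hpy]
    exact ha
  · intro b
    exact evaluation_eq_zero_iff_mem_primeIdealOf hW x hxW b
  · intro a
    have h1 := Scheme.evaluation_naturality_apply f (V := ⊤) x trivial a
    refine h1.trans ?_
    change _ = (X.evaluation W x hxW).hom ((f.appLE ⊤ W hWV).hom a)
    rw [Scheme.Hom.appLE]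
    change _ = (X.presheaf.germ W x hxW ≫ X.residue x).hom
      ((X.presheaf.map (homOfLE hWV).op).hom ((f.app ⊤).hom a))
    rw [CommRingCat.comp_apply, TopCat.Presheaf.germ_res_apply]
    rfl
  · intro a ⟨P, hP, hPa⟩
    letI := (f.residueFieldMap x).hom.toAlgebra
    refine hprim a ?_
    exact isSeparable_of_aeval_eq_zero hP (by rw [aeval_def]; exact hPa)

end Groth.Agent.Lib.Helper6.Prim
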