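import Mathlib
import Groth.Agent.Lib.Helper6.FlFam16

/-!
# Existence of points of base changes with flatness (helper6)
-/

set_option backward.isDefEq.respectTransparency.types false
set_option autoImplicit false
set_option linter.style.haveILetI false
set_option linter.unusedSectionVars false
universe u

namespace Groth.Agent.Lib.Helper6.Prim

open TensorProduct AlgebraicGeometry CategoryTheory CategoryTheory.Limits IsLocalRing
open Groth.Agent.Lib.Helper29.QCoh Groth.Agent.Lib.Helper18 Groth.Agent.Lib.Helper6.FlFam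

/-- points of an `IsPullback` square -/
theorem exists_preimage_of_isPullback {P X Y S : Scheme.{u}} {fst : P ⟶ X} {snd : P ⟶ Y}
    {f : X ⟶ S} {g : Y ⟶ S} (hc : IsPullback fst snd f g) (x : X) (y : Y) (h : f x = g y) :
    ∃ z : P, fst z = x ∧ snd z = y := by
  obtain ⟨w, hw1, hw2⟩ := Scheme.Pullback.exists_preimage_pullback (f := f) (g := g) x y h
  refine ⟨hc.isoPullback.inv w, ?_, ?_⟩
  · rw [← Scheme.Hom.comp_apply, hc.isoPullback_inv_fst, hw1]
  · rw [← Scheme.Hom.comp_apply, hc.isoPullback_inv_snd, hw2]

/-- existence of a point of the base change at which flatness holds -/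
theorem exists_point_isFlatOverAt_pullback_comp {X S Y T : Scheme.{u}} (f : X ⟶ S) (g : Y ⟶ S)
    (h : T ⟶ Y) (t : T ⟶ S) (ht : t = h ≫ g) (F : X.Modules) [F.IsQuasicoherent]
    (z : ↥(pullback f g)) (τ : T) (hτ : h τ = pullback.snd f g z)
    (hfl : FlatMod.IsFlatOverAt (pullback.snd f g)
      ((Scheme.Modules.pullback (pullback.fst f g)).obj F) z) :
    ∃ x'' : ↥(pullback f t), pullback.fst f t x'' = pullback.fst f g z ∧
      pullback.snd f t x'' = τ ∧
      FlatMod.IsFlatOverAt (pullback.snd f t)
        ((Scheme.Modules.pullback (pullback.fst f t)).obj F) x'' := by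
  subst ht
  let k : pullback f (h ≫ g) ⟶ pullback f g :=
    pullback.map f (h ≫ g) f g (𝟙 X) h (𝟙 S) (by simp) (by simp)
  have hk1 : k ≫ pullback.fst f g = pullback.fst f (h ≫ g) := by
    simp only [k, pullback.map]
    rw [pullback.lift_fst, Category.comp_id]
  have hk2 : k ≫ pullback.snd f g = pullback.snd f (h ≫ g) ≫ h := by
    simp only [k, pullback.map]
    rw [pullback.lift_snd]
  have hc : IsPullback k (pullback.snd f (h ≫ g)) (pullback.snd f g) h :=
    IsPullback.of_right (by rw [hk1]; exact IsPullback.of_hasPullback f (h ≫ g)) hk2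
      (IsPullback.of_hasPullback f g)
  obtain ⟨x'', hx1, hx2⟩ := exists_preimage_of_isPullback hc z τ hτ.symm
  refine ⟨x'', ?_, hx2, ?_⟩
  · rw [← hk1, Scheme.Hom.comp_apply, hx1]
  · have h1 : FlatMod.IsFlatOverAt (pullback.snd f g)
        ((Scheme.Modules.pullback (pullback.fst f g)).obj F) (k x'') := by rw [hx1]; exact hfl
    have h2 := Groth.Agent.Lib.Helper10.FibreProductStalk.isFlatOverAt_baseChange x''
      ((Scheme.Modules.pullback (pullback.fst f g)).obj F) hc h1
    have e : (Scheme.Modules.pullback k).obj ((Scheme.Modules.pullback (pullback.fst f g)).obj F) ≅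
        (Scheme.Modules.pullback (pullback.fst f (h ≫ g))).obj F :=
      (Scheme.Modules.pullbackComp k (pullback.fst f g)).app F ≪≫
        (Scheme.Modules.pullbackCongr hk1).app F
    exact isFlatOverAt_of_iso _ e x'' h2

theorem exists_point_isFlatOverAt_pullback_pullback {X Y Ybar Y' T : Scheme.{u}} (f : X ⟶ Y)
    (gbar : Ybar ⟶ Y) (g : Y' ⟶ Y) (ubar : T ⟶ Ybar) (h : T ⟶ Y') (hcomm : ubar ≫ gbar = h ≫ g)
    (F : X.Modules) [F.IsQuasicoherent] (z : ↥(pullback f g)) (τ : T)
    (hτ : h τ = pullback.snd f g z)
    (hfl : FlatMod.IsFlatOverAt (pullback.snd f g)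
        ((Scheme.Modules.pullback (pullback.fst f g)).obj F) z) :
    ∃ x'' : ↥(pullback (pullback.snd f gbar) ubar),
      pullback.fst f gbar (pullback.fst (pullback.snd f gbar) ubar x'') = pullback.fst f g z ∧
      pullback.snd (pullback.snd f gbar) ubar x'' = τ ∧
      FlatMod.IsFlatOverAt (pullback.snd (pullback.snd f gbar) ubar)
        ((Scheme.Modules.pullback (pullback.fst (pullback.snd f gbar) ubar)).obj
          ((Scheme.Modules.pullback (pullback.fst f gbar)).obj F)) x'' := by
  have hw : (pullback.fst (pullback.snd f gbar) ubar ≫ pullback.fst f gbar) ≫ f =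
      (pullback.snd (pullback.snd f gbar) ubar ≫ h) ≫ g := by
    rw [Category.assoc, pullback.condition, ← Category.assoc, pullback.condition, Category.assoc,
      hcomm, Category.assoc]
  let k : pullback (pullback.snd f gbar) ubar ⟶ pullback f g :=
    pullback.lift (pullback.fst (pullback.snd f gbar) ubar ≫ pullback.fst f gbar)
      (pullback.snd (pullback.snd f gbar) ubar ≫ h) hw
  have hk1 : k ≫ pullback.fst f g =
      pullback.fst (pullback.snd f gbar) ubar ≫ pullback.fst f gbar := pullback.lift_fst _ _ _
  have hk2 : k ≫ pullback.snd f g = pullback.snd (pullback.snd f gbar) ubar ≫ h :=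
    pullback.lift_snd _ _ _
  have hbig : IsPullback (k ≫ pullback.fst f g) (pullback.snd (pullback.snd f gbar) ubar) f
      (h ≫ g) := by
    rw [hk1, ← hcomm]
    exact (IsPullback.of_hasPullback (pullback.snd f gbar) ubar).paste_horiz
      (IsPullback.of_hasPullback f gbar)
  have hc : IsPullback k (pullback.snd (pullback.snd f gbar) ubar) (pullback.snd f g) h :=
    IsPullback.of_right hbig hk2 (IsPullback.of_hasPullback f g)
  obtain ⟨x'', hx1, hx2⟩ := exists_preimage_of_isPullback hc z τ hτ.symm
  refine ⟨x'', ?_, hx2, ?_⟩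
  · rw [← Scheme.Hom.comp_apply, ← hk1, Scheme.Hom.comp_apply, hx1]
  · have h1 : FlatMod.IsFlatOverAt (pullback.snd f g)
        ((Scheme.Modules.pullback (pullback.fst f g)).obj F) (k x'') := by rw [hx1]; exact hfl
    have h2 := Groth.Agent.Lib.Helper10.FibreProductStalk.isFlatOverAt_baseChange x''
      ((Scheme.Modules.pullback (pullback.fst f g)).obj F) hc h1
    have e : (Scheme.Modules.pullback k).obj ((Scheme.Modules.pullback (pullback.fst f g)).obj F) ≅
        (Scheme.Modules.pullback (pullback.fst (pullback.snd f gbar) ubar)).obj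
          ((Scheme.Modules.pullback (pullback.fst f gbar)).obj F) :=
      (Scheme.Modules.pullbackComp k (pullback.fst f g)).app F ≪≫
        (Scheme.Modules.pullbackCongr hk1).app F ≪≫
        ((Scheme.Modules.pullbackComp (pullback.fst (pullback.snd f gbar) ubar)
          (pullback.fst f gbar)).app F).symm
    exact isFlatOverAt_of_iso _ e x'' h2

end Groth.Agent.Lib.Helper6.Prim
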