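import Mathlib
import Groth.Agent.Lib.Helper6.FlFam15
import Groth.Agent.Lib.Helper6.PrimS1
import Groth.Agent.Lib.Helper6.PrimS2

/-!
# Primary case over a Noetherian local base (helper6)
-/

set_option backward.isDefEq.respectTransparency.types false
set_option autoImplicit false
set_option linter.style.haveILetI false
set_option linter.unusedSectionVars false
universe u

namespace Groth.Agent.Lib.Helper6.Prim

open TensorProduct AlgebraicGeometry CategoryTheory CategoryTheory.Limits IsLocalRing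
open Groth.Agent.Lib.Helper29.QCoh Groth.Agent.Lib.Helper18 Groth.Agent.Lib.Helper6.FlFam

theorem isFlatOverAt_of_local_family_noetherian_primary {O : Type u} [CommRing O] [IsNoetherianRing O]
    [IsLocalRing O] {X : Scheme.{u}} (f : X ⟶ Spec (CommRingCat.of O)) [LocallyOfFiniteType f]
    (F : X.Modules) (hF : Coh.IsCoh F) (x : X) (hx : f x = IsLocalRing.closedPoint O)
    {ι : Type u} (A : ι → Type u) [∀ i, CommRing (A i)] [∀ i, IsLocalRing (A i)]
    (φ : ∀ i, O →+* A i) [∀ i, IsLocalHom (φ i)]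
    (htop : ∀ N : ℕ, ∃ s : Finset (ι × ℕ),
      ⨅ p ∈ s, Ideal.comap (φ p.1) (maximalIdeal (A p.1) ^ p.2) ≤ maximalIdeal O ^ N)
    (hprim : letI := (f.residueFieldMap x).hom.toAlgebra
      ∀ a : ↑(X.residueField x), IsSeparable ↑((Spec (CommRingCat.of O)).residueField (f x)) a →
        a ∈ (f.residueFieldMap x).hom.range)
    (hflat : ∀ i : ι, ∃ x' : ↥(pullback f (Spec.map (CommRingCat.ofHom (φ i)))),
      pullback.fst f (Spec.map (CommRingCat.ofHom (φ i))) x' = x ∧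
      pullback.snd f (Spec.map (CommRingCat.ofHom (φ i))) x' = IsLocalRing.closedPoint (A i) ∧
      FlatMod.IsFlatOverAt (pullback.snd f (Spec.map (CommRingCat.ofHom (φ i))))
        ((Scheme.Modules.pullback (pullback.fst f (Spec.map (CommRingCat.ofHom (φ i))))).obj F) x') :
    FlatMod.IsFlatOverAt f F x := by
  classical
  obtain ⟨hFqc, hFft⟩ := hF
  haveI : F.IsQuasicoherent := hFqc
  haveI : F.IsFiniteType := hFft
  obtain ⟨W, hW, hxW, -⟩ := exists_isAffineOpen_mem_and_subset (x := x) (U := ⊤) trivial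
  have hV : IsAffineOpen (⊤ : (Spec (CommRingCat.of O)).Opens) := isAffineOpen_top _
  have hWV : W ≤ f ⁻¹ᵁ ⊤ := le_top
  rw [Fl.isFlatOverAt_iff_flat_localizedModule f F hW hV hWV x hxW]
  letI algRA : Algebra Γ(Spec (CommRingCat.of O), ⊤) Γ(X, W) := (f.appLE ⊤ W hWV).hom.toAlgebra
  letI modRM : Module Γ(Spec (CommRingCat.of O), ⊤) Γ(F, W) :=
    Module.compHom _ (f.appLE ⊤ W hWV).hom
  haveI tw3 : IsScalarTower Γ(Spec (CommRingCat.of O), ⊤) Γ(X, W) Γ(F, W) :=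
    IsScalarTower.of_algebraMap_smul (fun _ _ => rfl)
  let eR : Γ(Spec (CommRingCat.of O), ⊤) ≃+* O :=
    (Scheme.ΓSpecIso (CommRingCat.of O)).commRingCatIsoToRingEquiv
  haveI : IsLocalRing Γ(Spec (CommRingCat.of O), ⊤) := eR.symm.isLocalRing
  haveI : IsNoetherianRing Γ(Spec (CommRingCat.of O), ⊤) := isNoetherianRing_of_ringEquiv O eR.symm
  haveI : IsNoetherianRing Γ(X, W) := by
    have hft : RingHom.FiniteType (f.appLE ⊤ W hWV).hom :=
      HasRingHomProperty.appLE (P := @LocallyOfFiniteType) f inferInstance ⟨⊤, hV⟩ ⟨W, hW⟩ hWV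
    haveI : Algebra.FiniteType Γ(Spec (CommRingCat.of O), ⊤) Γ(X, W) := hft
    exact Algebra.FiniteType.isNoetherianRing Γ(Spec (CommRingCat.of O), ⊤) Γ(X, W)
  haveI : Module.Finite Γ(X, W) Γ(F, W) := module_finite_of_isFiniteType F hW
  have hq𝔪 : (hW.primeIdealOf ⟨x, hxW⟩).asIdeal.comap
      (algebraMap Γ(Spec (CommRingCat.of O), ⊤) Γ(X, W)) =
      maximalIdeal Γ(Spec (CommRingCat.of O), ⊤) := by
    have h1 := IsAffineOpen.comap_primeIdealOf_appLE ⊤ hV W hW hWV hxW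
    have h2 := primeIdealOf_closedPoint (f x) hx
    rw [← h2]
    exact congrArg PrimeSpectrum.asIdeal h1
  refine Groth.Agent.Lib.Helper9.flat_of_injOnTorsion_pow
    (S := Localization.AtPrime (hW.primeIdealOf ⟨x, hxW⟩).asIdeal)
    (maximalIdeal Γ(Spec (CommRingCat.of O), ⊤)) ?_ ?_
  · -- `𝔪 B_q ≤ rad`
    rw [IsLocalRing.jacobson_eq_maximalIdeal ⊥ bot_ne_top, Ideal.map_le_iff_le_comap]
    intro a ha
    rw [Ideal.mem_comap, IsScalarTower.algebraMap_apply Γ(Spec (CommRingCat.of O), ⊤) Γ(X, W)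
      (Localization.AtPrime (hW.primeIdealOf ⟨x, hxW⟩).asIdeal)]
    have h1 : algebraMap Γ(Spec (CommRingCat.of O), ⊤) Γ(X, W) a ∈
        (hW.primeIdealOf ⟨x, hxW⟩).asIdeal := by
      have : a ∈ (hW.primeIdealOf ⟨x, hxW⟩).asIdeal.comap
          (algebraMap Γ(Spec (CommRingCat.of O), ⊤) Γ(X, W)) := by rw [hq𝔪]; exact ha
      exact this
    rw [← Localization.AtPrime.map_eq_maximalIdeal]
    exact Ideal.mem_map_of_mem _ h1
  · intro N hN
    obtain ⟨s, hs⟩ := htop N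
    set 𝔞 : Ideal Γ(Spec (CommRingCat.of O), ⊤) :=
      ⨅ p ∈ s, Ideal.comap ((φ p.1).comp (eR : Γ(Spec (CommRingCat.of O), ⊤) →+* O))
        (maximalIdeal (A p.1) ^ p.2) with h𝔞
    have hmem𝔞 : ∀ a, a ∈ 𝔞 ↔ ∀ p ∈ s, φ p.1 (eR a) ∈ maximalIdeal (A p.1) ^ p.2 := by
      intro a
      simp only [h𝔞, Ideal.mem_iInf, Ideal.mem_comap, RingHom.comp_apply]
      rfl
    have heRmax : ∀ a, a ∈ maximalIdeal Γ(Spec (CommRingCat.of O), ⊤) ↔ eR a ∈ maximalIdeal O := by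
      intro a
      rw [IsLocalRing.mem_maximalIdeal, IsLocalRing.mem_maximalIdeal, mem_nonunits_iff,
        mem_nonunits_iff]
      exact not_congr (MulEquiv.isUnit_map eR).symm
    have h𝔞N : 𝔞 ≤ maximalIdeal Γ(Spec (CommRingCat.of O), ⊤) ^ N := by
      intro a ha
      have h1 : eR a ∈ maximalIdeal O ^ N := by
        apply hs
        simp only [Ideal.mem_iInf, Ideal.mem_comap]
        exact (hmem𝔞 a).mp ha
      have h2 : eR.symm (eR a) ∈ (maximalIdeal O ^ N).map (eR.symm : O →+* _) :=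
        Ideal.mem_map_of_mem _ h1
      rw [RingEquiv.symm_apply_apply, Ideal.map_pow] at h2
      refine Ideal.pow_right_mono ?_ N h2
      rw [Ideal.map_le_iff_le_comap]
      intro b hb
      rw [Ideal.mem_comap, heRmax]
      simpa using hb
    -- reduce to `𝔞`
    suffices hsuff : Groth.Agent.Lib.Helper9.InjOnTorsion Γ(Spec (CommRingCat.of O), ⊤) 𝔞
        (LocalizedModule (hW.primeIdealOf ⟨x, hxW⟩).asIdeal.primeCompl Γ(F, W)) by
      intro A₁ B₁ _ _ _ _ hA hB j hj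
      exact hsuff A₁ B₁ (Module.isTorsionBySet_of_subset h𝔞N hA)
        (Module.isTorsionBySet_of_subset h𝔞N hB) j hj
    have h𝔞le : 𝔞 ≤ maximalIdeal Γ(Spec (CommRingCat.of O), ⊤) :=
      h𝔞N.trans (Ideal.pow_le_self hN.ne')
    have h𝔞ne : 𝔞 ≠ ⊤ := fun h => (Ideal.IsPrime.ne_top inferInstance :
      maximalIdeal Γ(Spec (CommRingCat.of O), ⊤) ≠ ⊤) (top_le_iff.mp (h ▸ h𝔞le))
    haveI : IsLocalRing (Γ(Spec (CommRingCat.of O), ⊤) ⧸ 𝔞) := isLocalRing_quotient 𝔞 h𝔞ne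
    -- local homs
    have hloc : ∀ (i : ι) (a : Γ(Spec (CommRingCat.of O), ⊤)),
        a ∈ maximalIdeal Γ(Spec (CommRingCat.of O), ⊤) → φ i (eR a) ∈ maximalIdeal (A i) := by
      intro i a ha
      rw [heRmax] at ha
      rw [IsLocalRing.mem_maximalIdeal, mem_nonunits_iff] at ha ⊢
      intro hu
      exact ha (isUnit_of_map_unit (φ i) _ hu)
    have hnilbar : IsNilpotent (maximalIdeal (Γ(Spec (CommRingCat.of O), ⊤) ⧸ 𝔞)) := by
      refine isNilpotent_maximalIdeal_quotient 𝔞 (s.sup fun p => p.2) ?_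
      intro a ha
      rw [hmem𝔞]
      intro p hp
      have h1 : a ∈ maximalIdeal Γ(Spec (CommRingCat.of O), ⊤) ^ p.2 :=
        Ideal.pow_le_pow_right (Finset.le_sup (f := fun p : ι × ℕ => p.2) hp) ha
      have h2 : ((φ p.1).comp (eR : Γ(Spec (CommRingCat.of O), ⊤) →+* O)) a ∈
          (maximalIdeal Γ(Spec (CommRingCat.of O), ⊤) ^ p.2).map
            ((φ p.1).comp (eR : Γ(Spec (CommRingCat.of O), ⊤) →+* O)) :=
        Ideal.mem_map_of_mem _ h1
      rw [Ideal.map_pow] at h2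
      refine Ideal.pow_right_mono ?_ p.2 h2
      rw [Ideal.map_le_iff_le_comap]
      intro b hb
      exact hloc p.1 b hb
    haveI : IsArtinianRing (Γ(Spec (CommRingCat.of O), ⊤) ⧸ 𝔞) :=
      (isArtinianRing_iff_isNilpotent_maximalIdeal _).mpr hnilbar
    obtain ⟨R₀, hfg, hle, hR₀, hconc⟩ := exists_flattening_ideal
      (A := Γ(Spec (CommRingCat.of O), ⊤) ⧸ 𝔞)
      ((Γ(Spec (CommRingCat.of O), ⊤) ⧸ 𝔞) ⊗[Γ(Spec (CommRingCat.of O), ⊤)]
        (LocalizedModule (hW.primeIdealOf ⟨x, hxW⟩).asIdeal.primeCompl Γ(F, W)))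
    suffices hR₀bot : R₀ = ⊥ by
      haveI := hconc hR₀bot
      exact Groth.Agent.Lib.Helper9.injOnTorsion_of_flat
    by_contra hne
    obtain ⟨a₀, ha₀, ha₀0⟩ : ∃ a₀ ∈ R₀, a₀ ≠ 0 := Submodule.exists_mem_ne_zero_of_ne_bot hne
    obtain ⟨r₀, rfl⟩ := Ideal.Quotient.mk_surjective a₀
    have hr₀ : r₀ ∉ 𝔞 := fun h => ha₀0 ((Ideal.Quotient.eq_zero_iff_mem).mpr h)
    rw [hmem𝔞] at hr₀
    push Not at hr₀
    obtain ⟨⟨i, n⟩, hp, hpr⟩ := hr₀
    simp only at hpr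
    have hn : maximalIdeal (A i) ^ n ≠ ⊤ := fun h => hpr (h ▸ trivial)
    haveI : IsLocalRing (A i ⧸ maximalIdeal (A i) ^ n) := isLocalRing_quotient _ hn
    set ψ : O →+* (A i ⧸ maximalIdeal (A i) ^ n) :=
      (Ideal.Quotient.mk (maximalIdeal (A i) ^ n)).comp (φ i) with hψ
    have H : IsPullback (pullback.fst f (Spec.map (CommRingCat.ofHom ψ)))
        (pullback.snd f (Spec.map (CommRingCat.ofHom ψ))) f
        (Spec.map (CommRingCat.ofHom ψ)) := IsPullback.of_hasPullback _ _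
    set g := Spec.map (CommRingCat.ofHom ψ) with hg
    set p := pullback.fst f g with hp'
    set q' := pullback.snd f g with hq'
    have hUT : IsAffineOpen (⊤ : (Spec (CommRingCat.of (A i ⧸ maximalIdeal (A i) ^ n))).Opens) :=
      isAffineOpen_top _
    have hUST : (⊤ : (Spec (CommRingCat.of (A i ⧸ maximalIdeal (A i) ^ n))).Opens) ≤ g ⁻¹ᵁ ⊤ :=
      le_top
    set UY : (pullback f g).Opens := p ⁻¹ᵁ W ⊓ q' ⁻¹ᵁ ⊤ with hUY
    have hUYaff : IsAffineOpen UY := GFl.isAffineOpen_of_isPullback H hV hUT hW hUST hWV hUY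
    have hpW : UY ≤ p ⁻¹ᵁ W := inf_le_left
    have hqT : UY ≤ q' ⁻¹ᵁ ⊤ := inf_le_right
    have hpo := GFl.isPushout_appLE_of_isPullback H hV hUT hW hUST hWV hUY
    letI algRS : Algebra Γ(Spec (CommRingCat.of O), ⊤)
        Γ(Spec (CommRingCat.of (A i ⧸ maximalIdeal (A i) ^ n)), ⊤) :=
      (g.appLE ⊤ ⊤ hUST).hom.toAlgebra
    letI algAB : Algebra Γ(X, W) Γ(pullback f g, UY) := (p.appLE W UY hpW).hom.toAlgebra
    letI algSB : Algebra Γ(Spec (CommRingCat.of (A i ⧸ maximalIdeal (A i) ^ n)), ⊤)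
        Γ(pullback f g, UY) := (q'.appLE ⊤ UY hqT).hom.toAlgebra
    letI algRB : Algebra Γ(Spec (CommRingCat.of O), ⊤) Γ(pullback f g, UY) :=
      ((p.appLE W UY hpW).hom.comp (f.appLE ⊤ W hWV).hom).toAlgebra
    haveI tw1 : IsScalarTower Γ(Spec (CommRingCat.of O), ⊤) Γ(X, W) Γ(pullback f g, UY) :=
      IsScalarTower.of_algebraMap_eq (fun _ => rfl)
    haveI tw2 : IsScalarTower Γ(Spec (CommRingCat.of O), ⊤)
        Γ(Spec (CommRingCat.of (A i ⧸ maximalIdeal (A i) ^ n)), ⊤) Γ(pullback f g, UY) :=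
      IsScalarTower.of_algebraMap_eq (fun r => by
        have hw := hpo.w
        exact congr($(hw).hom r))
    haveI hpo' : Algebra.IsPushout Γ(Spec (CommRingCat.of O), ⊤)
        Γ(Spec (CommRingCat.of (A i ⧸ maximalIdeal (A i) ^ n)), ⊤) Γ(X, W) Γ(pullback f g, UY) :=
      CommRingCat.isPushout_iff_isPushout.mp hpo.flip
    let eA' : Γ(Spec (CommRingCat.of (A i ⧸ maximalIdeal (A i) ^ n)), ⊤) ≃+*
        (A i ⧸ maximalIdeal (A i) ^ n) :=
      (Scheme.ΓSpecIso (CommRingCat.of (A i ⧸ maximalIdeal (A i) ^ n))).commRingCatIsoToRingEquiv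
    haveI : IsLocalRing Γ(Spec (CommRingCat.of (A i ⧸ maximalIdeal (A i) ^ n)), ⊤) :=
      eA'.symm.isLocalRing
    have hnat : (g.appLE ⊤ ⊤ hUST) ≫
        (Scheme.ΓSpecIso (CommRingCat.of (A i ⧸ maximalIdeal (A i) ^ n))).hom =
        (Scheme.ΓSpecIso (CommRingCat.of O)).hom ≫ CommRingCat.ofHom ψ := by
      rw [← Scheme.ΓSpecIso_naturality (CommRingCat.ofHom ψ)]
      congr 1
    have hnat' : ∀ a : Γ(Spec (CommRingCat.of O), ⊤),
        eA' (algebraMap Γ(Spec (CommRingCat.of O), ⊤)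
          Γ(Spec (CommRingCat.of (A i ⧸ maximalIdeal (A i) ^ n)), ⊤) a) = ψ (eR a) :=
      fun a => congr($(hnat).hom a)
    have h0 : ∀ a ∈ 𝔞, algebraMap Γ(Spec (CommRingCat.of O), ⊤)
        Γ(Spec (CommRingCat.of (A i ⧸ maximalIdeal (A i) ^ n)), ⊤) a = 0 := by
      intro a ha
      apply eA'.injective
      rw [hnat', map_zero, hψ, RingHom.comp_apply, Ideal.Quotient.eq_zero_iff_mem]
      exact (hmem𝔞 a).mp ha (i, n) hp
    letI algbar : Algebra (Γ(Spec (CommRingCat.of O), ⊤) ⧸ 𝔞)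
        Γ(Spec (CommRingCat.of (A i ⧸ maximalIdeal (A i) ^ n)), ⊤) :=
      (Ideal.Quotient.lift 𝔞 (algebraMap Γ(Spec (CommRingCat.of O), ⊤)
        Γ(Spec (CommRingCat.of (A i ⧸ maximalIdeal (A i) ^ n)), ⊤)) h0).toAlgebra
    haveI twbar : IsScalarTower Γ(Spec (CommRingCat.of O), ⊤) (Γ(Spec (CommRingCat.of O), ⊤) ⧸ 𝔞)
        Γ(Spec (CommRingCat.of (A i ⧸ maximalIdeal (A i) ^ n)), ⊤) :=
      IsScalarTower.of_algebraMap_eq (fun r => rfl)
    have hsc := hsc_of_hprim f hW hWV x hxW hx hprim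
    obtain ⟨x'i, hx'1, hx'2, hx'fl⟩ := hflat i
    have hgcomp : g = Spec.map (CommRingCat.ofHom (Ideal.Quotient.mk (maximalIdeal (A i) ^ n))) ≫
        Spec.map (CommRingCat.ofHom (φ i)) := by
      rw [← Spec.map_comp]
      rfl
    obtain ⟨x'', hx''1, hx''2, hfl⟩ := exists_point_isFlatOverAt_pullback_comp f
      (Spec.map (CommRingCat.ofHom (φ i)))
      (Spec.map (CommRingCat.ofHom (Ideal.Quotient.mk (maximalIdeal (A i) ^ n)))) g hgcomp F
      x'i (IsLocalRing.closedPoint (A i ⧸ maximalIdeal (A i) ^ n))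
      (by rw [hx'2]; exact SpecMap_mk_closedPoint _) hx'fl
    have hpx : p x'' = x := hx''1.trans hx'1
    have hqx : q' x'' = IsLocalRing.closedPoint (A i ⧸ maximalIdeal (A i) ^ n) := hx''2
    have hx'UY : x'' ∈ UY := ⟨by change p x'' ∈ W; rw [hpx]; exact hxW, trivial⟩
    have hP₀q : (hUYaff.primeIdealOf ⟨x'', hx'UY⟩).asIdeal.comap
        (algebraMap Γ(X, W) Γ(pullback f g, UY)) = (hW.primeIdealOf ⟨x, hxW⟩).asIdeal := by
      have h1 := IsAffineOpen.comap_primeIdealOf_appLE W hW UY hUYaff hpW hx'UY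
      have h2 : (⟨p x'', hpW hx'UY⟩ : W) = ⟨x, hxW⟩ := Subtype.ext hpx
      exact congrArg PrimeSpectrum.asIdeal (h1.trans (congrArg hW.primeIdealOf h2))
    have hP₀m : (hUYaff.primeIdealOf ⟨x'', hx'UY⟩).asIdeal.comap
        (algebraMap Γ(Spec (CommRingCat.of (A i ⧸ maximalIdeal (A i) ^ n)), ⊤)
          Γ(pullback f g, UY)) =
        maximalIdeal Γ(Spec (CommRingCat.of (A i ⧸ maximalIdeal (A i) ^ n)), ⊤) := by
      have h1 := IsAffineOpen.comap_primeIdealOf_appLE ⊤ hUT UY hUYaff hqT hx'UY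
      have h2 := primeIdealOf_closedPoint (q' x'') hqx
      exact (congrArg PrimeSpectrum.asIdeal h1).trans h2
    have hflat₀ : Module.Flat Γ(Spec (CommRingCat.of (A i ⧸ maximalIdeal (A i) ^ n)), ⊤)
        (LocalizedModule (hUYaff.primeIdealOf ⟨x'', hx'UY⟩).asIdeal.primeCompl
          (Γ(pullback f g, UY) ⊗[Γ(X, W)] Γ(F, W))) := by
      rw [Fl.isFlatOverAt_iff_flat_localizedModule q' _ hUYaff hUT hqT x'' hx'UY] at hfl
      letI modSG : Module Γ(Spec (CommRingCat.of (A i ⧸ maximalIdeal (A i) ^ n)), ⊤)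
          Γ((Scheme.Modules.pullback p).obj F, UY) := Module.compHom _ (q'.appLE ⊤ UY hqT).hom
      haveI tw4 : IsScalarTower Γ(Spec (CommRingCat.of (A i ⧸ maximalIdeal (A i) ^ n)), ⊤)
          Γ(pullback f g, UY) Γ((Scheme.Modules.pullback p).obj F, UY) :=
        IsScalarTower.of_algebraMap_smul (fun _ _ => rfl)
      exact flat_localizedModule_congr _ (pullbackSectionsEquiv p F hUYaff hW hpW) hfl
    have key := map_eq_bot_of_flat_at' (A := Γ(Spec (CommRingCat.of O), ⊤)) (B := Γ(X, W))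
      (A' := Γ(Spec (CommRingCat.of (A i ⧸ maximalIdeal (A i) ^ n)), ⊤))
      (C := Γ(pullback f g, UY))
      (hW.primeIdealOf ⟨x, hxW⟩).asIdeal Γ(F, W) (Γ(Spec (CommRingCat.of O), ⊤) ⧸ 𝔞)
      (fun a ha => mk_mem_maximalIdeal 𝔞 a ha) hnilbar R₀ hfg hle hR₀
      (hUYaff.primeIdealOf ⟨x'', hx'UY⟩).asIdeal hP₀q hP₀m hflat₀ hsc
    have h1 : algebraMap (Γ(Spec (CommRingCat.of O), ⊤) ⧸ 𝔞)
        Γ(Spec (CommRingCat.of (A i ⧸ maximalIdeal (A i) ^ n)), ⊤)
        (Ideal.Quotient.mk 𝔞 r₀) = 0 := by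
      have h2 : algebraMap (Γ(Spec (CommRingCat.of O), ⊤) ⧸ 𝔞)
          Γ(Spec (CommRingCat.of (A i ⧸ maximalIdeal (A i) ^ n)), ⊤)
          (Ideal.Quotient.mk 𝔞 r₀) ∈ R₀.map (algebraMap (Γ(Spec (CommRingCat.of O), ⊤) ⧸ 𝔞)
            Γ(Spec (CommRingCat.of (A i ⧸ maximalIdeal (A i) ^ n)), ⊤)) :=
        Ideal.mem_map_of_mem _ ha₀
      rw [key] at h2
      exact h2
    have h3 : algebraMap Γ(Spec (CommRingCat.of O), ⊤)
        Γ(Spec (CommRingCat.of (A i ⧸ maximalIdeal (A i) ^ n)), ⊤) r₀ = 0 := h1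
    have h4 := hnat' r₀
    rw [h3, map_zero, hψ, RingHom.comp_apply] at h4
    exact hpr ((Ideal.Quotient.eq_zero_iff_mem).mp h4.symm)

end Groth.Agent.Lib.Helper6.Prim
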