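import Mathlib
import Groth.Agent.Lib.Helper6.PrimS3

/-!
# S4902: reduction to the local base, primary case (helper6)
-/

set_option backward.isDefEq.respectTransparency.types false
set_option autoImplicit false
set_option linter.style.haveILetI false
set_option linter.unusedSectionVars false
universe u

namespace Groth.Agent.Lib.Helper6.Prim

open TensorProduct AlgebraicGeometry CategoryTheory CategoryTheory.Limits IsLocalRing Polynomial
open Groth.Agent.Lib.Helper29.QCoh Groth.Agent.Lib.Helper18 Groth.Agent.Lib.Helper6.FlFam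

/-- transport of "separably closed in" along a commutative square of fields with surjective
horizontal maps -/
theorem sepClosed_of_square {κ1 κ2 κ3 κ4 : Type u} [Field κ1] [Field κ2] [Field κ3] [Field κ4]
    (α : κ1 →+* κ2) (β : κ1 →+* κ3) (γ : κ2 →+* κ4) (δ : κ3 →+* κ4)
    (hcomm : γ.comp α = δ.comp β) (hβ : Function.Surjective β) (hγ : Function.Surjective γ)
    (h : ∀ b : κ2, (∃ P : κ1[X], P.Separable ∧ eval₂ α b P = 0) → b ∈ α.range)
    (a : κ4) (ha : ∃ P : κ3[X], P.Separable ∧ eval₂ δ a P = 0) : a ∈ δ.range := by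
  obtain ⟨P, hP, hPa⟩ := ha
  obtain ⟨P₀, rfl⟩ := Polynomial.map_surjective β hβ P
  have hP₀ : P₀.Separable := (Polynomial.separable_map β).mp hP
  obtain ⟨b, rfl⟩ := hγ a
  rw [Polynomial.eval₂_map, ← hcomm, ← Polynomial.hom_eval₂] at hPa
  have h1 : eval₂ α b P₀ = 0 := γ.injective (by rw [hPa, map_zero])
  obtain ⟨c, rfl⟩ := h b ⟨P₀, hP₀, h1⟩
  exact ⟨β c, (RingHom.congr_fun hcomm c).symm⟩

/-- residue field maps of morphisms surjective on stalks are surjective -/
theorem residueFieldMap_surjective {X Y : Scheme.{u}} (f : X ⟶ Y) [SurjectiveOnStalks f] (x : X) :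
    Function.Surjective (f.residueFieldMap x).hom := by
  intro c
  obtain ⟨s, rfl⟩ := IsLocalRing.residue_surjective c
  obtain ⟨t, rfl⟩ := f.stalkMap_surjective x s
  exact ⟨IsLocalRing.residue _ t, rfl⟩

theorem hprim_congr {X Y : Scheme.{u}} (f : X ⟶ Y) {x₁ x₂ : X} (e : x₁ = x₂)
    (hprim : letI := (f.residueFieldMap x₁).hom.toAlgebra
      ∀ a : ↑(X.residueField x₁), IsSeparable ↑(Y.residueField (f x₁)) a →
        a ∈ (f.residueFieldMap x₁).hom.range) :
    letI := (f.residueFieldMap x₂).hom.toAlgebra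
    ∀ a : ↑(X.residueField x₂), IsSeparable ↑(Y.residueField (f x₂)) a →
      a ∈ (f.residueFieldMap x₂).hom.range := by
  subst e
  exact hprim

theorem hprim_pullback {X Y Z : Scheme.{u}} (f : X ⟶ Y) (j : Z ⟶ Y) [SurjectiveOnStalks j]
    (xO : ↥(pullback f j))
    (hprim : letI := (f.residueFieldMap (pullback.fst f j xO)).hom.toAlgebra
      ∀ a : ↑(X.residueField (pullback.fst f j xO)),
        IsSeparable ↑(Y.residueField (f (pullback.fst f j xO))) a →
        a ∈ (f.residueFieldMap (pullback.fst f j xO)).hom.range) :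
    letI := ((pullback.snd f j).residueFieldMap xO).hom.toAlgebra
    ∀ a : ↑((pullback f j).residueField xO),
      IsSeparable ↑(Z.residueField (pullback.snd f j xO)) a →
      a ∈ ((pullback.snd f j).residueFieldMap xO).hom.range := by
  letI alg4 := ((pullback.snd f j).residueFieldMap xO).hom.toAlgebra
  intro a ha
  haveI : SurjectiveOnStalks (pullback.fst f j) :=
    MorphismProperty.pullback_fst (P := @SurjectiveOnStalks) f j inferInstance
  have E1 := Scheme.residueFieldMap_comp (pullback.fst f j) f xO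
  have E2 := Scheme.residueFieldMap_comp (pullback.snd f j) j xO
  have E3 := Scheme.Hom.residueFieldMap_congr (pullback.condition (f := f) (g := j)) xO
  have hpt : f (pullback.fst f j xO) = j (pullback.snd f j xO) := by
    rw [← Scheme.Hom.comp_apply, pullback.condition, Scheme.Hom.comp_apply]
  refine sepClosed_of_square (f.residueFieldMap (pullback.fst f j xO)).hom
    ((j.residueFieldMap (pullback.snd f j xO)).hom.comp (Y.residueFieldCongr hpt).hom.hom)
    ((pullback.fst f j).residueFieldMap xO).hom ((pullback.snd f j).residueFieldMap xO).hom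
    ?_ ?_ ?_ ?_ a ?_
  · rw [E1, E2] at E3
    ext c
    exact congr($(E3).hom c)
  · refine (residueFieldMap_surjective j _).comp ?_
    exact (ConcreteCategory.bijective_of_isIso (Y.residueFieldCongr hpt).hom).2
  · exact residueFieldMap_surjective _ xO
  · intro b ⟨P, hP, hPb⟩
    letI := (f.residueFieldMap (pullback.fst f j xO)).hom.toAlgebra
    refine hprim b ?_
    exact isSeparable_of_aeval_eq_zero hP (by rw [aeval_def]; exact hPb)
  · refine ⟨minpoly _ a, ha, ?_⟩
    have := minpoly.aeval (Z.residueField (pullback.snd f j xO)) a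
    rw [aeval_def] at this
    exact this

theorem isFlatOverAt_of_local_family_locallyNoetherian_primary {X Y : Scheme.{u}}
    [IsLocallyNoetherian Y]
    (f : X ⟶ Y) [LocallyOfFiniteType f] (F : X.Modules) (hF : Coh.IsCoh F) (x : X)
    (hprim : letI := (f.residueFieldMap x).hom.toAlgebra
      ∀ a : ↑(X.residueField x), IsSeparable ↑(Y.residueField (f x)) a →
        a ∈ (f.residueFieldMap x).hom.range)
    {ι : Type u} (A : ι → Type u) [∀ i, CommRing (A i)] [∀ i, IsLocalRing (A i)]
    (φ : ∀ i, (Y.presheaf.stalk (f x) : Type u) →+* A i) [∀ i, IsLocalHom (φ i)]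
    (htop : ∀ N : ℕ, ∃ s : Finset (ι × ℕ),
      ⨅ p ∈ s, Ideal.comap (φ p.1) (IsLocalRing.maximalIdeal (A p.1) ^ p.2) ≤
        IsLocalRing.maximalIdeal ↑(Y.presheaf.stalk (f x)) ^ N) :
    letI g : ∀ i, Spec (CommRingCat.of (A i)) ⟶ Y :=
      fun i => Spec.map (CommRingCat.ofHom (φ i)) ≫ Y.fromSpecStalk (f x)
    (∀ i : ι, ∃ x' : ↥(pullback f (g i)), pullback.fst f (g i) x' = x ∧
      pullback.snd f (g i) x' = IsLocalRing.closedPoint (A i) ∧
      FlatMod.IsFlatOverAt (pullback.snd f (g i))
        ((Scheme.Modules.pullback (pullback.fst f (g i))).obj F) x') →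
    FlatMod.IsFlatOverAt f F x := by
  intro hflat
  haveI : F.IsQuasicoherent := hF.1
  haveI : F.IsFiniteType := hF.2
  obtain ⟨xO, hxO1, hxO2⟩ := Scheme.Pullback.exists_preimage_pullback (f := f)
    (g := Y.fromSpecStalk (f x)) x (closedPoint (Y.presheaf.stalk (f x)))
    (by rw [Scheme.fromSpecStalk_closedPoint])
  have hc : IsPullback (pullback.fst f (Y.fromSpecStalk (f x)))
      (pullback.snd f (Y.fromSpecStalk (f x))) f (Y.fromSpecStalk (f x)) :=
    IsPullback.of_hasPullback _ _
  have hprimO := hprim_pullback f (Y.fromSpecStalk (f x)) xO (hprim_congr f hxO1.symm hprim)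
  have hkey : FlatMod.IsFlatOverAt (pullback.snd f (Y.fromSpecStalk (f x)))
      ((Scheme.Modules.pullback (pullback.fst f (Y.fromSpecStalk (f x)))).obj F) xO := by
    haveI hN : IsNoetherianRing ↑(Y.presheaf.stalk (f x)) := inferInstance
    have hcoh : Coh.IsCoh ((Scheme.Modules.pullback
        (pullback.fst f (Y.fromSpecStalk (f x)))).obj F) := ⟨inferInstance, inferInstance⟩
    refine @isFlatOverAt_of_local_family_noetherian_primary ↑(Y.presheaf.stalk (f x)) _ hN _ _
      (pullback.snd f (Y.fromSpecStalk (f x))) _ _ hcoh xO hxO2 _ A _ _ φ _ htop hprimO ?_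
    intro i
    obtain ⟨x'i, h1, h2, h3⟩ := hflat i
    obtain ⟨x'', e1, e2, e3⟩ := exists_point_isFlatOverAt_pullback_pullback f
      (Y.fromSpecStalk (f x)) (Spec.map (CommRingCat.ofHom (φ i)) ≫ Y.fromSpecStalk (f x))
      (Spec.map (CommRingCat.ofHom (φ i))) (𝟙 _) (Category.id_comp _).symm F x'i
      (IsLocalRing.closedPoint (A i)) (by rw [h2]; rfl) h3
    refine ⟨x'', ?_, e2, e3⟩
    apply (SurjectiveOnStalks.isEmbedding_pullback f (Y.fromSpecStalk (f x))).injective
    refine Prod.ext ?_ ?_
    · exact (e1.trans h1).trans hxO1.symm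
    · change pullback.snd f (Y.fromSpecStalk (f x))
        (pullback.fst (pullback.snd f (Y.fromSpecStalk (f x)))
          (Spec.map (CommRingCat.ofHom (φ i))) x'') = pullback.snd f (Y.fromSpecStalk (f x)) xO
      rw [← Scheme.Hom.comp_apply, pullback.condition, Scheme.Hom.comp_apply, e2, hxO2]
      exact IsLocalRing.comap_closedPoint (φ i)
  haveI := Groth.Agent.Lib.Helper10.FibreProductStalk.flat_fromSpecStalk Y (f x)
  have hfin := Groth.Agent.Lib.Helper10.FibreProductStalk.isFlatOverAt_of_baseChange xO F hc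
    (Flat.stalkMap (Y.fromSpecStalk (f x)) _) hkey
  rwa [hxO1] at hfin

end Groth.Agent.Lib.Helper6.Prim
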