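import Mathlib
import Groth.Agent.Lib.Helper6.QFac6
import Groth.Agent.Lib.Helper21.EquiSub6
import Groth.Agent.Lib.Helper21.OpenAt9

/-!
# EGA IV 13.3.1, b) ⟹ a) over a locally Noetherian base
-/

set_option autoImplicit false
set_option linter.style.haveILetI false
universe u
open AlgebraicGeometry CategoryTheory Limits TopologicalSpace

namespace Groth.Agent.Lib.Helper6.QFac

open Groth.Agent.Lib.Helper21.FibDim Groth.Agent.Lib.Helper21.EquidimAt
  Groth.Agent.Lib.Helper21.OpenAt Groth.Agent.Lib.Helper21.EquiSub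

variable {X Y : Scheme.{u}} (f : X ⟶ Y)

/-- facts about the maximal points of the source of a quasi-finite morphism to an affine space
sending irreducible components to irreducible components -/
theorem maximal_facts [LocallyOfFiniteType f] (e : ℕ) (U : X.Opens)
    (g : (U : Scheme.{u}) ⟶ 𝔸(ULift.{u} (Fin e); Y))
    (hg : g ≫ (𝔸(ULift.{u} (Fin e); Y) ↘ Y) = U.ι ≫ f) [LocallyQuasiFinite g]
    (hZ : ∀ Z ∈ irreducibleComponents (↥U : Type u),
      closure (g.base '' Z) ∈ irreducibleComponents (↥𝔸(ULift.{u} (Fin e); Y) : Type u))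
    (ξ : X) (hξU : ξ ∈ U) (hξmax : ∀ ξ' : X, ξ' ⤳ ξ → ξ' = ξ) :
    rtd f ξ = e ∧ ∀ η' : Y, η' ⤳ f ξ → η' = f ξ := by
  haveI : LocallyOfFiniteType g := by
    haveI : LocallyOfFiniteType (g ≫ (𝔸(ULift.{u} (Fin e); Y) ↘ Y)) := by
      rw [hg]; infer_instance
    exact locallyOfFiniteType_of_comp g (𝔸(ULift.{u} (Fin e); Y) ↘ Y)
  let ξU : ↥U := ⟨ξ, hξU⟩
  have hξUmax : ∀ ξ' : ↥U, ξ' ⤳ ξU → ξ' = ξU := maximal_opens_of_maximal U ξU hξmax
  haveI : QuasiSober ↥U := inferInstanceAs (QuasiSober U.toScheme)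
  haveI : T0Space ↥U := inferInstanceAs (T0Space U.toScheme)
  have h0 : closure {ξU} ∈ irreducibleComponents ↥U :=
    closure_mem_irreducibleComponents_of_maximal ξU hξUmax
  have h1' := hZ _ h0
  have h1'' : closure (g.base '' closure {ξU}) = closure {g.base ξU} :=
    closure_image_closure_singleton' _ g.continuous ξU
  have h1 : closure {g.base ξU} ∈ irreducibleComponents ↥𝔸(ULift.{u} (Fin e); Y) := by
    have h5 := h1''.symm
    rw [h5]; exact h1'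
  have hgmax : ∀ ζ' : 𝔸(ULift.{u} (Fin e); Y), ζ' ⤳ g ξU → ζ' = g ξU :=
    fun ζ' h' => eq_of_specializes_of_closure_mem (g ξU) h1 ζ' h'
  have hcard : Nat.card (ULift.{u} (Fin e)) = e := by simp
  have hrtd := rtd_affineSpace_of_maximal (ULift.{u} (Fin e)) Y (g ξU) hgmax
  rw [hcard] at hrtd
  have hpg : (𝔸(ULift.{u} (Fin e); Y) ↘ Y) (g ξU) = f ξ := by
    have := congrArg (fun k : (U : Scheme.{u}) ⟶ Y => k ξU) hg
    simpa using this
  refine ⟨rtd_of_quasiFinite f U.ι (𝔸(ULift.{u} (Fin e); Y) ↘ Y) g hg ξU e hrtd, ?_⟩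
  intro η' hη'
  rw [← hpg] at hη' ⊢
  obtain ⟨ζ', hζ', rfl⟩ := generalizingMap_affineSpace_over (ULift.{u} (Fin e)) Y hη'
  rw [hgmax ζ' hζ']

theorem isEquidimAt_of_exists_quasiFinite [IsLocallyNoetherian Y] [LocallyOfFiniteType f] (x : X)
    (e : ℕ) (U : X.Opens) (g : (U : Scheme.{u}) ⟶ 𝔸(ULift.{u} (Fin e); Y)) (hxU : x ∈ U)
    (hg : g ≫ (𝔸(ULift.{u} (Fin e); Y) ↘ Y) = U.ι ≫ f) (hgqf : LocallyQuasiFinite g)
    (hZ : ∀ Z ∈ irreducibleComponents (↥U : Type u),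
      closure (g.base '' Z) ∈ irreducibleComponents (↥𝔸(ULift.{u} (Fin e); Y) : Type u)) :
    EGA43.IsEquidimAt f x := by
  haveI : IsLocallyNoetherian X := LocallyOfFiniteType.isLocallyNoetherian f
  haveI : LocallyOfFiniteType g := by
    haveI : LocallyOfFiniteType (g ≫ (𝔸(ULift.{u} (Fin e); Y) ↘ Y)) := by
      rw [hg]; infer_instance
    exact locallyOfFiniteType_of_comp g (𝔸(ULift.{u} (Fin e); Y) ↘ Y)
  obtain ⟨O, hxO, hO⟩ := exists_open_forall_maximal_specializes X x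
  have hK := maximal_facts f e U g hg hZ
  refine ⟨e, U ⊓ O, ⟨hxU, hxO⟩, ?_, ?_⟩
  · intro Z hZ'
    haveI : QuasiSober ↥(U ⊓ O) := inferInstanceAs (QuasiSober (U ⊓ O).toScheme)
    haveI : T0Space ↥(U ⊓ O) := inferInstanceAs (T0Space (U ⊓ O).toScheme)
    obtain ⟨ξ', hξ'⟩ := exists_isGenericPoint_of_mem_irreducibleComponents Z hZ'
    have hξ'max : ∀ ξ'' : ↥(U ⊓ O), ξ'' ⤳ ξ' → ξ'' = ξ' := fun ξ'' h' =>
      eq_of_specializes_isGenericPoint Z hZ' ξ' ξ'' hξ' h'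
    have hξmax : ∀ ξ'' : X, ξ'' ⤳ ξ'.1 → ξ'' = ξ'.1 := maximal_of_maximal_opens (U ⊓ O) ξ' hξ'max
    obtain ⟨-, hfmax⟩ := hK ξ'.1 ξ'.2.1 hξmax
    have hsp : ξ'.1 ⤳ x := hO ξ'.1 ξ'.2.2 ξ'.1 hξmax specializes_rfl
    refine ⟨closure {f ξ'.1}, closure_mem_irreducibleComponents_of_maximal (f ξ'.1) hfmax, ?_, ?_⟩
    · exact (hsp.map f.continuous).mem_closure
    · have h4 := hξ'.def
      subst h4
      exact closure_image_closure_singleton' _ ((U ⊓ O).ι ≫ f).continuous ξ'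
  · intro x' T hT
    obtain ⟨z, hz, hdim, hzmax⟩ := exists_isGenericPoint_fiber ((U ⊓ O).ι ≫ f) _ T hT
    rw [hdim]
    set t' := ((U ⊓ O).ι ≫ f).fiberι (((U ⊓ O).ι ≫ f) x') z with ht'
    rw [fibreDimAt_ι_comp f (U ⊓ O) t']
    have htmax : ∀ τ : X, τ ⤳ t'.1 → f τ = f t'.1 → τ = t'.1 := by
      intro τ hτ hfτ
      have hτU : τ ∈ U ⊓ O := hτ.mem_open (U ⊓ O).2 t'.2
      have h1 : (⟨τ, hτU⟩ : ↥(U ⊓ O)) ⤳ t' :=
        (Topology.IsInducing.subtypeVal.specializes_iff).mp hτ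
      have h2 := hzmax ⟨τ, hτU⟩ h1 (by simpa using hfτ)
      exact congrArg Subtype.val h2
    obtain ⟨n, hn⟩ := exists_nat_trdeg_residueFieldMap f t'.1
    rw [fibreDimAt_eq_trdeg_of_maximal f t'.1 htmax n hn]
    have hcard : Nat.card (ULift.{u} (Fin e)) = e := by simp
    have hle : n ≤ e := by
      have h1 := rtd_of_quasiFinite' f U.ι (𝔸(ULift.{u} (Fin e); Y) ↘ Y) g hg ⟨t'.1, t'.2.1⟩ n hn
      have h2 := rtd_affineSpace_le (ULift.{u} (Fin e)) Y (g ⟨t'.1, t'.2.1⟩)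
      rw [h1, hcard] at h2
      exact_mod_cast h2
    have hge : e ≤ n := by
      obtain ⟨ξ, hξt, hξmax⟩ := exists_maximal_specializes t'.1
      have hξU : ξ ∈ U := hξt.mem_open U.2 t'.2.1
      obtain ⟨hE, -⟩ := hK ξ hξU hξmax
      obtain ⟨h1, h2, -⟩ := component_facts f ξ t'.1 hξt e hE hξt.mem_closure
      have h3 := h1.trans h2
      rw [fibreDimAt_eq_trdeg_of_maximal f t'.1 htmax n hn] at h3
      exact_mod_cast h3
    have : n = e := le_antisymm hle hge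
    rw [this]

end Groth.Agent.Lib.Helper6.QFac
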