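import Mathlib
import Groth.Prelude.Def_FDesc
import Groth.Prelude.Def_CohB1
import Groth.Prelude.Def_FlatMod2
import Groth.Agent.Lib.Helper6.SuppMax2
import Groth.Agent.Lib.Helper10.FibreProductStalk
import Groth.Agent.Lib.Helper26.GenericAffine
import Groth.Agent.Lib.Helper29.QCohPullback

/-!
# Quasi-flat base change and irreducible components (EGA IV 2.3.7) (helper6)
-/

set_option autoImplicit false
set_option linter.style.haveILetI false
set_option linter.unusedSectionVars false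
universe u

open CategoryTheory CategoryTheory.Limits AlgebraicGeometry TopologicalSpace Opposite
open Groth.Agent.Lib.Helper6.SuppMax Groth.Agent.Lib.Helper26

namespace Groth.Agent.Lib.Helper6.QFlat

section Top

variable {W : Type*} [TopologicalSpace W]

/-- the closure of a maximal point of a quasi-sober space is an irreducible component -/
theorem closure_mem_irreducibleComponents_of_maximal [QuasiSober W] (η : W)
    (h : ∀ w : W, w ⤳ η → w = η) : closure ({η} : Set W) ∈ irreducibleComponents W := by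
  obtain ⟨ζ, hζ⟩ := QuasiSober.sober (isIrreducible_irreducibleComponent (x := η))
    (isClosed_irreducibleComponent (x := η))
  have h1 : ζ ⤳ η := by
    rw [specializes_iff_mem_closure, hζ.def]
    exact mem_irreducibleComponent
  have h2 := h ζ h1
  rw [← h2, hζ.def]
  exact irreducibleComponent_mem_irreducibleComponents η

end Top

variable {X Y Y' : Scheme.{u}}

theorem flat_SpecMap_residueFieldMap (f : X ⟶ Y) (x : X) :
    Flat (Spec.map (f.residueFieldMap x)) := by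
  rw [Flat.SpecMap_iff]
  letI := (f.residueFieldMap x).hom.toAlgebra
  change Module.Flat (Y.residueField (f x)) (X.residueField x)
  infer_instance

/-- generisations inside the fibre of `g` over `f x` lift along `X ×_Y Y' → Y'` at points
over `x` -/
theorem exists_generization_snd (f : X ⟶ Y) (g : Y' ⟶ Y) (ξ : ↥(pullback f g)) (y₁ : Y')
    (h₁ : y₁ ⤳ pullback.snd f g ξ) (h₂ : g y₁ = f (pullback.fst f g ξ)) :
    ∃ z : ↥(pullback f g), z ⤳ ξ ∧ pullback.snd f g z = y₁ := by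
  obtain ⟨x, hx⟩ : ∃ x : X, x = pullback.fst f g ξ := ⟨_, rfl⟩
  obtain ⟨i, hi⟩ : ∃ i : Spec (Y.residueField (f x)) ⟶ Y, i = Y.fromSpecResidueField (f x) :=
    ⟨_, rfl⟩
  obtain ⟨a, hadef⟩ : ∃ a : Spec (X.residueField x) ⟶ Spec (Y.residueField (f x)),
      a = Spec.map (f.residueFieldMap x) := ⟨_, rfl⟩
  haveI hafl : Flat a := by rw [hadef]; exact flat_SpecMap_residueFieldMap f x
  haveI hipre : IsPreimmersion i := by rw [hi]; infer_instance
  have ha : a ≫ i = X.fromSpecResidueField x ≫ f := by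
    rw [hadef, hi]
    exact Scheme.Hom.SpecMap_residueFieldMap_fromSpecResidueField f x
  -- the maps
  obtain ⟨p₁, hp₁⟩ : ∃ p₁ : pullback i g ⟶ Spec (Y.residueField (f x)),
      p₁ = pullback.fst i g := ⟨_, rfl⟩
  obtain ⟨p₂, hp₂⟩ : ∃ p₂ : pullback i g ⟶ Y', p₂ = pullback.snd i g := ⟨_, rfl⟩
  haveI hp₂pre : IsPreimmersion p₂ := by rw [hp₂]; infer_instance
  have hpc : p₁ ≫ i = p₂ ≫ g := by rw [hp₁, hp₂]; exact pullback.condition
  obtain ⟨q₁, hq₁⟩ : ∃ q₁ : pullback a p₁ ⟶ Spec (X.residueField x),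
      q₁ = pullback.fst a p₁ := ⟨_, rfl⟩
  obtain ⟨q₂, hq₂⟩ : ∃ q₂ : pullback a p₁ ⟶ pullback i g, q₂ = pullback.snd a p₁ := ⟨_, rfl⟩
  haveI hq₂fl : Flat q₂ := by rw [hq₂]; infer_instance
  have hqc : q₁ ≫ a = q₂ ≫ p₁ := by rw [hq₁, hq₂]; exact pullback.condition
  have hcond : (q₁ ≫ X.fromSpecResidueField x) ≫ f = (q₂ ≫ p₂) ≫ g := by
    rw [Category.assoc, ← ha, ← Category.assoc, hqc, Category.assoc, hpc, Category.assoc]
  obtain ⟨ρ, hρ⟩ : ∃ ρ : pullback a p₁ ⟶ pullback f g,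
      ρ = pullback.lift (q₁ ≫ X.fromSpecResidueField x) (q₂ ≫ p₂) hcond := ⟨_, rfl⟩
  have hρ₁ : ρ ≫ pullback.fst f g = q₁ ≫ X.fromSpecResidueField x := by
    rw [hρ]; exact pullback.lift_fst _ _ _
  have hρ₂ : ρ ≫ pullback.snd f g = q₂ ≫ p₂ := by
    rw [hρ]; exact pullback.lift_snd _ _ _
  -- `ξ` is in the range of `ρ`
  obtain ⟨ζ, hζ⟩ : ∃ ζ : ↥(pullback a p₁), ρ ζ = ξ := by
    subst hx
    obtain ⟨u, hu⟩ : ∃ u : Spec ((pullback f g).residueField ξ) ⟶ pullback f g,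
        u = (pullback f g).fromSpecResidueField ξ := ⟨_, rfl⟩
    obtain ⟨α, hα⟩ : ∃ α : Spec ((pullback f g).residueField ξ) ⟶
        Spec (X.residueField (pullback.fst f g ξ)),
        α = Spec.map ((pullback.fst f g).residueFieldMap ξ) := ⟨_, rfl⟩
    have hαu : α ≫ X.fromSpecResidueField (pullback.fst f g ξ) = u ≫ pullback.fst f g := by
      rw [hα, hu]
      exact Scheme.Hom.SpecMap_residueFieldMap_fromSpecResidueField (pullback.fst f g) ξ
    have hβc : (α ≫ a) ≫ i = (u ≫ pullback.snd f g) ≫ g := by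
      rw [Category.assoc, ha, ← Category.assoc, hαu, Category.assoc, Category.assoc,
        pullback.condition]
    obtain ⟨β, hβ⟩ : ∃ β : Spec ((pullback f g).residueField ξ) ⟶ pullback i g,
        β = pullback.lift (α ≫ a) (u ≫ pullback.snd f g) hβc := ⟨_, rfl⟩
    have hβ₁ : β ≫ p₁ = α ≫ a := by rw [hβ, hp₁]; exact pullback.lift_fst _ _ _
    have hβ₂ : β ≫ p₂ = u ≫ pullback.snd f g := by rw [hβ, hp₂]; exact pullback.lift_snd _ _ _
    obtain ⟨ℓ, hℓ⟩ : ∃ ℓ : Spec ((pullback f g).residueField ξ) ⟶ pullback a p₁,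
        ℓ = pullback.lift α β hβ₁.symm := ⟨_, rfl⟩
    have hℓ₁ : ℓ ≫ q₁ = α := by rw [hℓ, hq₁]; exact pullback.lift_fst _ _ _
    have hℓ₂ : ℓ ≫ q₂ = β := by rw [hℓ, hq₂]; exact pullback.lift_snd _ _ _
    have hℓρ : ℓ ≫ ρ = u := by
      apply pullback.hom_ext
      · rw [Category.assoc, hρ₁, ← Category.assoc, hℓ₁, hαu]
      · rw [Category.assoc, hρ₂, ← Category.assoc, hℓ₂, hβ₂]
    refine ⟨ℓ default, ?_⟩
    rw [← Scheme.Hom.comp_apply, hℓρ, hu, Scheme.fromSpecResidueField_apply]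
  -- `y₁` is in the range of `p₂`
  have hy₁r : y₁ ∈ Set.range p₂ := by
    rw [hp₂, Scheme.Pullback.range_snd, Set.mem_preimage, hi,
      Scheme.range_fromSpecResidueField, Set.mem_singleton_iff, h₂, hx]
  obtain ⟨γ₁, hγ₁⟩ := hy₁r
  have hsnd : p₂ (q₂ ζ) = pullback.snd f g ξ := by
    rw [← hζ, ← Scheme.Hom.comp_apply, ← Scheme.Hom.comp_apply, hρ₂]
  have hγsp : γ₁ ⤳ q₂ ζ := by
    rw [← p₂.isEmbedding.isInducing.specializes_iff, hγ₁, hsnd]
    exact h₁
  obtain ⟨ζ₁, hζ₁sp, hζ₁⟩ := (Flat.generalizingMap q₂) hγsp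
  refine ⟨ρ ζ₁, ?_, ?_⟩
  · rw [← hζ]
    exact hζ₁sp.map ρ.continuous
  · rw [← Scheme.Hom.comp_apply, hρ₂, Scheme.Hom.comp_apply, hζ₁, hγ₁]

end Groth.Agent.Lib.Helper6.QFlat
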