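import Mathlib
import Groth.Prelude.Def_FDesc
import Groth.Prelude.Def_CohB1
import Groth.Prelude.Def_FlatMod2
import Groth.Agent.Lib.Helper6.QFlat1

/-!
# Quasi-flat base change and irreducible components (EGA IV 2.3.7 (ii)) (helper6)
-/

set_option autoImplicit false
set_option linter.style.haveILetI false
set_option linter.unusedSectionVars false
universe u

open CategoryTheory CategoryTheory.Limits AlgebraicGeometry TopologicalSpace Opposite
open Groth.Agent.Lib.Helper6.SuppMax Groth.Agent.Lib.Helper26

namespace Groth.Agent.Lib.Helper6.QFlat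

variable {X Y Y' : Scheme.{u}}

theorem closure_image_snd_mem_irreducibleComponents (f : X ⟶ Y) (g : Y' ⟶ Y)
    (hf : ∀ Z ∈ irreducibleComponents ↥X, closure (⇑f '' Z) ∈ irreducibleComponents ↥Y)
    (M : Y'.Modules) [M.IsQuasicoherent] [M.IsFiniteType] (hMfl : FlatMod.IsFlatOver g M)
    (hMnt : ∀ x : Y', Nontrivial (M.presheaf.stalk x))
    (Z' : Set ↥(pullback f g)) (hZ' : Z' ∈ irreducibleComponents ↥(pullback f g)) :
    closure (⇑(pullback.snd f g) '' Z') ∈ irreducibleComponents ↥Y' := by
  obtain ⟨ξ, hξ⟩ := QuasiSober.sober hZ'.1 (isClosed_of_mem_irreducibleComponents Z' hZ')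
  have hξmax : ∀ z : ↥(pullback f g), z ⤳ ξ → z = ξ :=
    GenericAffine.eq_of_specializes_of_mem_irreducibleComponents (by rw [hξ.def]; exact hZ')
  have himg := hξ.image (pullback.snd f g).continuous
  rw [← himg.def]
  apply closure_mem_irreducibleComponents_of_maximal
  -- the image of `ξ` in `X` is a maximal point
  have hc : IsPullback (pullback.snd f g) (pullback.fst f g) g f :=
    (IsPullback.of_hasPullback f g).flip
  have hfl : FlatMod.IsFlatOverAt (pullback.fst f g)
      ((Scheme.Modules.pullback (pullback.snd f g)).obj M) ξ :=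
    Groth.Agent.Lib.Helper10.FibreProductStalk.isFlatOverAt_baseChange ξ M hc (hMfl _)
  have hsupp : ξ ∈ CohB1.support ((Scheme.Modules.pullback (pullback.snd f g)).obj M) := by
    rw [mem_support_pullback_iff]
    exact not_subsingleton_iff_nontrivial.mpr (hMnt _)
  have hxmax : ∀ x₁ : X, x₁ ⤳ pullback.fst f g ξ → x₁ = pullback.fst f g ξ := by
    intro x₁ hx₁
    obtain ⟨z, hz, hfz, -⟩ := exists_generization_of_flat (pullback.fst f g)
      ((Scheme.Modules.pullback (pullback.snd f g)).obj M) ξ hsupp hfl x₁ hx₁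
    rw [← hfz, hξmax z hz]
  -- hence its image in `Y` is a maximal point
  have hcomp := hf _ (closure_mem_irreducibleComponents_of_maximal _ hxmax)
  have hgen : IsGenericPoint (pullback.fst f g ξ) (closure {pullback.fst f g ξ}) := rfl
  have hgen' := hgen.image f.continuous
  have hymax : ∀ y₁ : Y, y₁ ⤳ f (pullback.fst f g ξ) → y₁ = f (pullback.fst f g ξ) :=
    GenericAffine.eq_of_specializes_of_mem_irreducibleComponents
      (by rw [hgen'.def]; exact hcomp)
  -- conclusion
  intro y₁ hy₁
  have hcomm : g (pullback.snd f g ξ) = f (pullback.fst f g ξ) := by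
    rw [← Scheme.Hom.comp_apply, ← Scheme.Hom.comp_apply, pullback.condition]
  have h2 : g y₁ = f (pullback.fst f g ξ) := by
    apply hymax
    rw [← hcomm]
    exact hy₁.map g.continuous
  obtain ⟨z, hz, hsz⟩ := exists_generization_snd f g ξ y₁ hy₁ h2
  rw [← hsz, hξmax z hz]

end Groth.Agent.Lib.Helper6.QFlat
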