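import Mathlib

/-!
# Finite free multisections of affine space: `A[T_σ]/(g_i(T_i))` for monic `g_i`
-/

set_option autoImplicit false
set_option linter.style.haveILetI false
universe u

open scoped TensorProduct

namespace Groth.Agent.Lib.Helper6.QSec

noncomputable section

variable (A : Type u) [CommRing A] (σ : Type u) [Finite σ] (g : σ → Polynomial A)

/-- the tensor product of the rings `A[X]/(g_i)` -/
abbrev Q : Type u := PiTensorProduct A (fun i : σ => AdjoinRoot (g i))

open Classical in
/-- the canonical map `A[T_σ] → ⨂ A[X]/(g_i)` -/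
def phiQ : MvPolynomial σ A →ₐ[A] Q A σ g :=
  MvPolynomial.aeval (fun i => PiTensorProduct.singleAlgHom (R := A)
    (A := fun i : σ => AdjoinRoot (g i)) i (AdjoinRoot.root (g i)))

/-- the ideal generated by the `g_i(T_i)` -/
def idealI : Ideal (MvPolynomial σ A) :=
  Ideal.span (Set.range fun i : σ => Polynomial.aeval (MvPolynomial.X i : MvPolynomial σ A) (g i))

variable {A σ g}

theorem module_free (hg : ∀ i, (g i).Monic) : Module.Free A (Q A σ g) :=
  Module.Free.of_basis (Basis.piTensorProduct (fun i => (AdjoinRoot.powerBasis' (hg i)).basis))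

theorem module_finite (hg : ∀ i, (g i).Monic) : Module.Finite A (Q A σ g) := by
  haveI : ∀ i, Module.Finite A (AdjoinRoot (g i)) := fun i => (hg i).finite_adjoinRoot
  infer_instance

open Classical in
theorem phiQ_X (i : σ) : phiQ A σ g (MvPolynomial.X i) =
    PiTensorProduct.singleAlgHom (R := A) (A := fun i : σ => AdjoinRoot (g i)) i
      (AdjoinRoot.root (g i)) := by
  simp [phiQ]

theorem idealI_le_ker : idealI A σ g ≤ RingHom.ker (phiQ A σ g) := by
  classical
  rw [idealI, Ideal.span_le]
  rintro _ ⟨i, rfl⟩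
  rw [SetLike.mem_coe, RingHom.mem_ker]
  have h1 : phiQ A σ g (Polynomial.aeval (MvPolynomial.X i : MvPolynomial σ A) (g i)) =
      Polynomial.aeval (phiQ A σ g (MvPolynomial.X i)) (g i) :=
    (Polynomial.aeval_algHom_apply (phiQ A σ g) _ _).symm
  change phiQ A σ g _ = 0
  rw [h1, phiQ_X, Polynomial.aeval_algHom_apply, AdjoinRoot.aeval_eq, AdjoinRoot.mk_self, map_zero]

/-- the component maps of the inverse -/
def psiI (i : σ) : AdjoinRoot (g i) →ₐ[A] (MvPolynomial σ A ⧸ idealI A σ g) :=
  AdjoinRoot.liftAlgHom (g i) (Algebra.ofId A _)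
    (Ideal.Quotient.mk (idealI A σ g) (MvPolynomial.X i)) (by
      have : Polynomial.eval₂ (Algebra.ofId A (MvPolynomial σ A ⧸ idealI A σ g))
          (Ideal.Quotient.mk (idealI A σ g) (MvPolynomial.X i)) (g i) =
          Ideal.Quotient.mk (idealI A σ g)
            (Polynomial.aeval (MvPolynomial.X i : MvPolynomial σ A) (g i)) := by
        rw [Polynomial.aeval_def, Polynomial.hom_eval₂]
        rfl
      rw [this, Ideal.Quotient.eq_zero_iff_mem]
      exact Ideal.subset_span ⟨i, rfl⟩)

/-- the inverse map `⨂ A[X]/(g_i) → A[T_σ]/I` -/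
def psi : Q A σ g →ₐ[A] (MvPolynomial σ A ⧸ idealI A σ g) :=
  haveI : Fintype σ := Fintype.ofFinite σ
  PiTensorProduct.liftAlgHom
    ((MultilinearMap.mkPiAlgebra A σ (MvPolynomial σ A ⧸ idealI A σ g)).compLinearMap
      (fun i => (psiI (A := A) (σ := σ) (g := g) i).toLinearMap))
    (by simp) (by
      intro x y
      simp [Finset.prod_mul_distrib])

open Classical in
theorem psi_single (i : σ) (a : AdjoinRoot (g i)) :
    psi (A := A) (σ := σ) (g := g) (PiTensorProduct.singleAlgHom (R := A)
      (A := fun i : σ => AdjoinRoot (g i)) i a) = psiI i a := by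
  letI : Fintype σ := Fintype.ofFinite σ
  simp only [psi, PiTensorProduct.singleAlgHom_apply, PiTensorProduct.liftAlgHom_apply,
    PiTensorProduct.lift.tprod, MultilinearMap.compLinearMap_apply,
    MultilinearMap.mkPiAlgebra_apply, AlgHom.toLinearMap_apply]
  rw [Finset.prod_eq_single i]
  · simp
  · intro j _ hji
    simp [MonoidHom.mulSingle_apply, Pi.mulSingle_eq_of_ne hji]
  · intro h
    exact absurd (Finset.mem_univ i) h

theorem psi_comp_phiQ : (psi (A := A) (σ := σ) (g := g)).comp (phiQ A σ g) =
    Ideal.Quotient.mkₐ A (idealI A σ g) := by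
  classical
  refine MvPolynomial.algHom_ext fun i => ?_
  rw [AlgHom.comp_apply, phiQ_X, psi_single]
  simp [psiI]

theorem ker_phiQ : RingHom.ker (phiQ A σ g) = idealI A σ g := by
  refine le_antisymm (fun x hx => ?_) idealI_le_ker
  rw [RingHom.mem_ker] at hx
  have h1 := congrArg (fun f => f x) (psi_comp_phiQ (A := A) (σ := σ) (g := g))
  simp only [AlgHom.comp_apply] at h1
  rw [hx, map_zero] at h1
  exact Ideal.Quotient.eq_zero_iff_mem.mp h1.symm

theorem phiQ_surjective : Function.Surjective (phiQ A σ g) := by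
  classical
  -- the induced map on the quotient is a left inverse of `psi`
  let φ' : (MvPolynomial σ A ⧸ idealI A σ g) →ₐ[A] Q A σ g :=
    Ideal.Quotient.liftₐ (idealI A σ g) (phiQ A σ g) (fun x hx => idealI_le_ker hx)
  have hid : φ'.comp (psi (A := A) (σ := σ) (g := g)) = AlgHom.id A _ := by
    refine PiTensorProduct.algHom_ext fun i => ?_
    refine AdjoinRoot.algHom_ext ?_
    simp only [AlgHom.comp_apply, AlgHom.id_apply]
    rw [psi_single]
    simp only [psiI, AdjoinRoot.liftAlgHom_root]
    change phiQ A σ g (MvPolynomial.X i) = _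
    rw [phiQ_X]
  intro q
  have h1 := congrArg (fun f => f q) hid
  simp only [AlgHom.comp_apply, AlgHom.id_apply] at h1
  obtain ⟨t, ht⟩ := Ideal.Quotient.mk_surjective (psi (A := A) (σ := σ) (g := g) q)
  refine ⟨t, ?_⟩
  rw [← h1, ← ht]
  rfl

end

end Groth.Agent.Lib.Helper6.QSec
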