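import Mathlib
import Groth.Agent.Lib.Helper6.QSec1
import Groth.Agent.Lib.Helper6.UnivHomeoRF
import Groth.Agent.Lib.Helper6.QFac5

/-!
# Multisections, ring level II: algebraic points of affine space lie on a finite free multisection
-/

set_option autoImplicit false
set_option linter.style.haveILetI false
universe u
open AlgebraicGeometry CategoryTheory

namespace Groth.Agent.Lib.Helper6.QSec

open Groth.Agent.Lib.Helper6.UnivHomeoRing Groth.Agent.Lib.Helper6.QFac

/-- **Bridge**: a point of `Spec C` of residue transcendence degree zero over `Spec A` has all its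
coordinates algebraic, with leading coefficient outside the prime. -/
theorem exists_polynomial_of_rtd_eq_zero {A C : CommRingCat.{u}} (φ : A ⟶ C) (x : Spec C)
    (hrtd : rtd (Spec.map φ) x = 0) (c₀ : C) :
    ∃ G : Polynomial A, G.leadingCoeff ∉ (Spec.map φ x).asIdeal ∧
      Polynomial.eval₂ φ.hom c₀ G ∈ x.asIdeal := by
  set y := Spec.map φ x with hy
  let K := (Spec A).residueField y
  let L := (Spec C).residueField x
  let D := A ⧸ y.asIdeal
  letI aKL : Algebra K L := ((Spec.map φ).residueFieldMap x).hom.toAlgebra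
  have hKL : Algebra.IsAlgebraic K L := trdeg_eq_zero_iff.mp hrtd
  let evD : D →+* K := Ideal.Quotient.lift y.asIdeal (ev A y)
    (fun a ha => (ev_eq_zero_iff A y a).mpr ha)
  letI aDK : Algebra D K := evD.toAlgebra
  letI aDL : Algebra D L := ((algebraMap K L).comp evD).toAlgebra
  haveI : IsScalarTower D K L := IsScalarTower.of_algebraMap_eq fun _ => rfl
  have hevD_inj : Function.Injective evD := by
    rw [injective_iff_map_eq_zero]
    intro a ha
    obtain ⟨a, rfl⟩ := Ideal.Quotient.mk_surjective a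
    exact Ideal.Quotient.eq_zero_iff_mem.mpr ((ev_eq_zero_iff A y a).mp ha)
  have hDK : Algebra.IsAlgebraic D K := by
    refine ⟨fun z => ?_⟩
    obtain ⟨d, hd, c, hdc⟩ := exists_ev_mul_eq A y z
    refine ⟨Polynomial.C (Ideal.Quotient.mk y.asIdeal d) * Polynomial.X -
      Polynomial.C (Ideal.Quotient.mk y.asIdeal c), ?_, ?_⟩
    · intro h0
      have := congrArg (fun p => Polynomial.coeff p 1) h0
      simp only [Polynomial.coeff_sub, Polynomial.coeff_C_mul, Polynomial.coeff_X_one, mul_one,
        Polynomial.coeff_C_succ, sub_zero, Polynomial.coeff_zero] at this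
      exact hd (Ideal.Quotient.eq_zero_iff_mem.mp this)
    · simp only [map_sub, map_mul, Polynomial.aeval_C, Polynomial.aeval_X]
      change ev A y d * z - ev A y c = 0
      rw [mul_comm, hdc, sub_self]
  have hDL : Algebra.IsAlgebraic D L := Algebra.IsAlgebraic.trans D K L
  obtain ⟨G₀, hG₀, hG₀t⟩ := hDL.isAlgebraic (ev C x c₀)
  obtain ⟨G, hG, hGdeg⟩ := Polynomial.exists_degree_eq_of_mem_lifts
    ((Polynomial.mem_lifts G₀).mpr
      (Polynomial.map_surjective _ Ideal.Quotient.mk_surjective G₀))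
  refine ⟨G, ?_, ?_⟩
  · intro hmem
    have h1 : G₀.leadingCoeff = 0 := by
      rw [← hG, Polynomial.leadingCoeff, Polynomial.coeff_map,
        Polynomial.natDegree_eq_of_degree_eq (hG ▸ hGdeg.symm ▸ rfl : (G.map _).degree = G.degree)]
      exact Ideal.Quotient.eq_zero_iff_mem.mpr hmem
    exact hG₀ (Polynomial.leadingCoeff_eq_zero.mp h1)
  · have hcomp : (ev C x).comp φ.hom = (algebraMap D L).comp (Ideal.Quotient.mk y.asIdeal) := by
      ext a
      exact (residueFieldMap_ev φ x a).symm
    rw [← ev_eq_zero_iff, Polynomial.hom_eval₂, hcomp]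
    rw [← hG, Polynomial.aeval_def, Polynomial.eval₂_map] at hG₀t
    exact hG₀t

/-- **Ring-level multisection**: a prime of `A₀[T_σ]` all of whose coordinates are algebraic over
the base lies, after inverting one element of the base outside the prime, on a finite free
multisection `A₁[T_σ]/(g_i(T_i))`. -/
theorem exists_multisection_ring (A₀ : Type u) [CommRing A₀] (σ : Type u) [Finite σ]
    (P₀ : Ideal (MvPolynomial σ A₀)) [hP₀ : P₀.IsPrime]
    (halg : ∀ i : σ, ∃ G : Polynomial A₀, G.leadingCoeff ∉ P₀.comap MvPolynomial.C ∧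
      Polynomial.eval₂ MvPolynomial.C (MvPolynomial.X i : MvPolynomial σ A₀) G ∈ P₀) :
    ∃ (c : A₀) (_ : c ∉ P₀.comap MvPolynomial.C) (g : σ → Polynomial (Localization.Away c))
      (_ : ∀ i, (g i).Monic) (𝔮 : Ideal (Q (Localization.Away c) σ g)), 𝔮.IsPrime ∧
      𝔮.comap ((phiQ (Localization.Away c) σ g).toRingHom.comp
        (MvPolynomial.map (algebraMap A₀ (Localization.Away c)))) = P₀ := by
  classical
  letI : Fintype σ := Fintype.ofFinite σ
  choose G hGlc hGmem using halg
  haveI hp₀ : (P₀.comap (MvPolynomial.C : A₀ →+* MvPolynomial σ A₀)).IsPrime := Ideal.comap_isPrime _ _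
  let c : A₀ := ∏ i, (G i).leadingCoeff
  have hc : c ∉ P₀.comap (MvPolynomial.C : A₀ →+* MvPolynomial σ A₀) := by
    intro hmem
    obtain ⟨i, -, hi⟩ := (Ideal.IsPrime.prod_mem_iff).mp hmem
    exact hGlc i hi
  let A₁ := Localization.Away c
  let D := MvPolynomial σ A₀ ⧸ P₀
  let F := FractionRing D
  let ev₀ : MvPolynomial σ A₀ →+* F := (algebraMap D F).comp (Ideal.Quotient.mk P₀)
  have hker₀ : RingHom.ker ev₀ = P₀ := by
    ext t
    rw [RingHom.mem_ker]
    change algebraMap D F (Ideal.Quotient.mk P₀ t) = 0 ↔ _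
    rw [map_eq_zero_iff _ (IsFractionRing.injective D F), Ideal.Quotient.eq_zero_iff_mem]
  have hcu : IsUnit ((ev₀.comp MvPolynomial.C) c) := by
    rw [isUnit_iff_ne_zero]
    intro h0
    apply hc
    rw [Ideal.mem_comap, ← hker₀, RingHom.mem_ker]
    exact h0
  let lam : A₁ →+* F := IsLocalization.Away.lift c hcu
  have hlam : ∀ a : A₀, lam (algebraMap A₀ A₁ a) = ev₀ (MvPolynomial.C a) := fun a =>
    IsLocalization.Away.lift_eq c hcu a
  haveI : Nontrivial A₁ := RingHom.domain_nontrivial lam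
  have hu : ∀ i, IsUnit (algebraMap A₀ A₁ (G i).leadingCoeff) := by
    intro i
    refine isUnit_of_dvd_unit (map_dvd (algebraMap A₀ A₁)
      (Finset.dvd_prod_of_mem (fun i => (G i).leadingCoeff) (Finset.mem_univ i))) ?_
    exact IsLocalization.Away.algebraMap_isUnit c
  let g : σ → Polynomial A₁ := fun i =>
    Polynomial.C (((hu i).unit⁻¹ : A₁ˣ) : A₁) * (G i).map (algebraMap A₀ A₁)
  have hg : ∀ i, (g i).Monic := by
    intro i
    refine Polynomial.monic_C_mul_of_mul_leadingCoeff_eq_one ?_
    rw [Polynomial.leadingCoeff_map_of_leadingCoeff_ne_zero _ (hu i).ne_zero]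
    exact (hu i).val_inv_mul
  let ev₁ : MvPolynomial σ A₁ →+* F := MvPolynomial.eval₂Hom lam (fun i => ev₀ (MvPolynomial.X i))
  have h01 : ev₁.comp (MvPolynomial.map (algebraMap A₀ A₁)) = ev₀ := by
    refine MvPolynomial.ringHom_ext (fun a => ?_) (fun i => ?_)
    · simp only [RingHom.comp_apply, MvPolynomial.map_C, ev₁, MvPolynomial.coe_eval₂Hom,
        MvPolynomial.eval₂_C]
      exact hlam a
    · simp only [RingHom.comp_apply, MvPolynomial.map_X, ev₁, MvPolynomial.coe_eval₂Hom,
        MvPolynomial.eval₂_X]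
  have hI : idealI A₁ σ g ≤ RingHom.ker ev₁ := by
    rw [idealI, Ideal.span_le]
    rintro _ ⟨i, rfl⟩
    rw [SetLike.mem_coe, RingHom.mem_ker]
    change ev₁ (Polynomial.aeval (MvPolynomial.X i : MvPolynomial σ A₁) (g i)) = 0
    rw [Polynomial.aeval_def, Polynomial.hom_eval₂]
    have e1 : ev₁.comp (algebraMap A₁ (MvPolynomial σ A₁)) = lam := by
      ext a
      simp [ev₁, MvPolynomial.algebraMap_eq]
    have e2 : ev₁ (MvPolynomial.X i) = ev₀ (MvPolynomial.X i) := by
      simp [ev₁]
    rw [e1, e2]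
    simp only [g, Polynomial.eval₂_mul, Polynomial.eval₂_C, Polynomial.eval₂_map]
    have e3 : lam.comp (algebraMap A₀ A₁) = ev₀.comp MvPolynomial.C := by
      ext a
      exact hlam a
    rw [e3, ← Polynomial.hom_eval₂]
    have : ev₀ (Polynomial.eval₂ MvPolynomial.C (MvPolynomial.X i) (G i)) = 0 := by
      rw [← RingHom.mem_ker, hker₀]
      exact hGmem i
    rw [this, mul_zero]
  have hsurj : Function.Surjective (phiQ A₁ σ g).toRingHom := phiQ_surjective
  have hkerφ : RingHom.ker (phiQ A₁ σ g).toRingHom ≤ RingHom.ker ev₁ := by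
    have : RingHom.ker (phiQ A₁ σ g).toRingHom = idealI A₁ σ g := ker_phiQ
    rw [this]
    exact hI
  haveI : (RingHom.ker ev₁).IsPrime := RingHom.ker_isPrime ev₁
  refine ⟨c, hc, g, hg, (RingHom.ker ev₁).map (phiQ A₁ σ g).toRingHom,
    Ideal.map_isPrime_of_surjective hsurj hkerφ, ?_⟩
  rw [← Ideal.comap_comap, Ideal.comap_map_of_surjective _ hsurj, ← RingHom.ker_eq_comap_bot,
    sup_eq_left.mpr hkerφ, RingHom.comap_ker, h01, hker₀]

end Groth.Agent.Lib.Helper6.QSec
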