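import Mathlib
import Groth.Agent.Lib.Helper6.QSec2
import Groth.Agent.Lib.Helper6.ClPt2

/-!
# Finite flat multisections of affine space through a point algebraic over the base
-/

set_option autoImplicit false
set_option linter.style.haveILetI false
universe u
open AlgebraicGeometry CategoryTheory Limits

namespace Groth.Agent.Lib.Helper6.QSec

open Groth.Agent.Lib.Helper6.QFac Groth.Agent.Lib.Helper6.ClPt

attribute [local instance] MvPolynomial.algebraMvPolynomial in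
theorem surjectiveOnStalks_map_away (A₀ : Type u) [CommRing A₀] (σ : Type u) (c : A₀) :
    (MvPolynomial.map (σ := σ) (algebraMap A₀ (Localization.Away c))).SurjectiveOnStalks := by
  have h := RingHom.surjectiveOnStalks_of_isLocalization (R := MvPolynomial σ A₀)
      ((Submonoid.powers c).map (MvPolynomial.C (σ := σ))) (MvPolynomial σ (Localization.Away c))
  exact h

open AffineSpace in
/-- **Multisection**: through a point of `𝔸ⁿ_S` whose residue field is algebraic over that of its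
image there passes a subscheme which is locally quasi-finite, flat and locally of finite
presentation over `S`. -/
theorem exists_multisection {S : Scheme.{u}} (σ : Type u) [Finite σ] (a : 𝔸(σ; S))
    (hrtd : rtd (𝔸(σ; S) ↘ S) a = 0) :
    ∃ (T₁ : Scheme.{u}) (j₁ : T₁ ⟶ 𝔸(σ; S)), SurjectiveOnStalks j₁ ∧ a ∈ Set.range j₁ ∧
      Flat (j₁ ≫ (𝔸(σ; S) ↘ S)) ∧ LocallyOfFinitePresentation (j₁ ≫ (𝔸(σ; S) ↘ S)) ∧
      LocallyQuasiFinite (j₁ ≫ (𝔸(σ; S) ↘ S)) := by
  obtain ⟨_, ⟨S₀, hS₀ : IsAffineOpen S₀, rfl⟩, hsS₀, -⟩ :=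
    S.isBasis_affineOpens.exists_subset_of_mem_open (Set.mem_univ ((𝔸(σ; S) ↘ S) a)) isOpen_univ
  let A₀ : CommRingCat.{u} := Γ(S, S₀)
  let m₀ : 𝔸(σ; Spec A₀) ⟶ 𝔸(σ; S) := AffineSpace.map σ hS₀.fromSpec
  have sq : IsPullback m₀ (𝔸(σ; Spec A₀) ↘ Spec A₀) (𝔸(σ; S) ↘ S) hS₀.fromSpec :=
    AffineSpace.isPullback_map (n := σ) hS₀.fromSpec
  haveI : IsOpenImmersion m₀ :=
    MorphismProperty.of_isPullback (P := @IsOpenImmersion) sq.flip inferInstance
  -- the point over `a`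
  obtain ⟨a₀, ha₀⟩ : ∃ a₀ : 𝔸(σ; Spec A₀), m₀ a₀ = a := by
    obtain ⟨s₀, hs₀⟩ : (𝔸(σ; S) ↘ S) a ∈ Set.range hS₀.fromSpec := by
      rw [hS₀.range_fromSpec]; exact hsS₀
    obtain ⟨pt, hpt1, -⟩ := Scheme.Pullback.exists_preimage_pullback (f := 𝔸(σ; S) ↘ S)
      (g := hS₀.fromSpec) a s₀ hs₀.symm
    refine ⟨sq.isoPullback.inv pt, ?_⟩
    rw [← Scheme.Hom.comp_apply, IsPullback.isoPullback_inv_fst]
    exact hpt1
  let iso₀ := AffineSpace.SpecIso σ A₀
  let y₀ : Spec (CommRingCat.of (MvPolynomial σ A₀)) := iso₀.hom a₀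
  let Cc : A₀ ⟶ CommRingCat.of (MvPolynomial σ A₀) := CommRingCat.ofHom MvPolynomial.C
  have hC : Spec.map Cc = iso₀.inv ≫ (𝔸(σ; Spec A₀) ↘ Spec A₀) :=
    (AffineSpace.SpecIso_inv_over (n := σ) A₀).symm
  have hrtd₀ : rtd (𝔸(σ; Spec A₀) ↘ Spec A₀) a₀ = 0 := by
    have h1 := Groth.Agent.Lib.Helper6.EtaleSq.trdeg_residueField_etale_square (𝔸(σ; S) ↘ S)
      (𝔸(σ; Spec A₀) ↘ Spec A₀) m₀ hS₀.fromSpec (AffineSpace.map_over hS₀.fromSpec).symm a₀
    change rtd (𝔸(σ; S) ↘ S) (m₀ a₀) = rtd (𝔸(σ; Spec A₀) ↘ Spec A₀) a₀ at h1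
    rw [← h1, rtd_congr_pt _ ha₀]
    exact hrtd
  have hrtdy : rtd (Spec.map Cc) y₀ = 0 := by
    rw [rtd_congr_hom hC]
    refine rtd_comp_eq_zero _ _ _ (rtd_of_surjectiveOnStalks _ _) ?_
    have : iso₀.inv y₀ = a₀ := by
      change (iso₀.hom ≫ iso₀.inv) a₀ = a₀
      rw [Iso.hom_inv_id]
      rfl
    rw [rtd_congr_pt _ this]
    exact hrtd₀
  have halg : ∀ i : σ, ∃ G : Polynomial A₀,
      G.leadingCoeff ∉ (y₀.asIdeal).comap MvPolynomial.C ∧
      Polynomial.eval₂ MvPolynomial.C (MvPolynomial.X i : MvPolynomial σ A₀) G ∈ y₀.asIdeal :=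
    fun i => exists_polynomial_of_rtd_eq_zero Cc y₀ hrtdy (MvPolynomial.X i)
  haveI : y₀.asIdeal.IsPrime := y₀.2
  obtain ⟨c, hc, g, hg, 𝔮, h𝔮, h𝔮P⟩ := exists_multisection_ring A₀ σ y₀.asIdeal halg
  let A₁ := Localization.Away c
  let θ : MvPolynomial σ A₀ →+* Q A₁ σ g :=
    (phiQ A₁ σ g).toRingHom.comp (MvPolynomial.map (algebraMap A₀ A₁))
  have hθsos : θ.SurjectiveOnStalks := by
    exact (RingHom.surjectiveOnStalks_of_surjective phiQ_surjective).comp
      (surjectiveOnStalks_map_away A₀ σ c)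
  have hθC : θ.comp MvPolynomial.C = (algebraMap A₁ (Q A₁ σ g)).comp (algebraMap A₀ A₁) := by
    ext r
    simp only [θ, RingHom.comp_apply, MvPolynomial.map_C]
    exact (phiQ A₁ σ g).commutes (algebraMap A₀ A₁ r)
  let T₁ : Scheme.{u} := Spec (CommRingCat.of (Q A₁ σ g))
  let j₁ : T₁ ⟶ 𝔸(σ; S) := Spec.map (CommRingCat.ofHom θ) ≫ iso₀.inv ≫ m₀
  have hj₁over : j₁ ≫ (𝔸(σ; S) ↘ S) =
      Spec.map (CommRingCat.ofHom (algebraMap A₁ (Q A₁ σ g))) ≫
        Spec.map (CommRingCat.ofHom (algebraMap A₀ A₁)) ≫ hS₀.fromSpec := by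
    simp only [j₁, m₀, Category.assoc]
    rw [AffineSpace.map_over, ← Category.assoc iso₀.inv, ← hC, ← Spec.map_comp_assoc,
      ← Spec.map_comp_assoc]
    congr 2
    ext r
    exact congrArg (fun ψ => ψ r) hθC
  haveI hfree : Module.Free A₁ (Q A₁ σ g) := module_free hg
  haveI hfin : Module.Finite A₁ (Q A₁ σ g) := module_finite hg
  haveI : SurjectiveOnStalks (Spec.map (CommRingCat.ofHom θ)) :=
    (HasRingHomProperty.Spec_iff (P := @SurjectiveOnStalks)).mpr hθsos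
  have hflat : Flat (Spec.map (CommRingCat.ofHom (algebraMap A₁ (Q A₁ σ g)))) := by
    rw [HasRingHomProperty.Spec_iff (P := @Flat)]
    change (algebraMap A₁ (Q A₁ σ g)).Flat
    rw [RingHom.flat_algebraMap_iff]
    infer_instance
  have hfinite : IsFinite (Spec.map (CommRingCat.ofHom (algebraMap A₁ (Q A₁ σ g)))) := by
    rw [IsFinite.SpecMap_iff]
    change (algebraMap A₁ (Q A₁ σ g)).Finite
    rw [RingHom.finite_algebraMap]
    infer_instance
  have hlfp : LocallyOfFinitePresentation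
      (Spec.map (CommRingCat.ofHom (algebraMap A₁ (Q A₁ σ g)))) := by
    rw [HasRingHomProperty.Spec_iff (P := @LocallyOfFinitePresentation)]
    change (algebraMap A₁ (Q A₁ σ g)).FinitePresentation
    rw [RingHom.finitePresentation_algebraMap]
    haveI : Module.FinitePresentation A₁ (Q A₁ σ g) := Module.finitePresentation_of_projective _ _
    infer_instance
  refine ⟨T₁, j₁, inferInstance, ?_, ?_, ?_, ?_⟩
  · refine ⟨(⟨𝔮, h𝔮⟩ : PrimeSpectrum (Q A₁ σ g)), ?_⟩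
    have h1 : Spec.map (CommRingCat.ofHom θ) (⟨𝔮, h𝔮⟩ : PrimeSpectrum (Q A₁ σ g)) = y₀ := by
      apply PrimeSpectrum.ext
      exact h𝔮P
    rw [← ha₀]
    change m₀ (iso₀.inv (Spec.map (CommRingCat.ofHom θ) _)) = _
    rw [h1]
    congr 1
    change (iso₀.hom ≫ iso₀.inv) a₀ = a₀
    rw [Iso.hom_inv_id]
    rfl
  · rw [hj₁over]
    infer_instance
  · rw [hj₁over]
    infer_instance
  · rw [hj₁over]
    infer_instance

end Groth.Agent.Lib.Helper6.QSec
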