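import Mathlib
import Groth.Agent.Lib.Helper6.QSec3
import Groth.Agent.Lib.Helper6.PUO15
import Groth.Agent.Lib.Helper6.PUO2
import Groth.Agent.Lib.Helper6.QFac4
import Groth.Agent.Lib.Helper14.LfpOfComp
import Groth.Agent.Lib.Helper21.EquiSub9

/-!
# Quasi-sections through a point (EGA IV 14.5.3)
-/

set_option autoImplicit false
set_option linter.style.haveILetI false
universe u
open AlgebraicGeometry CategoryTheory Limits

namespace Groth.Agent.Lib.Helper6.QSec

open Groth.Agent.Lib.Helper6.QFac Groth.Agent.Lib.Helper6.ClPt Groth.Agent.Lib.Helper14.UOA EGA43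
  Groth.Agent.Lib.Helper6.PUO

/-- precomposition with an open immersion preserves universal openness at a point -/
theorem isUnivOpenAt_openImmersion_comp {W X Y : Scheme.{u}} (ι : W ⟶ X) [IsOpenImmersion ι]
    (f : X ⟶ Y) (w : W) (h : IsUnivOpenAt f (ι w)) : IsUnivOpenAt (ι ≫ f) w := by
  intro Y' g x' hx'
  let e : pullback (ι ≫ f) g ⟶ pullback f g :=
    pullback.lift (pullback.fst (ι ≫ f) g ≫ ι) (pullback.snd (ι ≫ f) g)
      (by rw [Category.assoc, pullback.condition])
  have he1 : e ≫ pullback.fst f g = pullback.fst (ι ≫ f) g ≫ ι := pullback.lift_fst _ _ _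
  have he2 : e ≫ pullback.snd f g = pullback.snd (ι ≫ f) g := pullback.lift_snd _ _ _
  have sqbig : IsPullback (pullback.fst (ι ≫ f) g) (pullback.snd (ι ≫ f) g) (ι ≫ f) g :=
    IsPullback.of_hasPullback _ _
  have sqr : IsPullback (pullback.fst f g) (pullback.snd f g) f g := IsPullback.of_hasPullback _ _
  have sql : IsPullback e (pullback.fst (ι ≫ f) g) (pullback.fst f g) ι :=
    IsPullback.of_right (by rw [he2]; exact sqbig.flip) he1 sqr.flip
  haveI : IsOpenImmersion e :=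
    MorphismProperty.of_isPullback (P := @IsOpenImmersion) sql.flip inferInstance
  have h1 : IsOpenAt (pullback.snd f g).base (e x') := by
    refine h Y' g (e x') ?_
    rw [← Scheme.Hom.comp_apply, he1, Scheme.Hom.comp_apply, hx']
  have h2 : IsOpenAt e.base x' := isOpenAt_of_isOpenMap _ e.isOpenEmbedding.isOpenMap x'
  have h3 := isOpenAt_comp _ _ _ h2 h1
  rw [← comp_base_eq, he2] at h3
  exact h3

open AffineSpace in
/-- **EGA IV 14.5.3**: quasi-sections through a point closed in its fibre. -/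
theorem exists_quasiSection {X S : Scheme.{u}} (f : X ⟶ S) [LocallyOfFinitePresentation f]
    (x z : X) (hxcl : ∀ t : X, f t = f x → x ⤳ t → t = x)
    (hzx : z ⤳ x) (hfz : f z = f x) (hzmax : ∀ τ : X, τ ⤳ z → f τ = f z → τ = z)
    (N : ℕ) (hzN : rtd f z = N) (hFN : FlatMor.fibreDimAt f x = N) (hop : IsUnivOpenAt f z) :
    ∃ (X' : Scheme.{u}) (i : X' ⟶ X) (x' : X'), SurjectiveOnStalks i ∧ i x' = x ∧
      LocallyOfFinitePresentation (i ≫ f) ∧ LocallyQuasiFinite (i ≫ f) ∧
      IsUnivOpenAt (i ≫ f) x' := by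
  obtain ⟨U, k, hxU, -, hU, hk, hklqf⟩ :=
    exists_quasiFinite_affineSpace f x ⊤ trivial N hFN.le
  have hzU : z ∈ U := hzx.mem_open U.2 hxU
  let xU : ↥(U : Scheme.{u}) := ⟨x, hxU⟩
  let zU : ↥(U : Scheme.{u}) := ⟨z, hzU⟩
  haveI hklfp : LocallyOfFinitePresentation k := by
    refine Groth.Agent.Lib.Helper14.AS.locallyOfFinitePresentation_of_comp k
      (𝔸(ULift.{u} (Fin N); S) ↘ S) ?_ inferInstance
    rw [hk]
    infer_instance
  have hpt : ∀ t : ↥(U : Scheme.{u}), (k ≫ (𝔸(ULift.{u} (Fin N); S) ↘ S)) t = f t.1 := fun t => by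
    rw [hk]; rfl
  have hzxU : zU ⤳ xU := by
    rw [← U.ι.isOpenEmbedding.isInducing.specializes_iff]
    exact hzx
  have hcard : Nat.card (ULift.{u} (Fin N)) = N := by simp
  have hrtdz : rtd (k ≫ (𝔸(ULift.{u} (Fin N); S) ↘ S)) zU = (Nat.card (ULift.{u} (Fin N)) : ℕ) := by
    rw [hcard, rtd_congr_hom hk, ← rtd_comp, rtd_of_surjectiveOnStalks U.ι zU, add_zero]
    exact hzN
  have hopz : IsUnivOpenAt (k ≫ (𝔸(ULift.{u} (Fin N); S) ↘ S)) zU := by
    rw [hk]
    exact isUnivOpenAt_openImmersion_comp U.ι f zU hop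
  have hkop : IsUnivOpenAt k xU := by
    refine isUnivOpenAt_of_lqf_affineSpace (ULift.{u} (Fin N)) k xU zU hzxU ?_ ?_ hrtdz hopz
    · rw [hpt, hpt]
      exact hfz
    · intro τ hτ hfτ
      rw [hpt, hpt] at hfτ
      have h1 : τ.1 ⤳ z := by
        have := hτ.map U.ι.continuous
        exact this
      exact Subtype.ext (hzmax τ.1 h1 hfτ)
  -- the image point
  have hrtdx : rtd f x = (0 : ℕ) :=
    Groth.Agent.Lib.Helper21.EquiSub.trdeg_eq_zero_of_closed_in_fibre f x hxcl
  haveI : LocallyOfFiniteType k := inferInstance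
  have hrtda : rtd (𝔸(ULift.{u} (Fin N); S) ↘ S) (k xU) = 0 := by
    have := rtd_of_quasiFinite' f U.ι (𝔸(ULift.{u} (Fin N); S) ↘ S) k hk xU 0 hrtdx
    rw [this, Nat.cast_zero]
  obtain ⟨T₁, j₁, hj₁sos, ⟨a₁, ha₁⟩, hq₁flat, hq₁lfp, hq₁lqf⟩ :=
    exists_multisection (ULift.{u} (Fin N)) (k xU) hrtda
  haveI := hj₁sos
  haveI := hq₁flat
  haveI := hq₁lfp
  haveI := hq₁lqf
  obtain ⟨x', hx'1, hx'2⟩ := Scheme.Pullback.exists_preimage_pullback (f := k) (g := j₁) xU a₁
    ha₁.symm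
  have sq : IsPullback (pullback.fst k j₁) (pullback.snd k j₁) k j₁ := IsPullback.of_hasPullback _ _
  haveI : SurjectiveOnStalks (pullback.fst k j₁) :=
    MorphismProperty.pullback_fst (P := @SurjectiveOnStalks) _ _ inferInstance
  haveI : LocallyOfFinitePresentation (pullback.snd k j₁) :=
    MorphismProperty.pullback_snd (P := @LocallyOfFinitePresentation) _ _ inferInstance
  haveI : LocallyQuasiFinite (pullback.snd k j₁) :=
    MorphismProperty.pullback_snd (P := @LocallyQuasiFinite) _ _ inferInstance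
  have hcomm : (pullback.fst k j₁ ≫ U.ι) ≫ f =
      pullback.snd k j₁ ≫ (j₁ ≫ (𝔸(ULift.{u} (Fin N); S) ↘ S)) := by
    rw [Category.assoc, ← hk, ← Category.assoc, pullback.condition, Category.assoc]
  haveI : UniversallyOpen (j₁ ≫ (𝔸(ULift.{u} (Fin N); S) ↘ S)) := inferInstance
  refine ⟨pullback k j₁, pullback.fst k j₁ ≫ U.ι, x', inferInstance, ?_, ?_, ?_, ?_⟩
  · rw [Scheme.Hom.comp_apply, hx'1]
    rfl
  · rw [hcomm]
    infer_instance
  · rw [hcomm]
    infer_instance
  · rw [hcomm]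
    refine isUnivOpenAt_comp_of_universallyOpen _ _ x' ?_
    exact isUnivOpenAt_of_isPullback sq x' (by rw [hx'1]; exact hkop)

end Groth.Agent.Lib.Helper6.QSec
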