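import Mathlib
import Groth.Agent.S1353
import Groth.Agent.Lib.Helper6.QSec4
import Groth.Agent.Lib.Helper6.EtaleSq
import Groth.Agent.Lib.Helper21.FibDim1

/-!
# Quasi-sections through a point: étale localization step
-/

set_option autoImplicit false
set_option linter.style.haveILetI false
universe u
open AlgebraicGeometry CategoryTheory Limits

namespace Groth.Agent.Lib.Helper6.QSec

open EGA43

/-- composite of maps iso on residue fields -/
theorem isIso_residueFieldMap_comp {A B C : Scheme.{u}} (p : A ⟶ B) (q : B ⟶ C) (a : A)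
    (hp : IsIso (p.residueFieldMap a)) (hq : IsIso (q.residueFieldMap (p a))) :
    IsIso ((p ≫ q).residueFieldMap a) := by
  rw [Scheme.residueFieldMap_comp]
  exact IsIso.comp_isIso' hq hp

/-- bijective residue field map is an iso -/
theorem isIso_residueFieldMap_of_bijective {A B : Scheme.{u}} (p : A ⟶ B) (a : A)
    (hp : Function.Bijective (p.residueFieldMap a)) : IsIso (p.residueFieldMap a) := by
  rw [ConcreteCategory.isIso_iff_bijective]
  exact hp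

theorem isIso_residueFieldMap_of_surjectiveOnStalks {A B : Scheme.{u}} (p : A ⟶ B)
    [SurjectiveOnStalks p] (a : A) : IsIso (p.residueFieldMap a) := by
  apply isIso_residueFieldMap_of_bijective
  exact ⟨(p.residueFieldMap a).hom.injective,
    Groth.Agent.Lib.Helper21.FibDim.residueFieldMap_surjective p a⟩

theorem etale_localization {X' X S : Scheme.{u}} (f : X ⟶ S) (i : X' ⟶ X) (x' : X')
    [SurjectiveOnStalks i] [LocallyOfFinitePresentation (i ≫ f)] [LocallyQuasiFinite (i ≫ f)]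
    (hop : IsUnivOpenAt (i ≫ f) x') :
    ∃ (S' S'' : Scheme.{u}) (_ : IsAffine S') (w : S' ⟶ S) (π : S'' ⟶ S') (h : S'' ⟶ X),
      Etale w ∧ IsFinite π ∧ Surjective π ∧ LocallyOfFinitePresentation π ∧ h ≫ f = π ≫ w ∧
      ∃ s'' : S'', (π ≫ w).base ⁻¹' {f.base (i.base x')} = {s''} ∧ h.base s'' = i.base x' ∧
        IsIso (h.residueFieldMap s'') := by
  obtain ⟨U₁, g₁, u₁, ⟨hget, hgu, hgres⟩, V, v, hvV, hfin, hsnd, huniq, hfst, hres⟩ :=
    Groth.Agent.S1353.result (i ≫ f) x' ((i ≫ f).quasiFiniteAt x')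
  -- openness
  have hopv : IsOpenAt (pullback.snd (i ≫ f) g₁).base v := hop U₁ g₁ v hfst
  have hnhds : (pullback.snd (i ≫ f) g₁).base '' (V : Set _) ∈ nhds u₁ := by
    have := hopv V (V.2.mem_nhds hvV)
    rwa [hsnd] at this
  -- isolatedness
  haveI : LocallyQuasiFinite g₁ := Groth.Agent.Lib.Helper6.EtaleSq.locallyQuasiFinite_of_etale g₁
  obtain ⟨W₁, hW₁o, hW₁⟩ := (isDiscrete_iff_forall_mem_exists_isOpen.mp
    (g₁.isDiscrete_preimage_singleton ((i ≫ f) x'))) u₁ hgu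
  obtain ⟨O, hOsub, hOo, hu₁O⟩ := mem_nhds_iff.mp hnhds
  have hu₁W : u₁ ∈ W₁ := by
    have : u₁ ∈ W₁ ∩ g₁ ⁻¹' {(i ≫ f) x'} := by rw [hW₁]; rfl
    exact this.1
  obtain ⟨_, ⟨S'o, hS'aff, rfl⟩, hu₁S', hS'sub⟩ :=
    U₁.isBasis_affineOpens.exists_subset_of_mem_open (show u₁ ∈ W₁ ∩ O from ⟨hu₁W, hu₁O⟩)
      (hW₁o.inter hOo)
  have hS'aff' : IsAffine ((S'o : U₁.Opens) : Scheme.{u}) := hS'aff
  haveI := hget
  let q : (V : Scheme.{u}) ⟶ U₁ := V.ι ≫ pullback.snd (i ≫ f) g₁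
  haveI : IsFinite q := hfin
  haveI : LocallyOfFinitePresentation q := inferInstance
  let π : (q ⁻¹ᵁ S'o : Scheme.{u}) ⟶ (S'o : Scheme.{u}) := q ∣_ S'o
  let h : (q ⁻¹ᵁ S'o : Scheme.{u}) ⟶ X :=
    (q ⁻¹ᵁ S'o).ι ≫ V.ι ≫ pullback.fst (i ≫ f) g₁ ≫ i
  let w : (S'o : Scheme.{u}) ⟶ S := (Scheme.Opens.ι (X := U₁) S'o) ≫ g₁
  have hcomm : h ≫ f = π ≫ w := by
    simp only [h, π, w, Category.assoc]
    rw [pullback.condition, morphismRestrict_ι_assoc]
    simp only [q, Category.assoc]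
  have hqv : q ⟨v, hvV⟩ = u₁ := hsnd
  have hmem : (⟨v, hvV⟩ : ↥(V : Scheme.{u})) ∈ q ⁻¹ᵁ S'o := by
    change q ⟨v, hvV⟩ ∈ S'o
    rw [hqv]; exact hu₁S'
  let s'' : ↥(q ⁻¹ᵁ S'o : Scheme.{u}) := ⟨⟨v, hvV⟩, hmem⟩
  have hπw : ∀ t : ↥(q ⁻¹ᵁ S'o : Scheme.{u}), (π ≫ w) t = g₁ (q t.1) := by
    intro t
    change g₁ ((Scheme.Opens.ι (X := U₁) S'o) (π t)) = _
    congr 1
    exact morphismRestrict_base_coe q S'o t
  refine ⟨S'o, (q ⁻¹ᵁ S'o : (V : Scheme.{u}).Opens), hS'aff', w, π, h, ?_, inferInstance, ?_,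
    inferInstance, hcomm, s'', ?_, ?_, ?_⟩
  · change Etale ((Scheme.Opens.ι (X := U₁) S'o) ≫ g₁)
    infer_instance
  · refine ⟨fun y => ?_⟩
    obtain ⟨a, haV, hay⟩ := hOsub (hS'sub y.2).2
    have hmem' : (⟨a, haV⟩ : ↥(V : Scheme.{u})) ∈ q ⁻¹ᵁ S'o := by
      change q ⟨a, haV⟩ ∈ S'o
      have : q ⟨a, haV⟩ = y.1 := hay
      rw [this]; exact y.2
    refine ⟨⟨⟨a, haV⟩, hmem'⟩, ?_⟩
    apply Subtype.ext
    rw [morphismRestrict_base_coe]
    exact hay
  · ext t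
    simp only [Set.mem_preimage, Set.mem_singleton_iff]
    constructor
    · intro ht
      have ht' : g₁ (q t.1) = (i ≫ f) x' := by rw [← hπw]; exact ht
      have h1 : q t.1 ∈ W₁ ∩ g₁ ⁻¹' {(i ≫ f) x'} := ⟨(hS'sub t.2).1, ht'⟩
      rw [hW₁] at h1
      have h2 : t.1.1 = v := huniq t.1.1 t.1.2 h1
      apply Subtype.ext
      apply Subtype.ext
      exact h2
    · rintro rfl
      rw [hπw]
      change g₁ (q ⟨v, hvV⟩) = _
      rw [hqv, hgu]
      rfl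
  · change i (pullback.fst (i ≫ f) g₁ v) = i x'
    rw [hfst]
  · have e1 : IsIso (((q ⁻¹ᵁ S'o).ι ≫ V.ι).residueFieldMap s'') := inferInstance
    have e2 : IsIso ((pullback.fst (i ≫ f) g₁).residueFieldMap (((q ⁻¹ᵁ S'o).ι ≫ V.ι) s'')) :=
      isIso_residueFieldMap_of_bijective _ _ hres
    have e3 := isIso_residueFieldMap_comp _ _ _ e1 e2
    have e4 := isIso_residueFieldMap_comp _ i _ e3
      (isIso_residueFieldMap_of_surjectiveOnStalks i _)
    have key : ∀ (h' : (q ⁻¹ᵁ S'o : Scheme.{u}) ⟶ X), h' = h → IsIso (h'.residueFieldMap s'') →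
        IsIso (h.residueFieldMap s'') := by
      rintro _ rfl hh; exact hh
    exact key _ (by simp only [h, Category.assoc]) e4

end Groth.Agent.Lib.Helper6.QSec
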