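import Groth.Agent.Lib.Helper6.FTPointsMap
import Mathlib.AlgebraicGeometry.Morphisms.QuasiFinite
import Mathlib.AlgebraicGeometry.Artinian

set_option autoImplicit false
universe u

open AlgebraicGeometry CategoryTheory

namespace Groth.Agent.Lib.Helper6

theorem isLocallyArtinian_of_forall_isClosed_singleton (X : Scheme.{u}) [IsLocallyNoetherian X]
    (h : ∀ x : X, IsClosed ({x} : Set X)) : IsLocallyArtinian X where
  isArtinianRing_presheaf_obj U := by
    have : IsNoetherianRing Γ(X, U.1) := IsLocallyNoetherian.component_noetherian U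
    rw [isArtinianRing_iff_krullDimLE_zero]
    refine .mk₀ fun I hI => ?_
    have h1 := h (U.2.fromSpec ⟨I, hI⟩)
    have h2 : IsClosed (U.2.fromSpec ⁻¹' {U.2.fromSpec ⟨I, hI⟩}) :=
      h1.preimage U.2.fromSpec.continuous
    have h3 : U.2.fromSpec ⁻¹' {U.2.fromSpec ⟨I, hI⟩} = {(⟨I, hI⟩ : Spec Γ(X, U.1))} := by
      ext p
      simp only [Set.mem_preimage, Set.mem_singleton_iff]
      exact U.2.fromSpec.isOpenEmbedding.injective.eq_iff
    rw [h3] at h2
    exact (PrimeSpectrum.isClosed_singleton_iff_isMaximal _).mp h2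

/-- In a Jacobson scheme every finite type point is closed. -/
theorem isClosed_singleton_of_ftPoint {Z : Scheme.{u}} [JacobsonSpace Z] (z : Z)
    (hz : LocallyOfFiniteType (Z.fromSpecResidueField z)) : IsClosed ({z} : Set Z) := by
  obtain ⟨U, hU, hzU, hcl⟩ := exists_affine_isClosed_of_ftPoint z hz
  apply isClosed_singleton_of_isLocallyClosed_singleton
  have h1 : IsLocallyClosed ({⟨z, hzU⟩} : Set U) := hcl.isLocallyClosed
  have h2 := h1.image Topology.IsEmbedding.subtypeVal.isInducing
    (U.2.isOpenEmbedding_subtypeVal.isOpen_range.isLocallyClosed)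
  simpa using h2

end Groth.Agent.Lib.Helper6

namespace Groth.Agent.Lib.Helper6

open Limits in
theorem locallyQuasiFinite_of_comp_of_surjective {X Y S : Scheme.{u}} (f : X ⟶ Y) (g : Y ⟶ S)
    [Surjective f] [LocallyQuasiFinite (f ≫ g)] [LocallyOfFiniteType (f ≫ g)]
    [LocallyOfFiniteType g] : LocallyQuasiFinite g := by
  rw [locallyQuasiFinite_iff_isDiscrete_preimage_singleton]
  intro s
  have hcond : ((f ≫ g).fiberι s ≫ f) ≫ g =
      (f ≫ g).fiberToSpecResidueField s ≫ S.fromSpecResidueField s := by
    rw [Category.assoc]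
    exact pullback.condition
  let h : (f ≫ g).fiber s ⟶ g.fiber s :=
    pullback.lift ((f ≫ g).fiberι s ≫ f) ((f ≫ g).fiberToSpecResidueField s) hcond
  have hh1 : h ≫ g.fiberι s = (f ≫ g).fiberι s ≫ f := pullback.lift_fst _ _ _
  have hh2 : h ≫ g.fiberToSpecResidueField s = (f ≫ g).fiberToSpecResidueField s :=
    pullback.lift_snd _ _ _
  have hlft1 : LocallyOfFiniteType ((f ≫ g).fiberToSpecResidueField s) :=
    MorphismProperty.pullback_snd _ _ inferInstance
  have hlft2 : LocallyOfFiniteType (g.fiberToSpecResidueField s) :=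
    MorphismProperty.pullback_snd _ _ inferInstance
  have hlft : LocallyOfFiniteType h := by
    have : LocallyOfFiniteType (h ≫ g.fiberToSpecResidueField s) := by rw [hh2]; exact hlft1
    exact locallyOfFiniteType_of_comp h (g.fiberToSpecResidueField s)
  have hnoeth : IsLocallyNoetherian (g.fiber s) :=
    LocallyOfFiniteType.isLocallyNoetherian (g.fiberToSpecResidueField s)
  have hdiscW : DiscreteTopology ((f ≫ g).fiber s) := inferInstance
  have hclosed : ∀ z : g.fiber s, IsClosed ({z} : Set (g.fiber s)) := by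
    intro z
    have hy : g (g.fiberι s z) = s := by
      have : g.fiberι s z ∈ Set.range (g.fiberι s) := ⟨z, rfl⟩
      rw [g.range_fiberι] at this
      exact this
    obtain ⟨x, hx⟩ := f.surjective (g.fiberι s z)
    have hx' : x ∈ Set.range ((f ≫ g).fiberι s) := by
      rw [(f ≫ g).range_fiberι]
      change g (f x) = s
      rw [hx, hy]
    obtain ⟨w, hw⟩ := hx'
    have hwz : h w = z := by
      apply (g.fiberι s).isEmbedding.injective
      have : g.fiberι s (h w) = f ((f ≫ g).fiberι s w) := by
        rw [← Scheme.Hom.comp_apply, hh1]; rfl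
      rw [this, hw, hx]
    obtain ⟨U, hU, hwU, -⟩ := exists_isAffineOpen_mem_and_subset (x := w) (U := ⊤) trivial
    have hft : LocallyOfFiniteType (((f ≫ g).fiber s).fromSpecResidueField w) :=
      ftPoint_of_isClosed hU w hwU (isClosed_discrete _)
    have := ftPoint_map h w hft
    rw [hwz] at this
    exact isClosed_singleton_of_ftPoint z this
  have hart : IsLocallyArtinian (g.fiber s) :=
    isLocallyArtinian_of_forall_isClosed_singleton _ hclosed
  have hdisc : DiscreteTopology (g.fiber s) := inferInstance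
  exact ⟨(g.fiberHomeo s).discreteTopology⟩

end Groth.Agent.Lib.Helper6
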