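import Mathlib
import Groth.Agent.Lib.Helper6.RP8
import Groth.Prelude.Def_EGA4Misc

/-!
# Translating the ring-level statements to schemes (chart of an integral morphism)
-/

set_option autoImplicit false
set_option linter.unusedSectionVars false
universe u

open AlgebraicGeometry CategoryTheory

namespace Groth.Agent.Lib.Helper6.RP

section Translate

variable {X Y : Scheme.{u}} (f : X ⟶ Y) {V : Y.Opens} (hV : IsAffineOpen V)
  (hU : IsAffineOpen (f ⁻¹ᵁ V))

theorem residueFieldMap_evaluation (x : X) (hx : f x ∈ V) (a : Γ(Y, V)) :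
    (f.residueFieldMap x).hom ((Y.evaluation V (f x) hx).hom a) =
      (X.evaluation (f ⁻¹ᵁ V) x hx).hom ((f.app V).hom a) :=
  Scheme.evaluation_naturality_apply f x hx a

theorem comap_primeIdealOf_app (x : X) (hx : f x ∈ V) :
    (hU.primeIdealOf ⟨x, hx⟩).asIdeal.comap (f.app V).hom =
      (hV.primeIdealOf ⟨f x, hx⟩).asIdeal := by
  ext a
  rw [Ideal.mem_comap, ← evaluation_eq_zero_iff hU x hx, ← evaluation_eq_zero_iff hV (f x) hx,
    ← residueFieldMap_evaluation f x hx a]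
  exact map_eq_zero_iff _ (f.residueFieldMap x).hom.injective

include hV hU in
theorem birR_of_isBirational (hf : RadPt.IsBirational f) :
    letI := (f.app V).hom.toAlgebra
    BirR Γ(Y, V) Γ(X, f ⁻¹ᵁ V) := by
  letI := (f.app V).hom.toAlgebra
  refine ⟨?_, ?_⟩
  · intro Q hQ
    obtain ⟨⟨x, hx⟩, hxQ⟩ := primeIdealOf_surjective hU ⟨Q, hQ.1.1⟩
    have hQ' : (hU.primeIdealOf ⟨x, hx⟩).asIdeal = Q := by rw [hxQ]
    have hgen : x ∈ genericPoints X := (mem_genericPoints_iff hU x hx).mpr (hQ'.symm ▸ hQ)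
    have hgen' := hf.1.mapsTo hgen
    have h1 := (mem_genericPoints_iff hV (f x) hx).mp hgen'
    rw [← comap_primeIdealOf_app f hV hU x hx, hQ'] at h1
    exact h1
  · intro P hP
    obtain ⟨⟨η, hη⟩, hηP⟩ := primeIdealOf_surjective hV ⟨P, hP.1.1⟩
    have hP' : (hV.primeIdealOf ⟨η, hη⟩).asIdeal = P := by rw [hηP]
    have hgen : η ∈ genericPoints Y := (mem_genericPoints_iff hV η hη).mpr (hP'.symm ▸ hP)
    obtain ⟨ξ, hξgen, rfl⟩ := hf.1.surjOn hgen
    have hξ : ξ ∈ f ⁻¹ᵁ V := hη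
    refine ⟨(hU.primeIdealOf ⟨ξ, hξ⟩).asIdeal, (hU.primeIdealOf ⟨ξ, hξ⟩).2, ?_, ?_, ?_⟩
    · rw [← hP']
      exact comap_primeIdealOf_app f hV hU ξ hξ
    · intro Q' hQ'p hQ'
      obtain ⟨⟨x', hx'⟩, hx'Q⟩ := primeIdealOf_surjective hU ⟨Q', hQ'p⟩
      have hQ'' : (hU.primeIdealOf ⟨x', hx'⟩).asIdeal = Q' := by rw [hx'Q]
      have h1 : (hV.primeIdealOf ⟨f x', hx'⟩).asIdeal = (hV.primeIdealOf ⟨f ξ, hη⟩).asIdeal := by
        rw [← comap_primeIdealOf_app f hV hU x' hx', hQ'', hP']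
        exact hQ'
      have h2 : (⟨f x', hx'⟩ : V) = ⟨f ξ, hη⟩ :=
        primeIdealOf_injective hV (PrimeSpectrum.ext h1)
      have h3 : f x' = f ξ := congrArg Subtype.val h2
      have h4 : x' = ξ := (hf.2 (f ξ) hgen).1 x' ξ h3 rfl
      subst h4
      exact hQ''.symm
    · intro s
      obtain ⟨z, hz⟩ := ((hf.2 (f ξ) hgen).2 ξ rfl).2 ((X.evaluation (f ⁻¹ᵁ V) ξ hξ).hom s)
      obtain ⟨r, t, ht, hrt⟩ := exists_evaluation_mul_eq hV (f ξ) hη z
      refine ⟨r, t, by rw [← hP']; exact ht, ?_⟩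
      rw [← evaluation_eq_zero_iff hU ξ hξ, map_sub, map_mul]
      change (X.evaluation (f ⁻¹ᵁ V) ξ hξ).hom ((f.app V).hom t) * _ -
        (X.evaluation (f ⁻¹ᵁ V) ξ hξ).hom ((f.app V).hom r) = 0
      rw [← residueFieldMap_evaluation f ξ hξ, ← residueFieldMap_evaluation f ξ hξ, ← hrt,
        map_mul, hz]
      ring

include hV hU in
theorem isPurelyInseparable_of_pIat (x : X) (hx : f x ∈ V)
    (h : letI := (f.app V).hom.toAlgebra
      PIat (hV.primeIdealOf ⟨f x, hx⟩).asIdeal (hU.primeIdealOf ⟨x, hx⟩).asIdeal) :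
    (f.residueFieldMap x).hom.IsPurelyInseparable := by
  letI := (f.app V).hom.toAlgebra
  obtain ⟨c, hc, hs⟩ := h
  set g := (f.residueFieldMap x).hom with hg
  -- every evaluation of a section satisfies `Pc`
  have hev : ∀ s : Γ(X, f ⁻¹ᵁ V), Pc g c ((X.evaluation (f ⁻¹ᵁ V) x hx).hom s) := by
    intro s
    obtain ⟨n, r, t, ht, hmem⟩ := hs s
    rw [← evaluation_eq_zero_iff hU x hx, map_sub, map_mul, map_pow] at hmem
    change (X.evaluation (f ⁻¹ᵁ V) x hx).hom ((f.app V).hom t) * _ -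
        (X.evaluation (f ⁻¹ᵁ V) x hx).hom ((f.app V).hom r) = 0 at hmem
    rw [← residueFieldMap_evaluation f x hx, ← residueFieldMap_evaluation f x hx] at hmem
    have ht0 : (Y.evaluation V (f x) hx).hom t ≠ 0 := by
      rw [Ne, evaluation_eq_zero_iff hV (f x) hx]
      exact ht
    refine ⟨n, (Y.evaluation V (f x) hx).hom r / (Y.evaluation V (f x) hx).hom t, ?_⟩
    have hgt0 : g ((Y.evaluation V (f x) hx).hom t) ≠ 0 :=
      (map_ne_zero_iff _ g.injective).mpr ht0
    rw [map_div₀, div_eq_iff hgt0]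
    linear_combination (-1 : (X.residueField x : Type u)) * hmem
  have hall : ∀ z : X.residueField x, Pc g c z := by
    intro z
    obtain ⟨r, σ, hσ, hrσ⟩ := exists_evaluation_mul_eq hU x hx z
    have hσ0 : (X.evaluation (f ⁻¹ᵁ V) x hx).hom σ ≠ 0 := by
      rw [Ne, evaluation_eq_zero_iff hU x hx]
      exact hσ
    have hz : z = (X.evaluation (f ⁻¹ᵁ V) x hx).hom r *
        ((X.evaluation (f ⁻¹ᵁ V) x hx).hom σ)⁻¹ := by
      rw [← hrσ]
      field_simp
    rw [hz]
    have hgu : ∀ o : Y.residueField (f x), g o ≠ 0 → IsUnit o := fun o ho =>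
      isUnit_iff_ne_zero.mpr (fun h0 => ho (by rw [h0, map_zero]))
    exact Pc_mul g c (hev r) (Pc_inv g hgu c (hev σ))
  letI := g.toAlgebra
  change IsPurelyInseparable (Y.residueField (f x)) (X.residueField x)
  rcases hc with rfl | ⟨hprime, hcp⟩
  · -- c = 1 : surjective
    obtain ⟨q, hq⟩ := ExpChar.exists (Y.residueField (f x))
    rw [isPurelyInseparable_iff_pow_mem _ q]
    intro z
    obtain ⟨n, w, hw⟩ := hall z
    refine ⟨0, w, ?_⟩
    rw [one_pow, pow_one] at hw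
    rw [pow_zero, pow_one]
    exact hw
  · have hc0 : ((c : ℕ) : Y.residueField (f x)) = 0 := by
      have := (evaluation_eq_zero_iff hV (f x) hx ((c : ℕ) : Γ(Y, V))).mpr hcp
      rwa [map_natCast] at this
    haveI : CharP (Y.residueField (f x)) c := (CharP.charP_iff_prime_eq_zero hprime).mpr hc0
    haveI : ExpChar (Y.residueField (f x)) c := ExpChar.prime hprime
    rw [isPurelyInseparable_iff_pow_mem _ c]
    intro z
    exact hall z

include hV hU in
theorem pIat_of_isPurelyInseparable (x : X) (hx : f x ∈ V)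
    (h : (f.residueFieldMap x).hom.IsPurelyInseparable) :
    letI := (f.app V).hom.toAlgebra
    PIat (hV.primeIdealOf ⟨f x, hx⟩).asIdeal (hU.primeIdealOf ⟨x, hx⟩).asIdeal := by
  letI := (f.app V).hom.toAlgebra
  set g := (f.residueFieldMap x).hom with hg
  letI := g.toAlgebra
  have hpi : IsPurelyInseparable (Y.residueField (f x)) (X.residueField x) := h
  obtain ⟨c, hcE⟩ := ExpChar.exists (Y.residueField (f x))
  have hpow := (isPurelyInseparable_iff_pow_mem (Y.residueField (f x)) c).mp hpi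
  refine ⟨c, ?_, ?_⟩
  · rcases hcE with _ | ⟨hprime⟩
    · exact Or.inl rfl
    · refine Or.inr ⟨hprime, ?_⟩
      rw [← evaluation_eq_zero_iff hV (f x) hx, map_natCast]
      exact CharP.cast_eq_zero _ c
  · intro s
    obtain ⟨n, z, hz⟩ := hpow ((X.evaluation (f ⁻¹ᵁ V) x hx).hom s)
    obtain ⟨r, t, ht, hrt⟩ := exists_evaluation_mul_eq hV (f x) hx z
    refine ⟨n, r, t, ht, ?_⟩
    rw [← evaluation_eq_zero_iff hU x hx, map_sub, map_mul, map_pow]
    change (X.evaluation (f ⁻¹ᵁ V) x hx).hom ((f.app V).hom t) * _ -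
        (X.evaluation (f ⁻¹ᵁ V) x hx).hom ((f.app V).hom r) = 0
    rw [← residueFieldMap_evaluation f x hx, ← residueFieldMap_evaluation f x hx, ← hrt,
      map_mul, ← hz]
    change g _ * g z - g z * g _ = 0
    ring

end Translate

end Groth.Agent.Lib.Helper6.RP
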