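import Mathlib
import Groth.Agent.Lib.Helper6.RP9
import Groth.Prelude.Def_CAlg2

/-!
# Geometric unibranchness along an integral birational morphism: the scheme statement
-/

set_option autoImplicit false
set_option linter.unusedSectionVars false
universe u

open AlgebraicGeometry CategoryTheory

namespace Groth.Agent.Lib.Helper6.RP

theorem exists_prime_over {R S : Type u} [CommRing R] [CommRing S] [Algebra R S]
    [Algebra.IsIntegral R S] (hB : BirR R S) (p : Ideal R) [p.IsPrime] :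
    ∃ q : Ideal S, q.IsPrime ∧ q.comap (algebraMap R S) = p := by
  obtain ⟨P, hPmin, hPle⟩ := Ideal.exists_minimalPrimes_le (I := ⊥) (J := p) bot_le
  obtain ⟨Q, hQp, hQP, -, -⟩ := hB.exists_over P hPmin
  haveI := hQp
  obtain ⟨q, -, hqp, hq⟩ :=
    Ideal.exists_ideal_over_prime_of_isIntegral_of_isPrime p Q (by rw [hQP]; exact hPle)
  exact ⟨q, hqp, hq⟩

section Main

variable {X Y : Scheme.{u}} (f : X ⟶ Y) [IsIntegralHom f] (hf : RadPt.IsBirational f)

include hf in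
theorem isGeomUnibranch_iff (y : Y) :
    CAlg2.IsGeomUnibranch (Y.presheaf.stalk y) ↔
      (RadPt.IsRadicialAt f y ∧
        ∀ x : X, f x = y → CAlg2.IsGeomUnibranch (X.presheaf.stalk x)) := by
  obtain ⟨_, ⟨V, hV, rfl⟩, hyV, -⟩ :=
    Y.isBasis_affineOpens.exists_subset_of_mem_open (Set.mem_univ y) isOpen_univ
  have hU : IsAffineOpen (f ⁻¹ᵁ V) := hV.preimage f
  letI := (f.app V).hom.toAlgebra
  haveI : Algebra.IsIntegral Γ(Y, V) Γ(X, f ⁻¹ᵁ V) := ⟨f.isIntegral_app V hV⟩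
  have hB := birR_of_isBirational f hV hU hf
  letI := Y.presheaf.algebra_section_stalk ⟨y, hyV⟩
  haveI := hV.isLocalization_stalk ⟨y, hyV⟩
  -- bookkeeping for points over `y`
  have hmemU : ∀ x : X, f x = y → f x ∈ V := fun x hx => hx ▸ hyV
  have hcomap : ∀ (x : X) (hx : f x = y),
      (hU.primeIdealOf ⟨x, hmemU x hx⟩).asIdeal.comap (algebraMap Γ(Y, V) Γ(X, f ⁻¹ᵁ V)) =
        (hV.primeIdealOf ⟨y, hyV⟩).asIdeal := by
    intro x hx
    have h1 := comap_primeIdealOf_app f hV hU x (hmemU x hx)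
    have h2 : (⟨f x, hmemU x hx⟩ : V) = ⟨y, hyV⟩ := Subtype.ext hx
    rw [h2] at h1
    exact h1
  have hpoint : ∀ (q : Ideal Γ(X, f ⁻¹ᵁ V)) [q.IsPrime],
      q.comap (algebraMap Γ(Y, V) Γ(X, f ⁻¹ᵁ V)) = (hV.primeIdealOf ⟨y, hyV⟩).asIdeal →
      ∃ (x : X) (hx : f x = y), (hU.primeIdealOf ⟨x, hmemU x hx⟩).asIdeal = q := by
    intro q hq hqp
    obtain ⟨⟨x, hxU⟩, hxq⟩ := primeIdealOf_surjective hU ⟨q, hq⟩
    have hxq' : (hU.primeIdealOf ⟨x, hxU⟩).asIdeal = q := by rw [hxq]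
    have h1 := comap_primeIdealOf_app f hV hU x hxU
    have h2 : hV.primeIdealOf ⟨f x, hxU⟩ = hV.primeIdealOf ⟨y, hyV⟩ := by
      apply PrimeSpectrum.ext
      rw [← h1, hxq']
      exact hqp
    have h3 : f x = y := congrArg Subtype.val (primeIdealOf_injective hV h2)
    exact ⟨x, h3, hxq'⟩
  constructor
  · intro hGU
    obtain ⟨q₀, h⟩ := ring_fwd Γ(Y, V) Γ(X, f ⁻¹ᵁ V) hB (hV.primeIdealOf ⟨y, hyV⟩).asIdeal
      (Y.presheaf.stalk y) hGU
    have key : ∀ (x : X) (hx : f x = y), _ :=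
      fun x hx => @h (hU.primeIdealOf ⟨x, hmemU x hx⟩).asIdeal
        (hU.primeIdealOf ⟨x, hmemU x hx⟩).2 (hcomap x hx)
    refine ⟨⟨?_, ?_⟩, ?_⟩
    · intro x x' hx hx'
      have h1 := (key x hx).1.trans (key x' hx').1.symm
      exact congrArg Subtype.val (primeIdealOf_injective hU (PrimeSpectrum.ext h1))
    · intro x hx
      have h1 := (key x hx).2.1
      have h2 : (⟨f x, hmemU x hx⟩ : V) = ⟨y, hyV⟩ := Subtype.ext hx
      rw [← h2] at h1
      exact isPurelyInseparable_of_pIat f hV hU x (hmemU x hx) h1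
    · intro x hx
      letI := X.presheaf.algebra_section_stalk (U := f ⁻¹ᵁ V) ⟨x, hmemU x hx⟩
      haveI := hU.isLocalization_stalk ⟨x, hmemU x hx⟩
      exact (key x hx).2.2 (X.presheaf.stalk x)
  · rintro ⟨⟨huniq, hpi⟩, hGU⟩
    obtain ⟨q, hqp, hq⟩ := exists_prime_over hB (hV.primeIdealOf ⟨y, hyV⟩).asIdeal
    haveI := hqp
    obtain ⟨x, hx, hxq⟩ := hpoint q hq
    letI := X.presheaf.algebra_section_stalk (U := f ⁻¹ᵁ V) ⟨x, hmemU x hx⟩
    haveI := hU.isLocalization_stalk ⟨x, hmemU x hx⟩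
    refine ring_bwd Γ(Y, V) Γ(X, f ⁻¹ᵁ V) hB (hV.primeIdealOf ⟨y, hyV⟩).asIdeal
      (Y.presheaf.stalk y) (hU.primeIdealOf ⟨x, hmemU x hx⟩).asIdeal (hcomap x hx) ?_ ?_
      (X.presheaf.stalk x) (hGU x hx)
    · intro q' hq'p hq'
      haveI := hq'p
      obtain ⟨x', hx', hx'q⟩ := hpoint q' hq'
      have := huniq x' x hx' hx
      subst this
      exact hx'q.symm
    · have h1 := pIat_of_isPurelyInseparable f hV hU x (hmemU x hx) (hpi x hx)
      have h2 : (⟨f x, hmemU x hx⟩ : V) = ⟨y, hyV⟩ := Subtype.ext hx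
      rw [h2] at h1
      exact h1

end Main

end Groth.Agent.Lib.Helper6.RP
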