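import Mathlib
import Groth.Prelude.Def_EGA4Misc

/-!
# Radicial at a point = the fibre is universally injective over the residue field
-/

set_option autoImplicit false
set_option linter.unusedSectionVars false
universe u

open AlgebraicGeometry CategoryTheory Limits

namespace Groth.Agent.Lib.Helper6.RadF

section PI

variable {K L M : Type u} [Field K] [Field L] [Field M]

theorem isPurelyInseparable_of_bijective (g : K →+* L) (hg : Function.Bijective g) :
    g.IsPurelyInseparable := by
  letI := g.toAlgebra
  change IsPurelyInseparable K L
  rw [isPurelyInseparable_iff]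
  intro x
  obtain ⟨k, rfl⟩ := hg.2 x
  exact ⟨isIntegral_algebraMap (R := K) (A := L) (x := k), fun _ => ⟨k, rfl⟩⟩

theorem isPurelyInseparable_comp_left_iff (f : K →+* L) (e : L →+* M) (he : Function.Bijective e) :
    (e.comp f).IsPurelyInseparable ↔ f.IsPurelyInseparable := by
  constructor
  · intro h
    algebraize [f, e, e.comp f]
    exact IsPurelyInseparable.tower_bot K L M
  · intro h
    exact h.comp (isPurelyInseparable_of_bijective e he)

theorem isPurelyInseparable_comp_right_iff (e : K →+* L) (f : L →+* M)
    (he : Function.Bijective e) :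
    (f.comp e).IsPurelyInseparable ↔ f.IsPurelyInseparable := by
  constructor
  · intro h
    algebraize [e, f, f.comp e]
    exact IsPurelyInseparable.tower_top K L M
  · intro h
    exact (isPurelyInseparable_of_bijective e he).comp h

end PI

section Preimm

variable {X Y : Scheme.{u}}

theorem residueFieldMap_bijective_of_isPreimmersion (f : X ⟶ Y) [IsPreimmersion f] (x : X) :
    Function.Bijective (f.residueFieldMap x).hom := by
  refine ⟨(f.residueFieldMap x).hom.injective, fun z => ?_⟩
  obtain ⟨s, rfl⟩ := X.residue_surjective x z
  obtain ⟨t, rfl⟩ := f.stalkMap_surjective x s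
  refine ⟨Y.residue (f x) t, ?_⟩
  have := Scheme.residue_residueFieldMap f x
  exact congrArg (fun φ => φ.hom t) this

end Preimm

section Fibre

variable {X Y : Scheme.{u}} (f : X ⟶ Y) (y : Y)

/-- The residue field map of `f` at a point of the fibre is purely inseparable iff the residue
field map of the fibre over `Spec κ(y)` is. -/
theorem isPurelyInseparable_fibre_iff (x' : f.fiber y) :
    ((f.fiberToSpecResidueField y).residueFieldMap x').hom.IsPurelyInseparable ↔
      (f.residueFieldMap (f.fiberι y x')).hom.IsPurelyInseparable := by
  have hfac := f.fiber_fac y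
  have h1 := Scheme.Hom.residueFieldMap_congr hfac x'
  rw [Scheme.residueFieldMap_comp, Scheme.residueFieldMap_comp] at h1
  have hb1 := residueFieldMap_bijective_of_isPreimmersion (f.fiberι y) x'
  have hb2 := residueFieldMap_bijective_of_isPreimmersion (Y.fromSpecResidueField y)
    (f.fiberToSpecResidueField y x')
  have hb3 : Function.Bijective (Y.residueFieldCongr
      (show (f.fiberι y ≫ f) x' =
        (f.fiberToSpecResidueField y ≫ Y.fromSpecResidueField y) x' by rw [hfac])).hom.hom :=
    ConcreteCategory.bijective_of_isIso _
  have h2 : ((f.fiberι y).residueFieldMap x').hom.comp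
      (f.residueFieldMap (f.fiberι y x')).hom =
      ((((f.fiberToSpecResidueField y).residueFieldMap x').hom.comp
        ((Y.fromSpecResidueField y).residueFieldMap (f.fiberToSpecResidueField y x')).hom).comp
        (Y.residueFieldCongr
          (show (f.fiberι y ≫ f) x' =
            (f.fiberToSpecResidueField y ≫ Y.fromSpecResidueField y) x' by rw [hfac])).hom.hom) :=
    congrArg CommRingCat.Hom.hom h1
  have e1 := isPurelyInseparable_comp_left_iff
    (f.residueFieldMap (f.fiberι y x')).hom _ hb1
  have e2 := isPurelyInseparable_comp_right_iff _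
    (((f.fiberToSpecResidueField y).residueFieldMap x').hom.comp
        ((Y.fromSpecResidueField y).residueFieldMap (f.fiberToSpecResidueField y x')).hom) hb3
  have e3 := isPurelyInseparable_comp_right_iff _
    ((f.fiberToSpecResidueField y).residueFieldMap x').hom hb2
  rw [h2] at e1
  exact (e2.trans e3).symm.trans e1

theorem isRadicialAt_iff_universallyInjective_fibre :
    RadPt.IsRadicialAt f y ↔ UniversallyInjective (f.fiberToSpecResidueField y) := by
  have htfae := (tfae_universallyInjective (f.fiberToSpecResidueField y)).out 0 2
  rw [htfae]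
  constructor
  · rintro ⟨huniq, hpi⟩
    refine ⟨fun a b _ => ?_, fun x' => ?_⟩
    · apply (f.fiberι y).isEmbedding.injective
      have ha : f (f.fiberι y a) = y := by
        have : f.fiberι y a ∈ Set.range (f.fiberι y) := ⟨a, rfl⟩
        rw [f.range_fiberι y] at this
        exact this
      have hb : f (f.fiberι y b) = y := by
        have : f.fiberι y b ∈ Set.range (f.fiberι y) := ⟨b, rfl⟩
        rw [f.range_fiberι y] at this
        exact this
      exact huniq _ _ ha hb
    · rw [isPurelyInseparable_fibre_iff]
      apply hpi
      have : f.fiberι y x' ∈ Set.range (f.fiberι y) := ⟨x', rfl⟩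
      rw [f.range_fiberι y] at this
      exact this
  · rintro ⟨hinj, hpi⟩
    refine ⟨fun x x' hx hx' => ?_, fun x hx => ?_⟩
    · have h1 : x ∈ Set.range (f.fiberι y) := by rw [f.range_fiberι y]; exact hx
      have h2 : x' ∈ Set.range (f.fiberι y) := by rw [f.range_fiberι y]; exact hx'
      obtain ⟨a, rfl⟩ := h1
      obtain ⟨b, rfl⟩ := h2
      congr 1
      apply hinj
      rw [Scheme.Hom.fiberToSpecResidueField_apply, Scheme.Hom.fiberToSpecResidueField_apply]
    · have h1 : x ∈ Set.range (f.fiberι y) := by rw [f.range_fiberι y]; exact hx
      obtain ⟨a, rfl⟩ := h1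
      rw [← isPurelyInseparable_fibre_iff]
      exact hpi a

end Fibre

end Groth.Agent.Lib.Helper6.RadF
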