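import Mathlib
import Groth.Agent.Lib.Helper6.RadF1
import Groth.Agent.Lib.Helper6.Fib2

/-!
# Radicial at a point is invariant under base change
-/

set_option autoImplicit false
set_option linter.unusedSectionVars false
universe u

open AlgebraicGeometry CategoryTheory Limits

namespace Groth.Agent.Lib.Helper6.RadF

open Groth.Agent.Lib.Helper6.Fib

/-- Universal injectivity descends along a surjective base change. -/
theorem universallyInjective_of_isPullback_of_surjective {X' Y' X Y : Scheme.{u}} {a : X' ⟶ X}
    {f' : X' ⟶ Y'} {f : X ⟶ Y} {h : Y' ⟶ Y} (hsq : IsPullback a f' f h) [Surjective h]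
    (hf' : UniversallyInjective f') : UniversallyInjective f := by
  rw [UniversallyInjective.iff_diagonal]
  haveI ha : Surjective a := MorphismProperty.of_isPullback hsq.flip inferInstance
  haveI hd : Surjective (diagMap hsq) :=
    MorphismProperty.of_isPullback (diagMap_isPullback_fst hsq).flip ha
  refine ⟨fun z => ?_⟩
  obtain ⟨w, rfl⟩ := hd.1 z
  obtain ⟨x', rfl⟩ := ((UniversallyInjective.iff_diagonal _).mp hf').1 w
  refine ⟨a x', ?_⟩
  exact (congrArg (fun ψ : X' ⟶ pullback f f => ψ x') (diagMap_isPullback_diagonal hsq).w).symm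

theorem isRadicialAt_iff_of_isPullback {X Y X' Y' : Scheme.{u}} {f : X ⟶ Y} {h : Y' ⟶ Y}
    {f' : X' ⟶ Y'} {h' : X' ⟶ X} (sq : IsPullback h' f' f h) (y' : Y') :
    RadPt.IsRadicialAt f (h y') ↔ RadPt.IsRadicialAt f' y' := by
  rw [isRadicialAt_iff_universallyInjective_fibre, isRadicialAt_iff_universallyInjective_fibre]
  have hp := isPullback_fiberToSpecResidueField_of_isPullback sq y'
  haveI : Surjective (Spec.map (h.residueFieldMap y')) := by
    refine ⟨fun z => ⟨IsLocalRing.closedPoint _, Subsingleton.elim (α := PrimeSpectrum _) _ _⟩⟩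
  constructor
  · intro hui
    exact MorphismProperty.of_isPullback hp hui
  · intro hui
    exact universallyInjective_of_isPullback_of_surjective hp hui

end Groth.Agent.Lib.Helper6.RadF
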