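import Mathlib
import Groth.Agent.Lib.Helper6.RadF2
import Groth.Agent.Lib.Helper6.SD1

/-!
# Birationality (in the pointwise sense) is stable under flat base change
-/

set_option autoImplicit false
set_option linter.unusedSectionVars false
universe u

open AlgebraicGeometry CategoryTheory Limits

namespace Groth.Agent.Lib.Helper6.RadF

section Top

variable {T : Type*} [TopologicalSpace T] [QuasiSober T] [T0Space T]

theorem mem_genericPoints_iff_maximal (x : T) :
    x ∈ genericPoints T ↔ ∀ z : T, z ⤳ x → z = x := by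
  constructor
  · intro hgen z hzx
    have hirr : closure {x} ∈ irreducibleComponents T := hgen
    have h1 : closure {x} ⊆ closure {z} := specializes_iff_closure_subset.mp hzx
    have h2 : closure {z} ⊆ closure {x} := hirr.2 isIrreducible_singleton.closure h1
    have hg : IsGenericPoint z (closure {x}) := (subset_antisymm h2 h1 : _)
    exact hg.eq (rfl : IsGenericPoint x (closure {x}))
  · intro h
    exact Groth.Agent.Lib.Helper6.SD.closure_mem_irreducibleComponents_of_maximal x h

end Top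

section Flat

variable {X Y : Scheme.{u}}

theorem map_mem_genericPoints_of_flat (g : X ⟶ Y) [Flat g] (x : X) (hx : x ∈ genericPoints X) :
    g x ∈ genericPoints Y := by
  rw [mem_genericPoints_iff_maximal] at hx ⊢
  intro z hz
  obtain ⟨z', hz', rfl⟩ := Flat.generalizingMap g hz
  rw [hx z' hz']

end Flat

section Section

variable {X Y X' Y' : Scheme.{u}} {f : X ⟶ Y} {g : Y' ⟶ Y} {f' : X' ⟶ Y'} {g' : X' ⟶ X}

/-- If the residue field extension of `f` at `ξ` is trivial, the base change `f'` of `f` has a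
section over the fibre of `g` over `f ξ`. -/
theorem exists_section_over_fibre (sq : IsPullback g' f' f g) (ξ : X)
    (hbij : Function.Bijective (f.residueFieldMap ξ).hom) :
    ∃ s : g.fiber (f ξ) ⟶ X', s ≫ f' = g.fiberι (f ξ) := by
  haveI : IsIso (f.residueFieldMap ξ) :=
    (ConcreteCategory.isIso_iff_bijective (f.residueFieldMap ξ)).mpr hbij
  let τ : Spec (Y.residueField (f ξ)) ⟶ X :=
    Spec.map (inv (f.residueFieldMap ξ)) ≫ X.fromSpecResidueField ξ
  have hτ : τ ≫ f = Y.fromSpecResidueField (f ξ) := by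
    change (Spec.map (inv (f.residueFieldMap ξ)) ≫ X.fromSpecResidueField ξ) ≫ f = _
    rw [Category.assoc, ← Scheme.Hom.SpecMap_residueFieldMap_fromSpecResidueField,
      ← Spec.map_comp_assoc, IsIso.hom_inv_id, Spec.map_id, Category.id_comp]
  refine ⟨sq.lift (g.fiberToSpecResidueField (f ξ) ≫ τ) (g.fiberι (f ξ)) ?_, sq.lift_snd _ _ _⟩
  rw [Category.assoc, hτ, g.fiber_fac]

/-- For a point `η'` of `Y'` over `f ξ` (with trivial residue extension at `ξ`) there is a point of
`X'` over `η'` with trivial residue field extension. -/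
theorem exists_point_over (sq : IsPullback g' f' f g) (ξ : X)
    (hbij : Function.Bijective (f.residueFieldMap ξ).hom) (η' : Y') (hη' : g η' = f ξ) :
    ∃ ξ' : X', f' ξ' = η' ∧ Function.Bijective (f'.residueFieldMap ξ').hom := by
  obtain ⟨s, hs⟩ := exists_section_over_fibre sq ξ hbij
  have hmem : η' ∈ Set.range (g.fiberι (f ξ)) := by
    rw [g.range_fiberι]; exact hη'
  obtain ⟨w, hw⟩ := hmem
  have hsw : f' (s w) = η' := by
    rw [← hw, ← hs]; rfl
  refine ⟨s w, hsw, ?_⟩
  -- residue fields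
  have h1 := Scheme.Hom.residueFieldMap_congr hs w
  rw [Scheme.residueFieldMap_comp] at h1
  have hb := residueFieldMap_bijective_of_isPreimmersion (g.fiberι (f ξ)) w
  have hb3 : Function.Bijective (Y'.residueFieldCongr
      (show (s ≫ f') w = (g.fiberι (f ξ)) w by rw [hs])).hom.hom :=
    ConcreteCategory.bijective_of_isIso _
  have h2 : (s.residueFieldMap w).hom.comp (f'.residueFieldMap (s w)).hom =
      ((g.fiberι (f ξ)).residueFieldMap w).hom.comp (Y'.residueFieldCongr
        (show (s ≫ f') w = (g.fiberι (f ξ)) w by rw [hs])).hom.hom :=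
    congrArg CommRingCat.Hom.hom h1
  have hcomp : Function.Bijective ((s.residueFieldMap w).hom.comp
      (f'.residueFieldMap (s w)).hom) := by
    rw [h2]
    exact hb.comp hb3
  have hsurj : Function.Surjective (s.residueFieldMap w).hom := by
    intro z
    obtain ⟨a, ha⟩ := hcomp.2 z
    exact ⟨_, ha⟩
  have hsbij : Function.Bijective (s.residueFieldMap w).hom :=
    ⟨(s.residueFieldMap w).hom.injective, hsurj⟩
  refine ⟨(f'.residueFieldMap (s w)).hom.injective, fun z => ?_⟩
  obtain ⟨a, ha⟩ := hcomp.2 ((s.residueFieldMap w).hom z)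
  exact ⟨a, hsbij.1 ha⟩

/-- Lifting generizations inside the fibre of `g` over `f ξ` to `X'`. -/
theorem exists_generization_over (sq : IsPullback g' f' f g) (ξ : X)
    (hbij : Function.Bijective (f.residueFieldMap ξ).hom) (η' ζ' : Y') (hη' : g η' = f ξ)
    (hζ' : g ζ' = f ξ) (hspec : ζ' ⤳ η') :
    ∃ ξ' ω' : X', f' ξ' = η' ∧ f' ω' = ζ' ∧ ω' ⤳ ξ' := by
  obtain ⟨s, hs⟩ := exists_section_over_fibre sq ξ hbij
  have hmem : η' ∈ Set.range (g.fiberι (f ξ)) := by
    rw [g.range_fiberι]; exact hη'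
  have hmem' : ζ' ∈ Set.range (g.fiberι (f ξ)) := by
    rw [g.range_fiberι]; exact hζ'
  obtain ⟨w, rfl⟩ := hmem
  obtain ⟨v, rfl⟩ := hmem'
  have hvw : v ⤳ w := (g.fiberι (f ξ)).isEmbedding.isInducing.specializes_iff.mp hspec
  refine ⟨s w, s v, ?_, ?_, hvw.map s.continuous⟩
  · rw [← hs]; rfl
  · rw [← hs]; rfl

end Section

section Main

variable {X Y X' Y' : Scheme.{u}} {f : X ⟶ Y} {g : Y' ⟶ Y} [Flat g] {f' : X' ⟶ Y'} {g' : X' ⟶ X}

theorem isRadicialAt_of_bijective (η : Y)
    (h : (∀ x x' : X, f x = η → f x' = η → x = x') ∧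
      ∀ x : X, f x = η → Function.Bijective (f.residueFieldMap x).hom) :
    RadPt.IsRadicialAt f η :=
  ⟨h.1, fun x hx => isPurelyInseparable_of_bijective _ (h.2 x hx)⟩

theorem isBirational_of_isPullback (sq : IsPullback g' f' f g) (hf : RadPt.IsBirational f) :
    RadPt.IsBirational f' := by
  haveI : Flat g' := MorphismProperty.of_isPullback sq.flip inferInstance
  have hw : ∀ x' : X', f (g' x') = g (f' x') := fun x' =>
    congrArg (fun ψ : X' ⟶ Y => ψ x') sq.w
  -- facts over a point of `Y'` lying over a generic point of `Y`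
  have hrad : ∀ η' : Y', g η' ∈ genericPoints Y → RadPt.IsRadicialAt f' η' := by
    intro η' hη'
    rw [← isRadicialAt_iff_of_isPullback sq η']
    exact isRadicialAt_of_bijective _ (hf.2 _ hη')
  have hξ : ∀ η' : Y', g η' ∈ genericPoints Y → ∃ ξ : X, ξ ∈ genericPoints X ∧ f ξ = g η' ∧
      Function.Bijective (f.residueFieldMap ξ).hom := by
    intro η' hη'
    obtain ⟨ξ, hξgen, hξ⟩ := hf.1.surjOn hη'
    exact ⟨ξ, hξgen, hξ, (hf.2 _ hη').2 ξ hξ⟩
  have hmaps : Set.MapsTo f' (genericPoints X') (genericPoints Y') := by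
    intro ξ' hξ'
    have hξ₀ : g' ξ' ∈ genericPoints X := map_mem_genericPoints_of_flat g' ξ' hξ'
    have hη₀ : f (g' ξ') ∈ genericPoints Y := hf.1.mapsTo hξ₀
    have hgη : g (f' ξ') ∈ genericPoints Y := by rw [← hw]; exact hη₀
    have hbij := (hf.2 _ hη₀).2 (g' ξ') rfl
    rw [mem_genericPoints_iff_maximal] at hξ' ⊢
    intro ζ' hζ'
    have hgζ : g ζ' = f (g' ξ') := by
      have h1 : g ζ' ⤳ g (f' ξ') := hζ'.map g.continuous
      rw [← hw] at h1
      exact (mem_genericPoints_iff_maximal _).mp hη₀ _ h1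
    obtain ⟨ξ'', ω', h1, h2, h3⟩ := exists_generization_over sq (g' ξ') hbij (f' ξ') ζ'
      (hw ξ').symm hgζ hζ'
    have h4 : ξ'' = ξ' := (hrad _ hgη).1 _ _ h1 rfl
    subst h4
    have h5 : ω' = ξ'' := hξ' ω' h3
    rw [← h2, h5]
  refine ⟨⟨hmaps, ?_, ?_⟩, ?_⟩
  · intro a ha b hb hab
    have hη₀ : g (f' a) ∈ genericPoints Y := by
      rw [← hw]
      exact hf.1.mapsTo (map_mem_genericPoints_of_flat g' a ha)
    exact (hrad _ hη₀).1 a b rfl hab.symm
  · intro η' hη'
    have hgη : g η' ∈ genericPoints Y := map_mem_genericPoints_of_flat g η' hη'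
    obtain ⟨ξ, -, hξ, hbij⟩ := hξ η' hgη
    obtain ⟨ξ', hξ', -⟩ := exists_point_over sq ξ hbij η' hξ.symm
    refine ⟨ξ', ?_, hξ'⟩
    rw [mem_genericPoints_iff_maximal] at hη' ⊢
    intro ζ hζ
    have h1 : f' ζ ⤳ η' := hξ' ▸ hζ.map f'.continuous
    have h2 : f' ζ = η' := hη' _ h1
    exact (hrad _ hgη).1 _ _ h2 hξ'
  · intro η' hη'
    have hgη : g η' ∈ genericPoints Y := map_mem_genericPoints_of_flat g η' hη'
    refine ⟨(hrad _ hgη).1, fun x' hx' => ?_⟩
    obtain ⟨ξ, -, hξ, hbij⟩ := hξ η' hgη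
    obtain ⟨ξ', hξ', hb⟩ := exists_point_over sq ξ hbij η' hξ.symm
    have : x' = ξ' := (hrad _ hgη).1 _ _ hx' hξ'
    subst this
    exact hb

end Main

end Groth.Agent.Lib.Helper6.RadF
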