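import Mathlib
import Groth.Prelude.Def_FDesc
import Groth.Agent.Lib.Helper29.QCohAss2
import Groth.Agent.Lib.Helper29.QCohLocFree
import Groth.Agent.Lib.Helper29.TensorIso
import Groth.Agent.Lib.Helper26.ReducedWeakAss
import Groth.Agent.Lib.Helper9.RefStalk2

/-!
# Reduced modules: the structure sheaf, isomorphisms (helper6)

* `unitStalkEquiv`: the stalk of the structure sheaf viewed as a module is free of rank one over
  the local ring;
* `isReducedMod_of_iso`: `AssSch.IsReducedMod` is invariant under isomorphisms;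
* `isReducedMod_unit_iff`: the structure sheaf is a reduced module iff the scheme is reduced
  (no Noetherian hypothesis, with Mathlib's radical form of associated primes);
* `isFlatOver_unit`: the structure sheaf of the source of a flat morphism is flat over the target.
-/

set_option autoImplicit false
set_option linter.style.haveILetI false
set_option linter.unusedSectionVars false
universe u

open CategoryTheory CategoryTheory.Limits AlgebraicGeometry TopologicalSpace Opposite
open Groth.Agent.Lib.Helper29.QCoh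

namespace Groth.Agent.Lib.Helper6.RedBC

variable {X : Scheme.{u}}

/-- the germ at `x` of the unit section of the structure sheaf viewed as a module -/
noncomputable def oneGerm (X : Scheme.{u}) (x : X) : (unitM X).presheaf.stalk x :=
  (unitM X).presheaf.germ ⊤ x trivial (toUnit (1 : Γ(X, ⊤)))

theorem smul_oneGerm (x : X) (V : X.Opens) (hx : x ∈ V) (a : Γ(X, V)) :
    X.presheaf.germ V x hx a • oneGerm X x = (unitM X).presheaf.germ V x hx (toUnit a) := by
  rw [toUnit_eq_smul_one, germ_smul, ← res_toUnit_one (le_top : V ≤ ⊤), germ_res]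
  rfl

theorem unit_injective (x : X) : Function.Injective
    (LinearMap.toSpanSingleton (X.presheaf.stalk x) ((unitM X).presheaf.stalk x) (oneGerm X x)) := by
  rw [← LinearMap.ker_eq_bot, LinearMap.ker_eq_bot']
  intro r hr
  rw [LinearMap.toSpanSingleton_apply] at hr
  obtain ⟨V, hxV, a, rfl⟩ := X.presheaf.exists_germ_eq r
  rw [smul_oneGerm] at hr
  obtain ⟨W, hWV, hxW, h0⟩ := exists_res_eq_zero_of_germ_eq_zero (unitM X) x hxV (toUnit a) hr
  have h1 : X.presheaf.map (homOfLE hWV).op a = 0 := h0
  rw [← X.presheaf.germ_res_apply (homOfLE hWV) x hxW a, h1, map_zero]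

theorem unit_surjective (x : X) : Function.Surjective
    (LinearMap.toSpanSingleton (X.presheaf.stalk x) ((unitM X).presheaf.stalk x) (oneGerm X x)) := by
  intro u
  obtain ⟨V, hxV, s, rfl⟩ := (unitM X).presheaf.exists_germ_eq u
  obtain ⟨a, rfl⟩ := toUnit_surjective s
  exact ⟨X.presheaf.germ V x hxV a, by rw [LinearMap.toSpanSingleton_apply, smul_oneGerm]⟩

/-- the stalk of the structure sheaf viewed as a module is free of rank one -/
noncomputable def unitStalkEquiv (X : Scheme.{u}) (x : X) :
    X.presheaf.stalk x ≃ₗ[X.presheaf.stalk x] (unitM X).presheaf.stalk x :=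
  LinearEquiv.ofBijective _ ⟨unit_injective x, unit_surjective x⟩

theorem unitStalkEquiv_apply (x : X) (r : X.presheaf.stalk x) :
    unitStalkEquiv X x r = r • oneGerm X x := rfl

/-! ### isomorphisms -/

theorem ass_eq_of_iso {M N : X.Modules} (e : M ≅ N) : AssSch.Ass M = AssSch.Ass N := by
  ext x
  exact ⟨isAssPoint_of_mono e.hom x, isAssPoint_of_mono e.inv x⟩

/-- an isomorphism of modules induces linear equivalences on stalks -/
noncomputable def stalkEquivOfIso {M N : X.Modules} (e : M ≅ N) (x : X) :
    M.presheaf.stalk x ≃ₗ[X.presheaf.stalk x] N.presheaf.stalk x :=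
  LinearEquiv.ofBijective (stalkMapₗ e.hom x)
    ((isIso_iff_stalkMap_bijective e.hom).mp inferInstance x)

theorem isReducedMod_of_iso {M N : X.Modules} (e : M ≅ N) (h : AssSch.IsReducedMod M) :
    AssSch.IsReducedMod N := by
  obtain ⟨h1, h2⟩ := h
  refine ⟨?_, ?_⟩
  · intro x hx y hy hyx
    rw [← ass_eq_of_iso e] at hx hy
    exact h1 x hx y hy hyx
  · intro x hx
    rw [← ass_eq_of_iso e] at hx
    rw [← (stalkEquivOfIso e x).length_eq]
    exact h2 x hx

theorem isReducedMod_iff_of_iso {M N : X.Modules} (e : M ≅ N) :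
    AssSch.IsReducedMod M ↔ AssSch.IsReducedMod N :=
  ⟨isReducedMod_of_iso e, isReducedMod_of_iso e.symm⟩

/-! ### the structure sheaf -/

/-- a reduced local ring whose maximal ideal is the radical of the annihilator of an element of a
free module of rank one is a field -/
theorem isUnit_of_radical_ann_eq {R M : Type*} [CommRing R] [IsLocalRing R] [IsReduced R]
    [AddCommGroup M] [Module R M] (e : R ≃ₗ[R] M) (t : M)
    (ht : Ideal.radical (LinearMap.ker (LinearMap.toSpanSingleton R M t)) = IsLocalRing.maximalIdeal R) :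
    ∀ x : R, x ≠ 0 → IsUnit x := by
  have hann : ∀ r : R, r ∈ LinearMap.ker (LinearMap.toSpanSingleton R M t) ↔ r * e.symm t = 0 := by
    intro r
    rw [LinearMap.mem_ker, LinearMap.toSpanSingleton_apply, ← smul_eq_mul, ← map_smul,
      LinearEquiv.map_eq_zero_iff]
  have hmem : ∀ x ∈ IsLocalRing.maximalIdeal R, ∃ n : ℕ, x ^ n * e.symm t = 0 := by
    intro x hx
    rw [← ht] at hx
    obtain ⟨n, hn⟩ := hx
    exact ⟨n, (hann _).mp hn⟩
  have ha : IsUnit (e.symm t) := by
    by_contra hnu
    have hm : e.symm t ∈ IsLocalRing.maximalIdeal R := (IsLocalRing.mem_maximalIdeal _).mpr hnu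
    obtain ⟨n, hn⟩ := hmem _ hm
    have h0 : e.symm t = 0 := IsReduced.eq_zero _ ⟨n + 1, by rw [pow_succ]; exact hn⟩
    have htop : LinearMap.ker (LinearMap.toSpanSingleton R M t) = ⊤ := by
      rw [Ideal.eq_top_iff_one, hann, h0, mul_zero]
    rw [htop, Ideal.radical_top] at ht
    exact (IsLocalRing.maximalIdeal.isMaximal R).ne_top ht.symm
  intro x hx
  by_contra hnu
  have hm : x ∈ IsLocalRing.maximalIdeal R := (IsLocalRing.mem_maximalIdeal _).mpr hnu
  obtain ⟨n, hn⟩ := hmem _ hm
  have h1 : x ^ n = 0 := by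
    have := congrArg (· * (↑ha.unit⁻¹ : R)) hn
    simpa [mul_assoc] using this
  exact hx (IsReduced.eq_zero _ ⟨n, h1⟩)

theorem length_self_eq_one_iff {R : Type*} [CommRing R] :
    Module.length R R = 1 ↔ Nontrivial R ∧ ∀ x : R, x ≠ 0 → IsUnit x := by
  rw [Module.length_eq_one_iff, isSimpleModule_self_iff_isUnit]

theorem isReducedMod_unit_of_isReduced (Z : Scheme.{u}) [IsReduced Z] :
    AssSch.IsReducedMod (Coh.structureModule Z) := by
  have hass : ∀ z, z ∈ AssSch.Ass (Coh.structureModule Z) ↔ ∀ y : Z, y ⤳ z → y = z := by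
    intro z
    change Curv2.IsAssPoint _ z ↔ _
    rw [isAssPoint_iff_isWeakAssPoint]
    exact Groth.Agent.Lib.Helper26.ReducedWeakAss.main Z z
  refine ⟨?_, ?_⟩
  · intro x hx y _ hyx
    exact ((hass x).mp hx y hyx).symm
  · intro z hz
    change Curv2.IsAssPoint _ z at hz
    rw [isAssPoint_iff_isWeakAssPoint] at hz
    obtain ⟨t, ht⟩ := hz
    change Module.length (Z.presheaf.stalk z) ((unitM Z).presheaf.stalk z) = 1
    rw [← (unitStalkEquiv Z z).length_eq, length_self_eq_one_iff]
    exact ⟨inferInstance, isUnit_of_radical_ann_eq (unitStalkEquiv Z z) t ht⟩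

theorem isReduced_of_isReducedMod_unit (Z : Scheme.{u})
    (h : AssSch.IsReducedMod (Coh.structureModule Z)) : IsReduced Z := by
  have haff : ∀ (U : Z.Opens), IsAffineOpen U → _root_.IsReduced Γ(Z, U) := by
    intro U hU
    constructor
    intro a ha
    by_contra ha0
    have hJ : annSection (unitM Z) (toUnit a) ≠ ⊤ := by
      rw [Ne, Ideal.eq_top_iff_one, mem_annSection]
      change ¬ ((1 : Γ(Z, U)) * a = 0)
      rwa [one_mul]
    obtain ⟨P, hP⟩ := Ideal.nonempty_minimalPrimes hJ
    haveI : P.IsPrime := hP.1.1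
    obtain ⟨z, hz, hzP⟩ := exists_point_of_prime' hU ⟨P, inferInstance⟩
    have hw : Curv2.IsWeakAssPoint (unitM Z) z := by
      apply isWeakAssPoint_of_mem_minimalPrimes (unitM Z) hU (toUnit a) z hz
      rw [hzP]
      exact hP
    have hlen := h.2 z ((isAssPoint_iff_isWeakAssPoint _ z).mpr hw)
    change Module.length (Z.presheaf.stalk z) ((unitM Z).presheaf.stalk z) = 1 at hlen
    rw [← (unitStalkEquiv Z z).length_eq, length_self_eq_one_iff] at hlen
    have hg : Z.presheaf.germ U z hz a = 0 := by
      by_contra hne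
      have hu := hlen.2 _ hne
      obtain ⟨n, hn⟩ := ha
      have : IsNilpotent (Z.presheaf.germ U z hz a) := ⟨n, by rw [← map_pow, hn, map_zero]⟩
      exact this.not_isUnit hu
    have hg' : (unitM Z).presheaf.germ U z hz (toUnit a) = 0 := by
      rw [← smul_oneGerm, hg, zero_smul]
    obtain ⟨r, hr, hra⟩ := exists_smul_eq_zero_of_germ_eq_zero (unitM Z) hU z hz (toUnit a) hg'
    rw [mem_basicOpen_iff_notMem_primeIdealOf hU z hz r, hzP] at hr
    exact hr (hP.1.2 ((mem_annSection _ _ _).mpr hra))
  haveI : ∀ z : Z, _root_.IsReduced (Z.presheaf.stalk z) := by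
    intro z
    obtain ⟨U, hU, hzU, -⟩ := exists_isAffineOpen_mem_and_subset (x := z) (U := ⊤) trivial
    haveI := haff U hU
    letI := Z.presheaf.algebra_section_stalk (⟨z, hzU⟩ : U)
    haveI := hU.isLocalization_stalk ⟨z, hzU⟩
    exact isReduced_localizationPreserves (hU.primeIdealOf ⟨z, hzU⟩).asIdeal.primeCompl _ inferInstance
  exact isReduced_of_isReduced_stalk Z

/-! ### flatness of the structure sheaf -/

theorem isFlatOver_unit {X S : Scheme.{u}} (f : X ⟶ S) [Flat f] :
    FlatMod.IsFlatOver f (Coh.structureModule X) := by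
  intro x
  unfold FlatMod.IsFlatOverAt
  letI := FlatMod.moduleStalkOver f (Coh.structureModule X) x
  letI : Algebra (S.presheaf.stalk (f.base x)) (X.presheaf.stalk x) := (f.stalkMap x).hom.toAlgebra
  haveI : Module.Flat (S.presheaf.stalk (f.base x)) (X.presheaf.stalk x) := Flat.stalkMap f x
  let e : X.presheaf.stalk x ≃ₗ[S.presheaf.stalk (f.base x)] (unitM X).presheaf.stalk x :=
    { (unitStalkEquiv X x) with
      map_smul' := fun r a => by
        change unitStalkEquiv X x ((f.stalkMap x).hom r * a) =
          (f.stalkMap x).hom r • unitStalkEquiv X x a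
        rw [← smul_eq_mul, map_smul] }
  exact Module.Flat.of_linearEquiv e.symm

/-- the support of the structure sheaf is everything -/
theorem support_unit (X : Scheme.{u}) : CohB1.support (Coh.structureModule X) = Set.univ := by
  ext x
  simp only [Set.mem_univ, iff_true]
  change ¬ Subsingleton ((unitM X).presheaf.stalk x)
  rw [not_subsingleton_iff_nontrivial]
  exact (unitStalkEquiv X x).toEquiv.symm.nontrivial

theorem isReducedMod_unit_iff (Z : Scheme.{u}) :
    AssSch.IsReducedMod (Coh.structureModule Z) ↔ IsReduced Z :=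
  ⟨isReduced_of_isReducedMod_unit Z, fun _ => isReducedMod_unit_of_isReduced Z⟩

end Groth.Agent.Lib.Helper6.RedBC
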