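import Mathlib
import Groth.Prelude.Def_FDesc
import Groth.Agent.Lib.Helper6.RedBC1
import Groth.Agent.Lib.Helper6.AssTens7
import Groth.Agent.Lib.Helper24.GeomRedPI

/-!
# Reduced modules under extension of the base field (helper6)

`F ⊗_k K` is a reduced module iff every associated point `x` of `F` is maximal in `Ass F`, has
`length F_x = 1`, and `κ(x) ⊗_k K` is reduced.  Consequently (EGA IV 4.6.x) geometric reducedness
of a coherent module can be tested on finite purely inseparable extensions.
-/

set_option autoImplicit false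
set_option linter.style.haveILetI false
set_option linter.unusedSectionVars false
universe u

open CategoryTheory CategoryTheory.Limits AlgebraicGeometry TopologicalSpace Opposite
open Groth.Agent.Lib.Helper29.QCoh

namespace Groth.Agent.Lib.Helper6.RedBC

variable {k : Type u} [Field k] {X : Scheme.{u}}

/-- the fibre of `X_K → X` over `x` is `Spec κ(x) ×_k Spec K` -/
noncomputable def fiberBcIso (f : X ⟶ Spec (CommRingCat.of k)) (K : Type u) [Field K] [Algebra k K]
    (x : X) : (FBase.bcπ f K).fiber x ≅ FBase.bc (X.fromSpecResidueField x ≫ f) K :=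
  pullbackSymmetry _ _ ≪≫
    pullbackRightPullbackFstIso f (Spec.map (CommRingCat.ofHom (algebraMap k K)))
      (X.fromSpecResidueField x)

theorem isReduced_fiber_iff (f : X ⟶ Spec (CommRingCat.of k)) (K : Type u) [Field K] [Algebra k K]
    (x : X) : IsReduced ((FBase.bcπ f K).fiber x) ↔
      IsReduced (FBase.bc (X.fromSpecResidueField x ≫ f) K) := by
  constructor
  · intro h
    exact isReduced_of_isOpenImmersion (fiberBcIso f K x).inv
  · intro h
    exact isReduced_of_isOpenImmersion (fiberBcIso f K x).hom

instance flat_bcπ (f : X ⟶ Spec (CommRingCat.of k)) (K : Type u) [Field K] [Algebra k K] :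
    Flat (FBase.bcπ f K) := by
  haveI : Flat (Spec.map (CommRingCat.ofHom (algebraMap k K))) := by
    rw [Flat.SpecMap_iff]
    exact (RingHom.flat_algebraMap_iff.mpr inferInstance : (algebraMap k K).Flat)
  exact inferInstanceAs (Flat (pullback.fst f (Spec.map (CommRingCat.ofHom (algebraMap k K)))))

instance surjective_bcπ (f : X ⟶ Spec (CommRingCat.of k)) (K : Type u) [Field K] [Algebra k K] :
    Surjective (FBase.bcπ f K) := by
  haveI : Surjective (Spec.map (CommRingCat.ofHom (algebraMap k K))) := by
    constructor
    intro y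
    obtain ⟨z⟩ : Nonempty (Spec (CommRingCat.of K)) := inferInstance
    exact ⟨z, Subsingleton.elim _ _⟩
  exact inferInstanceAs (Surjective (pullback.fst f (Spec.map (CommRingCat.ofHom (algebraMap k K)))))

/-- **Criterion**: `F ⊗_k K` is a reduced module iff `F` is generically of length one without
embedded points and `κ(x) ⊗_k K` is reduced for every associated point `x` of `F`. -/
theorem isReducedMod_bc_iff [IsLocallyNoetherian X] (f : X ⟶ Spec (CommRingCat.of k))
    (F : X.Modules) (hF : Coh.IsCoh F) (K : Type u) [Field K] [Algebra k K]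
    [IsLocallyNoetherian (FBase.bc f K)] :
    AssSch.IsReducedMod ((Scheme.Modules.pullback (FBase.bcπ f K)).obj F) ↔
      ∀ x ∈ AssSch.Ass F, (∀ x' ∈ AssSch.Ass F, x' ⤳ x → x' = x) ∧
        Module.length (X.presheaf.stalk x) (F.presheaf.stalk x) = 1 ∧
        IsReduced (FBase.bc (X.fromSpecResidueField x ≫ f) K) := by
  haveI := hF.1
  haveI := hF.2
  have hU := Groth.Agent.Lib.Helper9.RefStalk.isCoh_unit (FBase.bc f K)
  haveI := hU.1
  haveI := hU.2
  rw [isReducedMod_iff_of_iso (tensorUnitR ((Scheme.Modules.pullback (FBase.bcπ f K)).obj F)).symm,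
    Groth.Agent.Lib.Helper6.AssTens.isReducedMod_tensor_iff_of_flat (FBase.bcπ f K) F
      (unitM (FBase.bc f K)) (isFlatOver_unit (FBase.bcπ f K))]
  have hfib : ∀ x : X, AssSch.IsReducedMod ((Scheme.Modules.pullback
      ((FBase.bcπ f K).fiberι x)).obj (unitM (FBase.bc f K))) ↔
      IsReduced (FBase.bc (X.fromSpecResidueField x ≫ f) K) := by
    intro x
    rw [isReducedMod_iff_of_iso (pullbackUnitIso ((FBase.bcπ f K).fiberι x)),
      ← isReduced_fiber_iff]
    exact isReducedMod_unit_iff _
  constructor
  · intro h x hx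
    obtain ⟨z, hz⟩ := (FBase.bcπ f K).surjective x
    have h1 := h x ⟨hx, z, by rw [support_unit]; trivial, hz⟩
    exact ⟨h1.1, h1.2.1, (hfib x).mp h1.2.2⟩
  · intro h x hx
    have h1 := h x hx.1
    exact ⟨h1.1, h1.2.1, (hfib x).mpr h1.2.2⟩

/-- reducedness of all base changes follows from finite purely inseparable ones -/
theorem isReduced_bc_of_forall_finite_pi {U : Scheme.{u}} (g : U ⟶ Spec (CommRingCat.of k))
    (h : ∀ (k' : Type u) [Field k'] [Algebra k k'], Module.Finite k k' → IsPurelyInseparable k k' →
      IsReduced (FBase.bc g k')) (K : Type u) [Field K] [Algebra k K] :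
    IsReduced (FBase.bc g K) := by
  haveI := Groth.Agent.Lib.Helper24.GeomRedPI.geometricallyReduced_of_forall_finite_pi g h
  exact GeometricallyReduced.geometrically_isReduced (f := g)
    (Spec.map (CommRingCat.ofHom (algebraMap k K))) _ _ (IsPullback.of_hasPullback _ _)

instance isLocallyNoetherian_bc_of_finite [IsLocallyNoetherian X]
    (f : X ⟶ Spec (CommRingCat.of k)) (k' : Type u) [Field k'] [Algebra k k']
    [FiniteDimensional k k'] : IsLocallyNoetherian (FBase.bc f k') := by
  haveI : LocallyOfFiniteType (Spec.map (CommRingCat.ofHom (algebraMap k k'))) := by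
    rw [HasRingHomProperty.Spec_iff (P := @LocallyOfFiniteType)]
    exact (RingHom.finiteType_algebraMap.mpr inferInstance : (algebraMap k k').FiniteType)
  haveI : LocallyOfFiniteType (FBase.bcπ f k') :=
    inferInstanceAs (LocallyOfFiniteType
      (pullback.fst f (Spec.map (CommRingCat.ofHom (algebraMap k k')))))
  exact LocallyOfFiniteType.isLocallyNoetherian (FBase.bcπ f k')

/-- EGA IV 4.6.x for modules: geometric reducedness can be tested on finite purely inseparable
extensions. -/
theorem main [IsLocallyNoetherian X] (f : X ⟶ Spec (CommRingCat.of k)) (F : X.Modules)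
    (hF : Coh.IsCoh F) :
    (∀ (k' : Type u) [Field k'] [Algebra k k'] [FiniteDimensional k k'] [IsPurelyInseparable k k'],
        AssSch.IsReducedMod ((Scheme.Modules.pullback (FBase.bcπ f k')).obj F)) ↔
      ∀ (K : Type u) [Field K] [Algebra k K] [IsLocallyNoetherian (FBase.bc f K)],
        AssSch.IsReducedMod ((Scheme.Modules.pullback (FBase.bcπ f K)).obj F) := by
  constructor
  · intro h K _ _ _
    rw [isReducedMod_bc_iff f F hF K]
    intro x hx
    have h0 := (isReducedMod_bc_iff f F hF k).mp (h k) x hx
    refine ⟨h0.1, h0.2.1, ?_⟩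
    apply isReduced_bc_of_forall_finite_pi
    intro k' _ _ hfin hpi
    exact ((isReducedMod_bc_iff f F hF k').mp (h k') x hx).2.2
  · intro h k' _ _ _ _
    exact h k'

end Groth.Agent.Lib.Helper6.RedBC
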