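import Mathlib
import Groth.Prelude.Def_FDesc
import Groth.Agent.Lib.Helper9.TensAss1
import Groth.Agent.Lib.Helper26.ReducedWeakAss

/-!
# Associated points of the structure sheaf of a scheme with good affine charts (helper6)

In a "good" ring (torsion-free and algebraic over a domain, e.g. `K ⊗_k L` for fields) weakly
associated primes are minimal primes; hence on a scheme with good charts the associated points of
the structure sheaf are exactly the maximal points.  No Noetherian hypothesis.
-/

set_option autoImplicit false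
set_option linter.style.haveILetI false
set_option linter.unusedSectionVars false
universe u

open CategoryTheory CategoryTheory.Limits AlgebraicGeometry TopologicalSpace Opposite
open Groth.Agent.Lib.Helper9.TensAss Groth.Agent.Lib.Helper26 Groth.Agent.Lib.Helper29.QCoh

namespace Groth.Agent.Lib.Helper6.TXY

/-- in a good ring, a prime minimal over the annihilator of an element is a minimal prime -/
theorem mem_minimalPrimes_of_good {C : Type u} [CommRing C] (h : Good C) (J P : Ideal C) (a : C)
    (hJ : ∀ r, r ∈ J ↔ r * a = 0) (hP : P ∈ J.minimalPrimes) : P ∈ minimalPrimes C := by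
  obtain ⟨R, _, _, ρ, h1, h2⟩ := h
  haveI hPp : P.IsPrime := hP.1.1
  have hcontr : ∀ r : R, ρ r ∈ P → r = 0 := by
    intro r hr
    by_contra hr0
    obtain ⟨y, hy, n, hyn⟩ := FinitePushAss.exists_mul_pow_mem J P hP (ρ r) hr
    rw [hJ] at hyn
    have hnz := h1 (r ^ n) (pow_ne_zero n hr0)
    rw [map_pow] at hnz
    have h3 : ρ r ^ n * (y * a) = 0 := by
      rw [← hyn]; ring
    have h4 : y * a = 0 := by
      rw [mem_nonZeroDivisors_iff] at hnz
      exact hnz.1 _ h3
    exact hy (hP.1.2 ((hJ y).mpr h4))
  refine ⟨⟨hPp, bot_le⟩, ?_⟩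
  rintro Q ⟨hQ, -⟩ hle x hx'
  haveI := hQ
  by_contra hx
  letI : Algebra R C := ρ.toAlgebra
  have halg : IsAlgebraic R (Ideal.Quotient.mk Q x) := by
    obtain ⟨p, hp, hpe⟩ := h2 x
    have : IsAlgebraic R x := ⟨p, hp, by rw [Polynomial.aeval_def]; exact hpe⟩
    exact this.algHom (Ideal.Quotient.mkₐ R Q)
  have hne : Ideal.Quotient.mk Q x ≠ 0 := by
    rwa [Ne, Ideal.Quotient.eq_zero_iff_mem]
  obtain ⟨r, hr0, y, hy⟩ := halg.exists_nonzero_dvd (mem_nonZeroDivisors_of_ne_zero hne)
  obtain ⟨y', rfl⟩ := Ideal.Quotient.mk_surjective y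
  have h4 : ρ r - x * y' ∈ Q := by
    rw [← Ideal.Quotient.eq_zero_iff_mem, map_sub, map_mul, ← hy, sub_eq_zero]
    rfl
  have h5 : ρ r ∈ P := by
    have := P.add_mem (hle h4) (P.mul_mem_right y' hx')
    simpa using this
  exact hr0 (hcontr r h5)

variable {T : Scheme.{u}}

/-- on a scheme with a good affine chart around `t`, the point `t` is associated to the structure
sheaf iff it is a maximal point -/
theorem mem_ass_structureModule_iff_of_good {U : T.Opens} (hU : IsAffineOpen U)
    (hgood : Good Γ(T, U)) (t : T) (ht : t ∈ U) :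
    t ∈ AssSch.Ass (Coh.structureModule T) ↔ ∀ t' : T, t' ⤳ t → t' = t := by
  change Curv2.IsAssPoint (unitM T) t ↔ _
  rw [isAssPoint_iff_isWeakAssPoint]
  constructor
  · intro h
    obtain ⟨m, hm⟩ := exists_mem_minimalPrimes_of_isWeakAssPoint (unitM T) hU t ht h
    have hmin := mem_minimalPrimes_of_good hgood _ _ (show Γ(T, U) from m)
      (fun r => by rw [mem_annSection]; rfl) hm
    exact ReducedWeakAss.eq_of_specializes_of_mem_minimalPrimes hU t ht hmin
  · intro h
    have hmin := GenericAffine.primeIdealOf_mem_minimalPrimes hU t ht h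
    apply isWeakAssPoint_of_mem_minimalPrimes (unitM T) hU (toUnit (1 : Γ(T, U))) t ht
    have e : annSection (unitM T) (toUnit (1 : Γ(T, U))) = ⊥ := by
      ext r
      rw [mem_annSection, Ideal.mem_bot]
      change r * 1 = 0 ↔ _
      rw [mul_one]
    rw [e]
    exact hmin

end Groth.Agent.Lib.Helper6.TXY
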