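import Mathlib
import Groth.Prelude.Def_FDesc
import Groth.Agent.Lib.Helper9.TensAss3
import Groth.Agent.Lib.Helper6.TXY1

/-!
# The scheme `T(x, y) = Spec κ(x) ×_S Spec κ(y)` (helper6)
-/

set_option autoImplicit false
set_option linter.style.haveILetI false
set_option linter.unusedSectionVars false
universe u

open CategoryTheory CategoryTheory.Limits AlgebraicGeometry TopologicalSpace Opposite TensorProduct
open Groth.Agent.Lib.Helper9.TensAss

namespace Groth.Agent.Lib.Helper6.TXY

section Cat

universe v w
variable {C : Type w} [Category.{v} C]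

/-- pulling back over a monomorphism does not change the pullback -/
noncomputable def pullbackCompMonoIso {X Y S T : C} (a : X ⟶ S) (b : Y ⟶ S) (i : S ⟶ T) [Mono i]
    [HasPullback a b] [HasPullback (a ≫ i) (b ≫ i)] : pullback (a ≫ i) (b ≫ i) ≅ pullback a b where
  hom := pullback.lift (pullback.fst _ _) (pullback.snd _ _) (by
    rw [← cancel_mono i, Category.assoc, Category.assoc, pullback.condition])
  inv := pullback.mapDesc a b i
  hom_inv_id := by
    apply pullback.hom_ext
    · rw [Category.assoc, pullback.lift_fst, Category.id_comp, Category.comp_id, pullback.lift_fst]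
    · rw [Category.assoc, pullback.lift_snd, Category.id_comp, Category.comp_id, pullback.lift_snd]
  inv_hom_id := by
    apply pullback.hom_ext
    · rw [Category.assoc, pullback.lift_fst, pullback.lift_fst, Category.id_comp, Category.comp_id]
    · rw [Category.assoc, pullback.lift_snd, pullback.lift_snd, Category.id_comp, Category.comp_id]

end Cat

variable {X Y S : Scheme.{u}}

/-- `T(x, y)` is affine with a good ring of global sections -/
theorem isAffine_and_good_T (f : X ⟶ S) (g : Y ⟶ S) (x : X) (y : Y) (h : f x = g y) :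
    IsAffine (pullback (X.fromSpecResidueField x ≫ f) (Y.fromSpecResidueField y ≫ g)) ∧
      Good Γ(pullback (X.fromSpecResidueField x ≫ f) (Y.fromSpecResidueField y ≫ g), ⊤) := by
  obtain ⟨α, hα⟩ : ∃ α : S.residueField (f x) ⟶ X.residueField x, α = f.residueFieldMap x :=
    ⟨_, rfl⟩
  obtain ⟨β, hβ⟩ : ∃ β : S.residueField (f x) ⟶ Y.residueField y,
      β = (S.residueFieldCongr h).hom ≫ g.residueFieldMap y := ⟨_, rfl⟩
  obtain ⟨i, hi⟩ : ∃ i : Spec (S.residueField (f x)) ⟶ S, i = S.fromSpecResidueField (f x) :=
    ⟨_, rfl⟩
  haveI : Mono i := by rw [hi]; infer_instance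
  have eq1 : Spec.map α ≫ i = X.fromSpecResidueField x ≫ f := by
    rw [hα, hi]
    exact Scheme.Hom.SpecMap_residueFieldMap_fromSpecResidueField f x
  have eq2 : Spec.map β ≫ i = Y.fromSpecResidueField y ≫ g := by
    rw [hβ, hi, Spec.map_comp, Category.assoc, Scheme.residueFieldCongr_fromSpecResidueField]
    exact Scheme.Hom.SpecMap_residueFieldMap_fromSpecResidueField g y
  letI algK : Algebra (S.residueField (f x)) (X.residueField x) := α.hom.toAlgebra
  letI algL : Algebra (S.residueField (f x)) (Y.residueField y) := β.hom.toAlgebra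
  have hφ : Spec.map (CommRingCat.ofHom (algebraMap (S.residueField (f x)) (X.residueField x))) =
      Spec.map α := rfl
  have hψ : Spec.map (CommRingCat.ofHom (algebraMap (S.residueField (f x)) (Y.residueField y))) =
      Spec.map β := rfl
  let e : pullback (X.fromSpecResidueField x ≫ f) (Y.fromSpecResidueField y ≫ g) ≅
      Spec (CommRingCat.of ((X.residueField x) ⊗[S.residueField (f x)] (Y.residueField y))) :=
    pullback.congrHom eq1.symm eq2.symm ≪≫ pullbackCompMonoIso (Spec.map α) (Spec.map β) i ≪≫
      pullback.congrHom hφ.symm hψ.symm ≪≫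
      pullbackSpecIso (S.residueField (f x)) (X.residueField x) (Y.residueField y)
  haveI haff : IsAffine (pullback (X.fromSpecResidueField x ≫ f)
      (Y.fromSpecResidueField y ≫ g)) := IsAffine.of_isIso e.hom
  refine ⟨haff, ?_⟩
  let E : Γ(pullback (X.fromSpecResidueField x ≫ f) (Y.fromSpecResidueField y ≫ g), ⊤) ≅
      CommRingCat.of ((X.residueField x) ⊗[S.residueField (f x)] (Y.residueField y)) :=
    (Scheme.Γ.mapIso e.symm.op) ≪≫ Scheme.ΓSpecIso _
  exact Good.of_ringEquiv E.commRingCatIsoToRingEquiv
    (good_tensor_field (S.residueField (f x)) (X.residueField x) (Y.residueField y))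

end Groth.Agent.Lib.Helper6.TXY
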