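import Mathlib
import Groth.Prelude.Def_FDesc
import Groth.Agent.Lib.Helper6.TXY2

/-!
# Fibres of a morphism with locally Noetherian source are locally Noetherian (helper6)
-/

set_option autoImplicit false
set_option linter.style.haveILetI false
set_option linter.unusedSectionVars false
universe u

open CategoryTheory CategoryTheory.Limits AlgebraicGeometry TopologicalSpace Opposite TensorProduct

namespace Groth.Agent.Lib.Helper6.RedBC

/-- if `B → κ` is surjective on stalks with `κ` a field and `C` is a Noetherian `B`-algebra, then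
`C ⊗_B κ` is Noetherian -/
theorem isNoetherianRing_tensor_of_surjectiveOnStalks {B C κ : Type u} [CommRing B] [CommRing C]
    [CommRing κ] [Algebra B C] [Algebra B κ] (hκ : IsField κ)
    (hψ : (algebraMap B κ).SurjectiveOnStalks) [IsNoetherianRing C] :
    IsNoetherianRing (C ⊗[B] κ) := by
  classical
  haveI := hκ.nontrivial
  have hbot : (⊥ : Ideal κ).IsPrime := by
    rw [Ideal.isPrime_iff]
    refine ⟨?_, ?_⟩
    · rw [Ne, Ideal.eq_top_iff_one, Ideal.mem_bot]
      exact one_ne_zero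
    · intro a b hab
      rw [Ideal.mem_bot] at hab
      simp only [Ideal.mem_bot]
      by_cases ha : a = 0
      · exact Or.inl ha
      · right
        obtain ⟨a', ha'⟩ := hκ.mul_inv_cancel ha
        calc b = (a * a') * b := by rw [ha', one_mul]
          _ = a' * (a * b) := by ring
          _ = 0 := by rw [hab, mul_zero]
  have key : ∀ x : C ⊗[B] κ, ∃ (u : C ⊗[B] κ) (a : C), IsUnit u ∧ u * x = a ⊗ₜ 1 := by
    intro x
    obtain ⟨t, r, a, hrt, e⟩ := hψ.exists_mul_eq_tmul x ⊥ hbot
    rw [Ideal.mem_bot] at hrt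
    have ht : t ≠ 0 := by
      rintro rfl
      exact hrt (smul_zero r)
    obtain ⟨t', ht'⟩ := hκ.mul_inv_cancel ht
    have hne : t' * (r • t) ≠ 0 := by
      intro h0
      apply hrt
      calc r • t = (t * t') * (r • t) := by rw [ht', one_mul]
        _ = t * (t' * (r • t)) := by ring
        _ = 0 := by rw [h0, mul_zero]
    obtain ⟨s, hs⟩ := hκ.mul_inv_cancel hne
    refine ⟨1 ⊗ₜ (t' * (r • t)), a, ?_, ?_⟩
    · exact IsUnit.of_mul_eq_one (1 ⊗ₜ s) (by
        rw [Algebra.TensorProduct.tmul_mul_tmul, one_mul, hs]; rfl)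
    · calc (1 ⊗ₜ[B] (t' * (r • t)) : C ⊗[B] κ) * x
          = ((1 : C) ⊗ₜ[B] t') * (((1 : C) ⊗ₜ[B] (r • t)) * x) := by
            rw [← mul_assoc, Algebra.TensorProduct.tmul_mul_tmul, one_mul]
        _ = ((1 : C) ⊗ₜ[B] t') * (a ⊗ₜ[B] t) := by rw [e]
        _ = a ⊗ₜ 1 := by rw [Algebra.TensorProduct.tmul_mul_tmul, one_mul, mul_comm, ht']
  let φ : C →+* C ⊗[B] κ := Algebra.TensorProduct.includeLeftRingHom
  have hmap : ∀ J : Ideal (C ⊗[B] κ), Ideal.map φ (Ideal.comap φ J) = J := by
    intro J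
    refine le_antisymm Ideal.map_comap_le ?_
    intro x hx
    obtain ⟨u, a, hu, hua⟩ := key x
    have ha : a ∈ Ideal.comap φ J := by
      rw [Ideal.mem_comap]
      change a ⊗ₜ 1 ∈ J
      rw [← hua]
      exact J.mul_mem_left _ hx
    have h1 : u * x ∈ Ideal.map φ (Ideal.comap φ J) := by
      rw [hua]
      exact Ideal.mem_map_of_mem φ ha
    exact (Ideal.unit_mul_mem_iff_mem _ hu).mp h1
  have hinj : Function.Injective (Ideal.comap φ) := by
    intro J J' h
    rw [← hmap J, ← hmap J', h]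
  have hmono : StrictMono (Ideal.comap φ) :=
    Monotone.strictMono_of_injective (fun _ _ h => Ideal.comap_mono h) hinj
  rw [isNoetherianRing_iff, isNoetherian_iff']
  haveI : WellFoundedGT (Ideal C) := (isNoetherian_iff' (R := C) (M := C)).mp inferInstance
  exact hmono.wellFoundedGT

/-- affine case -/
theorem isLocallyNoetherian_pullback_affine {A V : Scheme.{u}} [IsAffine A] [IsAffine V]
    [IsLocallyNoetherian A] (q : A ⟶ V) (K : CommRingCat.{u}) (hK : IsField K)
    (iV : Spec K ⟶ V) [IsPreimmersion iV] : IsLocallyNoetherian (pullback q iV) := by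
  obtain ⟨φ, hφ⟩ : ∃ φ : Γ(V, ⊤) ⟶ Γ(A, ⊤), Spec.map φ = A.isoSpec.inv ≫ q ≫ V.isoSpec.hom :=
    ⟨Spec.preimage _, Spec.map_preimage _⟩
  obtain ⟨ψ, hψ⟩ : ∃ ψ : Γ(V, ⊤) ⟶ K, Spec.map ψ = iV ≫ V.isoSpec.hom :=
    ⟨Spec.preimage _, Spec.map_preimage _⟩
  haveI : IsPreimmersion (Spec.map ψ) := by rw [hψ]; infer_instance
  have hsurj : ψ.hom.SurjectiveOnStalks := ((IsPreimmersion.SpecMap_iff ψ).mp inferInstance).2
  letI algC : Algebra Γ(V, ⊤) Γ(A, ⊤) := φ.hom.toAlgebra
  letI algK : Algebra Γ(V, ⊤) K := ψ.hom.toAlgebra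
  haveI : IsNoetherianRing Γ(A, ⊤) :=
    IsLocallyNoetherian.component_noetherian ⟨⊤, isAffineOpen_top A⟩
  haveI : IsNoetherianRing (Γ(A, ⊤) ⊗[Γ(V, ⊤)] K) :=
    isNoetherianRing_tensor_of_surjectiveOnStalks hK hsurj
  have h1 : Spec.map (CommRingCat.ofHom (algebraMap Γ(V, ⊤) Γ(A, ⊤))) = Spec.map φ := rfl
  have h2 : Spec.map (CommRingCat.ofHom (algebraMap Γ(V, ⊤) K)) = Spec.map ψ := rfl
  let m : pullback q iV ⟶ pullback (Spec.map φ) (Spec.map ψ) :=
    pullback.map q iV (Spec.map φ) (Spec.map ψ) A.isoSpec.hom (𝟙 _) V.isoSpec.hom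
      (by rw [hφ, Iso.hom_inv_id_assoc]) (by rw [hψ, Category.id_comp])
  haveI : IsIso m := by
    dsimp only [m]
    infer_instance
  let E : pullback q iV ≅ Spec (CommRingCat.of (Γ(A, ⊤) ⊗[Γ(V, ⊤)] K)) :=
    asIso m ≪≫ pullback.congrHom h1.symm h2.symm ≪≫ pullbackSpecIso Γ(V, ⊤) Γ(A, ⊤) K
  exact isLocallyNoetherian_of_isOpenImmersion E.hom

/-- the base change of a locally Noetherian scheme along a preimmersion from the spectrum of a
field is locally Noetherian -/
theorem isLocallyNoetherian_pullback_of_isPreimmersion {W Y : Scheme.{u}} [IsLocallyNoetherian W]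
    (p : W ⟶ Y) (K : CommRingCat.{u}) (hK : IsField K) (i : Spec K ⟶ Y) [IsPreimmersion i] :
    IsLocallyNoetherian (pullback p i) := by
  letI := hK.toField
  obtain ⟨s⟩ : Nonempty (Spec K) := inferInstanceAs (Nonempty (PrimeSpectrum K))
  obtain ⟨V, hV, hyV, -⟩ := exists_isAffineOpen_mem_and_subset (x := i s) (U := ⊤) trivial
  have hrange : Set.range i ⊆ Set.range V.ι := by
    rintro _ ⟨s', rfl⟩
    have : s' = s := Subsingleton.elim (α := PrimeSpectrum K) _ _
    rw [this, Scheme.Opens.range_ι]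
    exact hyV
  let iV : Spec K ⟶ V.toScheme := IsOpenImmersion.lift V.ι i hrange
  have hiV : iV ≫ V.ι = i := IsOpenImmersion.lift_fac _ _ _
  haveI : IsPreimmersion (iV ≫ V.ι) := by rw [hiV]; infer_instance
  haveI : IsPreimmersion iV := IsPreimmersion.of_comp iV V.ι
  haveI : IsAffine V.toScheme := hV
  haveI : IsLocallyNoetherian (pullback p V.ι) :=
    isLocallyNoetherian_of_isOpenImmersion (pullback.fst p V.ι)
  let e1 : pullback p i ≅ pullback (pullback.snd p V.ι) iV :=
    pullback.congrHom rfl hiV.symm ≪≫ (pullbackLeftPullbackSndIso p V.ι iV).symm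
  suffices h : IsLocallyNoetherian (pullback (pullback.snd p V.ι) iV) from
    isLocallyNoetherian_of_isOpenImmersion e1.hom
  rw [isLocallyNoetherian_iff_openCover
    (Scheme.Pullback.openCoverOfLeft (pullback p V.ι).affineCover (pullback.snd p V.ι) iV)]
  intro j
  haveI : IsLocallyNoetherian ((pullback p V.ι).affineCover.X j) :=
    isLocallyNoetherian_of_isOpenImmersion ((pullback p V.ι).affineCover.f j)
  exact isLocallyNoetherian_pullback_affine
    ((pullback p V.ι).affineCover.f j ≫ pullback.snd p V.ι) K hK iV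

/-- fibres of a morphism with locally Noetherian source are locally Noetherian -/
theorem isLocallyNoetherian_fiber {W Y : Scheme.{u}} [IsLocallyNoetherian W] (p : W ⟶ Y) (y : Y) :
    IsLocallyNoetherian (p.fiber y) :=
  isLocallyNoetherian_pullback_of_isPreimmersion p (Y.residueField y)
    (Field.toIsField (Y.residueField y)) (Y.fromSpecResidueField y)

end Groth.Agent.Lib.Helper6.RedBC
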