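import Mathlib
import Groth.Prelude.Def_FDesc
import Groth.Agent.Lib.Helper6.RedBC2
import Groth.Agent.Lib.Helper6.RedBC3
import Groth.Agent.Lib.Helper10.FibreProductStalk
import Groth.Agent.Lib.Helper14.SchemeFieldStalk
import Groth.Agent.Lib.Helper29.QCohPullback

/-!
# `F ⊗_k G` is reduced for `F` geometrically reduced and `G` reduced (helper6)
-/

set_option autoImplicit false
set_option linter.style.haveILetI false
set_option linter.unusedSectionVars false
universe u

open CategoryTheory CategoryTheory.Limits AlgebraicGeometry TopologicalSpace Opposite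
open Groth.Agent.Lib.Helper29.QCoh

namespace Groth.Agent.Lib.Helper6.RedBC

theorem isCoh_pullback' {X Y : Scheme.{u}} (f : X ⟶ Y) (F : Y.Modules) (hF : Coh.IsCoh F) :
    Coh.IsCoh ((Scheme.Modules.pullback f).obj F) := by
  obtain ⟨h1, h2⟩ := hF
  have : F.IsQuasicoherent := h1
  have : F.IsFiniteType := h2
  exact ⟨inferInstance, inferInstance⟩

/-- reducedness of the inverse image of a coherent module under a flat morphism -/
theorem isReducedMod_pullback_iff_of_flat {Z X : Scheme.{u}} [IsLocallyNoetherian Z]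
    [IsLocallyNoetherian X] (h : Z ⟶ X) [Flat h] (F : X.Modules) (hF : Coh.IsCoh F) :
    AssSch.IsReducedMod ((Scheme.Modules.pullback h).obj F) ↔
      ∀ x ∈ AssSch.Ass F ∩ Set.range h, (∀ x' ∈ AssSch.Ass F, x' ⤳ x → x' = x) ∧
        Module.length (X.presheaf.stalk x) (F.presheaf.stalk x) = 1 ∧ IsReduced (h.fiber x) := by
  haveI := hF.1
  haveI := hF.2
  have hU := Groth.Agent.Lib.Helper9.RefStalk.isCoh_unit Z
  haveI := hU.1
  haveI := hU.2
  rw [isReducedMod_iff_of_iso (tensorUnitR ((Scheme.Modules.pullback h).obj F)).symm,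
    Groth.Agent.Lib.Helper6.AssTens.isReducedMod_tensor_iff_of_flat h F
      (unitM Z) (isFlatOver_unit h)]
  have hfib : ∀ x : X, AssSch.IsReducedMod ((Scheme.Modules.pullback
      (h.fiberι x)).obj (unitM Z)) ↔ IsReduced (h.fiber x) := by
    intro x
    rw [isReducedMod_iff_of_iso (pullbackUnitIso (h.fiberι x))]
    exact isReducedMod_unit_iff _
  have hsupp : h.base '' CohB1.support (unitM Z) = Set.range h := by
    rw [show CohB1.support (unitM Z) = Set.univ from support_unit Z, Set.image_univ]
  rw [hsupp]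
  constructor
  · intro H x hx
    have h1 := H x hx
    exact ⟨h1.1, h1.2.1, (hfib x).mp h1.2.2⟩
  · intro H x hx
    have h1 := H x hx
    exact ⟨h1.1, h1.2.1, (hfib x).mpr h1.2.2⟩

/-- every module on a scheme over a field is flat over the field -/
theorem isFlatOver_of_field {k : Type u} [Field k] {X : Scheme.{u}}
    (f : X ⟶ Spec (CommRingCat.of k)) (F : X.Modules) : FlatMod.IsFlatOver f F := by
  intro x
  unfold FlatMod.IsFlatOverAt
  letI := FlatMod.moduleStalkOver f F x
  letI := (Groth.Agent.Lib.Helper14.AS.isField_stalk_Spec_field k (f.base x)).toField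
  infer_instance

/-- **EGA IV 4.6.x**: `F ⊗_k G` is a reduced module when `F` is geometrically reduced and `G`
is reduced. -/
theorem main4661 {k : Type u} [Field k] {X Y : Scheme.{u}}
    [IsLocallyNoetherian X] [IsLocallyNoetherian Y] (f : X ⟶ Spec (CommRingCat.of k))
    (g : Y ⟶ Spec (CommRingCat.of k))
    [IsLocallyNoetherian (pullback f g)] (F : X.Modules) (hF : Coh.IsCoh F) (G : Y.Modules)
    (hG : Coh.IsCoh G)
    (hFgr : ∀ (k' : Type u) [Field k'] [Algebra k k'] [FiniteDimensional k k']
      [IsPurelyInseparable k k'],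
      AssSch.IsReducedMod ((Scheme.Modules.pullback (FBase.bcπ f k')).obj F))
    (hGr : AssSch.IsReducedMod G) :
    AssSch.IsReducedMod (CohB1.tensorMod ((Scheme.Modules.pullback (pullback.fst f g)).obj F)
      ((Scheme.Modules.pullback (pullback.snd f g)).obj G)) := by
  haveI := hG.1
  haveI := hG.2
  have hF' := isCoh_pullback' (pullback.fst f g) F hF
  haveI := hF'.1
  haveI := hF'.2
  haveI := hF.1
  have hFfacts : ∀ x ∈ AssSch.Ass F, (∀ x' ∈ AssSch.Ass F, x' ⤳ x → x' = x) ∧
      Module.length (X.presheaf.stalk x) (F.presheaf.stalk x) = 1 ∧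
      ∀ (K : Type u) [Field K] [Algebra k K],
        IsReduced (pullback (X.fromSpecResidueField x ≫ f)
          (Spec.map (CommRingCat.ofHom (algebraMap k K)))) := by
    intro x hx
    have h0 := (isReducedMod_bc_iff f F hF k).mp (hFgr k) x hx
    refine ⟨h0.1, h0.2.1, ?_⟩
    intro K _ _
    apply isReduced_bc_of_forall_finite_pi
    intro k' _ _ hfin hpi
    exact ((isReducedMod_bc_iff f F hF k').mp (hFgr k') x hx).2.2
  rw [isReducedMod_iff_of_iso (tensorBraid _ _)]
  have hflat : FlatMod.IsFlatOver (pullback.snd f g)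
      ((Scheme.Modules.pullback (pullback.fst f g)).obj F) := by
    intro z
    exact Groth.Agent.Lib.Helper10.FibreProductStalk.isFlatOverAt_baseChange z F
      (IsPullback.of_hasPullback f g) (isFlatOver_of_field f F _)
  rw [Groth.Agent.Lib.Helper6.AssTens.isReducedMod_tensor_iff_of_flat (pullback.snd f g) G _ hflat]
  rintro y ⟨hy, -⟩
  refine ⟨fun y' hy' hsp => (hGr.1 y hy y' hy' hsp).symm, hGr.2 y hy, ?_⟩
  haveI : IsLocallyNoetherian ((pullback.snd f g).fiber y) := isLocallyNoetherian_fiber _ y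
  have e0 : (Scheme.Modules.pullback ((pullback.snd f g).fiberι y)).obj
      ((Scheme.Modules.pullback (pullback.fst f g)).obj F) ≅
      (Scheme.Modules.pullback ((pullback.snd f g).fiberι y ≫ pullback.fst f g)).obj F :=
    (Scheme.Modules.pullbackComp ((pullback.snd f g).fiberι y) (pullback.fst f g)).app F
  rw [isReducedMod_iff_of_iso e0]
  obtain ⟨iy, hiy⟩ : ∃ iy : Spec (Y.residueField y) ⟶ Y, iy = Y.fromSpecResidueField y := ⟨_, rfl⟩
  let c : (pullback.snd f g).fiber y ≅ pullback f (iy ≫ g) := by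
    rw [hiy]
    exact pullbackLeftPullbackSndIso f g (Y.fromSpecResidueField y)
  have hc : (pullback.snd f g).fiberι y ≫ pullback.fst f g =
      c.hom ≫ pullback.fst f (iy ≫ g) := by
    subst hiy
    exact (pullbackLeftPullbackSndIso_hom_fst f g (Y.fromSpecResidueField y)).symm
  haveI : Flat (iy ≫ g) := inferInstance
  haveI : Flat ((pullback.snd f g).fiberι y ≫ pullback.fst f g) := by rw [hc]; infer_instance
  rw [isReducedMod_pullback_iff_of_flat _ F hF]
  rintro x ⟨hx, -⟩
  obtain ⟨h1, h2, h3⟩ := hFfacts x hx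
  refine ⟨h1, h2, ?_⟩
  obtain ⟨ρ, hρ⟩ : ∃ ρ : CommRingCat.of k ⟶ Y.residueField y, Spec.map ρ = iy ≫ g :=
    ⟨Spec.preimage _, Spec.map_preimage _⟩
  letI : Algebra k (Y.residueField y) := ρ.hom.toAlgebra
  haveI hK := h3 (Y.residueField y)
  have hρ' : Spec.map (CommRingCat.ofHom (algebraMap k (Y.residueField y))) = iy ≫ g := hρ
  let m1 : pullback ((pullback.snd f g).fiberι y ≫ pullback.fst f g) (X.fromSpecResidueField x) ⟶
      pullback (pullback.fst f (iy ≫ g)) (X.fromSpecResidueField x) :=
    pullback.map _ _ _ _ c.hom (𝟙 _) (𝟙 _) (by rw [Category.comp_id, hc])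
      (by rw [Category.comp_id, Category.id_comp])
  haveI : IsIso m1 := pullback.map_isIso _ _ _ _ c.hom (𝟙 _) (𝟙 _) _ _
  change IsReduced (pullback ((pullback.snd f g).fiberι y ≫ pullback.fst f g)
    (X.fromSpecResidueField x))
  let E : pullback ((pullback.snd f g).fiberι y ≫ pullback.fst f g)
      (X.fromSpecResidueField x) ≅
      pullback (X.fromSpecResidueField x ≫ f)
        (Spec.map (CommRingCat.ofHom (algebraMap k (Y.residueField y)))) :=
    asIso m1 ≪≫ pullbackSymmetry _ _ ≪≫
      pullbackRightPullbackFstIso f (iy ≫ g) (X.fromSpecResidueField x) ≪≫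
      pullback.congrHom rfl hρ'.symm
  exact isReduced_of_isOpenImmersion E.hom

end Groth.Agent.Lib.Helper6.RedBC
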