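import Mathlib
import Groth.Prelude.Def_FDesc
import Groth.Agent.Lib.Helper6.RedBC4

/-!
# Integral modules under flat pullback (helper6)

A coherent module is *integral* if it has exactly one associated point and length one there.
For a flat surjective `h : Z ⟶ X`, `h^*F` is integral iff `F` is integral with associated point
`x` and the fibre `h⁻¹(x)` is an integral scheme.
-/

set_option autoImplicit false
set_option linter.style.haveILetI false
set_option linter.unusedSectionVars false
universe u

open CategoryTheory CategoryTheory.Limits AlgebraicGeometry TopologicalSpace Opposite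
open Groth.Agent.Lib.Helper29.QCoh Groth.Agent.Lib.Helper26

namespace Groth.Agent.Lib.Helper6.RedBC

/-- every point of a scheme has a maximal generization -/
theorem exists_maximal_generization {T : Scheme.{u}} (t : T) :
    ∃ η : T, η ⤳ t ∧ ∀ y : T, y ⤳ η → y = η := by
  obtain ⟨U, hU, htU, -⟩ := exists_isAffineOpen_mem_and_subset (x := t) (U := ⊤) trivial
  obtain ⟨Q, hQ, hQt⟩ := Ideal.exists_minimalPrimes_le
    (bot_le (a := (hU.primeIdealOf ⟨t, htU⟩).asIdeal))
  haveI : Q.IsPrime := hQ.1.1
  obtain ⟨η, hη, hηQ⟩ := exists_point_of_prime' hU ⟨Q, inferInstance⟩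
  refine ⟨η, ?_, ?_⟩
  · apply specializes_of_primeIdealOf_le hU
    rw [hηQ]
    exact hQt
  · apply ReducedWeakAss.eq_of_specializes_of_mem_minimalPrimes hU η hη
    rw [hηQ]
    exact hQ

variable {Z X : Scheme.{u}}

/-- associated points of the inverse image under a flat morphism -/
theorem mem_ass_pullback_iff [IsLocallyNoetherian X] (h : Z ⟶ X) [Flat h] (F : X.Modules)
    [F.IsQuasicoherent] (z : Z) :
    z ∈ AssSch.Ass ((Scheme.Modules.pullback h).obj F) ↔
      h z ∈ AssSch.Ass F ∧ z ∈ MoreMor.relAss h (unitM Z) := by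
  rw [ass_eq_of_iso (tensorUnitR ((Scheme.Modules.pullback h).obj F)).symm]
  exact Groth.Agent.Lib.Helper6.AssTens.mem_ass_tensor_pullback_iff h F (unitM Z) z
    (isFlatOver_unit h z)

/-- relative associated points of the structure sheaf are the associated points of the fibres -/
theorem mem_relAss_unit_iff (h : Z ⟶ X) (x : X) (η : ↥(h.fiber x)) :
    (h.fiberι x) η ∈ MoreMor.relAss h (unitM Z) ↔
      η ∈ AssSch.Ass (Coh.structureModule (h.fiber x)) := by
  rw [← Groth.Agent.Lib.Helper6.RelAss.isAssPoint_fiber_iff h (unitM Z) x η]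
  change η ∈ AssSch.Ass ((Scheme.Modules.pullback (h.fiberι x)).obj (unitM Z)) ↔ _
  rw [ass_eq_of_iso (pullbackUnitIso (h.fiberι x))]

theorem mem_ass_unit_iff_of_isReduced (T : Scheme.{u}) [IsReduced T] (η : T) :
    η ∈ AssSch.Ass (Coh.structureModule T) ↔ ∀ y : T, y ⤳ η → y = η := by
  change Curv2.IsAssPoint _ η ↔ _
  rw [isAssPoint_iff_isWeakAssPoint]
  exact ReducedWeakAss.main T η

/-- a module is integral: one associated point, of length one -/
def IsIntegralMod {X : Scheme.{u}} (M : X.Modules) : Prop :=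
  ∃ x : X, AssSch.Ass M = {x} ∧ Module.length (X.presheaf.stalk x) (M.presheaf.stalk x) = 1

theorem IsIntegralMod.isReducedMod {X : Scheme.{u}} {M : X.Modules} (hM : IsIntegralMod M) :
    AssSch.IsReducedMod M := by
  obtain ⟨x, hx, hl⟩ := hM
  refine ⟨?_, ?_⟩
  · intro a ha b hb _
    rw [hx] at ha hb
    rw [Set.mem_singleton_iff.mp ha, Set.mem_singleton_iff.mp hb]
  · intro a ha
    rw [hx] at ha
    rw [Set.mem_singleton_iff.mp ha]
    exact hl

/-- descent: if `h^*F` is integral with `h` flat and surjective, then `F` is integral and the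
fibre over its associated point is an integral scheme -/
theorem isIntegralMod_of_pullback [IsLocallyNoetherian Z] [IsLocallyNoetherian X] (h : Z ⟶ X)
    [Flat h] [Surjective h] (F : X.Modules) (hF : Coh.IsCoh F)
    (hI : IsIntegralMod ((Scheme.Modules.pullback h).obj F)) :
    ∃ x : X, AssSch.Ass F = {x} ∧ Module.length (X.presheaf.stalk x) (F.presheaf.stalk x) = 1 ∧
      IsIntegral (h.fiber x) := by
  haveI := hF.1
  have hred := (isReducedMod_pullback_iff_of_flat h F hF).mp hI.isReducedMod
  obtain ⟨z, hz, -⟩ := hI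
  have hzmem : z ∈ AssSch.Ass ((Scheme.Modules.pullback h).obj F) := by rw [hz]; rfl
  have hxz := ((mem_ass_pullback_iff h F z).mp hzmem).1
  -- maximal points of fibres over associated points map to `z`
  have key : ∀ x ∈ AssSch.Ass F, ∀ η : ↥(h.fiber x), (∀ y : ↥(h.fiber x), y ⤳ η → y = η) →
      (h.fiberι x) η = z := by
    intro x hx η hη
    have hfx : h ((h.fiberι x) η) = x := by
      have : (h.fiberι x) η ∈ Set.range (h.fiberι x) := ⟨η, rfl⟩
      rw [h.range_fiberι x] at this
      exact this
    haveI : IsReduced (h.fiber x) := (hred x ⟨hx, h.surjective x⟩).2.2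
    have h1 : (h.fiberι x) η ∈ AssSch.Ass ((Scheme.Modules.pullback h).obj F) := by
      rw [mem_ass_pullback_iff, hfx]
      exact ⟨hx, (mem_relAss_unit_iff h x η).mpr
        ((mem_ass_unit_iff_of_isReduced _ η).mpr hη)⟩
    rw [hz] at h1
    exact h1
  have hfz : ∀ x ∈ AssSch.Ass F, x = h z := by
    intro x hx
    obtain ⟨z0, hz0⟩ := h.surjective x
    have hz0' : z0 ∈ Set.range (h.fiberι x) := by
      rw [h.range_fiberι x]
      exact hz0
    obtain ⟨t, -⟩ := hz0'
    obtain ⟨η, -, hη⟩ := exists_maximal_generization t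
    have := key x hx η hη
    have hfx : h ((h.fiberι x) η) = x := by
      have : (h.fiberι x) η ∈ Set.range (h.fiberι x) := ⟨η, rfl⟩
      rw [h.range_fiberι x] at this
      exact this
    rw [← hfx, this]
  have hass : AssSch.Ass F = {h z} := by
    ext x
    rw [Set.mem_singleton_iff]
    exact ⟨hfz x, fun hx => hx ▸ hxz⟩
  obtain ⟨-, hlen, hredf⟩ := hred (h z) ⟨hxz, z, rfl⟩
  refine ⟨h z, hass, hlen, ?_⟩
  haveI : IsReduced (h.fiber (h z)) := hredf
  -- irreducibility: a unique maximal point
  obtain ⟨t0, ht0⟩ : ∃ t0 : ↥(h.fiber (h z)), (h.fiberι (h z)) t0 = z := by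
    have : z ∈ Set.range (h.fiberι (h z)) := by
      rw [h.range_fiberι (h z)]
      rfl
    exact this
  obtain ⟨η0, -, hη0⟩ := exists_maximal_generization t0
  have huniq : ∀ η : ↥(h.fiber (h z)), (∀ y : ↥(h.fiber (h z)), y ⤳ η → y = η) → η = η0 := by
    intro η hη
    apply (h.fiberι (h z)).isEmbedding.injective
    rw [key (h z) hxz η hη, key (h z) hxz η0 hη0]
  haveI : IrreducibleSpace ↥(h.fiber (h z)) := by
    have hcl : closure ({η0} : Set ↥(h.fiber (h z))) = Set.univ := by
      rw [Set.eq_univ_iff_forall]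
      intro t
      obtain ⟨η, hηt, hη⟩ := exists_maximal_generization t
      rw [huniq η hη] at hηt
      exact hηt.mem_closure
    have hirr : IsIrreducible (Set.univ : Set ↥(h.fiber (h z))) := by
      rw [← hcl]
      exact isIrreducible_singleton.closure
    exact (irreducibleSpace_def _).mpr hirr
  exact isIntegral_of_irreducibleSpace_of_isReduced _

/-- ascent: if `F` is integral with associated point `x` and the fibre of the flat morphism `h`
over `x` is an integral scheme, then `h^*F` is integral -/
theorem isIntegralMod_pullback [IsLocallyNoetherian Z] [IsLocallyNoetherian X] (h : Z ⟶ X)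
    [Flat h] (F : X.Modules) (hF : Coh.IsCoh F) (x : X) (hass : AssSch.Ass F = {x})
    (hlen : Module.length (X.presheaf.stalk x) (F.presheaf.stalk x) = 1)
    [IsIntegral (h.fiber x)] : IsIntegralMod ((Scheme.Modules.pullback h).obj F) := by
  haveI := hF.1
  have hxmem : x ∈ AssSch.Ass F := by rw [hass]; rfl
  have hred : AssSch.IsReducedMod ((Scheme.Modules.pullback h).obj F) := by
    rw [isReducedMod_pullback_iff_of_flat h F hF]
    rintro x' ⟨hx', -⟩
    rw [hass] at hx'
    obtain rfl := Set.mem_singleton_iff.mp hx'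
    refine ⟨?_, hlen, inferInstance⟩
    intro x'' hx'' _
    rw [hass] at hx''
    exact Set.mem_singleton_iff.mp hx''
  let η := genericPoint ↥(h.fiber x)
  have hηmax : ∀ y : ↥(h.fiber x), y ⤳ η → y = η := by
    intro y hy
    exact ((genericPoint_specializes y).antisymm hy).eq.symm
  have hfib : ∀ t : ↥(h.fiber x), h ((h.fiberι x) t) = x := by
    intro t
    have : (h.fiberι x) t ∈ Set.range (h.fiberι x) := ⟨t, rfl⟩
    rw [h.range_fiberι x] at this
    exact this
  have hzmem : (h.fiberι x) η ∈ AssSch.Ass ((Scheme.Modules.pullback h).obj F) := by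
    rw [mem_ass_pullback_iff, hfib]
    exact ⟨hxmem, (mem_relAss_unit_iff h x η).mpr ((mem_ass_unit_iff_of_isReduced _ η).mpr hηmax)⟩
  refine ⟨(h.fiberι x) η, ?_, hred.2 _ hzmem⟩
  ext z'
  rw [Set.mem_singleton_iff]
  constructor
  · intro hz'
    obtain ⟨h1, h2⟩ := (mem_ass_pullback_iff h F z').mp hz'
    rw [hass] at h1
    have h1' : h z' = x := Set.mem_singleton_iff.mp h1
    obtain ⟨η', rfl⟩ : z' ∈ Set.range (h.fiberι x) := by
      rw [h.range_fiberι x]
      exact h1'
    have h3 := (mem_ass_unit_iff_of_isReduced _ η').mp ((mem_relAss_unit_iff h x η').mp h2)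
    rw [h3 η (genericPoint_specializes η')]
  · rintro rfl
    exact hzmem

end Groth.Agent.Lib.Helper6.RedBC
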