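import Mathlib
import Groth.Prelude.Def_FDesc
import Groth.Agent.Lib.Helper6.RedBC2
import Groth.Agent.Lib.Helper6.AlgClosedTensor
import Groth.Agent.Lib.Helper1.GeomIrrSep

/-!
# Geometric integrality of the spectrum of a field can be tested on finite extensions (helper6)
-/

set_option autoImplicit false
set_option linter.style.haveILetI false
set_option linter.unusedSectionVars false
universe u

open CategoryTheory CategoryTheory.Limits AlgebraicGeometry TopologicalSpace Opposite TensorProduct

namespace Groth.Agent.Lib.Helper6.RedBC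

/-- irreducibility of `Spec (L ⊗_k R)` for algebraic `L/k` can be tested on finite subextensions -/
theorem irreducibleSpace_of_forall_finite {k L R : Type*} [Field k] [Field L] [Algebra k L]
    [CommRing R] [Algebra k R] [Algebra.IsAlgebraic k L]
    (h : ∀ F : IntermediateField k L, FiniteDimensional k F →
      IrreducibleSpace (PrimeSpectrum (F ⊗[k] R))) :
    IrreducibleSpace (PrimeSpectrum (L ⊗[k] R)) := by
  rw [PrimeSpectrum.irreducibleSpace_iff_isPrime_nilradical, Ideal.isPrime_iff]
  constructor
  · rw [Ne, Ideal.eq_top_iff_one, mem_nilradical]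
    intro h1
    have hbot := h ⊥ inferInstance
    rw [PrimeSpectrum.irreducibleSpace_iff_isPrime_nilradical] at hbot
    have hinj := Groth.Agent.Lib.Helper6.map_intermediateField_val_injective (R := R)
      (⊥ : IntermediateField k L)
    have h2 : IsNilpotent (Algebra.TensorProduct.map (⊥ : IntermediateField k L).val
        (AlgHom.id k R) 1) := by
      rw [map_one]; exact h1
    rw [IsNilpotent.map_iff hinj] at h2
    exact hbot.ne_top ((Ideal.eq_top_iff_one _).mpr (mem_nilradical.mpr h2))
  · intro a b hab
    obtain ⟨F, hF, ha, hb⟩ := Groth.Agent.Lib.Helper6.exists_finite_intermediateField a b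
    obtain ⟨a', rfl⟩ := (AlgHom.mem_range _).mp ha
    obtain ⟨b', rfl⟩ := (AlgHom.mem_range _).mp hb
    have hFi := h F hF
    rw [PrimeSpectrum.irreducibleSpace_iff_isPrime_nilradical] at hFi
    have hinj := Groth.Agent.Lib.Helper6.map_intermediateField_val_injective (R := R) F
    rw [mem_nilradical, ← map_mul, IsNilpotent.map_iff hinj] at hab
    rcases hFi.mem_or_mem (mem_nilradical.mpr hab) with h1 | h1
    · left
      exact mem_nilradical.mpr ((mem_nilradical.mp h1).map _)
    · right
      exact mem_nilradical.mpr ((mem_nilradical.mp h1).map _)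

/-- if `Spec κ ×_k Spec k'` is integral for all finite extensions `k'/k`, then `Spec κ ×_k Spec K`
is integral for every field extension `K/k` -/
theorem isIntegral_bc_of_forall_finite {k : Type u} [Field k] (κ : Type u) [Field κ]
    (g0 : Spec (CommRingCat.of κ) ⟶ Spec (CommRingCat.of k))
    (h : ∀ (k' : Type u) [Field k'] [Algebra k k'] [FiniteDimensional k k'],
      IsIntegral (FBase.bc g0 k'))
    (K : Type u) [Field K] [Algebra k K] : IsIntegral (FBase.bc g0 K) := by
  haveI : IsReduced (FBase.bc g0 K) :=
    isReduced_bc_of_forall_finite_pi g0 (fun k' _ _ hfin _ => by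
      haveI : FiniteDimensional k k' := hfin
      haveI := h k'
      infer_instance) K
  obtain ⟨ρ, hρ⟩ : ∃ ρ : CommRingCat.of k ⟶ CommRingCat.of κ, Spec.map ρ = g0 :=
    ⟨Spec.preimage _, Spec.map_preimage _⟩
  letI : Algebra k κ := ρ.hom.toAlgebra
  have hρ' : Spec.map (CommRingCat.ofHom (algebraMap k κ)) = g0 := hρ
  have E : ∀ (k' : Type u) [Field k'] [Algebra k k'],
      pullback g0 (Spec.map (CommRingCat.ofHom (algebraMap k k'))) ≅
        Spec (CommRingCat.of (k' ⊗[k] κ)) := fun k' _ _ =>
    pullbackSymmetry _ _ ≪≫ pullback.congrHom rfl hρ'.symm ≪≫ pullbackSpecIso k k' κ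
  haveI : IrreducibleSpace (PrimeSpectrum (SeparableClosure k ⊗[k] κ)) := by
    apply irreducibleSpace_of_forall_finite
    intro F hF
    haveI := hF
    haveI : IsIntegral (pullback g0 (Spec.map (CommRingCat.ofHom (algebraMap k F)))) := h F
    exact (Scheme.homeoOfIso (E F)).irreducibleSpace_iff.mp inferInstance
  haveI : IrreducibleSpace
      ↥(pullback g0 (Spec.map (CommRingCat.ofHom (algebraMap k (SeparableClosure k))))) :=
    (Scheme.homeoOfIso (E (SeparableClosure k))).irreducibleSpace_iff.mpr
      (inferInstanceAs (IrreducibleSpace (PrimeSpectrum (SeparableClosure k ⊗[k] κ))))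
  haveI : GeometricallyIrreducible g0 :=
    Groth.Agent.Lib.Helper1.GeomIrrSep.geometricallyIrreducible_of_sepClosed g0
      (Spec.map (CommRingCat.ofHom (algebraMap k (SeparableClosure k))))
  haveI : IrreducibleSpace ↥(FBase.bc g0 K) :=
    GeometricallyIrreducible.geometrically_irreducibleSpace (f := g0)
      (Spec.map (CommRingCat.ofHom (algebraMap k K))) _ _ (IsPullback.of_hasPullback _ _)
  exact isIntegral_of_irreducibleSpace_of_isReduced _

end Groth.Agent.Lib.Helper6.RedBC
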