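import Mathlib
import Groth.Prelude.Def_FDesc
import Groth.Agent.Lib.Helper6.RedBC5
import Groth.Agent.Lib.Helper6.RedBC6

/-!
# Integral modules under extension of the base field (helper6)
-/

set_option autoImplicit false
set_option linter.style.haveILetI false
set_option linter.unusedSectionVars false
universe u

open CategoryTheory CategoryTheory.Limits AlgebraicGeometry TopologicalSpace Opposite

namespace Groth.Agent.Lib.Helper6.RedBC

variable {k : Type u} [Field k] {X : Scheme.{u}}

theorem isIntegral_fiber_iff (f : X ⟶ Spec (CommRingCat.of k)) (K : Type u) [Field K] [Algebra k K]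
    (x : X) : IsIntegral ((FBase.bcπ f K).fiber x) ↔
      IsIntegral (FBase.bc (X.fromSpecResidueField x ≫ f) K) := by
  constructor
  · intro h
    haveI : Nonempty ↥(FBase.bc (X.fromSpecResidueField x ≫ f) K) :=
      ⟨(fiberBcIso f K x).hom (Classical.arbitrary _)⟩
    exact isIntegral_of_isOpenImmersion (fiberBcIso f K x).inv
  · intro h
    haveI : Nonempty ↥((FBase.bcπ f K).fiber x) :=
      ⟨(fiberBcIso f K x).inv (Classical.arbitrary _)⟩
    exact isIntegral_of_isOpenImmersion (fiberBcIso f K x).hom

/-- EGA IV 4.6.x for integral modules -/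
theorem main4660 [IsLocallyNoetherian X] (f : X ⟶ Spec (CommRingCat.of k)) (F : X.Modules)
    (hF : Coh.IsCoh F) :
    (∀ (k' : Type u) [Field k'] [Algebra k k'] [FiniteDimensional k k'],
        ∃ x' : ↥(FBase.bc f k'),
          AssSch.Ass ((Scheme.Modules.pullback (FBase.bcπ f k')).obj F) = {x'} ∧
          Module.length ↑((FBase.bc f k').presheaf.stalk x')
            ↑(((Scheme.Modules.pullback (FBase.bcπ f k')).obj F).presheaf.stalk x') = 1) ↔
      ∀ (K : Type u) [Field K] [Algebra k K] [IsLocallyNoetherian (FBase.bc f K)],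
        ∃ x' : ↥(FBase.bc f K),
          AssSch.Ass ((Scheme.Modules.pullback (FBase.bcπ f K)).obj F) = {x'} ∧
          Module.length ↑((FBase.bc f K).presheaf.stalk x')
            ↑(((Scheme.Modules.pullback (FBase.bcπ f K)).obj F).presheaf.stalk x') = 1 := by
  constructor
  · intro h K _ _ _
    obtain ⟨x, hass, hlen, -⟩ := isIntegralMod_of_pullback (FBase.bcπ f k) F hF (h k)
    have hfin : ∀ (k' : Type u) [Field k'] [Algebra k k'] [FiniteDimensional k k'],
        IsIntegral (FBase.bc (X.fromSpecResidueField x ≫ f) k') := by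
      intro k' _ _ _
      obtain ⟨x1, hass1, -, hint1⟩ := isIntegralMod_of_pullback (FBase.bcπ f k') F hF (h k')
      have hx1 : x1 = x := by
        rw [hass] at hass1
        exact (Set.singleton_eq_singleton_iff.mp hass1).symm
      subst hx1
      exact (isIntegral_fiber_iff f k' x1).mp hint1
    have hK : IsIntegral (FBase.bc (X.fromSpecResidueField x ≫ f) K) :=
      isIntegral_bc_of_forall_finite (X.residueField x) (X.fromSpecResidueField x ≫ f) hfin K
    haveI : IsIntegral ((FBase.bcπ f K).fiber x) := (isIntegral_fiber_iff f K x).mpr hK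
    exact isIntegralMod_pullback (FBase.bcπ f K) F hF x hass hlen
  · intro h k' _ _ _
    exact h k'

end Groth.Agent.Lib.Helper6.RedBC
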