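import Mathlib
import Groth.Agent.Lib.Helper6.RelAss11

/-!
# The relative assassin of a fibre and base change: main statement (helper6)
-/

set_option autoImplicit false
set_option linter.style.haveILetI false
set_option linter.unusedSectionVars false
universe u

open CategoryTheory CategoryTheory.Limits AlgebraicGeometry TopologicalSpace Opposite

namespace Groth.Agent.Lib.Helper6.RelAss

/-- S9780: the associated points of `F` on the fibre `X_s` lie in `U` iff those of the base change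
on the fibre `X'_{s'}` lie in the inverse image of `U` -/
theorem relAss_subset_iff_baseChange {X S X' S' : Scheme.{u}} (f : X ⟶ S)
    [LocallyOfFiniteType f] (F : X.Modules) [F.IsQuasicoherent] [F.IsFiniteType] (U : X.Opens)
    (g : S' ⟶ S) (f' : X' ⟶ S') (g' : X' ⟶ X) (hc : IsPullback g' f' f g) (s' : S') :
    {x : ↑X | x ∈ MoreMor.relAss f F ∧ f x = g s'} ⊆ (U : Set ↑X) ↔
      {x' : ↑X' | x' ∈ MoreMor.relAss f' ((Scheme.Modules.pullback g').obj F) ∧ f' x' = s'} ⊆
        (g' ⁻¹ᵁ U : Set ↑X') := by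
  obtain ⟨S₀, hS₀, hsS₀, -⟩ := exists_isAffineOpen_mem_and_subset (x := g s') (U := ⊤) trivial
  obtain ⟨S'₀, hS'₀, hs'S'₀, hSS⟩ := exists_isAffineOpen_mem_and_subset (x := s')
    (U := g ⁻¹ᵁ S₀) hsS₀
  constructor
  · rintro h x' ⟨hx'rel, hfx'⟩
    have hfg : f (g' x') = g s' := by
      have h1 : (g' ≫ f) x' = (f' ≫ g) x' := by rw [hc.w]
      rw [← hfx']
      simpa using h1
    obtain ⟨W, hW, hxW, hWS⟩ := exists_isAffineOpen_mem_and_subset (x := g' x')
      (U := f ⁻¹ᵁ S₀) (by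
        change f (g' x') ∈ S₀
        rw [hfg]; exact hsS₀)
    exact (chart9780 f F U g f' g' hc hS₀ hS'₀ hSS hW hWS s' hs'S'₀).1
      (fun x hxrel _ hfx => h ⟨hxrel, hfx⟩) x' hx'rel hxW hfx'
  · rintro h x ⟨hxrel, hfx⟩
    obtain ⟨W, hW, hxW, hWS⟩ := exists_isAffineOpen_mem_and_subset (x := x)
      (U := f ⁻¹ᵁ S₀) (by
        change f x ∈ S₀
        rw [hfx]; exact hsS₀)
    obtain ⟨x', hx'rel, hfx', himp⟩ :=
      (chart9780 f F U g f' g' hc hS₀ hS'₀ hSS hW hWS s' hs'S'₀).2 x hxrel hxW hfx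
    exact himp (h ⟨hx'rel, hfx'⟩)

end Groth.Agent.Lib.Helper6.RelAss
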