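import Mathlib
import Groth.Agent.Lib.Helper6.RelAss13

/-!
# Relative associated primes: the locus `Ass(fibre) ∩ V(J) = ∅` is constructible over a Noetherian
base ring (helper6)
-/

set_option autoImplicit false
set_option linter.style.haveILetI false
set_option linter.unusedSectionVars false
universe u
open TensorProduct Topology

namespace Groth.Agent.Lib.Helper6.RelAss

/-- the set of primes `p` of `A` such that no relative associated prime of `M` over `p`
contains `J` -/
def relLocus (A : Type u) {C : Type u} [CommRing A] [CommRing C] [Algebra A C] (M : Type u)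
    [AddCommGroup M] [Module C M] (J : Ideal C) : Set (PrimeSpectrum A) :=
  {p | ∀ q : Ideal C, q.IsPrime → q.comap (algebraMap A C) = p.asIdeal → RelAssAt A q M → ¬ J ≤ q}

section noeth

variable {A C : Type u} [CommRing A] [CommRing C] [Algebra A C] [Algebra.FiniteType A C]
  (M : Type u) [AddCommGroup M] [Module C M] [Module.Finite C M]

theorem isConstructible_relLocus_of_isNoetherianRing [IsNoetherianRing A] (J : Ideal C) :
    IsConstructible (relLocus A M J) := by
  have key := (Groth.Agent.Lib.Helper12.constructible_function_of_locally_constant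
    (fun p : PrimeSpectrum A => p ∈ relLocus A M J) ?_).1 True
  · convert key using 1
    ext p
    simp
  intro Y hY hYirr
  obtain ⟨P, hPdef⟩ : ∃ P : Ideal A, P = PrimeSpectrum.vanishingIdeal Y := ⟨_, rfl⟩
  haveI hPprime : P.IsPrime := by
    rw [hPdef]; exact PrimeSpectrum.isIrreducible_iff_vanishingIdeal_isPrime.mp hYirr
  have hYP : Y = PrimeSpectrum.zeroLocus (P : Set A) := by
    rw [hPdef, PrimeSpectrum.zeroLocus_vanishingIdeal_eq_closure, hY.closure_eq]
  have hmemY : ∀ p : PrimeSpectrum A, p ∈ Y ↔ P ≤ p.asIdeal := by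
    intro p
    rw [hYP, PrimeSpectrum.mem_zeroLocus]
    rfl
  by_cases hgen : ∀ q : Ideal C, q.IsPrime → q.comap (algebraMap A C) = P →
      RelAssAt A q M → ¬ J ≤ q
  · obtain ⟨a, haP, ha⟩ := chart1368_P M P J hgen
    refine ⟨PrimeSpectrum.basicOpen a, (PrimeSpectrum.basicOpen a).2, ⟨⟨P, hPprime⟩, ?_, ?_⟩, ?_⟩
    · exact (PrimeSpectrum.mem_basicOpen _ _).mpr haP
    · exact (hmemY _).mpr le_rfl
    · have hall : ∀ p ∈ (PrimeSpectrum.basicOpen a : Set (PrimeSpectrum A)) ∩ Y,
          p ∈ relLocus A M J := by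
        rintro p ⟨hpa, hpY⟩ q hq hqp hrel
        refine ha q hq ?_ ?_ hrel
        · rw [hqp]; exact (hmemY p).mp hpY
        · rw [hqp]; exact (PrimeSpectrum.mem_basicOpen _ _).mp hpa
      intro p hp p' hp'
      exact propext ⟨fun _ => hall p' hp', fun _ => hall p hp⟩
  · push_neg at hgen
    obtain ⟨q₀, hq₀p, hq₀, hrel₀, hJq₀⟩ := hgen
    haveI := hq₀p
    obtain ⟨a, haP, ha⟩ := chart1369_P M P q₀ hq₀ hrel₀
    refine ⟨PrimeSpectrum.basicOpen a, (PrimeSpectrum.basicOpen a).2, ⟨⟨P, hPprime⟩, ?_, ?_⟩, ?_⟩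
    · exact (PrimeSpectrum.mem_basicOpen _ _).mpr haP
    · exact (hmemY _).mpr le_rfl
    · have hall : ∀ p ∈ (PrimeSpectrum.basicOpen a : Set (PrimeSpectrum A)) ∩ Y,
          p ∉ relLocus A M J := by
        rintro p ⟨hpa, hpY⟩ hmem
        obtain ⟨q, hqp, hq, hle, hrel⟩ := ha p.asIdeal p.2 ((hmemY p).mp hpY)
          ((PrimeSpectrum.mem_basicOpen _ _).mp hpa)
        exact hmem q hqp hq hrel (hJq₀.trans hle)
      intro p hp p' hp'
      exact propext ⟨fun h => absurd h (hall p hp), fun h => absurd h (hall p' hp')⟩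

end noeth

end Groth.Agent.Lib.Helper6.RelAss
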