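import Mathlib
import Groth.Agent.Lib.Helper6.RelAss10
import Groth.Agent.Lib.Helper6.RelAss14
import Groth.Agent.Lib.Helper6.RelAss15

/-!
# Relative associated primes: the locus `Ass(fibre) ∩ V(J) = ∅` is constructible (helper6)
-/

set_option autoImplicit false
set_option linter.style.haveILetI false
set_option linter.unusedSectionVars false
universe u
open TensorProduct Topology

namespace Groth.Agent.Lib.Helper6.RelAss

section BCL

variable {A A' C C' : Type u} [CommRing A] [CommRing A'] [CommRing C] [CommRing C']
  [Algebra A A'] [Algebra A C] [Algebra A' C'] [Algebra C C'] [Algebra A C']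
  [IsScalarTower A A' C'] [IsScalarTower A C C'] [Algebra.IsPushout A A' C C']
  {M : Type u} [AddCommGroup M] [Module C M] [Module A M] [IsScalarTower A C M]
  {M' : Type u} [AddCommGroup M'] [Module C' M'] [Module A' M'] [IsScalarTower A' C' M']
  (e : M' ≃ₗ[C'] C' ⊗[C] M)

include e in
/-- the locus is compatible with base change -/
theorem relLocus_baseChange [Algebra.FiniteType A C] [Algebra.FiniteType A' C'] [Module.Finite C M]
    (J : Ideal C) :
    relLocus A' M' (J.map (algebraMap C C')) =
      PrimeSpectrum.comap (algebraMap A A') ⁻¹' relLocus A M J := by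
  ext p'
  obtain ⟨p, hp⟩ : ∃ p : Ideal A, p'.asIdeal.comap (algebraMap A A') = p := ⟨_, rfl⟩
  haveI hpp : p.IsPrime := by rw [← hp]; exact Ideal.comap_isPrime _ _
  have hcomap : (PrimeSpectrum.comap (algebraMap A A') p').asIdeal = p := hp
  constructor
  · intro h q hq hqp hrel hJq
    haveI := hq
    rw [hcomap] at hqp
    obtain ⟨q', hq'p, hq', hle, hrel'⟩ := exists_relAssAt_baseChange e p'.asIdeal p hp q hqp hrel
    refine h q' hq'p hq' hrel' ?_
    rw [Ideal.map_le_iff_le_comap]
    exact hJq.trans hle
  · intro h q' hq'p hq' hrel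
    haveI := hq'p
    refine not_le_of_relAssAt_baseChange e p'.asIdeal p hp J ?_ q' hq' hrel
    intro q hq hqp hrel'
    exact h q hq (by rw [hcomap]; exact hqp) hrel'

end BCL

/-- **ring-level form of S1370**: for a finitely presented algebra `C` over `A`, a finitely
presented `C`-module `M` and a finitely generated ideal `J` of `C`, the set of primes `p` of `A`
such that no relative associated prime of `M` over `p` contains `J` is constructible -/
theorem isConstructible_relLocus (A C : Type u) [CommRing A] [CommRing C] [Algebra A C]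
    [Algebra.FinitePresentation A C] (M : Type u) [AddCommGroup M] [Module C M] [Module A M]
    [IsScalarTower A C M] [Module.FinitePresentation C M] (t : Finset C) :
    IsConstructible (relLocus A M (Ideal.span (t : Set C))) := by
  classical
  obtain ⟨A₀, i1, i2, C₀, i3, i4, i5, i6, i7, i8, M₀, i9, i10, i11, i12, i13, i14, f, hA₀, hC₀,
    hM₀, hpo, hbc, ht⟩ := exists_finiteType_int_module_model_elems A C M t
  haveI := hC₀
  haveI := hM₀
  haveI := hpo
  haveI : IsNoetherianRing A₀ := Algebra.FiniteType.isNoetherianRing ℤ A₀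
  haveI : Algebra.FiniteType A C := inferInstance
  choose! t₀ ht₀ using ht
  obtain ⟨J₀, hJ₀def⟩ : ∃ J₀ : Ideal C₀, J₀ = Ideal.span (t₀ '' (t : Set C)) := ⟨_, rfl⟩
  have hJ : J₀.map (algebraMap C₀ C) = Ideal.span (t : Set C) := by
    rw [hJ₀def, Ideal.map_span, ← Set.image_comp]
    congr 1
    ext s
    constructor
    · rintro ⟨s', hs', rfl⟩
      simpa [ht₀ s' hs'] using hs'
    · intro hs
      exact ⟨s, hs, ht₀ s hs⟩
  have hcons := isConstructible_relLocus_of_isNoetherianRing (A := A₀) (C := C₀) M₀ J₀
  have heq := relLocus_baseChange (A := A₀) (A' := A) (C := C₀) (C' := C) (M := M₀) (M' := M)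
    hbc.equiv.symm J₀
  rw [hJ] at heq
  rw [heq]
  obtain ⟨S, hS⟩ := PrimeSpectrum.exists_constructibleSetData_iff.mpr hcons
  rw [← hS, ← PrimeSpectrum.ConstructibleSetData.toSet_map]
  exact PrimeSpectrum.exists_constructibleSetData_iff.mp ⟨_, rfl⟩

end Groth.Agent.Lib.Helper6.RelAss
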