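import Mathlib
import Groth.Prelude.Def_MoreMor
import Groth.Agent.Lib.Helper6.RelAss16
import Groth.Agent.Lib.Helper6.RelAss11
import Groth.Agent.Lib.Helper6.RelAss7
import Groth.Agent.Lib.Helper6.FibDense5
import Groth.Agent.Lib.Helper29.QCohFinite
import Groth.Agent.Lib.Helper29.QCohFP2
import Groth.Agent.Lib.Helper12.ConsP4

/-!
# The locus where the relative assassin of the fibre lies in an open is locally constructible
(EGA IV 9.8.? / S1370) (helper6)
-/

set_option autoImplicit false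
set_option linter.style.haveILetI false
set_option linter.unusedSectionVars false
universe u

open CategoryTheory CategoryTheory.Limits AlgebraicGeometry TopologicalSpace Opposite Topology
open Groth.Agent.Lib.Helper29.QCoh Groth.Agent.Lib.Helper6.FibDense

namespace Groth.Agent.Lib.Helper6.RelAss

set_option maxHeartbeats 1600000 in
/-- one affine chart of S1370 -/
theorem chart1370 {X Y : Scheme.{u}} (f : X ⟶ Y) [LocallyOfFinitePresentation f]
    (F : X.Modules) [F.IsQuasicoherent] [F.IsFinitePresentation] (U : X.Opens)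
    {Y₀ : Y.Opens} (hY₀ : IsAffineOpen Y₀) {W : X.Opens} (hW : IsAffineOpen W)
    (hWY : W ≤ f ⁻¹ᵁ Y₀) (hUW : IsCompact ((U : Set X) ∩ (W : Set X))) :
    ∃ E₀ : Set (PrimeSpectrum Γ(Y, Y₀)), IsConstructible E₀ ∧ ∀ (y : Y) (hy : y ∈ Y₀),
      (hY₀.primeIdealOf ⟨y, hy⟩ ∈ E₀ ↔
        ∀ x ∈ MoreMor.relAss f F, x ∈ W → f x = y → x ∈ U) := by
  classical
  letI algAC : Algebra Γ(Y, Y₀) Γ(X, W) := (f.appLE Y₀ W hWY).hom.toAlgebra
  haveI hfp : Algebra.FinitePresentation Γ(Y, Y₀) Γ(X, W) :=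
    f.finitePresentation_appLE hY₀ hW hWY
  haveI hMfp : Module.FinitePresentation Γ(X, W) Γ(F, W) :=
    module_finitePresentation_of_isFinitePresentation F hW
  letI modA : Module Γ(Y, Y₀) Γ(F, W) := Module.compHom Γ(F, W) (algebraMap Γ(Y, Y₀) Γ(X, W))
  haveI tw : IsScalarTower Γ(Y, Y₀) Γ(X, W) Γ(F, W) :=
    IsScalarTower.of_algebraMap_smul (fun _ _ => rfl)
  -- finitely many functions on `W` whose basic opens cover `U ∩ W`
  obtain ⟨t, htU, hcov⟩ : ∃ t : Finset Γ(X, W), (∀ g ∈ t, X.basicOpen g ≤ U) ∧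
      ∀ x ∈ U, x ∈ W → ∃ g ∈ t, x ∈ X.basicOpen g := by
    obtain ⟨t₀, ht₀⟩ := hUW.elim_finite_subcover
      (fun g : {g : Γ(X, W) // X.basicOpen g ≤ U} => (X.basicOpen g.1 : Set X))
      (fun g => (X.basicOpen g.1).2) (by
        rintro x ⟨hxU, hxW⟩
        obtain ⟨g, hgU, hxg⟩ := hW.exists_basicOpen_le (V := U) ⟨x, hxU⟩ hxW
        exact Set.mem_iUnion.mpr ⟨⟨g, hgU⟩, hxg⟩)
    refine ⟨t₀.image Subtype.val, ?_, ?_⟩
    · intro g hg
      obtain ⟨g', -, rfl⟩ := Finset.mem_image.mp hg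
      exact g'.2
    · intro x hxU hxW
      obtain ⟨g, hg, hxg⟩ := Set.mem_iUnion₂.mp (ht₀ ⟨hxU, hxW⟩)
      exact ⟨g.1, Finset.mem_image.mpr ⟨g, hg, rfl⟩, hxg⟩
  refine ⟨relLocus Γ(Y, Y₀) Γ(F, W) (Ideal.span (t : Set Γ(X, W))),
    isConstructible_relLocus Γ(Y, Y₀) Γ(X, W) Γ(F, W) t, fun y hy => ?_⟩
  constructor
  · intro hmem x hxrel hxW hfx
    subst hfx
    have hrel := (mem_relAss_iff f F hY₀ hW hWY x hxW).mp hxrel
    have hq : (hW.primeIdealOf ⟨x, hxW⟩).asIdeal.comap (algebraMap Γ(Y, Y₀) Γ(X, W)) =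
        (hY₀.primeIdealOf ⟨f x, hy⟩).asIdeal :=
      congrArg PrimeSpectrum.asIdeal
        (IsAffineOpen.comap_primeIdealOf_appLE Y₀ hY₀ W hW hWY hxW)
    have hnle := hmem _ inferInstance hq hrel
    rw [Ideal.span_le] at hnle
    obtain ⟨g, hgt, hgq⟩ := Set.not_subset.mp hnle
    rw [SetLike.mem_coe, mem_primeIdealOf_iff hW x hxW, not_not] at hgq
    exact htU g hgt hgq
  · intro h q hqprime hqp hrel hle
    obtain ⟨x, hxW, hxq⟩ := exists_point_of_prime' hW ⟨q, hqprime⟩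
    have hxq' : (hW.primeIdealOf ⟨x, hxW⟩).asIdeal = q := congrArg PrimeSpectrum.asIdeal hxq
    have hxrel : x ∈ MoreMor.relAss f F := by
      rw [mem_relAss_iff f F hY₀ hW hWY x hxW, hxq']
      exact hrel
    have hfx : f x = y := by
      apply eq_of_primeIdealOf_eq' hY₀ _ _ (hWY hxW) hy
      rw [← hqp, ← hxq']
      exact (congrArg PrimeSpectrum.asIdeal
        (IsAffineOpen.comap_primeIdealOf_appLE Y₀ hY₀ W hW hWY hxW)).symm
    have hxU := h x hxrel hxW hfx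
    obtain ⟨g, hgt, hxg⟩ := hcov x hxU hxW
    have h1 : g ∈ q := hle (Ideal.subset_span hgt)
    rw [← hxq', mem_primeIdealOf_iff hW x hxW] at h1
    exact h1 hxg

set_option maxHeartbeats 1600000 in
/-- **S1370**: for `f` of finite presentation, quasi-compact and quasi-separated, `F` quasi-coherent
of finite presentation and `U` an open which is quasi-compact over the base, the set of points `y`
such that the associated points of the fibre of `F` over `y` lie in `U` is locally constructible -/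
theorem isLocallyConstructible_relAss_subset {X Y : Scheme.{u}} (f : X ⟶ Y)
    [LocallyOfFinitePresentation f] [QuasiCompact f] [QuasiSeparated f]
    (F : X.Modules) [F.IsQuasicoherent] [F.IsFinitePresentation] (U : X.Opens)
    [QuasiCompact (U.ι ≫ f)] :
    IsLocallyConstructible {y : ↑Y | ∀ x ∈ MoreMor.relAss f F, f x = y → x ∈ U} := by
  refine Groth.Agent.Lib.Helper12.H12ConsP.isLocallyConstructible_of_local_models _ ?_
  intro Y₀ hY₀
  obtain ⟨s, hs, hseq⟩ := isCompact_iff_finite_and_eq_biUnion_affineOpens.mp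
    (f.isCompact_preimage hY₀.isCompact)
  have hWY : ∀ W ∈ s, (W : X.Opens) ≤ f ⁻¹ᵁ Y₀ := fun W hW => by
    rw [hseq]; exact le_iSup₂ (f := fun (i : X.affineOpens) (_ : i ∈ s) => (i : X.Opens)) W hW
  have hUY : IsCompact ((U : Set X) ∩ (f ⁻¹ᵁ Y₀ : Set X)) := by
    have h1 := QuasiCompact.isCompact_preimage (f := U.ι ≫ f) (Y₀ : Set Y) Y₀.2 hY₀.isCompact
    have h2 := h1.image U.ι.continuous
    convert h2 using 1
    ext x
    constructor
    · rintro ⟨hxU, hxY⟩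
      exact ⟨⟨x, hxU⟩, hxY, rfl⟩
    · rintro ⟨x', hx', rfl⟩
      exact ⟨x'.2, hx'⟩
  have hqs : IsQuasiSeparated (f ⁻¹ᵁ Y₀ : Set X) :=
    f.isQuasiSeparated_preimage hY₀.isQuasiSeparated
  have hUW : ∀ W ∈ s, IsCompact ((U : Set X) ∩ ((W : X.Opens) : Set X)) := by
    intro W hW
    have h1 := hqs ((U : Set X) ∩ (f ⁻¹ᵁ Y₀ : Set X)) ((W : X.Opens) : Set X)
      Set.inter_subset_right (U.2.inter (f ⁻¹ᵁ Y₀).2) hUY (hWY W hW) W.1.2 W.2.isCompact
    convert h1 using 1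
    ext x
    constructor
    · rintro ⟨hxU, hxW⟩
      exact ⟨⟨hxU, hWY W hW hxW⟩, hxW⟩
    · rintro ⟨⟨hxU, -⟩, hxW⟩
      exact ⟨hxU, hxW⟩
  choose! E₀ hE₀c hE₀ using fun (W : X.affineOpens) (hWs : W ∈ s) =>
    chart1370 f F U hY₀ W.2 (hWY W hWs) (hUW W hWs)
  refine ⟨Spec Γ(Y, Y₀), hY₀.isoSpec.hom, ⋂ W ∈ s, E₀ W,
    IsConstructible.biInter hs (fun W hW => hE₀c W hW), ?_⟩
  ext y
  simp only [Set.mem_preimage, Set.mem_iInter, Set.mem_ofPred_eq]
  constructor
  · intro h W hWs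
    exact (hE₀ W hWs y.1 y.2).mpr (fun x hxrel _ hfx => h x hxrel hfx)
  · intro h x hxrel hfx
    have hx : x ∈ f ⁻¹ᵁ Y₀ := by
      change f x ∈ Y₀
      rw [hfx]
      exact y.2
    rw [hseq] at hx
    obtain ⟨W, hWs, hxW⟩ : ∃ W ∈ s, x ∈ (W : X.Opens) := by simpa using hx
    exact (hE₀ W hWs y.1 y.2).mp (h W hWs) x hxrel hxW hfx

end Groth.Agent.Lib.Helper6.RelAss
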