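import Mathlib
import Groth.Prelude.Def_MoreMor
import Groth.Agent.Lib.Helper6.RelAss24
import Groth.Agent.Lib.Helper6.RelAss20
import Groth.Agent.Lib.Helper6.RelAss11
import Groth.Agent.Lib.Helper6.RelAss7
import Groth.Agent.Lib.Helper6.FibDense5
import Groth.Agent.Lib.Helper29.QCohFinite
import Groth.Agent.Lib.Helper29.QCohPullback
import Groth.Agent.Lib.Helper18.GFl5
import Groth.Agent.Lib.Lead.SchDense

/-!
# The relative assassin and arbitrary base change (EGA IV 4.2.7 type statement) (helper6)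
-/

set_option autoImplicit false
set_option linter.style.haveILetI false
set_option linter.unusedSectionVars false
universe u

open CategoryTheory CategoryTheory.Limits AlgebraicGeometry TopologicalSpace Opposite TensorProduct
open Groth.Agent.Lib.Helper29.QCoh Groth.Agent.Lib.Helper6.FibDense Groth.Agent.Lib.Helper18
open Groth.Agent.Lib.Lead.SchDense

namespace Groth.Agent.Lib.Helper6.RelAss

set_option maxHeartbeats 3200000 in
set_option maxRecDepth 4000 in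
/-- a point of a base change is a relative associated point iff its image is one and it is
maximal under generisation among the points with the same two projections -/
theorem mem_relAss_pullback_iff {X S X' S' : Scheme.{u}} (f : X ⟶ S) [LocallyOfFiniteType f]
    (F : X.Modules) [F.IsQuasicoherent] (g : S' ⟶ S) (f' : X' ⟶ S') (g' : X' ⟶ X)
    (hc : IsPullback g' f' f g) (x' : X') :
    x' ∈ MoreMor.relAss f' ((Scheme.Modules.pullback g').obj F) ↔
      g' x' ∈ MoreMor.relAss f F ∧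
        ∀ x'' : X', f' x'' = f' x' → g' x'' = g' x' → x'' ⤳ x' → x'' = x' := by
  haveI hlft' : LocallyOfFiniteType f' :=
    MorphismProperty.of_isPullback (P := @LocallyOfFiniteType) hc inferInstance
  have hw : f (g' x') = g (f' x') := by
    rw [← Scheme.Hom.comp_apply, ← Scheme.Hom.comp_apply, hc.w]
  obtain ⟨_, ⟨S₀, hS₀ : IsAffineOpen S₀, rfl⟩, hsS₀, -⟩ :=
    S.isBasis_affineOpens.exists_subset_of_mem_open (Set.mem_univ (g (f' x'))) isOpen_univ
  obtain ⟨_, ⟨S'₀, hS'₀ : IsAffineOpen S'₀, rfl⟩, hs', hSS⟩ :=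
    S'.isBasis_affineOpens.exists_subset_of_mem_open
      (show f' x' ∈ ((g ⁻¹ᵁ S₀ : S'.Opens) : Set S') from hsS₀) (g ⁻¹ᵁ S₀).isOpen
  obtain ⟨_, ⟨W, hW : IsAffineOpen W, rfl⟩, hxW, hWS⟩ :=
    X.isBasis_affineOpens.exists_subset_of_mem_open
      (show g' x' ∈ ((f ⁻¹ᵁ S₀ : X.Opens) : Set X) from by
        change f (g' x') ∈ S₀
        rw [hw]; exact hsS₀) (f ⁻¹ᵁ S₀).isOpen
  obtain ⟨W', hW'def⟩ : ∃ W' : X'.Opens, W' = g' ⁻¹ᵁ W ⊓ f' ⁻¹ᵁ S'₀ := ⟨_, rfl⟩
  have hW'W : W' ≤ g' ⁻¹ᵁ W := by rw [hW'def]; exact inf_le_left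
  have hW'S' : W' ≤ f' ⁻¹ᵁ S'₀ := by rw [hW'def]; exact inf_le_right
  have hW' : IsAffineOpen W' := GFl.isAffineOpen_of_isPullback hc hS₀ hS'₀ hW hSS hWS hW'def
  have hpo := GFl.isPushout_appLE_of_isPullback hc hS₀ hS'₀ hW hSS hWS hW'def
  letI algAC : Algebra Γ(S, S₀) Γ(X, W) := (f.appLE S₀ W hWS).hom.toAlgebra
  letI algAA' : Algebra Γ(S, S₀) Γ(S', S'₀) := (g.appLE S₀ S'₀ hSS).hom.toAlgebra
  letI algA'C' : Algebra Γ(S', S'₀) Γ(X', W') := (f'.appLE S'₀ W' hW'S').hom.toAlgebra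
  letI algCC' : Algebra Γ(X, W) Γ(X', W') := (g'.appLE W W' hW'W).hom.toAlgebra
  letI algAC' : Algebra Γ(S, S₀) Γ(X', W') :=
    ((g'.appLE W W' hW'W).hom.comp (f.appLE S₀ W hWS).hom).toAlgebra
  haveI tw1 : IsScalarTower Γ(S, S₀) Γ(X, W) Γ(X', W') :=
    IsScalarTower.of_algebraMap_eq (fun _ => rfl)
  haveI tw2 : IsScalarTower Γ(S, S₀) Γ(S', S'₀) Γ(X', W') :=
    IsScalarTower.of_algebraMap_eq (fun r => by
      have hw := hpo.w
      exact congr($(hw).hom r))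
  haveI hpo1 : Algebra.IsPushout Γ(S, S₀) Γ(X, W) Γ(S', S'₀) Γ(X', W') :=
    CommRingCat.isPushout_iff_isPushout.mp hpo
  haveI hpo2 : Algebra.IsPushout Γ(S, S₀) Γ(S', S'₀) Γ(X, W) Γ(X', W') := hpo1.symm
  letI modAM : Module Γ(S, S₀) Γ(F, W) := Module.compHom _ (f.appLE S₀ W hWS).hom
  haveI twM : IsScalarTower Γ(S, S₀) Γ(X, W) Γ(F, W) :=
    IsScalarTower.of_algebraMap_smul (fun r m => rfl)
  letI modA'M' : Module Γ(S', S'₀) Γ((Scheme.Modules.pullback g').obj F, W') :=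
    Module.compHom _ (f'.appLE S'₀ W' hW'S').hom
  haveI twM' : IsScalarTower Γ(S', S'₀) Γ(X', W') Γ((Scheme.Modules.pullback g').obj F, W') :=
    IsScalarTower.of_algebraMap_smul (fun r m => rfl)
  haveI hft : Algebra.FiniteType Γ(S, S₀) Γ(X, W) :=
    HasRingHomProperty.appLE (P := @LocallyOfFiniteType) f inferInstance ⟨S₀, hS₀⟩ ⟨W, hW⟩ hWS
  haveI hft' : Algebra.FiniteType Γ(S', S'₀) Γ(X', W') :=
    HasRingHomProperty.appLE (P := @LocallyOfFiniteType) f' inferInstance ⟨S'₀, hS'₀⟩ ⟨W', hW'⟩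
      hW'S'
  have e : Γ((Scheme.Modules.pullback g').obj F, W') ≃ₗ[Γ(X', W')]
      Γ(X', W') ⊗[Γ(X, W)] Γ(F, W) := pullbackSectionsEquiv g' F hW' hW hW'W
  obtain ⟨p', hp'⟩ : ∃ p' : Ideal Γ(S', S'₀), p' = (hS'₀.primeIdealOf ⟨f' x', hs'⟩).asIdeal :=
    ⟨_, rfl⟩
  haveI hp'p : p'.IsPrime := by rw [hp']; infer_instance
  obtain ⟨p, hpdef⟩ : ∃ p : Ideal Γ(S, S₀), p = (hS₀.primeIdealOf ⟨g (f' x'), hSS hs'⟩).asIdeal :=
    ⟨_, rfl⟩
  haveI hpp : p.IsPrime := by rw [hpdef]; infer_instance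
  have hp : p'.comap (algebraMap Γ(S, S₀) Γ(S', S'₀)) = p := by
    rw [hp', hpdef]
    exact congrArg PrimeSpectrum.asIdeal
      (IsAffineOpen.comap_primeIdealOf_appLE S₀ hS₀ S'₀ hS'₀ hSS hs')
  have hpx' : ∀ (y' : X') (hy'W' : y' ∈ W'), f' y' = f' x' →
      (hW'.primeIdealOf ⟨y', hy'W'⟩).asIdeal.comap (algebraMap Γ(S', S'₀) Γ(X', W')) = p' := by
    intro y' hy'W' hfy'
    have h1 := congrArg PrimeSpectrum.asIdeal
      (IsAffineOpen.comap_primeIdealOf_appLE S'₀ hS'₀ W' hW' hW'S' hy'W')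
    refine h1.trans ?_
    rw [hp']
    congr 2
    exact Subtype.ext hfy'
  have hqx' : ∀ (y' : X') (hy'W' : y' ∈ W'),
      (hW'.primeIdealOf ⟨y', hy'W'⟩).asIdeal.comap (algebraMap Γ(X, W) Γ(X', W')) =
        (hW.primeIdealOf ⟨g' y', hW'W hy'W'⟩).asIdeal := by
    intro y' hy'W'
    exact congrArg PrimeSpectrum.asIdeal
      (IsAffineOpen.comap_primeIdealOf_appLE W hW W' hW' hW'W hy'W')
  have hx'W' : x' ∈ W' := by
    rw [hW'def]
    exact ⟨hxW, hs'⟩
  rw [mem_relAss_iff f' ((Scheme.Modules.pullback g').obj F) hS'₀ hW' hW'S' x' hx'W',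
    mem_relAss_iff f F hS₀ hW hWS (g' x') (hW'W hx'W'), ← hqx' x' hx'W',
    relAssAt_baseChange_iff e p' p hp (hW'.primeIdealOf ⟨x', hx'W'⟩).asIdeal
      (hpx' x' hx'W' rfl)]
  refine and_congr_right fun _ => ?_
  constructor
  · intro hmin x'' hfx'' hgx'' hspec
    have hx''W' : x'' ∈ W' := hspec.mem_open W'.isOpen hx'W'
    have h1 := hmin (hW'.primeIdealOf ⟨x'', hx''W'⟩).asIdeal inferInstance
      ((primeIdealOf_le_iff_specializes hW' x'' x' hx''W' hx'W').mpr hspec)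
      (hpx' x'' hx''W' hfx'') (by
        rw [hqx' x'' hx''W', hqx' x' hx'W']
        congr 2
        exact Subtype.ext hgx'')
    exact eq_of_primeIdealOf_eq' hW' x'' x' hx''W' hx'W' h1
  · intro hmax q'' hq''p hle hq''A hq''C
    obtain ⟨x'', hx''W', hx''q⟩ := exists_point_of_prime' hW' ⟨q'', hq''p⟩
    have hx''q' : (hW'.primeIdealOf ⟨x'', hx''W'⟩).asIdeal = q'' :=
      congrArg PrimeSpectrum.asIdeal hx''q
    have h1 : x'' = x' := by
      refine hmax x'' ?_ ?_ ?_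
      · apply eq_of_primeIdealOf_eq' hS'₀ _ _ (hW'S' hx''W') hs'
        rw [← hp', ← hq''A, ← hx''q']
        exact (congrArg PrimeSpectrum.asIdeal
          (IsAffineOpen.comap_primeIdealOf_appLE S'₀ hS'₀ W' hW' hW'S' hx''W')).symm
      · apply eq_of_primeIdealOf_eq' hW _ _ (hW'W hx''W') (hW'W hx'W')
        rw [← hqx' x'' hx''W', ← hqx' x' hx'W', hx''q', hq''C]
      · rw [← primeIdealOf_le_iff_specializes hW' x'' x' hx''W' hx'W', hx''q']
        exact hle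
    subst h1
    exact hx''q'.symm

end Groth.Agent.Lib.Helper6.RelAss
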