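import Mathlib
import Groth.Prelude.Def_MoreMor
import Groth.Agent.Lib.Helper6.RelAss6
import Groth.Agent.Lib.Helper6.RelAss7
import Groth.Agent.Lib.Helper6.FibDense5
import Groth.Agent.Lib.Helper29.QCohFinite
import Groth.Agent.Lib.Lead.SchDense

/-!
# The relative assassin near the generic fibre (EGA IV 9.8.3 type statements) (helper6)
-/

set_option autoImplicit false
set_option linter.style.haveILetI false
set_option linter.unusedSectionVars false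
universe u

open CategoryTheory CategoryTheory.Limits AlgebraicGeometry TopologicalSpace Opposite
open Groth.Agent.Lib.Helper29.QCoh Groth.Agent.Lib.Helper6.FibDense
open Groth.Agent.Lib.Lead.SchDense

namespace Groth.Agent.Lib.Helper6.RelAss

section generic

variable {Y : Scheme.{u}} [IrreducibleSpace ↑Y]

/-- membership of the generic point in a basic open -/
theorem genericPoint_mem_basicOpen_iff {Y₀ : Y.Opens} (hY₀ : IsAffineOpen Y₀) (a : Γ(Y, Y₀)) :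
    genericPoint ↑Y ∈ Y.basicOpen a ↔ ¬ IsNilpotent a := by
  rw [Scheme.isNilpotent_iff_basicOpen_eq_bot_of_isCompact hY₀.isCompact]
  constructor
  · intro h h0
    rw [h0] at h
    exact h
  · intro hne
    have hne' : ((Y.basicOpen a : Set Y)).Nonempty := (Opens.ne_bot_iff_nonempty _).mp hne
    exact ((genericPoint_spec Y).mem_open_set_iff (Y.basicOpen a).isOpen).mpr (by simpa using hne')

/-- the prime of the generic point is the nilradical -/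
theorem primeIdealOf_genericPoint {Y₀ : Y.Opens} (hY₀ : IsAffineOpen Y₀)
    (hη : genericPoint ↑Y ∈ Y₀) :
    (hY₀.primeIdealOf ⟨genericPoint ↑Y, hη⟩).asIdeal = nilradical Γ(Y, Y₀) := by
  ext a
  rw [mem_primeIdealOf_iff hY₀ _ hη, genericPoint_mem_basicOpen_iff hY₀, not_not, mem_nilradical]

theorem eq_of_primeIdealOf_eq {Y₀ : Y.Opens} (hY₀ : IsAffineOpen Y₀) (y y' : Y) (hy : y ∈ Y₀)
    (hy' : y' ∈ Y₀)
    (h : (hY₀.primeIdealOf ⟨y, hy⟩).asIdeal = (hY₀.primeIdealOf ⟨y', hy'⟩).asIdeal) : y = y' := by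
  have h1 : hY₀.primeIdealOf ⟨y, hy⟩ = hY₀.primeIdealOf ⟨y', hy'⟩ := PrimeSpectrum.ext h
  have h2 := congrArg hY₀.fromSpec h1
  rwa [hY₀.fromSpec_primeIdealOf, hY₀.fromSpec_primeIdealOf] at h2

end generic

set_option maxHeartbeats 1600000 in
/-- one affine chart of S1368 -/
theorem exists_basicOpen_chart1368 {X Y : Scheme.{u}} (f : X ⟶ Y) [IrreducibleSpace ↑Y]
    [LocallyOfFiniteType f] (F : X.Modules) [F.IsQuasicoherent] [F.IsFiniteType] (U : X.Opens)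
    (h : ∀ x ∈ MoreMor.relAss f F, f x = genericPoint ↑Y → x ∈ U)
    {Y₀ : Y.Opens} (hY₀ : IsAffineOpen Y₀) (hη : genericPoint ↑Y ∈ Y₀)
    {W : X.Opens} (hW : IsAffineOpen W) (hWY : W ≤ f ⁻¹ᵁ Y₀) :
    ∃ a : Γ(Y, Y₀), genericPoint ↑Y ∈ Y.basicOpen a ∧
      ∀ x ∈ MoreMor.relAss f F, x ∈ W → f x ∈ Y.basicOpen a → x ∈ U := by
  letI algAC : Algebra Γ(Y, Y₀) Γ(X, W) := (f.appLE Y₀ W hWY).hom.toAlgebra
  haveI hft : Algebra.FiniteType Γ(Y, Y₀) Γ(X, W) :=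
    HasRingHomProperty.appLE (P := @LocallyOfFiniteType) f inferInstance ⟨Y₀, hY₀⟩ ⟨W, hW⟩ hWY
  haveI hMfin : Module.Finite Γ(X, W) Γ(F, W) := module_finite_of_isFiniteType F hW
  have hn : (nilradical Γ(Y, Y₀)).IsPrime := by
    rw [← primeIdealOf_genericPoint hY₀ hη]; infer_instance
  obtain ⟨a, ha, hconcl⟩ := chart1368 (A := Γ(Y, Y₀)) Γ(F, W) hn (idealOf W U) (by
    intro q hq hqn hrel hle
    obtain ⟨x, hxW, hxq⟩ := exists_point_of_prime' hW ⟨q, hq⟩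
    have hxq' : (hW.primeIdealOf ⟨x, hxW⟩).asIdeal = q := congrArg PrimeSpectrum.asIdeal hxq
    have hxrel : x ∈ MoreMor.relAss f F := by
      rw [mem_relAss_iff f F hY₀ hW hWY x hxW, hxq']
      exact hrel
    have hfx : f x = genericPoint ↑Y := by
      apply eq_of_primeIdealOf_eq hY₀ _ _ (hWY hxW) hη
      rw [primeIdealOf_genericPoint hY₀ hη, ← hqn, ← hxq']
      exact (congrArg PrimeSpectrum.asIdeal
        (IsAffineOpen.comap_primeIdealOf_appLE Y₀ hY₀ W hW hWY hxW)).symm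
    have hxU := h x hxrel hfx
    obtain ⟨g, hgU, hxg⟩ := hW.exists_basicOpen_le (V := U) ⟨x, hxU⟩ hxW
    have h1 : g ∈ q := hle hgU
    rw [← hxq', mem_primeIdealOf_iff hW x hxW] at h1
    exact h1 hxg)
  refine ⟨a, (genericPoint_mem_basicOpen_iff hY₀ a).mpr ha, fun x hxrel hxW hfx => ?_⟩
  have hrel := (mem_relAss_iff f F hY₀ hW hWY x hxW).mp hxrel
  have haq : a ∉ (hW.primeIdealOf ⟨x, hxW⟩).asIdeal.comap (algebraMap Γ(Y, Y₀) Γ(X, W)) := by
    rw [Ideal.mem_comap, mem_primeIdealOf_iff hW x hxW, not_not]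
    have h0 : X.basicOpen (algebraMap Γ(Y, Y₀) Γ(X, W) a) = W ⊓ f ⁻¹ᵁ Y.basicOpen a :=
      Scheme.basicOpen_appLE f W Y₀ hWY a
    rw [h0]
    exact ⟨hxW, hfx⟩
  have hnle := hconcl _ inferInstance haq hrel
  rw [SetLike.not_le_iff_exists] at hnle
  obtain ⟨g, hgU, hgq⟩ := hnle
  rw [mem_primeIdealOf_iff hW x hxW, not_not] at hgq
  exact hgU hgq

set_option maxHeartbeats 1600000 in
/-- S1368: if the associated points of the generic fibre lie in `U`, so do those of the fibres over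
a nonempty open -/
theorem relAss_subset_near_generic {X Y : Scheme.{u}} (f : X ⟶ Y) [IrreducibleSpace ↑Y]
    [LocallyOfFiniteType f] [QuasiCompact f] (F : X.Modules) (hF : Coh.IsCoh F) (U : X.Opens)
    (h : ∀ x ∈ MoreMor.relAss f F, f x = genericPoint ↑Y → x ∈ U) :
    ∃ V : Y.Opens, (V : Set ↑Y).Nonempty ∧ ∀ x ∈ MoreMor.relAss f F, f x ∈ V → x ∈ U := by
  haveI : F.IsQuasicoherent := hF.1
  haveI : F.IsFiniteType := hF.2
  obtain ⟨Y₀, hY₀, hηY₀, -⟩ := exists_isAffineOpen_mem_and_subset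
    (x := genericPoint ↑Y) (U := ⊤) trivial
  have hcpt : IsCompact ((f ⁻¹ᵁ Y₀ : X.Opens) : Set X) :=
    QuasiCompact.isCompact_preimage _ Y₀.isOpen hY₀.isCompact
  obtain ⟨s, hsfin, hs⟩ := isCompact_iff_finite_and_eq_biUnion_affineOpens.mp hcpt
  have key : ∀ s : Set X.affineOpens, s.Finite → (∀ W ∈ s, (W : X.Opens) ≤ f ⁻¹ᵁ Y₀) →
      ∃ a : Γ(Y, Y₀), genericPoint ↑Y ∈ Y.basicOpen a ∧ ∀ W ∈ s,
        ∀ x ∈ MoreMor.relAss f F, x ∈ (W : X.Opens) → f x ∈ Y.basicOpen a → x ∈ U := by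
    intro s hs
    induction s, hs using Set.Finite.induction_on with
    | empty =>
      intro _
      refine ⟨1, ?_, fun W hW => absurd hW (Set.notMem_empty W)⟩
      rw [Scheme.basicOpen_of_isUnit _ isUnit_one]
      exact hηY₀
    | @insert W s hWs hsfin ih =>
      intro hle
      obtain ⟨a₁, ha₁, ha₁'⟩ := ih (fun W' hW' => hle W' (Set.mem_insert_of_mem _ hW'))
      obtain ⟨a₂, ha₂, ha₂'⟩ := exists_basicOpen_chart1368 f F U h hY₀ hηY₀ W.2
        (hle W (Set.mem_insert _ _))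
      refine ⟨a₁ * a₂, ?_, ?_⟩
      · rw [Scheme.basicOpen_mul]
        exact ⟨ha₁, ha₂⟩
      · intro W' hW' x hxrel hxW' hfx
        rw [Scheme.basicOpen_mul] at hfx
        rcases Set.mem_insert_iff.mp hW' with rfl | hW'
        · exact ha₂' x hxrel hxW' hfx.2
        · exact ha₁' W' hW' x hxrel hxW' hfx.1
  have hsle : ∀ W ∈ s, (W : X.Opens) ≤ f ⁻¹ᵁ Y₀ := fun W hW => by
    rw [hs]
    exact le_iSup₂ (f := fun (i : X.affineOpens) (_ : i ∈ s) => (i : X.Opens)) W hW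
  obtain ⟨a, haη, ha⟩ := key s hsfin hsle
  refine ⟨Y.basicOpen a, ⟨genericPoint ↑Y, haη⟩, fun x hxrel hfx => ?_⟩
  have hx : x ∈ f ⁻¹ᵁ Y₀ := Y.basicOpen_le a hfx
  rw [hs] at hx
  obtain ⟨W, hWs, hxW⟩ : ∃ W ∈ s, x ∈ (W : X.Opens) := by
    simpa [Opens.mem_iSup] using hx
  exact ha W hWs x hxrel hxW hfx

set_option maxHeartbeats 1600000 in
/-- S1369: if some associated point of the generic fibre is outside `U`, then so is some associated
point of every fibre over a nonempty open -/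
theorem relAss_not_subset_near_generic {X Y : Scheme.{u}} (f : X ⟶ Y) [IrreducibleSpace ↑Y]
    [LocallyOfFiniteType f] (F : X.Modules) (hF : Coh.IsCoh F) (U : X.Opens)
    (h : ∃ x ∈ MoreMor.relAss f F, f x = genericPoint ↑Y ∧ x ∉ U) :
    ∃ V : Y.Opens, (V : Set ↑Y).Nonempty ∧
      ∀ y ∈ V, ∃ x ∈ MoreMor.relAss f F, f x = y ∧ x ∉ U := by
  haveI : F.IsQuasicoherent := hF.1
  haveI : F.IsFiniteType := hF.2
  obtain ⟨x₀, hx₀rel, hfx₀, hx₀U⟩ := h
  obtain ⟨Y₀, hY₀, hηY₀, -⟩ := exists_isAffineOpen_mem_and_subset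
    (x := genericPoint ↑Y) (U := ⊤) trivial
  have hx₀Y : x₀ ∈ f ⁻¹ᵁ Y₀ := by
    change f x₀ ∈ Y₀
    rw [hfx₀]; exact hηY₀
  obtain ⟨W, hW, hx₀W, hWY⟩ := exists_isAffineOpen_mem_and_subset (x := x₀) (U := f ⁻¹ᵁ Y₀) hx₀Y
  letI algAC : Algebra Γ(Y, Y₀) Γ(X, W) := (f.appLE Y₀ W hWY).hom.toAlgebra
  haveI hft : Algebra.FiniteType Γ(Y, Y₀) Γ(X, W) :=
    HasRingHomProperty.appLE (P := @LocallyOfFiniteType) f inferInstance ⟨Y₀, hY₀⟩ ⟨W, hW⟩ hWY
  haveI hMfin : Module.Finite Γ(X, W) Γ(F, W) := module_finite_of_isFiniteType F hW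
  have hn : (nilradical Γ(Y, Y₀)).IsPrime := by
    rw [← primeIdealOf_genericPoint hY₀ hηY₀]; infer_instance
  have hq₀ : (hW.primeIdealOf ⟨x₀, hx₀W⟩).asIdeal.comap (algebraMap Γ(Y, Y₀) Γ(X, W)) =
      nilradical Γ(Y, Y₀) := by
    rw [← primeIdealOf_genericPoint hY₀ hηY₀]
    have h1 := congrArg PrimeSpectrum.asIdeal
      (IsAffineOpen.comap_primeIdealOf_appLE Y₀ hY₀ W hW hWY hx₀W)
    refine h1.trans ?_
    congr 2
    exact Subtype.ext hfx₀
  have hrel₀ := (mem_relAss_iff f F hY₀ hW hWY x₀ hx₀W).mp hx₀rel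
  obtain ⟨a, ha, hconcl⟩ := chart1369 (A := Γ(Y, Y₀)) Γ(F, W) hn
    (hW.primeIdealOf ⟨x₀, hx₀W⟩).asIdeal hq₀ hrel₀
  refine ⟨Y.basicOpen a, ⟨genericPoint ↑Y, (genericPoint_mem_basicOpen_iff hY₀ a).mpr ha⟩,
    fun y hy => ?_⟩
  have hyY₀ : y ∈ Y₀ := Y.basicOpen_le a hy
  have hay : a ∉ (hY₀.primeIdealOf ⟨y, hyY₀⟩).asIdeal := by
    rw [mem_primeIdealOf_iff hY₀ y hyY₀, not_not]
    exact hy
  obtain ⟨q, hqp, hq, hle, hrel⟩ := hconcl _ inferInstance hay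
  obtain ⟨x, hxW, hxq⟩ := exists_point_of_prime' hW ⟨q, hqp⟩
  have hxq' : (hW.primeIdealOf ⟨x, hxW⟩).asIdeal = q := congrArg PrimeSpectrum.asIdeal hxq
  refine ⟨x, ?_, ?_, ?_⟩
  · rw [mem_relAss_iff f F hY₀ hW hWY x hxW, hxq']
    exact hrel
  · apply eq_of_primeIdealOf_eq hY₀ _ _ (hWY hxW) hyY₀
    rw [← hq, ← hxq']
    exact (congrArg PrimeSpectrum.asIdeal
      (IsAffineOpen.comap_primeIdealOf_appLE Y₀ hY₀ W hW hWY hxW)).symm
  · intro hxU
    obtain ⟨g, hgU, hxg⟩ := hW.exists_basicOpen_le (V := U) ⟨x, hxU⟩ hxW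
    have hgq : g ∉ q := by
      rw [← hxq', mem_primeIdealOf_iff hW x hxW, not_not]
      exact hxg
    have hgq₀ : g ∉ (hW.primeIdealOf ⟨x₀, hx₀W⟩).asIdeal := fun h => hgq (hle h)
    rw [mem_primeIdealOf_iff hW x₀ hx₀W, not_not] at hgq₀
    exact hx₀U (hgU hgq₀)

end Groth.Agent.Lib.Helper6.RelAss
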