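import Groth.Agent.Lib.Helper6.AWNRing2

set_option autoImplicit false
universe u

open CategoryTheory AlgebraicGeometry Limits

namespace Groth.Agent.Lib.Helper6.SN

open Groth.Agent.Lib.Helper6.AWN Groth.Agent.Lib.Helper6.SqCube Groth.Agent.Lib.Helper12
open Groth.Agent.Lib.Helper6.UnivHomeoRing

variable {A C : Type u} [CommRing A] [CommRing C]

/-- A universal homeomorphism with trivial residue field extensions from a seminormal ring to a
reduced ring is bijective. -/
theorem bijective_of_isSeminormalRing [IsReduced C] (hA : HTop.IsSeminormalRing A) (ψ : A →+* C)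
    (hψ : UH ψ) (hT : TR ψ) : Function.Bijective ψ := by
  have hredA : IsReduced A := isReduced_of_isSeminormalRing hA
  have hinj : Function.Injective ψ := by
    rw [RingHom.injective_iff_ker_eq_bot, eq_bot_iff]
    have := uh_ker_le_nilradical hψ
    rwa [nilradical_eq_zero A] at this
  refine ⟨hinj, ?_⟩
  by_contra hns
  let _ : Algebra A C := ψ.toAlgebra
  have hne : ¬ Function.Surjective (algebraMap A C) := hns
  obtain ⟨w, h1, ⟨x, hx⟩, ⟨y, hy⟩⟩ := exists_sq_cube hne ((uh_iff ψ).mpr hψ) hT
  have hx' : ψ x = w ^ 2 := hx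
  have hy' : ψ y = w ^ 3 := hy
  have hxy : x ^ 3 = y ^ 2 := by
    apply hinj
    rw [map_pow, map_pow, hx', hy']; ring
  obtain ⟨a, ⟨ha1, ha2⟩, -⟩ := hA x y hxy
  apply h1
  refine ⟨a, ?_⟩
  change ψ a = w
  apply eq_of_sq_eq_of_cube_eq
  · rw [← map_pow, ← ha1, hx']
  · rw [← map_pow, ← ha2, hy']

/-- Over a seminormal ring, a universal homeomorphism with trivial residue field extensions has
a unique retraction. -/
theorem existsUnique_retraction (hA : HTop.IsSeminormalRing A) (ψ : A →+* C)
    (hψ : UH ψ) (hT : TR ψ) : ∃! χ : C →+* A, χ.comp ψ = RingHom.id A := by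
  have hredA : IsReduced A := isReduced_of_isSeminormalRing hA
  have hπ : UH (Ideal.Quotient.mk (nilradical C)) := by
    apply uh_of_surjective_of_ker_le _ Ideal.Quotient.mk_surjective
    rw [Ideal.mk_ker]
  have hπT : TR (Ideal.Quotient.mk (nilradical C)) := TR.of_surjective Ideal.Quotient.mk_surjective
  have hredQ : IsReduced (C ⧸ nilradical C) := by
    rw [← Ideal.isRadical_iff_quotient_reduced]
    exact Ideal.radical_isRadical _
  have hbij := bijective_of_isSeminormalRing hA ((Ideal.Quotient.mk (nilradical C)).comp ψ)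
    (hψ.comp hπ) (hT.comp hπT)
  let e : A ≃+* C ⧸ nilradical C := RingEquiv.ofBijective _ hbij
  have he : ∀ a, e a = Ideal.Quotient.mk (nilradical C) (ψ a) := fun a => rfl
  refine ⟨e.symm.toRingHom.comp (Ideal.Quotient.mk (nilradical C)), ?_, ?_⟩
  · ext a
    simp only [RingHom.comp_apply, RingHom.id_apply]
    rw [← he a]
    exact e.symm_apply_apply a
  · intro χ' hχ'
    ext c
    simp only [RingHom.comp_apply]
    set a := e.symm (Ideal.Quotient.mk (nilradical C) c) with ha
    have h1 : Ideal.Quotient.mk (nilradical C) (ψ a) = Ideal.Quotient.mk (nilradical C) c := by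
      rw [← he a, ha]
      exact e.apply_symm_apply _
    have h2 : ψ a - c ∈ nilradical C := by
      rw [← Ideal.Quotient.eq_zero_iff_mem, map_sub, h1, sub_self]
    have h3 : IsNilpotent (χ' (ψ a - c)) := (mem_nilradical.mp h2).map χ'
    have h4 : χ' (ψ a - c) = 0 := h3.eq_zero
    have h5 : χ' (ψ a) = a := congrArg (fun f => f a) hχ'
    rw [map_sub, h5, sub_eq_zero] at h4
    exact h4.symm

theorem isSeminormalRing_of_ringEquiv {B W : Type u} [CommRing B] [CommRing W] (e : B ≃+* W)
    (h : HTop.IsSeminormalRing W) : HTop.IsSeminormalRing B := by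
  intro x y hxy
  obtain ⟨a, ⟨h1, h2⟩, huniq⟩ := h (e x) (e y) (by rw [← map_pow, ← map_pow, hxy])
  refine ⟨e.symm a, ⟨?_, ?_⟩, ?_⟩
  · apply e.injective; rw [map_pow, e.apply_symm_apply, h1]
  · apply e.injective; rw [map_pow, e.apply_symm_apply, h2]
  · rintro b ⟨hb1, hb2⟩
    apply e.injective
    rw [e.apply_symm_apply]
    exact huniq (e b) ⟨by rw [hb1, map_pow], by rw [hb2, map_pow]⟩

end Groth.Agent.Lib.Helper6.SN
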