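import Mathlib
import Groth.Prelude.Def_HTop2
import Groth.Agent.Lib.Helper6.SNRing

set_option autoImplicit false
universe u

open CategoryTheory AlgebraicGeometry

namespace Groth.Agent.Lib.Helper6.SN

theorem eq_of_forall_localization_eq {A : Type u} [CommRing A] (a b : A)
    (h : ∀ (m : Ideal A) [m.IsMaximal],
      algebraMap A (Localization.AtPrime m) a = algebraMap A (Localization.AtPrime m) b) :
    a = b := by
  rw [← sub_eq_zero]
  apply eq_zero_of_localization
  intro J hJ
  rw [map_sub, sub_eq_zero]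
  exact h J

/-- A ring all of whose localizations at maximal ideals are seminormal is seminormal. -/
theorem isSeminormalRing_of_localization {A : Type u} [CommRing A]
    (h : ∀ (m : Ideal A) [m.IsMaximal], HTop.IsSeminormalRing (Localization.AtPrime m)) :
    HTop.IsSeminormalRing A := by
  -- local uniqueness
  have hloc : ∀ (m : Ideal A) [m.IsMaximal] (a b : Localization.AtPrime m),
      a ^ 2 = b ^ 2 → a ^ 3 = b ^ 3 → a = b := by
    intro m hm a b h2 h3
    obtain ⟨c, -, hcu⟩ := h m (a ^ 2) (a ^ 3) (by ring)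
    rw [hcu a ⟨rfl, rfl⟩, hcu b ⟨h2, h3⟩]
  intro x y hxy
  have huniq : ∀ (a b : A), a ^ 2 = b ^ 2 → a ^ 3 = b ^ 3 → a = b := by
    intro a b h2 h3
    apply eq_of_forall_localization_eq
    intro m hm
    apply hloc m
    · rw [← map_pow, ← map_pow, h2]
    · rw [← map_pow, ← map_pow, h3]
  -- key local fact
  have hkey : ∀ (m : Ideal A) [m.IsMaximal], ∃ a : Localization.AtPrime m,
      algebraMap A _ x = a ^ 2 ∧ algebraMap A _ y = a ^ 3 ∧
      ∀ (s c : A), c ^ 2 = s ^ 2 * x → c ^ 3 = s ^ 3 * y →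
        algebraMap A (Localization.AtPrime m) c = algebraMap A _ s * a := by
    intro m hm
    obtain ⟨a, ⟨ha2, ha3⟩, -⟩ := h m (algebraMap A _ x) (algebraMap A _ y)
      (by rw [← map_pow, ← map_pow, hxy])
    refine ⟨a, ha2, ha3, ?_⟩
    intro s c hc2 hc3
    apply hloc m
    · rw [← map_pow, hc2, map_mul, map_pow, ha2]; ring
    · rw [← map_pow, hc3, map_mul, map_pow, ha3]; ring
  let I : Ideal A :=
    { carrier := {s | ∃ c : A, c ^ 2 = s ^ 2 * x ∧ c ^ 3 = s ^ 3 * y}
      zero_mem' := ⟨0, by ring, by ring⟩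
      add_mem' := by
        rintro s₁ s₂ ⟨c₁, h12, h13⟩ ⟨c₂, h22, h23⟩
        refine ⟨c₁ + c₂, ?_, ?_⟩
        · apply eq_of_forall_localization_eq
          intro m hm
          obtain ⟨a, ha2, ha3, hk⟩ := hkey m
          simp only [map_pow, map_add, map_mul]
          rw [hk s₁ c₁ h12 h13, hk s₂ c₂ h22 h23, ha2]; ring
        · apply eq_of_forall_localization_eq
          intro m hm
          obtain ⟨a, ha2, ha3, hk⟩ := hkey m
          simp only [map_pow, map_add, map_mul]
          rw [hk s₁ c₁ h12 h13, hk s₂ c₂ h22 h23, ha3]; ring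
      smul_mem' := by
        rintro r s ⟨c, h2, h3⟩
        refine ⟨r * c, ?_, ?_⟩
        · rw [smul_eq_mul, mul_pow, h2]; ring
        · rw [smul_eq_mul, mul_pow, h3]; ring }
  have hI : I = ⊤ := by
    by_contra hne
    obtain ⟨m, hm, hIm⟩ := Ideal.exists_le_maximal I hne
    obtain ⟨a, ha2, ha3, -⟩ := hkey m
    obtain ⟨⟨c, s⟩, hcs⟩ := IsLocalization.surj m.primeCompl a
    simp only at hcs
    -- a * s = c
    have e2 : algebraMap A (Localization.AtPrime m) (s ^ 2 * x) = algebraMap A _ (c ^ 2) := by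
      rw [map_mul, map_pow, map_pow, ha2, ← hcs]; ring
    have e3 : algebraMap A (Localization.AtPrime m) (s ^ 3 * y) = algebraMap A _ (c ^ 3) := by
      rw [map_mul, map_pow, map_pow, ha3, ← hcs]; ring
    obtain ⟨t, ht⟩ := (IsLocalization.eq_iff_exists m.primeCompl _).mp e2
    obtain ⟨t', ht'⟩ := (IsLocalization.eq_iff_exists m.primeCompl _).mp e3
    have hmem : (t : A) * t' * s ∈ I := by
      refine ⟨t * t' * c, ?_, ?_⟩
      · have : (t : A) * t' * c ^ 2 = t * t' * (s ^ 2 * x) := by
          rw [mul_assoc, mul_comm (t' : A), ← mul_assoc, ← ht]; ring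
        calc ((t : A) * t' * c) ^ 2 = t * t' * (t * t' * c ^ 2) := by ring
          _ = t * t' * (t * t' * (s ^ 2 * x)) := by rw [this]
          _ = _ := by ring
      · have : (t : A) * t' * c ^ 3 = t * t' * (s ^ 3 * y) := by
          rw [mul_assoc, ← ht']; ring
        calc ((t : A) * t' * c) ^ 3 = (t * t') ^ 2 * (t * t' * c ^ 3) := by ring
          _ = (t * t') ^ 2 * (t * t' * (s ^ 3 * y)) := by rw [this]
          _ = _ := by ring
    have hnot : (t : A) * t' * s ∉ m := by
      intro hin
      rcases hm.isPrime.mem_or_mem hin with h1 | h1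
      · rcases hm.isPrime.mem_or_mem h1 with h2 | h2
        · exact t.2 h2
        · exact t'.2 h2
      · exact s.2 h1
    exact hnot (hIm hmem)
  have h1 : (1 : A) ∈ I := by rw [hI]; trivial
  obtain ⟨c, hc2, hc3⟩ := h1
  refine ⟨c, ⟨by rw [hc2]; ring, by rw [hc3]; ring⟩, ?_⟩
  rintro b ⟨hb2, hb3⟩
  exact huniq b c (by rw [← hb2, hc2]; ring) (by rw [← hb3, hc3]; ring)

/-- Variant with an arbitrary model of each localization. -/
theorem isSeminormalRing_of_isLocalization {A : Type u} [CommRing A]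
    (h : ∀ (m : Ideal A) [m.IsMaximal], ∃ (B : Type u) (_ : CommRing B) (_ : Algebra A B)
      (_ : IsLocalization.AtPrime B m), HTop.IsSeminormalRing B) :
    HTop.IsSeminormalRing A := by
  apply isSeminormalRing_of_localization
  intro m hm
  obtain ⟨B, _, _, _, hB⟩ := h m
  exact isSeminormalRing_of_ringEquiv
    (IsLocalization.algEquiv m.primeCompl (Localization.AtPrime m) B).toRingEquiv hB

end Groth.Agent.Lib.Helper6.SN
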