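import Groth.Agent.Lib.Helper12.UnivHomeo
import Groth.Prelude.Def_HTop2
import Mathlib.AlgebraicGeometry.ResidueField

set_option autoImplicit false
universe u

open CategoryTheory AlgebraicGeometry Limits

namespace Groth.Agent.Lib.Helper6.SN

open Groth.Agent.Lib.Helper12

/-- Every residue field point of the target lifts to the source. -/
def RFLift {W Z : Scheme.{u}} (ρ : W ⟶ Z) : Prop :=
  ∀ z : Z, ∃ l : Spec (Z.residueField z) ⟶ W, l ≫ ρ = Z.fromSpecResidueField z

variable {W Z T : Scheme.{u}}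

theorem rfLift_of_residueFieldsIso (ρ : W ⟶ Z) (hs : Function.Surjective ρ)
    (h : HTop.ResidueFieldsIso ρ) : RFLift ρ := by
  intro z
  obtain ⟨w, rfl⟩ := hs z
  have := h w
  refine ⟨Spec.map (inv (ρ.residueFieldMap w)) ≫ W.fromSpecResidueField w, ?_⟩
  rw [Category.assoc, ← Scheme.Hom.SpecMap_residueFieldMap_fromSpecResidueField, ← Category.assoc,
    ← Spec.map_comp, IsIso.hom_inv_id, Spec.map_id, Category.id_comp]

theorem rfLift_pullback_snd (ρ : W ⟶ Z) (g : T ⟶ Z) (h : RFLift ρ) :
    RFLift (pullback.snd ρ g) := by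
  intro t
  obtain ⟨l, hl⟩ := h (g t)
  refine ⟨pullback.lift (Spec.map (g.residueFieldMap t) ≫ l) (T.fromSpecResidueField t) ?_, ?_⟩
  · rw [Category.assoc, hl, Scheme.Hom.SpecMap_residueFieldMap_fromSpecResidueField]
  · exact pullback.lift_snd _ _ _

theorem isIso_residueFieldMap_of_eq (ρ : W ⟶ Z) {w₁ w₂ : W} (e : w₁ = w₂)
    (h : IsIso (ρ.residueFieldMap w₁)) : IsIso (ρ.residueFieldMap w₂) := by
  subst e; exact h

theorem isIso_of_eq {C : Type*} [Category C] {X Y : C} {f g : X ⟶ Y} (h : f = g) (hg : IsIso g) :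
    IsIso f := by
  subst h; exact hg

theorem residueFieldsIso_of_rfLift (ρ : W ⟶ Z) (hinj : Function.Injective ρ) (h : RFLift ρ) :
    HTop.ResidueFieldsIso ρ := by
  intro w
  obtain ⟨l, hl⟩ := h (ρ w)
  -- view `l` as a morphism out of `Spec (.of K)`
  let K := Z.residueField (ρ w)
  let l' : Spec (.of K) ⟶ W := l
  have hl' : l' ≫ ρ = Z.fromSpecResidueField (ρ w) := hl
  have h1 : Z.SpecToEquivOfField K (l' ≫ ρ) =
      Z.SpecToEquivOfField K ((Z.SpecToEquivOfField K).symm ⟨ρ w, 𝟙 _⟩) := by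
    rw [hl']
    congr 1
    change Z.fromSpecResidueField (ρ w) = Spec.map (𝟙 (Z.residueField (ρ w))) ≫
      Z.fromSpecResidueField (ρ w)
    rw [Spec.map_id, Category.id_comp]
  rw [Equiv.apply_symm_apply, Scheme.SpecToEquivOfField_eq_iff] at h1
  obtain ⟨e, he⟩ := h1
  have e' : ρ (l' (IsLocalRing.closedPoint K)) = ρ w := e
  have he2 := Scheme.descResidueField_stalkClosedPointTo_comp (f := ρ) l'
  have hww : l' (IsLocalRing.closedPoint K) = w := hinj e'
  have hiso : IsIso (ρ.residueFieldMap (l' (IsLocalRing.closedPoint K)) ≫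
      W.descResidueField (Scheme.stalkClosedPointTo l')) := by
    have h3 : IsIso ((Scheme.residueFieldCongr e).hom ≫ 𝟙 (Z.residueField (ρ w))) := inferInstance
    have he' : Z.descResidueField (Scheme.stalkClosedPointTo (l' ≫ ρ)) =
        (Scheme.residueFieldCongr e).hom ≫ 𝟙 (Z.residueField (ρ w)) := he
    exact isIso_of_eq he2.symm (isIso_of_eq he' h3)
  set w' := l' (IsLocalRing.closedPoint K) with hw'
  set m := W.descResidueField (Scheme.stalkClosedPointTo l') with hm
  have hmsurj : Function.Surjective m := by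
    intro x
    obtain ⟨y, hy⟩ := (ConcreteCategory.bijective_of_isIso (ρ.residueFieldMap w' ≫ m)).2 x
    exact ⟨ρ.residueFieldMap w' y, hy⟩
  have hminj : Function.Injective m := m.hom.injective
  have hmiso : IsIso m := (ConcreteCategory.isIso_iff_bijective m).mpr ⟨hminj, hmsurj⟩
  have : IsIso (ρ.residueFieldMap w') := IsIso.of_isIso_comp_right (ρ.residueFieldMap w') m
  exact isIso_residueFieldMap_of_eq ρ hww this

end Groth.Agent.Lib.Helper6.SN
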