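import Groth.Agent.Lib.Helper6.SNRing
import Groth.Agent.Lib.Helper6.SNResField
import Groth.Agent.Lib.Helper6.UHDescent
import Groth.Agent.S7420
import Groth.Agent.S7421

set_option autoImplicit false
universe u

open CategoryTheory AlgebraicGeometry Limits

namespace Groth.Agent.Lib.Helper6.SN

open Groth.Agent.Lib.Helper6.AWN Groth.Agent.Lib.Helper6.SqCube Groth.Agent.Lib.Helper12
open Groth.Agent.Lib.Helper6.UHDesc

section RFI

variable {X Y Z : Scheme.{u}}

theorem residueFieldsIso_comp {f : X ⟶ Y} {g : Y ⟶ Z} (hf : HTop.ResidueFieldsIso f)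
    (hg : HTop.ResidueFieldsIso g) : HTop.ResidueFieldsIso (f ≫ g) := by
  intro x
  rw [Scheme.residueFieldMap_comp]
  have h1 : IsIso (f.residueFieldMap x) := hf x
  have h2 : IsIso (g.residueFieldMap (f x)) := hg (f x)
  exact IsIso.comp_isIso' h2 h1

theorem residueFieldsIso_of_isOpenImmersion (f : X ⟶ Y) [IsOpenImmersion f] :
    HTop.ResidueFieldsIso f := fun x => inferInstance

theorem residueFieldsIso_of_comp_left {f : X ⟶ Y} {g : Y ⟶ Z} (hfg : HTop.ResidueFieldsIso (f ≫ g))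
    (hg : HTop.ResidueFieldsIso g) : HTop.ResidueFieldsIso f := by
  intro x
  have h1 : IsIso ((f ≫ g).residueFieldMap x) := hfg x
  rw [Scheme.residueFieldMap_comp] at h1
  have h2 : IsIso (g.residueFieldMap (f x)) := hg (f x)
  exact @IsIso.of_isIso_comp_left _ _ _ _ _ (g.residueFieldMap (f x)) (f.residueFieldMap x) h2 h1

theorem residueFieldsIso_of_comp_right {f : X ⟶ Y} {g : Y ⟶ Z}
    (hfg : HTop.ResidueFieldsIso (f ≫ g)) (hf : HTop.ResidueFieldsIso f)
    (hs : Function.Surjective f) : HTop.ResidueFieldsIso g := by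
  intro y
  obtain ⟨x, rfl⟩ := hs y
  have h1 : IsIso ((f ≫ g).residueFieldMap x) := hfg x
  rw [Scheme.residueFieldMap_comp] at h1
  have h2 : IsIso (f.residueFieldMap x) := hf x
  exact @IsIso.of_isIso_comp_right _ _ _ _ _ (g.residueFieldMap (f x)) (f.residueFieldMap x) h2 h1

theorem residueFieldsIso_pullback_snd {W T : Scheme.{u}} (ρ : W ⟶ Z) (g : T ⟶ Z)
    (hρ : FlatMor.IsUnivHomeo ρ) (h : HTop.ResidueFieldsIso ρ) :
    HTop.ResidueFieldsIso (pullback.snd ρ g) := by
  have hsnd : FlatMor.IsUnivHomeo (pullback.snd ρ g) := MorphismProperty.pullback_snd _ _ hρ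
  apply residueFieldsIso_of_rfLift _ (IsUnivHomeo.isHomeomorph hsnd).injective
  apply rfLift_pullback_snd
  exact rfLift_of_residueFieldsIso ρ (IsUnivHomeo.isHomeomorph hρ).surjective h

theorem residueFieldsIso_restrict {f : X ⟶ Y} (hf : HTop.ResidueFieldsIso f) (V : Y.Opens) :
    HTop.ResidueFieldsIso (f ∣_ V) := by
  have h1 : HTop.ResidueFieldsIso ((f ∣_ V) ≫ V.ι) := by
    rw [morphismRestrict_ι]
    exact residueFieldsIso_comp (residueFieldsIso_of_isOpenImmersion _) hf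
  exact residueFieldsIso_of_comp_left h1 (residueFieldsIso_of_isOpenImmersion _)

end RFI

section Sections

theorem existsUnique_section_SpecMap {A C : CommRingCat.{u}} (hA : HTop.IsSeminormalRing A)
    (ψ : A ⟶ C) (hψ : FlatMor.IsUnivHomeo (Spec.map ψ)) (hT : HTop.ResidueFieldsIso (Spec.map ψ)) :
    ∃! s : Spec A ⟶ Spec C, s ≫ Spec.map ψ = 𝟙 _ := by
  have hU : UH ψ.hom := (uh_iff ψ.hom).mp hψ
  have hTR : TR ψ.hom := by
    rw [← tr_iff]
    intro x
    have : IsIso ((Spec.map ψ).residueFieldMap x) := hT x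
    exact (ConcreteCategory.bijective_of_isIso ((Spec.map ψ).residueFieldMap x)).2
  obtain ⟨χ, hχ, huniq⟩ := existsUnique_retraction hA ψ.hom hU hTR
  refine ⟨Spec.map (CommRingCat.ofHom χ), ?_, ?_⟩
  · change Spec.map (CommRingCat.ofHom χ) ≫ Spec.map ψ = 𝟙 _
    rw [← Spec.map_comp, ← Spec.map_id]
    congr 1
    ext a
    exact congrArg (fun f => f a) hχ
  · intro s hs
    obtain ⟨χ₁, rfl⟩ := Spec.map_surjective s
    change Spec.map χ₁ ≫ Spec.map ψ = 𝟙 _ at hs
    rw [← Spec.map_comp, ← Spec.map_id] at hs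
    have h1 := Spec.map_injective hs
    have : χ₁.hom = χ := huniq χ₁.hom (by
      ext a
      exact congrArg (fun f => f.hom a) h1)
    congr 1
    ext c
    exact congrArg (fun f => f c) this

theorem existsUnique_section_of_isAffine {Z W : Scheme.{u}} [IsAffine Z]
    (hZ : HTop.IsSeminormalRing Γ(Z, ⊤)) (ρ : W ⟶ Z) (hρ : FlatMor.IsUnivHomeo ρ)
    (hT : HTop.ResidueFieldsIso ρ) : ∃! s : Z ⟶ W, s ≫ ρ = 𝟙 Z := by
  have haff : IsAffineHom ρ := IsUnivHomeo.isAffineHom hρ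
  have hW : IsAffine W := isAffine_of_isAffineHom ρ
  have hnat : W.isoSpec.hom ≫ Spec.map ρ.appTop = ρ ≫ Z.isoSpec.hom :=
    Scheme.isoSpec_hom_naturality ρ
  have hρ' : FlatMor.IsUnivHomeo (Spec.map ρ.appTop) := by
    have h1 : FlatMor.IsUnivHomeo (W.isoSpec.hom ≫ Spec.map ρ.appTop) := by
      rw [hnat]
      exact IsUnivHomeo.comp hρ (isUnivHomeo_of_isIso _)
    exact (MorphismProperty.cancel_left_of_respectsIso FlatMor.IsUnivHomeo _ _).mp h1
  have hT' : HTop.ResidueFieldsIso (Spec.map ρ.appTop) := by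
    have h1 : HTop.ResidueFieldsIso (W.isoSpec.hom ≫ Spec.map ρ.appTop) := by
      rw [hnat]
      exact residueFieldsIso_comp hT (residueFieldsIso_of_isOpenImmersion _)
    exact residueFieldsIso_of_comp_right h1 (residueFieldsIso_of_isOpenImmersion _)
      (ConcreteCategory.bijective_of_isIso W.isoSpec.hom.base).2
  obtain ⟨s', hs', huniq⟩ := existsUnique_section_SpecMap hZ ρ.appTop hρ' hT'
  refine ⟨Z.isoSpec.hom ≫ s' ≫ W.isoSpec.inv, ?_, ?_⟩
  · have : W.isoSpec.inv ≫ ρ = Spec.map ρ.appTop ≫ Z.isoSpec.inv := by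
      rw [Iso.inv_comp_eq, ← Category.assoc, hnat, Category.assoc, Iso.hom_inv_id, Category.comp_id]
    change (Z.isoSpec.hom ≫ s' ≫ W.isoSpec.inv) ≫ ρ = 𝟙 Z
    rw [Category.assoc, Category.assoc, this, ← Category.assoc s', hs', Category.id_comp,
      Iso.hom_inv_id]
  · intro s hs
    change s ≫ ρ = 𝟙 Z at hs
    have h2 : (Z.isoSpec.inv ≫ s ≫ W.isoSpec.hom) ≫ Spec.map ρ.appTop = 𝟙 _ := by
      rw [Category.assoc, Category.assoc, hnat, ← Category.assoc s, hs, Category.id_comp,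
        Iso.inv_hom_id]
    have h3 := huniq _ h2
    rw [← h3]
    simp

theorem isSeminormalRing_top_of_affineOpen {Z : Scheme.{u}} (hZ : HTop.IsSeminormal Z)
    (V : Z.affineOpens) : HTop.IsSeminormalRing Γ(V.1.toScheme, ⊤) := by
  have h1 := ((Groth.Agent.S7420.result Z).1.mp hZ) V
  exact isSeminormalRing_of_ringEquiv (V.1.topIso).commRingCatIsoToRingEquiv h1

theorem existsUnique_lift_affineOpen {Z W : Scheme.{u}} (hZ : HTop.IsSeminormal Z) (ρ : W ⟶ Z)
    (hρ : FlatMor.IsUnivHomeo ρ) (hT : HTop.ResidueFieldsIso ρ) (V : Z.affineOpens) :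
    ∃! t : V.1.toScheme ⟶ W, t ≫ ρ = V.1.ι := by
  have : IsAffine V.1.toScheme := V.2
  have hsnd : FlatMor.IsUnivHomeo (pullback.snd ρ V.1.ι) :=
    MorphismProperty.pullback_snd _ _ hρ
  have hsndT : HTop.ResidueFieldsIso (pullback.snd ρ V.1.ι) :=
    residueFieldsIso_pullback_snd ρ V.1.ι hρ hT
  obtain ⟨σ, hσ, huniq⟩ := existsUnique_section_of_isAffine
    (isSeminormalRing_top_of_affineOpen hZ V) (pullback.snd ρ V.1.ι) hsnd hsndT
  refine ⟨σ ≫ pullback.fst ρ V.1.ι, ?_, ?_⟩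
  · change (σ ≫ pullback.fst ρ V.1.ι) ≫ ρ = V.1.ι
    rw [Category.assoc, pullback.condition, ← Category.assoc, hσ, Category.id_comp]
  · intro t ht
    change t ≫ ρ = V.1.ι at ht
    have h1 : pullback.lift t (𝟙 _) (by rw [ht, Category.id_comp]) ≫ pullback.snd ρ V.1.ι = 𝟙 _ :=
      pullback.lift_snd _ _ _
    have h2 := huniq _ h1
    rw [← h2, pullback.lift_fst]

/-- Over a seminormal scheme, a universal homeomorphism inducing isomorphisms on residue fields
has a unique section. -/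
theorem existsUnique_section {Z W : Scheme.{u}} (hZ : HTop.IsSeminormal Z) (ρ : W ⟶ Z)
    (hρ : FlatMor.IsUnivHomeo ρ) (hT : HTop.ResidueFieldsIso ρ) :
    ∃! s : Z ⟶ W, s ≫ ρ = 𝟙 Z := by
  choose t ht huniq using existsUnique_lift_affineOpen hZ ρ hρ hT
  let t' : ∀ i : Z.directedAffineCover.I₀, Z.directedAffineCover.X i ⟶ W := fun i => t i
  have ht' : ∀ i : Z.directedAffineCover.I₀, t' i ≫ ρ = Z.directedAffineCover.f i := fun i => ht i
  have huniq' : ∀ (i : Z.directedAffineCover.I₀) (y : Z.directedAffineCover.X i ⟶ W),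
      y ≫ ρ = Z.directedAffineCover.f i → y = t' i := fun i y hy => huniq i y hy
  have hcompat : ∀ {V' V : Z.directedAffineCover.I₀} (hij : V' ⟶ V),
      Z.directedAffineCover.trans hij ≫ t' V = t' V' := by
    intro V' V hij
    apply huniq' V'
    rw [Category.assoc, ht' V]
    exact Scheme.Cover.trans_map _ hij
  have hglue : ∀ i : Z.directedAffineCover.I₀, Z.directedAffineCover.f i ≫
      Z.directedAffineCover.glueMorphismsOfLocallyDirected t' hcompat = t' i :=
    fun i => Scheme.OpenCover.map_glueMorphismsOfLocallyDirected _ _ _ i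
  refine ⟨Z.directedAffineCover.glueMorphismsOfLocallyDirected t' hcompat, ?_, ?_⟩
  · apply Z.directedAffineCover.hom_ext
    intro V
    rw [← Category.assoc, hglue, Category.comp_id]
    exact ht' V
  · intro s hs
    change s ≫ ρ = 𝟙 Z at hs
    apply Z.directedAffineCover.hom_ext
    intro V
    rw [hglue]
    apply huniq' V
    rw [Category.assoc, hs, Category.comp_id]

end Sections

section Seminormalization

/-- A universal homeomorphism inducing isomorphisms on residue fields from a seminormal scheme is a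
seminormalization. -/
theorem isSeminormalization_of_isSeminormal {X' X : Scheme.{u}} (ν : X' ⟶ X)
    (hν : FlatMor.IsUnivHomeo ν) (hT : HTop.ResidueFieldsIso ν) (hX' : HTop.IsSeminormal X') :
    HTop.IsSeminormalization ν := by
  refine ⟨⟨hν, hT⟩, ?_⟩
  intro Y π hπ hπT
  have hsnd : FlatMor.IsUnivHomeo (pullback.snd π ν) := MorphismProperty.pullback_snd _ _ hπ
  have hsndT : HTop.ResidueFieldsIso (pullback.snd π ν) := residueFieldsIso_pullback_snd π ν hπ hπT
  obtain ⟨s, hs, huniq⟩ := existsUnique_section hX' (pullback.snd π ν) hsnd hsndT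
  refine ⟨s ≫ pullback.fst π ν, ?_, ?_⟩
  · change (s ≫ pullback.fst π ν) ≫ π = ν
    rw [Category.assoc, pullback.condition, ← Category.assoc, hs, Category.id_comp]
  · intro h hh
    change h ≫ π = ν at hh
    have h1 : pullback.lift h (𝟙 _) (by rw [hh, Category.id_comp]) ≫ pullback.snd π ν = 𝟙 _ :=
      pullback.lift_snd _ _ _
    have h2 := huniq _ h1
    rw [← h2, pullback.lift_fst]

theorem isIso_of_isSeminormalization {X₁ X₂ X : Scheme.{u}} (ν₁ : X₁ ⟶ X) (ν₂ : X₂ ⟶ X)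
    (h₁ : HTop.IsSeminormalization ν₁) (h₂ : HTop.IsSeminormalization ν₂) (h : X₁ ⟶ X₂)
    (hh : h ≫ ν₂ = ν₁) : IsIso h := by
  obtain ⟨g, hg, -⟩ := h₂.2 X₁ ν₁ h₁.1.1 h₁.1.2
  obtain ⟨i₁, -, hu₁⟩ := h₁.2 X₁ ν₁ h₁.1.1 h₁.1.2
  obtain ⟨i₂, -, hu₂⟩ := h₂.2 X₂ ν₂ h₂.1.1 h₂.1.2
  refine ⟨g, ?_, ?_⟩
  · have e1 : h ≫ g = i₁ := hu₁ _ (by change (h ≫ g) ≫ ν₁ = ν₁; rw [Category.assoc, hg, hh])
    have e2 : 𝟙 X₁ = i₁ := hu₁ _ (Category.id_comp _)
    rw [e1, e2]
  · have e1 : g ≫ h = i₂ := hu₂ _ (by change (g ≫ h) ≫ ν₂ = ν₂; rw [Category.assoc, hh, hg])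
    have e2 : 𝟙 X₂ = i₂ := hu₂ _ (Category.id_comp _)
    rw [e1, e2]

theorem isSeminormal_of_isOpenImmersion {X₀ X : Scheme.{u}} (j : X₀ ⟶ X) [IsOpenImmersion j]
    (hX : HTop.IsSeminormal X) : HTop.IsSeminormal X₀ := by
  rw [(Groth.Agent.S7420.result X₀).1]
  intro U₀
  have hU : IsAffineOpen (j ''ᵁ U₀.1) := U₀.2.image_of_isOpenImmersion j
  have h1 := ((Groth.Agent.S7420.result X).1.mp hX) ⟨j ''ᵁ U₀.1, hU⟩
  exact isSeminormalRing_of_ringEquiv (j.appIso U₀.1).symm.commRingCatIsoToRingEquiv h1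

/-- The identity of a seminormal scheme is a seminormalization. -/
theorem isSeminormalization_id {X : Scheme.{u}} (hX : HTop.IsSeminormal X) :
    HTop.IsSeminormalization (𝟙 X) :=
  isSeminormalization_of_isSeminormal (𝟙 X) (isUnivHomeo_of_isIso _)
    (residueFieldsIso_of_isOpenImmersion _) hX

end Seminormalization

end Groth.Agent.Lib.Helper6.SN
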