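import Mathlib
import Groth.Prelude.Def_HTop2
import Groth.Prelude.Def_Pi1
import Groth.Agent.Lib.Helper6.SNLocal
import Groth.Agent.Lib.Helper6.SNScheme
import Groth.Agent.S15941

set_option autoImplicit false
universe u

open CategoryTheory AlgebraicGeometry CategoryTheory.Limits

namespace Groth.Agent.Lib.Helper6.SN

/-- If all the stalks of `X` are seminormal rings, then every affine open has a seminormal ring
of sections. -/
theorem isSeminormalRing_of_stalks {X : Scheme.{u}}
    (h : ∀ x : X, HTop.IsSeminormalRing (X.presheaf.stalk x)) {U : X.Opens} (hU : IsAffineOpen U) :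
    HTop.IsSeminormalRing Γ(X, U) := by
  apply isSeminormalRing_of_isLocalization
  intro m hm
  let y : PrimeSpectrum Γ(X, U) := ⟨m, hm.isPrime⟩
  have hy : hU.fromSpec y ∈ U := by
    have : hU.fromSpec y ∈ Set.range hU.fromSpec := ⟨y, rfl⟩
    rw [hU.range_fromSpec] at this
    exact this
  exact ⟨X.presheaf.stalk (hU.fromSpec y), inferInstance,
    TopCat.Presheaf.algebra_section_stalk X.presheaf ⟨hU.fromSpec y, hy⟩,
    hU.isLocalization_stalk' y hy, h _⟩

theorem isSeminormal_of_stalks {X : Scheme.{u}}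
    (h : ∀ x : X, HTop.IsSeminormalRing (X.presheaf.stalk x)) : HTop.IsSeminormal X := by
  intro x
  obtain ⟨_, ⟨U, hU : IsAffineOpen U, rfl⟩, hxU, -⟩ :=
    X.isBasis_affineOpens.exists_subset_of_mem_open (Set.mem_univ x) isOpen_univ
  exact ⟨⟨U, hU⟩, hxU, isSeminormalRing_of_stalks h hU⟩

/-- A normal scheme is seminormal. -/
theorem isSeminormal_of_isNormalScheme {X : Scheme.{u}} (hn : Pi1.IsNormalScheme X) :
    HTop.IsSeminormal X := by
  apply isSeminormal_of_stalks
  intro x
  obtain ⟨h1, h2⟩ := hn x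
  exact Groth.Agent.S15941.result _

/-- Any morphism from a seminormal scheme lifts uniquely along a universal homeomorphism inducing
isomorphisms on residue fields. -/
theorem existsUnique_lift_of_isSeminormal {Z X' S : Scheme.{u}} (hZ : HTop.IsSeminormal Z)
    (ν : X' ⟶ S) (hν : FlatMor.IsUnivHomeo ν) (hr : HTop.ResidueFieldsIso ν) (π : Z ⟶ S) :
    ∃! g : Z ⟶ X', g ≫ ν = π := by
  have h1 : FlatMor.IsUnivHomeo (pullback.snd ν π) := MorphismProperty.pullback_snd _ _ hν
  have h2 : HTop.ResidueFieldsIso (pullback.snd ν π) := residueFieldsIso_pullback_snd ν π hν hr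
  obtain ⟨s, hs, hsu⟩ := existsUnique_section hZ (pullback.snd ν π) h1 h2
  refine ⟨s ≫ pullback.fst ν π, ?_, ?_⟩
  · change (s ≫ pullback.fst ν π) ≫ ν = π
    rw [Category.assoc, pullback.condition, ← Category.assoc, hs, Category.id_comp]
  · intro g hg
    change g ≫ ν = π at hg
    have : pullback.lift g (𝟙 Z) (by rw [hg, Category.id_comp]) = s :=
      hsu _ (pullback.lift_snd _ _ _)
    rw [← this, pullback.lift_fst]

end Groth.Agent.Lib.Helper6.SN
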