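import Mathlib
import Groth.Prelude.Def_HTop2
import Groth.Prelude.Def_Pi1
import Groth.Agent.Lib.Helper6.SNNormal
import Groth.Agent.Lib.Helper6.UHDescent
import Groth.Agent.S7421

set_option autoImplicit false
universe u

open CategoryTheory AlgebraicGeometry CategoryTheory.Limits

namespace Groth.Agent.Lib.Helper6.SN

/-- Ring-level: `A → B → C` with `A → C` finite, `B → C` injective, `A` Noetherian ⇒ `A → B`
finite. -/
theorem ringHom_finite_of_comp_injective {A B C : Type u} [CommRing A] [CommRing B] [CommRing C]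
    [IsNoetherianRing A] (φ : A →+* B) (ψ : B →+* C) (hψ : Function.Injective ψ)
    (h : (ψ.comp φ).Finite) : φ.Finite := by
  algebraize [φ, ψ, ψ.comp φ]
  have hfin : Module.Finite A C := h
  have : IsNoetherian A C := isNoetherian_of_isNoetherianRing_of_finite A C
  exact Module.Finite.of_injective (IsScalarTower.toAlgHom A B C).toLinearMap hψ

/-- `g ≫ ν` finite, `ν` affine, `g` scheme-theoretically dominant and quasi-compact, target
locally Noetherian ⇒ `ν` finite. -/
theorem isFinite_of_comp_of_isSchemeTheoreticallyDominant {X Y Z : Scheme.{u}}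
    [IsLocallyNoetherian Z] (g : X ⟶ Y) (ν : Y ⟶ Z) [IsAffineHom ν] [IsFinite (g ≫ ν)]
    [IsSchemeTheoreticallyDominant g] [QuasiCompact g] : IsFinite ν := by
  rw [isFinite_iff]
  refine ⟨inferInstance, ?_⟩
  intro U hU
  have : IsNoetherianRing Γ(Z, U) := IsLocallyNoetherian.component_noetherian ⟨U, hU⟩
  have h1 : ((g ≫ ν).app U).hom.Finite := (g ≫ ν).finite_app U hU
  have h2 : ((g.app (ν ⁻¹ᵁ U)).hom.comp (ν.app U).hom).Finite := h1
  exact ringHom_finite_of_comp_injective (ν.app U).hom (g.app (ν ⁻¹ᵁ U)).hom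
    (g.app_injective _) h2

end Groth.Agent.Lib.Helper6.SN
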