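import Groth.Agent.Lib.Helper6.AWNRing2
import Mathlib.RingTheory.TensorProduct.Basic

set_option autoImplicit false
universe u

open CategoryTheory AlgebraicGeometry Limits TensorProduct

namespace Groth.Agent.Lib.Helper6.WNEq

open Groth.Agent.Lib.Helper6.AWN Groth.Agent.Lib.Helper6.SqCube Groth.Agent.Lib.Helper12
open Groth.Agent.Lib.Helper6.UnivHomeoRing

section Ext

variable {E B : Type u} [CommRing E] [CommRing B]

/-- Ring maps to algebraically closed fields extend along integral ring maps which are surjective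
on spectra. -/
theorem exists_extension_algClosed (j : E →+* B) (hint : j.IsIntegral)
    (hsurj : Function.Surjective (PrimeSpectrum.comap j)) {L : Type u} [Field L] [IsAlgClosed L]
    (ρ : E →+* L) : ∃ ρ' : B →+* L, ρ'.comp j = ρ := by
  let 𝔭 : PrimeSpectrum E := ⟨RingHom.ker ρ, RingHom.ker_isPrime ρ⟩
  have h𝔭 : 𝔭.asIdeal.IsPrime := 𝔭.isPrime
  obtain ⟨g, hg⟩ := exists_hom_algebraicClosure j hint hsurj 𝔭
  have hf₂ : 𝔭.asIdeal.primeCompl ≤ (IsUnit.submonoid L).comap ρ := by
    intro e he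
    change IsUnit (ρ e)
    rw [isUnit_iff_ne_zero]
    exact he
  let κρ : 𝔭.asIdeal.ResidueField →+* L := Ideal.ResidueField.lift 𝔭.asIdeal ρ le_rfl hf₂
  let _ : Algebra 𝔭.asIdeal.ResidueField L := κρ.toAlgebra
  let l : AlgebraicClosure 𝔭.asIdeal.ResidueField →ₐ[𝔭.asIdeal.ResidueField] L := IsAlgClosed.lift
  refine ⟨l.toRingHom.comp g, ?_⟩
  ext e
  have h1 : g (j e) = algebraMap E (AlgebraicClosure 𝔭.asIdeal.ResidueField) e :=
    congrArg (fun f => f e) hg
  simp only [RingHom.comp_apply]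
  rw [h1, IsScalarTower.algebraMap_apply E 𝔭.asIdeal.ResidueField
    (AlgebraicClosure 𝔭.asIdeal.ResidueField)]
  have h2 := l.commutes (algebraMap E 𝔭.asIdeal.ResidueField e)
  refine h2.trans ?_
  exact Ideal.ResidueField.lift_algebraMap 𝔭.asIdeal ρ le_rfl hf₂ e

end Ext

section Main

variable (A B : Type u) [CommRing A] [CommRing B] [Algebra A B]

/-- The subalgebra of elements `b` with `b ⊗ 1 - 1 ⊗ b` nilpotent. -/
def eqSub : Subalgebra A B where
  carrier := {b | IsNilpotent (b ⊗ₜ[A] (1 : B) - (1 : B) ⊗ₜ[A] b)}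
  mul_mem' := by
    intro b c hb hc
    change IsNilpotent _ at hb hc ⊢
    have e : (b * c) ⊗ₜ[A] (1 : B) - (1 : B) ⊗ₜ[A] (b * c) =
        (b ⊗ₜ[A] (1 : B)) * (c ⊗ₜ[A] (1 : B) - (1 : B) ⊗ₜ[A] c) +
          ((1 : B) ⊗ₜ[A] c) * (b ⊗ₜ[A] (1 : B) - (1 : B) ⊗ₜ[A] b) := by
      simp only [mul_sub, Algebra.TensorProduct.tmul_mul_tmul, mul_one, one_mul]
      rw [mul_comm c b]
      abel
    rw [e]
    exact Commute.isNilpotent_add (Commute.all _ _)
      ((Commute.all _ _).isNilpotent_mul_left hc) ((Commute.all _ _).isNilpotent_mul_left hb)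
  add_mem' := by
    intro b c hb hc
    change IsNilpotent _ at hb hc ⊢
    have e : (b + c) ⊗ₜ[A] (1 : B) - (1 : B) ⊗ₜ[A] (b + c) =
        (b ⊗ₜ[A] (1 : B) - (1 : B) ⊗ₜ[A] b) + (c ⊗ₜ[A] (1 : B) - (1 : B) ⊗ₜ[A] c) := by
      rw [TensorProduct.add_tmul, TensorProduct.tmul_add]; abel
    rw [e]
    exact Commute.isNilpotent_add (Commute.all _ _) hb hc
  algebraMap_mem' := by
    intro a
    change IsNilpotent _
    have e : (algebraMap A B a) ⊗ₜ[A] (1 : B) - (1 : B) ⊗ₜ[A] (algebraMap A B a) = 0 := by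
      rw [Algebra.algebraMap_eq_smul_one, TensorProduct.smul_tmul, sub_self]
    rw [e]
    exact IsNilpotent.zero

theorem mem_eqSub (b : B) :
    b ∈ eqSub A B ↔ IsNilpotent (b ⊗ₜ[A] (1 : B) - (1 : B) ⊗ₜ[A] b) := Iff.rfl

variable {A B}

/-- Any subalgebra inducing a universal homeomorphism is contained in `eqSub`. -/
theorem le_eqSub_of_uh (C : Subalgebra A B)
    (hC : FlatMor.IsUnivHomeo (Spec.map (CommRingCat.ofHom (algebraMap A C)))) :
    C ≤ eqSub A B := by
  intro c hc
  rw [mem_eqSub]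
  have hU : UH (algebraMap A C) := (uh_iff _).mp hC
  rw [← mem_nilradical, nilradical_eq_sInf, Ideal.mem_sInf]
  intro 𝔓 h𝔓
  have h𝔓' : 𝔓.IsPrime := h𝔓
  let σ : B →+* 𝔓.ResidueField :=
    (algebraMap (B ⊗[A] B) 𝔓.ResidueField).comp
      (Algebra.TensorProduct.includeLeft (R := A) (S := A) (A := B) (B := B)).toRingHom
  let τ : B →+* 𝔓.ResidueField :=
    (algebraMap (B ⊗[A] B) 𝔓.ResidueField).comp
      (Algebra.TensorProduct.includeRight (R := A) (A := B) (B := B)).toRingHom
  have hστ : (σ.comp C.val.toRingHom).comp (algebraMap A C) =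
      (τ.comp C.val.toRingHom).comp (algebraMap A C) := by
    ext a
    change algebraMap (B ⊗[A] B) 𝔓.ResidueField ((algebraMap A B a) ⊗ₜ[A] (1 : B)) =
      algebraMap (B ⊗[A] B) 𝔓.ResidueField ((1 : B) ⊗ₜ[A] (algebraMap A B a))
    congr 1
    rw [Algebra.algebraMap_eq_smul_one, TensorProduct.smul_tmul]
  have h1 := hU.2.1 _ _ _ hστ
  have h2 : σ c = τ c := congrArg (fun f => f ⟨c, hc⟩) h1
  change algebraMap (B ⊗[A] B) 𝔓.ResidueField (c ⊗ₜ[A] (1 : B)) =
    algebraMap (B ⊗[A] B) 𝔓.ResidueField ((1 : B) ⊗ₜ[A] c) at h2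
  rw [← sub_eq_zero, ← map_sub, Ideal.algebraMap_residueField_eq_zero] at h2
  exact h2

/-- `eqSub` induces a universal homeomorphism when `A → B` is integral and injective. -/
theorem uh_eqSub (hinj : Function.Injective (algebraMap A B)) [Algebra.IsIntegral A B] :
    UH (algebraMap A (eqSub A B)) := by
  have hintB : (algebraMap A B).IsIntegral := fun b => Algebra.IsIntegral.isIntegral b
  have hint : (algebraMap A (eqSub A B)).IsIntegral := isIntegral_subalgebra (eqSub A B) hintB
  have hinjE : Function.Injective (algebraMap A (eqSub A B)) := by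
    intro a a' h
    apply hinj
    exact congrArg Subtype.val h
  refine ⟨hint, ?_, ?_⟩
  · intro K _ σ τ hστ
    -- extend to `B` with values in the algebraic closure
    let L := AlgebraicClosure K
    have hintj : ((eqSub A B).val.toRingHom).IsIntegral := isIntegral_subalgebra_val (eqSub A B) hintB
    have hsurjj : Function.Surjective (PrimeSpectrum.comap (eqSub A B).val.toRingHom) :=
      hintj.comap_surjective Subtype.val_injective
    obtain ⟨σ', hσ'⟩ := exists_extension_algClosed (eqSub A B).val.toRingHom hintj hsurjj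
      ((algebraMap K L).comp σ)
    obtain ⟨τ', hτ'⟩ := exists_extension_algClosed (eqSub A B).val.toRingHom hintj hsurjj
      ((algebraMap K L).comp τ)
    -- make `L` an `A`-algebra through `σ'`
    let _ : Algebra A L := (σ'.comp (algebraMap A B)).toAlgebra
    let σa : B →ₐ[A] L := { σ' with commutes' := fun a => rfl }
    have hτa : ∀ a : A, τ' (algebraMap A B a) = algebraMap A L a := by
      intro a
      change τ' (algebraMap A B a) = σ' (algebraMap A B a)
      have e1 : τ' ((eqSub A B).val.toRingHom (algebraMap A (eqSub A B) a)) =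
          algebraMap K L (τ (algebraMap A (eqSub A B) a)) :=
        congrArg (fun f => f (algebraMap A (eqSub A B) a)) hτ'
      have e2 : σ' ((eqSub A B).val.toRingHom (algebraMap A (eqSub A B) a)) =
          algebraMap K L (σ (algebraMap A (eqSub A B) a)) :=
        congrArg (fun f => f (algebraMap A (eqSub A B) a)) hσ'
      have e3 : σ (algebraMap A (eqSub A B) a) = τ (algebraMap A (eqSub A B) a) :=
        congrArg (fun f => f a) hστ
      change τ' (algebraMap A B a) = _ at e1
      change σ' (algebraMap A B a) = _ at e2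
      rw [e1, e2, e3]
    let τa : B →ₐ[A] L := { τ' with commutes' := hτa }
    let Φ : B ⊗[A] B →ₐ[A] L := Algebra.TensorProduct.lift σa τa (fun _ _ => Commute.all _ _)
    ext b
    have hb : IsNilpotent ((b : B) ⊗ₜ[A] (1 : B) - (1 : B) ⊗ₜ[A] (b : B)) := b.2
    have h1 : IsNilpotent (Φ ((b : B) ⊗ₜ[A] (1 : B) - (1 : B) ⊗ₜ[A] (b : B))) := hb.map Φ
    have h2 : Φ ((b : B) ⊗ₜ[A] (1 : B) - (1 : B) ⊗ₜ[A] (b : B)) = σ' b - τ' b := by
      rw [map_sub, Algebra.TensorProduct.lift_tmul, Algebra.TensorProduct.lift_tmul]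
      simp only [map_one, mul_one, one_mul]
      rfl
    rw [h2] at h1
    have h3 : σ' b - τ' b = 0 := h1.eq_zero
    have h4 : σ' ((eqSub A B).val.toRingHom b) = algebraMap K L (σ b) :=
      congrArg (fun f => f b) hσ'
    have h5 : τ' ((eqSub A B).val.toRingHom b) = algebraMap K L (τ b) :=
      congrArg (fun f => f b) hτ'
    change σ' (b : B) = _ at h4
    change τ' (b : B) = _ at h5
    rw [h4, h5, sub_eq_zero] at h3
    exact (algebraMap K L).injective h3
  · exact hint.comap_surjective hinjE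

end Main

end Groth.Agent.Lib.Helper6.WNEq
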