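import Mathlib
import Groth.Prelude.Def_HTop2
import Groth.Agent.Lib.Helper6.SNRing
import Groth.Agent.Lib.Helper6.WNEq
import Groth.Agent.Lib.Helper6.FTPoints

set_option autoImplicit false
universe u

open CategoryTheory AlgebraicGeometry Polynomial

namespace Groth.Agent.Lib.Helper6.SN

open Groth.Agent.Lib.Helper6.AWN Groth.Agent.Lib.Helper6.SqCube Groth.Agent.Lib.Helper12
open Groth.Agent.Lib.Helper6.UnivHomeoRing

variable {R R' R'' : Type u} [CommRing R] [CommRing R'] [CommRing R'']

/-- If `ι ∘ φ` is a universal homeomorphism and `ι` is injective, then `φ` is a universal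
homeomorphism. -/
theorem UH.of_comp_of_injective {φ : R →+* R'} {ι : R' →+* R''} (h : UH (ι.comp φ))
    (hinj : Function.Injective ι) : UH φ := by
  have hιint : ι.IsIntegral := RingHom.IsIntegral.tower_top φ ι h.1
  have hιsurj : Function.Surjective (PrimeSpectrum.comap ι) := hιint.comap_surjective hinj
  refine ⟨?_, ?_, ?_⟩
  · intro r'
    obtain ⟨P, hP, hP0⟩ := h.1 (ι r')
    refine ⟨P, hP, hinj ?_⟩
    rw [map_zero, Polynomial.hom_eval₂]
    exact hP0
  · intro K _ σ τ hστ
    let Ω := AlgebraicClosure K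
    obtain ⟨σ', hσ'⟩ := Groth.Agent.Lib.Helper6.WNEq.exists_extension_algClosed ι hιint hιsurj
      ((algebraMap K Ω).comp σ)
    obtain ⟨τ', hτ'⟩ := Groth.Agent.Lib.Helper6.WNEq.exists_extension_algClosed ι hιint hιsurj
      ((algebraMap K Ω).comp τ)
    have h1 : σ' = τ' := by
      apply h.2.1 Ω
      rw [← RingHom.comp_assoc, ← RingHom.comp_assoc, hσ', hτ', RingHom.comp_assoc,
        RingHom.comp_assoc, hστ]
    ext r'
    apply (algebraMap K Ω).injective
    have e1 := congrArg (fun f => f r') hσ'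
    have e2 := congrArg (fun f => f r') hτ'
    simp only [RingHom.comp_apply] at e1 e2
    rw [← e1, ← e2, h1]
  · intro 𝔭
    obtain ⟨𝔮, rfl⟩ := h.2.2 𝔭
    exact ⟨PrimeSpectrum.comap ι 𝔮, rfl⟩

/-- Let `ψ : C → C'` be a universal homeomorphism from a seminormal ring to a reduced ring, and
`c' ∈ C'` an element whose value in every residue field `κ(q)` of `C'` comes from the residue field
of `C` at `ψ⁻¹ q`.  Then `c'` is in the image of `ψ`. -/
theorem mem_range_of_values {C C' : Type u} [CommRing C] [CommRing C'] [IsReduced C']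
    (hC : HTop.IsSeminormalRing C) (ψ : C →+* C') (hψ : UH ψ) (c' : C')
    (hval : ∀ (q : Ideal C') [q.IsPrime],
      algebraMap C' q.ResidueField c' ∈
        (Ideal.ResidueField.map (q.comap ψ) q ψ rfl).range) :
    c' ∈ ψ.range := by
  let _ : Algebra C C' := ψ.toAlgebra
  let D : Subalgebra C C' := Algebra.adjoin C {c'}
  let φ₀ : C →+* D := algebraMap C D
  let ι : D →+* C' := D.val.toRingHom
  have hι : Function.Injective ι := Subtype.val_injective
  have hcomp : ι.comp φ₀ = ψ := by ext c; rfl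
  have hUH : UH φ₀ := UH.of_comp_of_injective (ι := ι) (by rw [hcomp]; exact hψ) hι
  have hιint : ι.IsIntegral := RingHom.IsIntegral.tower_top φ₀ ι (by rw [hcomp]; exact hψ.1)
  have hιsurj : Function.Surjective (PrimeSpectrum.comap ι) := hιint.comap_surjective hι
  let t : D := ⟨c', Algebra.subset_adjoin rfl⟩
  have hgen : Function.Surjective (Polynomial.eval₂RingHom φ₀ t) := by
    rintro ⟨y, hy⟩
    have hy' : y ∈ (Polynomial.aeval (R := C) c').range := by
      rw [← Algebra.adjoin_singleton_eq_range_aeval]; exact hy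
    obtain ⟨P, hP⟩ := hy'
    refine ⟨P, Subtype.ext ?_⟩
    change ι (Polynomial.eval₂ φ₀ t P) = y
    rw [Polynomial.hom_eval₂, hcomp, ← hP]
    rfl
  have hTR : TR φ₀ := by
    apply TR.of_generator hgen
    intro Q
    obtain ⟨q, rfl⟩ := hιsurj Q
    have hq : q.asIdeal.IsPrime := q.isPrime
    obtain ⟨k, hk⟩ := hval q.asIdeal
    obtain ⟨s, hs, a, hsa⟩ := Groth.Agent.Lib.Helper6.exists_denominator (q.asIdeal.comap ψ) k
    refine ⟨s, a, ?_, ?_⟩
    · change ι (φ₀ s) ∉ q.asIdeal
      have : ι (φ₀ s) = ψ s := congrArg (fun f => f s) hcomp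
      rw [this]
      exact hs
    · change ι (φ₀ s * t - φ₀ a) ∈ q.asIdeal
      have e1 : ι (φ₀ s * t - φ₀ a) = ψ s * c' - ψ a := by
        rw [map_sub, map_mul]
        rfl
      rw [e1, ← Ideal.algebraMap_residueField_eq_zero, map_sub, map_mul, ← hk,
        ← Ideal.ResidueField.map_algebraMap (q.asIdeal.comap ψ) q.asIdeal ψ rfl,
        ← Ideal.ResidueField.map_algebraMap (q.asIdeal.comap ψ) q.asIdeal ψ rfl, ← map_mul,
        ← map_sub, mul_comm, hsa, sub_self, map_zero]
  have hred : IsReduced D := isReduced_of_injective ι hι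
  obtain ⟨c, hc⟩ := (bijective_of_isSeminormalRing hC φ₀ hUH hTR).2 t
  refine ⟨c, ?_⟩
  have := congrArg ι hc
  rw [← hcomp]
  exact this

end Groth.Agent.Lib.Helper6.SN
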