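import Mathlib
import Groth.Agent.Lib.Lead.ToImageDominant

/-!
# Scheme-theoretic closure of a closed subscheme of a "generic fibre" (helper6)

`g : S' ⟶ S` a flat quasi-compact monomorphism (e.g. the generic point of an integral scheme).
For a closed subscheme `i : HK ⟶ G ×_S S'`, the scheme theoretic image `H` of `HK ⟶ G` has
generic fibre `HK`.
-/

set_option autoImplicit false
set_option linter.style.haveILetI false
set_option linter.unusedSectionVars false

open CategoryTheory CategoryTheory.Limits AlgebraicGeometry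

universe u

namespace Groth.Agent.Lib.Helper6.SchClosGrp

open Groth.Agent.Lib.Lead.ToImageDominant

lemma app_zero_of_eq {X Y : Scheme.{u}} {f f' : X ⟶ Y} (h : f = f') (U : Y.Opens) (t : Γ(Y, U))
    (ht : f.app U t = 0) : f'.app U t = 0 := by
  subst h; exact ht

/-- The generic fibre of the scheme theoretic image of a closed subscheme of the generic fibre. -/
theorem isPullback_toImage {S S' G HK : Scheme.{u}} (g : S' ⟶ S) [Mono g] [Flat g]
    [QuasiCompact g] (p : G ⟶ S) (q : HK ⟶ S') (i : HK ⟶ pullback p g) [IsClosedImmersion i]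
    (hi : i ≫ pullback.snd p g = q) :
    IsPullback (i ≫ pullback.fst p g).toImage q ((i ≫ pullback.fst p g).imageι ≫ p) g := by
  obtain ⟨ψ, hψ⟩ : ∃ ψ : HK ⟶ G, ψ = i ≫ pullback.fst p g := ⟨_, rfl⟩
  rw [← hψ]
  haveI : QuasiCompact ψ := by rw [hψ]; infer_instance
  have hdom : IsSchemeTheoreticallyDominant ψ.toImage := isSchemeTheoreticallyDominant_toImage ψ
  have w : ψ.toImage ≫ ψ.imageι ≫ p = q ≫ g := by
    rw [Scheme.Hom.toImage_imageι_assoc, hψ, Category.assoc, pullback.condition, ← Category.assoc,
      hi]
  let c : HK ⟶ pullback (ψ.imageι ≫ p) g := pullback.lift ψ.toImage q w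
  have hc1 : c ≫ pullback.fst (ψ.imageι ≫ p) g = ψ.toImage := pullback.lift_fst _ _ _
  have hc2 : c ≫ pullback.snd (ψ.imageι ≫ p) g = q := pullback.lift_snd _ _ _
  let e : pullback (ψ.imageι ≫ p) g ⟶ pullback p g :=
    pullback.map (ψ.imageι ≫ p) g p g ψ.imageι (𝟙 S') (𝟙 S) (by simp) (by simp)
  have he1 : e ≫ pullback.fst p g = pullback.fst (ψ.imageι ≫ p) g ≫ ψ.imageι :=
    pullback.lift_fst _ _ _
  have he2 : e ≫ pullback.snd p g = pullback.snd (ψ.imageι ≫ p) g :=
    (pullback.lift_snd _ _ _).trans (Category.comp_id _)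
  have hce : c ≫ e = i := by
    apply pullback.hom_ext
    · rw [Category.assoc, he1, ← Category.assoc, hc1, Scheme.Hom.toImage_imageι, hψ]
    · rw [Category.assoc, he2, hc2, hi]
  haveI : Mono e := by
    constructor
    intro Z a b hab
    apply pullback.hom_ext
    · have h1 := congrArg (fun m => m ≫ pullback.fst p g) hab
      simp only [Category.assoc, he1] at h1
      rw [← Category.assoc, ← Category.assoc] at h1
      exact (cancel_mono ψ.imageι).mp h1
    · have h2 := congrArg (fun m => m ≫ pullback.snd p g) hab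
      simp only [Category.assoc, he2] at h2
      exact h2
  haveI : IsClosedImmersion (c ≫ e) := by rw [hce]; infer_instance
  haveI : IsClosedImmersion c := IsClosedImmersion.of_comp c e
  have sq : IsPullback (𝟙 HK) c ψ.toImage (pullback.fst (ψ.imageι ≫ p) g) := by
    refine ⟨⟨by rw [Category.id_comp, hc1]⟩, ⟨PullbackCone.IsLimit.mk _ (fun s => s.fst) ?_ ?_ ?_⟩⟩
    · intro s
      exact Category.comp_id _
    · intro s
      apply pullback.hom_ext
      · rw [Category.assoc, hc1, s.condition]
      · rw [Category.assoc, hc2, ← cancel_mono g, Category.assoc, ← w, ← Category.assoc,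
          s.condition, Category.assoc, Category.assoc, pullback.condition]
    · intro s m hm _
      rw [← hm, Category.comp_id]
  haveI : IsSchemeTheoreticallyDominant c := IsSchemeTheoreticallyDominant.of_isPullback sq
  haveI : IsIso c :=
    (IsClosedImmersion.isIso_iff_ker_eq_bot (f := c)).mpr (Scheme.Hom.ker_eq_bot c)
  exact IsPullback.of_iso_pullback ⟨w⟩ (asIso c) hc1 hc2

end Groth.Agent.Lib.Helper6.SchClosGrp
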