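import Mathlib
import Groth.Agent.Lib.Helper6.SchClosGrp1
import Groth.Agent.Lib.Helper10.HomFamBC
import Groth.Agent.Lib.Helper10.IdComp8

/-!
# Scheme-theoretic closure of a closed subgroup of the generic fibre is a subgroup (helper6)
-/

set_option autoImplicit false
set_option linter.style.haveILetI false
set_option linter.unusedSectionVars false

open CategoryTheory CategoryTheory.Limits AlgebraicGeometry
open MonoidalCategory CartesianMonoidalCategory MonObj GrpObj

universe u

namespace Groth.Agent.Lib.Helper6.SchClosGrp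

open Groth.Agent.Lib.Helper10.HomFamBC Groth.Agent.Lib.Helper10.IdComp

section Transpose

variable {S S' : Scheme.{u}} (g : S' ⟶ S)

theorem tr_one {X : Over S'} {G : Over S} [GrpObj G] : tr g (1 : X ⟶ Red.bc g G) = 1 := by
  have h := tr_mul g (1 : X ⟶ Red.bc g G) 1
  rw [_root_.mul_one] at h
  exact (mul_eq_left.mp h.symm)

theorem tr_inv {X : Over S'} {G : Over S} [GrpObj G] (x : X ⟶ Red.bc g G) :
    tr g x⁻¹ = (tr g x)⁻¹ := by
  apply eq_inv_of_mul_eq_one_left
  rw [← tr_mul, inv_mul_cancel, tr_one]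

theorem tr_id_comp {Y Y' : Over S} (a : Y ⟶ Y') :
    tr g (𝟙 (Red.bc g Y)) ≫ a = tr g ((Over.pullback g).map a) := by
  have h := tr_comp_map g (𝟙 (Red.bc g Y)) a
  rw [Category.id_comp] at h
  exact h.symm

end Transpose

section

variable {S S' : Scheme.{u}} (g : S' ⟶ S) (G : Over S) (HK : Over S') (i : HK ⟶ Red.bc g G)

/-- the composite `HK ⟶ G_K ⟶ G`. -/
noncomputable def psi : HK.left ⟶ G.left := i.left ≫ pullback.fst G.hom g

lemma psi_hom : psi g G HK i ≫ G.hom = HK.hom ≫ g := by
  have h := Over.w i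
  change i.left ≫ pullback.snd G.hom g = HK.hom at h
  rw [psi, Category.assoc, pullback.condition, ← Category.assoc, h]

/-- the scheme theoretic closure of `HK` in `G`. -/
noncomputable def clObj : Over S := Over.mk ((psi g G HK i).imageι ≫ G.hom)

/-- its inclusion. -/
noncomputable def clIncl : clObj g G HK i ⟶ G := Over.homMk (psi g G HK i).imageι rfl

instance : IsClosedImmersion (clIncl g G HK i).left :=
  inferInstanceAs (IsClosedImmersion (psi g G HK i).imageι)

instance : Mono (clIncl g G HK i) := by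
  haveI : Mono (clIncl g G HK i).left :=
    inferInstanceAs (Mono (psi g G HK i).imageι)
  exact (Over.forget _).mono_of_mono_map ‹_›

/-- the map from `HK` to its closure. -/
noncomputable def clMap : (Over.map g).obj HK ⟶ clObj g G HK i :=
  Over.homMk (psi g G HK i).toImage (by
    change (psi g G HK i).toImage ≫ ((psi g G HK i).imageι ≫ G.hom) = HK.hom ≫ g
    rw [Scheme.Hom.toImage_imageι_assoc, psi_hom])

lemma clMap_clIncl : clMap g G HK i ≫ clIncl g G HK i = tr g i := by
  apply Over.OverMorphism.ext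
  exact Scheme.Hom.toImage_imageι _

theorem exists_factor [IsSchemeTheoreticallyDominant g] [QuasiCompact g]
    (Y : Over S) [Flat Y.hom] (m : Y ⟶ G) (b : Red.bc g Y ⟶ HK)
    (hb : tr g (𝟙 (Red.bc g Y)) ≫ m = (Over.map g).map b ≫ tr g i) :
    ∃ m' : Y ⟶ clObj g G HK i, m' ≫ clIncl g G HK i = m := by
  have hπ : pullback.fst Y.hom g ≫ m.left = b.left ≫ psi g G HK i := by
    have h := congrArg (fun φ => φ.left) hb
    simp only [Over.comp_left, tr_left, Over.map_map_left, Over.id_left, Category.id_comp] at h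
    exact h
  have hk : (psi g G HK i).imageι.ker ≤ m.left.ker := by
    rw [Scheme.IdealSheafData.ker_subschemeι]
    refine Scheme.IdealSheafData.le_ofIdeals_iff.mpr ?_
    intro U t ht
    have ht' : (psi g G HK i).app U t = 0 := Scheme.Hom.ideal_ker_le _ U ht
    rw [RingHom.mem_ker]
    apply (pullback.fst Y.hom g).app_injective (m.left ⁻¹ᵁ U)
    rw [map_zero]
    have h1 : (b.left ≫ psi g G HK i).app U t = 0 := by
      rw [Scheme.Hom.comp_app]
      change (b.left.app _) ((psi g G HK i).app U t) = 0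
      rw [ht', map_zero]
    exact app_zero_of_eq hπ.symm U t h1
  obtain ⟨l, hl⟩ : ∃ l : Y.left ⟶ (psi g G HK i).image, l ≫ (psi g G HK i).imageι = m.left :=
    ⟨IsClosedImmersion.lift _ _ hk, IsClosedImmersion.lift_fac _ _ _⟩
  refine ⟨Over.homMk (show Y.left ⟶ (clObj g G HK i).left from l) ?_, ?_⟩
  · change l ≫ ((psi g G HK i).imageι ≫ G.hom) = Y.hom
    rw [← Category.assoc, hl, Over.w m]
  · apply Over.OverMorphism.ext
    exact hl

variable [IsClosedImmersion i.left] [Mono g] [Flat g] [QuasiCompact g]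

theorem isPullback_clMap :
    IsPullback (clMap g G HK i).left HK.hom (clObj g G HK i).hom g :=
  isPullback_toImage g G.hom HK.hom i.left (Over.w i)

/-- the identification of the generic fibre of the closure with `HK`. -/
noncomputable def einv : Red.bc g (clObj g G HK i) ⟶ HK :=
  Over.homMk ((isPullback_clMap g G HK i).lift (pullback.fst (clObj g G HK i).hom g)
    (pullback.snd (clObj g G HK i).hom g) pullback.condition)
    ((isPullback_clMap g G HK i).lift_snd _ _ _)

lemma einv_clMap :
    (Over.map g).map (einv g G HK i) ≫ clMap g G HK i = tr g (𝟙 (Red.bc g (clObj g G HK i))) := by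
  apply Over.OverMorphism.ext
  change (einv g G HK i).left ≫ (clMap g G HK i).left = 𝟙 _ ≫ pullback.fst _ _
  rw [Category.id_comp]
  exact (isPullback_clMap g G HK i).lift_fst _ _ _

lemma map_clIncl : (Over.pullback g).map (clIncl g G HK i) = einv g G HK i ≫ i := by
  apply tr_injective g
  rw [tr_comp, ← clMap_clIncl g G HK i, ← Category.assoc, einv_clMap, tr_id_comp]

/-- the `HK`-point of the generic fibre attached to an `S`-morphism to the closure. -/
noncomputable def beta {Y : Over S} (a : Y ⟶ clObj g G HK i) : Red.bc g Y ⟶ HK :=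
  (Over.pullback g).map a ≫ einv g G HK i

lemma tr_id_comp_clIncl {Y : Over S} (a : Y ⟶ clObj g G HK i) :
    tr g (𝟙 (Red.bc g Y)) ≫ a ≫ clIncl g G HK i = tr g (beta g G HK i a ≫ i) := by
  rw [← Category.assoc, tr_id_comp, ← tr_comp_map, map_clIncl, beta, Category.assoc]

end

section Group

variable {S S' : Scheme.{u}} (g : S' ⟶ S) (G : Over S) [GrpObj G] (HK : Over S') [GrpObj HK]
  (i : HK ⟶ Red.bc g G) [IsMonHom i] [IsClosedImmersion i.left] [Mono g] [Flat g] [QuasiCompact g]
  [IsSchemeTheoreticallyDominant g]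

theorem exists_mul_factor (Y : Over S) [Flat Y.hom] (a₁ a₂ : Y ⟶ clObj g G HK i) :
    ∃ m' : Y ⟶ clObj g G HK i,
      m' ≫ clIncl g G HK i = (a₁ ≫ clIncl g G HK i) * (a₂ ≫ clIncl g G HK i) := by
  refine exists_factor g G HK i Y _ (beta g G HK i a₁ * beta g G HK i a₂) ?_
  rw [MonObj.comp_mul, tr_id_comp_clIncl, tr_id_comp_clIncl, ← tr_mul, ← MonObj.mul_comp, tr_comp]

theorem exists_inv_factor (Y : Over S) [Flat Y.hom] (a : Y ⟶ clObj g G HK i) :
    ∃ v : Y ⟶ clObj g G HK i, v ≫ clIncl g G HK i = (a ≫ clIncl g G HK i)⁻¹ := by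
  refine exists_factor g G HK i Y _ (beta g G HK i a)⁻¹ ?_
  rw [GrpObj.comp_inv, tr_id_comp_clIncl, ← tr_inv, ← GrpObj.inv_comp, tr_comp]

theorem exists_one_factor (Y : Over S) [Flat Y.hom] :
    ∃ e : Y ⟶ clObj g G HK i, e ≫ clIncl g G HK i = 1 := by
  refine exists_factor g G HK i Y _ (1 : Red.bc g Y ⟶ HK) ?_
  rw [MonObj.comp_one, ← tr_comp, MonObj.one_comp, tr_one]

theorem exists_grpObj [Flat (clObj g G HK i).hom] :
    ∃ (_ : GrpObj (clObj g G HK i)), IsMonHom (clIncl g G HK i) := by
  haveI : Flat (clObj g G HK i ⊗ clObj g G HK i).hom := by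
    change Flat (pullback.fst (clObj g G HK i).hom (clObj g G HK i).hom ≫ (clObj g G HK i).hom)
    infer_instance
  haveI : Flat (𝟙_ (Over S)).hom := by
    change Flat (𝟙 S)
    infer_instance
  obtain ⟨m, hm⟩ := exists_mul_factor g G HK i _ (fst (clObj g G HK i) (clObj g G HK i))
    (snd (clObj g G HK i) (clObj g G HK i))
  obtain ⟨v, hv⟩ := exists_inv_factor g G HK i _ (𝟙 (clObj g G HK i))
  obtain ⟨e, he⟩ := exists_one_factor g G HK i (𝟙_ (Over S))
  have hv' : v ≫ clIncl g G HK i = clIncl g G HK i ≫ ι[G] := by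
    rw [hv, Category.id_comp, Hom.inv_def]
  have he' : e ≫ clIncl g G HK i = η[G] := by
    rw [he, Hom.one_def]
    have : toUnit (𝟙_ (Over S)) = 𝟙 _ := toUnit_unique _ _
    rw [this, Category.id_comp]
  exact ⟨grpObjOfMono (clIncl g G HK i) m hm e he' v hv',
    isMonHom_ofMono (clIncl g G HK i) m hm e he' v hv'⟩

end Group

end Groth.Agent.Lib.Helper6.SchClosGrp
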