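import Mathlib
import Groth.Agent.Lib.Helper6.SchClosGrp2
import Groth.Agent.Lib.Helper14.FlatClosure2

/-!
# Flat closure of a closed subgroup of the generic fibre over a Dedekind domain (helper6)
-/

set_option autoImplicit false
set_option linter.style.haveILetI false
set_option linter.unusedSectionVars false

open CategoryTheory CategoryTheory.Limits AlgebraicGeometry
open MonoidalCategory CartesianMonoidalCategory MonObj GrpObj

universe u

namespace Groth.Agent.Lib.Helper6.SchClosGrp

open Groth.Agent.Lib.Helper10.HomFamBC Groth.Agent.Lib.Helper14.AS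
open Groth.Agent.Lib.Lead.ToImageDominant

theorem exists_flat_closedSubgroup_dedekind
    (R : Type u) [CommRing R] [IsDedekindDomain R]
    (G : Over (Spec (CommRingCat.of R))) [GrpObj G]
    (HK : Over (Spec (CommRingCat.of (FractionRing R)))) [GrpObj HK]
    (i : HK ⟶ Red.bc (Neron.genPt R) G) [IsMonHom i] [IsClosedImmersion i.left] :
    ∃ (H : Over (Spec (CommRingCat.of R))) (_ : GrpObj H) (j : H ⟶ G) (φ : HK.left ⟶ H.left),
      IsMonHom j ∧ IsClosedImmersion j.left ∧ Flat H.hom ∧
      IsPullback φ HK.hom H.hom (Neron.genPt R) ∧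
      φ ≫ j.left = i.left ≫ pullback.fst G.hom (Neron.genPt R) ∧
      φ.ker = ⊥ := by
  haveI : Mono (Neron.genPt R) := mono_genPt
  haveI : Flat (Neron.genPt R) := flat_genPt
  haveI : IsSchemeTheoreticallyDominant (Neron.genPt R) := isSchemeTheoreticallyDominant_genPt
  haveI : QuasiCompact (Neron.genPt R) := inferInstance
  haveI hqc : QuasiCompact (psi (Neron.genPt R) G HK i) := by
    change QuasiCompact (i.left ≫ pullback.fst G.hom (Neron.genPt R))
    infer_instance
  haveI hfl : Flat (clObj (Neron.genPt R) G HK i).hom := by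
    change Flat ((psi (Neron.genPt R) G HK i).imageι ≫ G.hom)
    refine flat_of_ker_eq_over_dedekind G.hom (psi (Neron.genPt R) G HK i)
      (psi (Neron.genPt R) G HK i).imageι
      (Scheme.IdealSheafData.ker_subschemeι _) HK.hom ?_
    rw [psi_hom]
  obtain ⟨hG, hj⟩ := exists_grpObj (Neron.genPt R) G HK i
  refine ⟨clObj (Neron.genPt R) G HK i, hG, clIncl (Neron.genPt R) G HK i,
    (clMap (Neron.genPt R) G HK i).left, hj, inferInstance, hfl,
    isPullback_clMap (Neron.genPt R) G HK i, ?_, ?_⟩
  · exact Scheme.Hom.toImage_imageι _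
  · exact (isSchemeTheoreticallyDominant_toImage (psi (Neron.genPt R) G HK i)).ker_eq_bot

end Groth.Agent.Lib.Helper6.SchClosGrp
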