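import Mathlib
import Groth.Agent.Lib.Helper6.SchClosGrp2
import Groth.Agent.Lib.Helper25.GFScheme

/-!
# Spreading out a closed subgroup of the generic fibre (helper6)
-/

set_option autoImplicit false
set_option linter.style.haveILetI false
set_option linter.unusedSectionVars false

open CategoryTheory CategoryTheory.Limits AlgebraicGeometry
open MonoidalCategory CartesianMonoidalCategory MonObj GrpObj

universe u

namespace Groth.Agent.Lib.Helper6.SchClosGrp

open Groth.Agent.Lib.Helper10.HomFamBC Groth.Agent.Lib.Helper10.IdComp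
open Groth.Agent.Lib.Lead.ToImageDominant

set_option maxHeartbeats 1600000 in
theorem exists_closedSubgroup_spread_aux {S S' : Scheme.{u}} (g : S' ⟶ S) [Mono g] [Flat g]
    [QuasiCompact g] [IsSchemeTheoreticallyDominant g] [IsReduced S]
    (G : Over S) [GrpObj G] [LocallyOfFiniteType G.hom] [QuasiCompact G.hom]
    (HK : Over S') [GrpObj HK] (i : HK ⟶ Red.bc g G) [IsMonHom i] [IsClosedImmersion i.left]
    (hgU : ∀ U : S.Opens, Dense (U : Set S) → Set.range g ⊆ U) :
    ∃ (U : S.Opens) (gU : S' ⟶ (U : Scheme.{u})) (HU : Over (U : Scheme.{u})) (_ : GrpObj HU)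
      (j : HU ⟶ Red.bc U.ι G) (φ : HK.left ⟶ HU.left),
      Dense (U : Set S) ∧ gU ≫ U.ι = g ∧ IsMonHom j ∧ IsClosedImmersion j.left ∧
      IsPullback φ HK.hom HU.hom gU ∧
      φ ≫ j.left ≫ pullback.fst G.hom U.ι = i.left ≫ pullback.fst G.hom g := by
  obtain ⟨H', hH'⟩ : ∃ H' : Over S, H' = clObj g G HK i := ⟨_, rfl⟩
  haveI : LocallyOfFiniteType (clObj g G HK i).hom := by
    change LocallyOfFiniteType ((psi g G HK i).imageι ≫ G.hom)
    infer_instance
  haveI : QuasiCompact (clObj g G HK i).hom := by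
    change QuasiCompact ((psi g G HK i).imageι ≫ G.hom)
    infer_instance
  obtain ⟨U, hUd, hUfl, -⟩ := Groth.Agent.Lib.Helper25.GFScheme.generic_flatness (clObj g G HK i).hom
  have hrange : Set.range g ⊆ Set.range U.ι := by
    rw [Scheme.Opens.range_ι]
    exact hgU U hUd
  obtain ⟨gU, hgU'⟩ : ∃ gU : S' ⟶ (U : Scheme.{u}), gU ≫ U.ι = g :=
    ⟨IsOpenImmersion.lift U.ι g hrange, IsOpenImmersion.lift_fac _ _ _⟩
  obtain ⟨u, hu⟩ : ∃ u : (U : Scheme.{u}) ⟶ S, u = U.ι := ⟨_, rfl⟩
  haveI : IsOpenImmersion u := by rw [hu]; infer_instance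
  haveI hflHU : Flat (Red.bc u (clObj g G HK i)).hom := by
    change Flat (pullback.snd (clObj g G HK i).hom u)
    have h1 : (clObj g G HK i).hom ∣_ U =
        (pullbackRestrictIsoRestrict (clObj g G HK i).hom U).inv ≫
          pullback.snd (clObj g G HK i).hom U.ι := rfl
    rw [h1] at hUfl
    rw [hu]
    exact (MorphismProperty.cancel_left_of_respectsIso (P := @Flat) _ _).mp hUfl
  -- the closed subgroup over `U`
  obtain ⟨jU, hjU⟩ : ∃ jU : Red.bc u (clObj g G HK i) ⟶ Red.bc u G,
      jU = (Over.pullback u).map (clIncl g G HK i) := ⟨_, rfl⟩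
  have hjU1 : jU.left ≫ pullback.fst G.hom u =
      pullback.fst (clObj g G HK i).hom u ≫ (clIncl g G HK i).left := by
    rw [hjU]; exact pullback.lift_fst _ _ _
  have hjU2 : jU.left ≫ pullback.snd G.hom u = pullback.snd (clObj g G HK i).hom u := by
    rw [hjU]; exact pullback.lift_snd _ _ _
  have sqj : IsPullback jU.left (pullback.fst (clObj g G HK i).hom u) (pullback.fst G.hom u)
      (clIncl g G HK i).left := by
    refine IsPullback.of_right (h₁₂ := pullback.snd G.hom u) (v₁₃ := u) (h₂₂ := G.hom) ?_ hjU1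
      (IsPullback.of_hasPullback G.hom u).flip
    rw [hjU2]
    have : (clIncl g G HK i).left ≫ G.hom = (clObj g G HK i).hom := Over.w (clIncl g G HK i)
    rw [this]
    exact (IsPullback.of_hasPullback (clObj g G HK i).hom u).flip
  haveI hcl : IsClosedImmersion jU.left :=
    MorphismProperty.of_isPullback (P := @IsClosedImmersion) sqj.flip inferInstance
  haveI : Mono jU := by
    haveI : Mono jU.left := inferInstance
    exact (Over.forget _).mono_of_mono_map ‹_›
  have tr_jU : ∀ {T : Over (U : Scheme.{u})} (x : T ⟶ Red.bc u (clObj g G HK i)),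
      tr u (x ≫ jU) = tr u x ≫ clIncl g G HK i := by
    intro T x
    rw [hjU]
    exact tr_comp_map u x _
  -- multiplication
  haveI : Flat (Red.bc u (clObj g G HK i) ⊗ Red.bc u (clObj g G HK i)).hom := by
    change Flat (pullback.fst (Red.bc u (clObj g G HK i)).hom (Red.bc u (clObj g G HK i)).hom ≫
      (Red.bc u (clObj g G HK i)).hom)
    infer_instance
  haveI : Flat ((Over.map u).obj
      (Red.bc u (clObj g G HK i) ⊗ Red.bc u (clObj g G HK i))).hom := by
    change Flat ((Red.bc u (clObj g G HK i) ⊗ Red.bc u (clObj g G HK i)).hom ≫ u)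
    infer_instance
  obtain ⟨m', hm'⟩ := exists_mul_factor g G HK i
    ((Over.map u).obj (Red.bc u (clObj g G HK i) ⊗ Red.bc u (clObj g G HK i)))
    (tr u (fst _ _)) (tr u (snd _ _))
  have hμ : trInv u m' ≫ jU = (fst _ _ ≫ jU) * (snd _ _ ≫ jU) := by
    apply tr_injective u
    rw [tr_jU, tr_trInv, hm', tr_mul, tr_jU, tr_jU]
  -- inverse
  haveI : Flat ((Over.map u).obj (Red.bc u (clObj g G HK i))).hom := by
    change Flat ((Red.bc u (clObj g G HK i)).hom ≫ u)
    infer_instance
  obtain ⟨v', hv'⟩ := exists_inv_factor g G HK i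
    ((Over.map u).obj (Red.bc u (clObj g G HK i))) (tr u (𝟙 _))
  have hv : trInv u v' ≫ jU = jU ≫ ι[Red.bc u G] := by
    apply tr_injective u
    rw [tr_jU, tr_trInv, hv', ← Hom.inv_def, tr_inv, ← tr_jU, Category.id_comp]
  -- unit
  haveI : Flat ((Over.map u).obj (𝟙_ (Over (U : Scheme.{u})))).hom := by
    change Flat (𝟙 (U : Scheme.{u}) ≫ u)
    infer_instance
  obtain ⟨e', he'⟩ := exists_one_factor g G HK i ((Over.map u).obj (𝟙_ (Over (U : Scheme.{u}))))
  have he : trInv u e' ≫ jU = η[Red.bc u G] := by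
    apply tr_injective u
    rw [tr_jU, tr_trInv, he', ← tr_one u]
    congr 1
  -- the generic fibre
  have w : (clMap g G HK i).left ≫ (clObj g G HK i).hom = (HK.hom ≫ gU) ≫ u := by
    rw [Category.assoc, hu, hgU']
    exact (isPullback_clMap g G HK i).w
  obtain ⟨φ, hφ⟩ : ∃ φ : HK.left ⟶ pullback (clObj g G HK i).hom u,
      φ = pullback.lift (clMap g G HK i).left (HK.hom ≫ gU) w := ⟨_, rfl⟩
  have hφ1 : φ ≫ pullback.fst (clObj g G HK i).hom u = (clMap g G HK i).left := by
    rw [hφ]; exact pullback.lift_fst _ _ _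
  have hφ2 : φ ≫ pullback.snd (clObj g G HK i).hom u = HK.hom ≫ gU := by
    rw [hφ]; exact pullback.lift_snd _ _ _
  have sqφ : IsPullback φ HK.hom (pullback.snd (clObj g G HK i).hom u) gU := by
    refine IsPullback.of_right (h₁₂ := pullback.fst (clObj g G HK i).hom u)
      (v₁₃ := (clObj g G HK i).hom) (h₂₂ := u) ?_ hφ2 (IsPullback.of_hasPullback _ _)
    rw [hφ1, hu, hgU']
    exact isPullback_clMap g G HK i
  subst hu
  refine ⟨U, gU, Red.bc U.ι (clObj g G HK i),
    grpObjOfMono jU (trInv U.ι m') hμ (trInv U.ι e') he (trInv U.ι v') hv, jU, φ, hUd, hgU',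
    isMonHom_ofMono jU (trInv U.ι m') hμ (trInv U.ι e') he (trInv U.ι v') hv, hcl, sqφ, ?_⟩
  rw [hjU1, ← Category.assoc, hφ1]
  exact Scheme.Hom.toImage_imageι _

/-- The canonical morphism `Spec O_{X,x} ⟶ X` is flat (copied from helper17's `SpecStalkInj`). -/
theorem flat_fromSpecStalk (X : Scheme.{u}) (x : X) : Flat (X.fromSpecStalk x) := by
  obtain ⟨U, hU, hxU, -⟩ := exists_isAffineOpen_mem_and_subset (x := x) (U := (⊤ : X.Opens)) trivial
  rw [← hU.fromSpecStalk_eq_fromSpecStalk hxU, IsAffineOpen.fromSpecStalk]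
  have : Flat (Spec.map (X.presheaf.germ U x hxU)) := by
    rw [Flat.SpecMap_iff]
    let _ : Algebra Γ(X, U) (X.presheaf.stalk x) :=
      TopCat.Presheaf.algebra_section_stalk X.presheaf ⟨x, hxU⟩
    have hloc := hU.isLocalization_stalk ⟨x, hxU⟩
    exact IsLocalization.flat (X.presheaf.stalk x) (hU.primeIdealOf ⟨x, hxU⟩).asIdeal.primeCompl
  infer_instance

theorem exists_closedSubgroup_spread
    (X : Scheme.{u}) [IsIntegral X] (G : Over X) [GrpObj G]
    [IsAffineHom G.hom] [LocallyOfFinitePresentation G.hom]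
    (Hη : Over (Spec X.functionField)) [GrpObj Hη]
    (i : Hη ⟶ Red.bc (X.fromSpecStalk (genericPoint X)) G) [IsMonHom i]
    [IsClosedImmersion i.left] :
    ∃ (U : X.Opens) (ηU : Spec X.functionField ⟶ (U : Scheme.{u})) (HU : Over (U : Scheme.{u}))
      (_ : GrpObj HU) (j : HU ⟶ Red.bc U.ι G) (φ : Hη.left ⟶ HU.left),
      ηU ≫ U.ι = X.fromSpecStalk (genericPoint X) ∧ IsMonHom j ∧ IsClosedImmersion j.left ∧
      IsPullback φ Hη.hom HU.hom ηU ∧
      φ ≫ j.left ≫ pullback.fst G.hom U.ι =
        i.left ≫ pullback.fst G.hom (X.fromSpecStalk (genericPoint X)) := by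
  haveI : Flat (X.fromSpecStalk (genericPoint X)) := flat_fromSpecStalk X _
  haveI : Mono (X.fromSpecStalk (genericPoint X)) := inferInstance
  haveI : QuasiCompact (X.fromSpecStalk (genericPoint X)) := by
    haveI : Finite ↥(Spec X.functionField) :=
      inferInstanceAs (Finite (PrimeSpectrum X.functionField))
    exact ⟨fun U _ _ => (Set.toFinite _).isCompact⟩
  have hmem : genericPoint X ∈ Set.range (X.fromSpecStalk (genericPoint X)) := by
    rw [Scheme.range_fromSpecStalk]
    exact specializes_rfl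
  haveI : IsDominant (X.fromSpecStalk (genericPoint X)) := by
    refine ⟨?_⟩
    have hd : Dense ({genericPoint X} : Set X) := by
      rw [dense_iff_closure_eq]
      exact (genericPoint_spec X).def
    exact hd.mono (Set.singleton_subset_iff.mpr hmem)
  haveI : IsSchemeTheoreticallyDominant (X.fromSpecStalk (genericPoint X)) :=
    IsSchemeTheoreticallyDominant.of_isDominant _
  haveI : LocallyOfFiniteType G.hom := inferInstance
  haveI : QuasiCompact G.hom := inferInstance
  obtain ⟨U, gU, HU, hG, j, φ, hUd, h1, h2, h3, h4, h5⟩ :=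
    exists_closedSubgroup_spread_aux (X.fromSpecStalk (genericPoint X)) G Hη i (by
      intro U hU y hy
      rw [Scheme.range_fromSpecStalk] at hy
      have hξ : genericPoint X ∈ U := by
        refine ((genericPoint_spec X).mem_open_set_iff U.isOpen).mpr ?_
        obtain ⟨z, hz⟩ := hU.nonempty
        exact ⟨z, trivial, hz⟩
      exact (show y ⤳ genericPoint X from hy).mem_open U.isOpen hξ)
  exact ⟨U, gU, HU, hG, j, φ, h1, h2, h3, h4, h5⟩

end Groth.Agent.Lib.Helper6.SchClosGrp
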