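import Mathlib
import Groth.Agent.Lib.Helper6.SepFam18
import Groth.Prelude.Def_CInt

/-!
# Schematically dense opens are stable under flat base change locally of finite presentation
(helper6)
-/

set_option autoImplicit false
set_option linter.style.haveILetI false
set_option linter.unusedSectionVars false
universe u

open CategoryTheory CategoryTheory.Limits AlgebraicGeometry TopologicalSpace Opposite TensorProduct
open Groth.Agent.Lib.Helper29.QCoh Groth.Agent.Lib.Helper18

namespace Groth.Agent.Lib.Helper6.SepFam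

theorem res_eq_zero_congr {Y : Scheme.{u}} {U A B : Y.Opens} (hAB : A = B) (hA : A ≤ U)
    (hB : B ≤ U) (t : Γ(Y, U)) :
    Y.presheaf.map (homOfLE hA).op t = 0 ↔ Y.presheaf.map (homOfLE hB).op t = 0 := by
  subst hAB
  exact Iff.rfl

/-- the open immersion of an open subscheme kills exactly the sections vanishing on the trace -/
theorem ι_app_eq_zero_iff {Y : Scheme.{u}} (V U : Y.Opens) (t : Γ(Y, U)) :
    V.ι.app U t = 0 ↔ Y.presheaf.map (homOfLE (inf_le_left : U ⊓ V ≤ U)).op t = 0 := by
  rw [Scheme.Opens.ι_app]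
  refine res_eq_zero_congr ?_ _ _ t
  rw [Scheme.Hom.image_preimage_eq_opensRange_inf, Scheme.Opens.opensRange_ι, inf_comm]

theorem isSchematicallyDense_iff_schDominant {Y : Scheme.{u}} (V : Y.Opens) :
    CInt.IsSchematicallyDense V ↔ ∀ (U : Y.Opens) (t : Γ(Y, U)), V.ι.app U t = 0 → t = 0 := by
  constructor
  · intro h U t ht
    rw [ι_app_eq_zero_iff] at ht
    apply h U
    rw [ht, map_zero]
  · intro h U a b hab
    have h1 : Y.presheaf.map (homOfLE (inf_le_left : U ⊓ V ≤ U)).op (a - b) = 0 := by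
      rw [map_sub, hab, sub_self]
    have h2 := h U (a - b) ((ι_app_eq_zero_iff V U _).mpr h1)
    exact sub_eq_zero.mp h2

theorem isSchematicallyDense_preimage_of_flat_lfp {X X' : Scheme.{u}} (f : X' ⟶ X) [Flat f]
    [LocallyOfFinitePresentation f] (V : X.Opens) (hV : CInt.IsSchematicallyDense V) :
    CInt.IsSchematicallyDense (f ⁻¹ᵁ V) := by
  rw [isSchematicallyDense_iff_schDominant] at hV ⊢
  have h : ∀ (U : X.Opens) (t : Γ(X, U)),
      (∀ _ : PUnit.{u + 1}, V.ι.app U t = 0) → t = 0 := fun U t ht => hV U t (ht PUnit.unit)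
  have key := schDominant_of_isPullback_of_affSep (ι := PUnit.{u + 1})
    (fun _ => (V : Scheme.{u})) (fun _ => V.ι) f
    (fun _ => ((f ⁻¹ᵁ V : X'.Opens) : Scheme.{u})) (fun _ => f ∣_ V) (fun _ => (f ⁻¹ᵁ V).ι)
    (fun _ => isPullback_morphismRestrict f V) ?_
  · intro U t ht
    exact key U t (fun _ => ht)
  · intro x'
    obtain ⟨U, W, hU, hW, hxU, e⟩ := exists_affine_pair f x'
    refine ⟨U, hU, W, hW, e, hxU, ?_⟩
    letI algCD : Algebra Γ(X, W) Γ(X', U) := (f.appLE W U e).hom.toAlgebra
    haveI hfl : Module.Flat Γ(X, W) Γ(X', U) :=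
      HasRingHomProperty.appLE (P := @Flat) f inferInstance ⟨W, hW⟩ ⟨U, hU⟩ e
    haveI hfp : Algebra.FinitePresentation Γ(X, W) Γ(X', U) :=
      HasRingHomProperty.appLE (P := @LocallyOfFinitePresentation) f inferInstance ⟨W, hW⟩
        ⟨U, hU⟩ e
    exact affSep_of_strongSep_of_flat_of_finitePresentation _ (strongSep_of_schDominant h hW)

end Groth.Agent.Lib.Helper6.SepFam
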