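import Mathlib

/-!
# Jointly injective families of linear maps and flat base change (helper6)
-/

set_option autoImplicit false
set_option linter.style.haveILetI false
set_option linter.unusedSectionVars false

open TensorProduct

namespace Groth.Agent.Lib.Helper6.SepFam

variable {A : Type*} [CommRing A] (B : Type*) [AddCommGroup B] [Module A B] [Module.Flat A B]
  {N : Type*} [AddCommGroup N] [Module A N] {ι : Type*} {G : ι → Type*}
  [∀ i, AddCommGroup (G i)] [∀ i, Module A (G i)] (u : ∀ i, N →ₗ[A] G i)

/-- flat base change preserves joint injectivity of a finite family -/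
theorem lTensor_jointly_injective_of_finite [Finite ι]
    (h : ∀ n : N, (∀ i, u i n = 0) → n = 0) (s : B ⊗[A] N)
    (hs : ∀ i, (u i).lTensor B s = 0) : s = 0 := by
  classical
  haveI := Fintype.ofFinite ι
  let π : N →ₗ[A] (∀ i, G i) := LinearMap.pi u
  have hπ : Function.Injective π := by
    rw [injective_iff_map_eq_zero]
    intro n hn
    exact h n (fun i => congrFun hn i)
  have hinj := Module.Flat.lTensor_preserves_injective_linearMap (M := B) π hπ
  have hcomp : ∀ i, (LinearMap.proj i) ∘ₗ (piRight A A B G).toLinearMap ∘ₗ π.lTensor B =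
      (u i).lTensor B := by
    intro i
    ext b n
    simp [π]
  apply hinj
  rw [map_zero]
  apply (piRight A A B G).injective
  rw [map_zero]
  funext i
  have := LinearMap.congr_fun (hcomp i) s
  simp only [LinearMap.coe_comp, LinearEquiv.coe_coe, Function.comp_apply,
    LinearMap.coe_proj, Function.eval] at this
  rw [this, hs i]
  rfl

/-- over an Artinian ring, flat base change preserves joint injectivity of arbitrary families -/
theorem lTensor_jointly_injective_of_isArtinianRing [IsArtinianRing A]
    (h : ∀ n : N, (∀ i, u i n = 0) → n = 0) (s : B ⊗[A] N)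
    (hs : ∀ i, (u i).lTensor B s = 0) : s = 0 := by
  classical
  obtain ⟨N₀, hfin, hsN₀⟩ := TensorProduct.exists_finite_submodule_right_of_setFinite
    (M := B) ({s} : Set (B ⊗[A] N)) (Set.finite_singleton s)
  obtain ⟨s₀, hs₀⟩ := hsN₀ (Set.mem_singleton s)
  haveI : IsArtinian A N₀ := inferInstance
  -- the kernels of finite subfamilies
  let K : Finset ι → Submodule A N₀ := fun T =>
    ⨅ i ∈ T, LinearMap.ker ((u i) ∘ₗ N₀.subtype)
  obtain ⟨_, ⟨T₀, rfl⟩, hmin⟩ := IsArtinian.set_has_minimal (Set.range K) ⟨_, ⟨∅, rfl⟩⟩
  have hK0 : K T₀ = ⊥ := by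
    rw [eq_bot_iff]
    intro n hn
    have hall : ∀ i, u i (n : N) = 0 := by
      intro i
      have hle : K (insert i T₀) ≤ K T₀ := by
        refine le_iInf₂ fun j hj => ?_
        exact iInf₂_le j (Finset.mem_insert_of_mem hj)
      have hnlt : ¬ K (insert i T₀) < K T₀ := hmin _ ⟨_, rfl⟩
      have heq : K (insert i T₀) = K T₀ := by
        by_contra hne
        exact hnlt (lt_of_le_of_ne hle hne)
      have hn' : n ∈ K (insert i T₀) := by rw [heq]; exact hn
      have h1 := hn'
      simp only [K, Submodule.mem_iInf] at h1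
      exact h1 i (Finset.mem_insert_self i T₀)
    have : (n : N) = 0 := h _ hall
    exact (Submodule.mem_bot A).mpr (Subtype.ext this)
  -- apply the finite case
  have hfinite := lTensor_jointly_injective_of_finite (A := A) B (N := N₀)
    (ι := T₀) (G := fun i => G i.1) (fun i => (u i.1) ∘ₗ N₀.subtype) ?_ s₀ ?_
  · rw [← hs₀, hfinite, map_zero]
  · intro n hn
    have : n ∈ K T₀ := by
      simp only [K, Submodule.mem_iInf]
      intro i hi
      exact hn ⟨i, hi⟩
    rw [hK0] at this
    exact this
  · intro i
    rw [LinearMap.lTensor_comp, LinearMap.comp_apply, hs₀, hs i.1]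

end Groth.Agent.Lib.Helper6.SepFam
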