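import Mathlib
import Groth.Agent.Lib.Helper6.SepFam19
import Groth.Agent.S2879

/-!
# Domains of definition of pseudo-morphisms descend along flat lfp morphisms (helper6)
-/

set_option autoImplicit false
set_option linter.style.haveILetI false
set_option linter.unusedSectionVars false
universe u

open CategoryTheory CategoryTheory.Limits AlgebraicGeometry TopologicalSpace Opposite

namespace Groth.Agent.Lib.Helper6.SepFam

/-- fppf version of `S2879`: a morphism on a schematically dense open extends if it extends after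
a surjective flat base change locally of finite presentation. -/
theorem extends_of_extends_after_fppf {X X' Y S : Scheme.{u}} (pX : X ⟶ S) (pY : Y ⟶ S)
    [IsSeparated pY] (f : X' ⟶ X) [LocallyOfFinitePresentation f] [Flat f] [Surjective f]
    (U : X.Opens) (hU : CInt.IsSchematicallyDense U)
    (g : (U : Scheme.{u}) ⟶ Y) (hg : g ≫ pY = U.ι ≫ pX)
    (g' : X' ⟶ Y) (hg'S : g' ≫ pY = f ≫ pX) (hg' : (f ⁻¹ᵁ U).ι ≫ g' = (f ∣_ U) ≫ g) :
    ∃ h : X ⟶ Y, U.ι ≫ h = g ∧ h ≫ pY = pX := by
  have hU2 : CInt.IsSchematicallyDense ((pullback.fst f f) ⁻¹ᵁ (f ⁻¹ᵁ U)) :=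
    isSchematicallyDense_preimage_of_flat_lfp (pullback.fst f f ≫ f) U hU
  have hkey : pullback.fst f f ≫ g' = pullback.snd f f ≫ g' := by
    apply Groth.Agent.S2879.ext_of_schematicallyDense _ hU2 pY
    · rw [Category.assoc, Category.assoc, hg'S, pullback.condition_assoc]
    · set U' := f ⁻¹ᵁ U with hU'
      set U'' := (pullback.fst f f) ⁻¹ᵁ U' with hU''
      have hle : U'' ≤ (pullback.snd f f) ⁻¹ᵁ U' := by
        intro x hx
        change (pullback.snd f f) x ∈ f ⁻¹ᵁ U
        change (pullback.fst f f) x ∈ f ⁻¹ᵁ U at hx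
        change f ((pullback.snd f f) x) ∈ U
        change f ((pullback.fst f f) x) ∈ U at hx
        rw [← Scheme.Hom.comp_apply] at hx ⊢
        rwa [← pullback.condition]
      let a : (U'' : Scheme.{u}) ⟶ U' := (pullback.fst f f).resLE U' U'' le_rfl
      let b : (U'' : Scheme.{u}) ⟶ U' := (pullback.snd f f).resLE U' U'' hle
      have ha : a ≫ U'.ι = U''.ι ≫ pullback.fst f f := Scheme.Hom.resLE_comp_ι _ _
      have hb : b ≫ U'.ι = U''.ι ≫ pullback.snd f f := Scheme.Hom.resLE_comp_ι _ _
      have hab : a ≫ (f ∣_ U) = b ≫ (f ∣_ U) := by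
        rw [← cancel_mono U.ι, Category.assoc, Category.assoc, morphismRestrict_ι,
          reassoc_of% ha, reassoc_of% hb, pullback.condition]
      rw [← reassoc_of% ha, ← reassoc_of% hb, hg', reassoc_of% hab]
  have hcompat : ∀ {Z : Scheme.{u}} (g₁ g₂ : Z ⟶ X'), g₁ ≫ f = g₂ ≫ f → g₁ ≫ g' = g₂ ≫ g' := by
    intro Z g₁ g₂ h12
    have h1 : g₁ = pullback.lift g₁ g₂ h12 ≫ pullback.fst f f := (pullback.lift_fst _ _ _).symm
    have h2 : g₂ = pullback.lift g₁ g₂ h12 ≫ pullback.snd f f := (pullback.lift_snd _ _ _).symm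
    rw [h1, Category.assoc, hkey, ← Category.assoc, ← h2]
  refine ⟨EffectiveEpi.desc f g' hcompat, ?_, ?_⟩
  · have hepi : Epi (f ∣_ U) := by
      have : Surjective (f ∣_ U) := MorphismProperty.of_isPullback (P := @Surjective)
        (isPullback_morphismRestrict f U).flip inferInstance
      have : Flat (f ∣_ U) := MorphismProperty.of_isPullback (P := @Flat)
        (isPullback_morphismRestrict f U).flip inferInstance
      have : LocallyOfFinitePresentation (f ∣_ U) :=
        MorphismProperty.of_isPullback (P := @LocallyOfFinitePresentation)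
          (isPullback_morphismRestrict f U).flip inferInstance
      infer_instance
    rw [← cancel_epi (f ∣_ U), ← hg', morphismRestrict_ι_assoc, EffectiveEpi.fac]
  · rw [← cancel_epi f, EffectiveEpi.fac_assoc, hg'S]

end Groth.Agent.Lib.Helper6.SepFam
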