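import Mathlib
import Groth.Agent.Lib.Helper6.SepFam20

/-!
# Domains of definition of pseudo-morphisms descend along flat lfp morphisms, II (helper6)
-/

set_option autoImplicit false
set_option linter.style.haveILetI false
set_option linter.unusedSectionVars false
universe u

open CategoryTheory CategoryTheory.Limits AlgebraicGeometry TopologicalSpace Opposite

namespace Groth.Agent.Lib.Helper6.SepFam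

theorem pseudo_defined_of_flat_lfp {X X' Y S : Scheme.{u}} (pX : X ⟶ S) (pY : Y ⟶ S)
    [IsSeparated pY] (U : X.Opens) (hU : CInt.IsSchematicallyDense U) (h : (U : Scheme.{u}) ⟶ Y)
    (hh : h ≫ pY = U.ι ≫ pX) (f : X' ⟶ X) [Flat f] [LocallyOfFinitePresentation f] (x' : ↥X')
    (V' : X'.Opens) (hx' : x' ∈ V') (v' : (V' : Scheme.{u}) ⟶ Y)
    (hv'S : v' ≫ pY = V'.ι ≫ f ≫ pX)
    (hv' : X'.homOfLE (inf_le_right : f ⁻¹ᵁ U ⊓ V' ≤ V') ≫ v' =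
      X'.homOfLE (inf_le_left : f ⁻¹ᵁ U ⊓ V' ≤ f ⁻¹ᵁ U) ≫ (f ∣_ U) ≫ h) :
    ∃ (V : X.Opens) (v : (V : Scheme.{u}) ⟶ Y), f x' ∈ V ∧ v ≫ pY = V.ι ≫ pX ∧
      X.homOfLE (inf_le_right : U ⊓ V ≤ V) ≫ v = X.homOfLE (inf_le_left : U ⊓ V ≤ U) ≫ h := by
  obtain ⟨f₁, hf₁⟩ : ∃ f₁ : (V' : Scheme.{u}) ⟶ X, f₁ = V'.ι ≫ f := ⟨_, rfl⟩
  haveI : Flat f₁ := by rw [hf₁]; infer_instance
  haveI : LocallyOfFinitePresentation f₁ := by rw [hf₁]; infer_instance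
  obtain ⟨V, hV⟩ : ∃ V : X.Opens, (V : Set X) = Set.range f₁ :=
    ⟨⟨Set.range f₁, f₁.isOpenMap.isOpen_range⟩, rfl⟩
  have hrange : Set.range f₁ ⊆ Set.range V.ι := by
    rw [Scheme.Opens.range_ι, hV]
  obtain ⟨f₂, hf₂⟩ : ∃ f₂ : (V' : Scheme.{u}) ⟶ V, f₂ ≫ V.ι = f₁ :=
    ⟨IsOpenImmersion.lift V.ι f₁ hrange, IsOpenImmersion.lift_fac _ _ _⟩
  haveI : Flat f₂ := MorphismProperty.of_postcomp (W := @Flat) (W' := @IsOpenImmersion) f₂ V.ι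
    inferInstance (by rw [hf₂]; infer_instance)
  haveI : LocallyOfFinitePresentation f₂ :=
    MorphismProperty.of_postcomp (W := @LocallyOfFinitePresentation) (W' := @IsOpenImmersion)
      f₂ V.ι inferInstance (by rw [hf₂]; infer_instance)
  have hf₂app : ∀ z : (V' : Scheme.{u}), V.ι (f₂ z) = f (V'.ι z) := by
    intro z
    have h1 : (f₂ ≫ V.ι) z = (V'.ι ≫ f) z := by rw [hf₂, hf₁]
    exact h1
  haveI : Surjective f₂ := by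
    refine ⟨fun y => ?_⟩
    have hy : V.ι y ∈ Set.range f₁ := by rw [← hV]; exact y.2
    obtain ⟨z, hz⟩ := hy
    refine ⟨z, V.ι.injective ?_⟩
    rw [hf₂app, ← hz, hf₁]
    rfl
  have hU₂ : CInt.IsSchematicallyDense (V.ι ⁻¹ᵁ U) :=
    isSchematicallyDense_preimage_of_flat_lfp V.ι U hU
  have hg : ((V.ι ∣_ U) ≫ h) ≫ pY = (V.ι ⁻¹ᵁ U).ι ≫ V.ι ≫ pX := by
    rw [Category.assoc, hh, morphismRestrict_ι_assoc]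
  have hg'S : v' ≫ pY = f₂ ≫ V.ι ≫ pX := by
    rw [hv'S, ← Category.assoc f₂, hf₂, hf₁, Category.assoc]
  -- the comparison of nested opens on the source
  have hr1 : Set.range (f ⁻¹ᵁ U ⊓ V').ι =
      Set.range ((f₂ ⁻¹ᵁ (V.ι ⁻¹ᵁ U)).ι ≫ V'.ι) := by
    rw [Scheme.Opens.range_ι]
    ext z
    constructor
    · rintro ⟨hz1, hz2⟩
      have hmem : (⟨z, hz2⟩ : (V' : Scheme.{u})) ∈ f₂ ⁻¹ᵁ (V.ι ⁻¹ᵁ U) := by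
        change V.ι (f₂ (⟨z, hz2⟩ : (V' : Scheme.{u}))) ∈ U
        rw [hf₂app]
        exact hz1
      exact ⟨⟨⟨z, hz2⟩, hmem⟩, rfl⟩
    · rintro ⟨⟨w, hw⟩, rfl⟩
      have hw' : V.ι (f₂ w) ∈ U := hw
      rw [hf₂app] at hw'
      exact ⟨hw', w.2⟩
  obtain ⟨e, he⟩ : ∃ e : ((f ⁻¹ᵁ U ⊓ V' : X'.Opens) : Scheme.{u}) ≅
      ((f₂ ⁻¹ᵁ (V.ι ⁻¹ᵁ U) : (V' : Scheme.{u}).Opens) : Scheme.{u}),
      e.hom ≫ (f₂ ⁻¹ᵁ (V.ι ⁻¹ᵁ U)).ι ≫ V'.ι = (f ⁻¹ᵁ U ⊓ V').ι :=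
    ⟨IsOpenImmersion.isoOfRangeEq _ _ hr1, IsOpenImmersion.isoOfRangeEq_hom_fac _ _ hr1⟩
  have hg' : (f₂ ⁻¹ᵁ (V.ι ⁻¹ᵁ U)).ι ≫ v' = (f₂ ∣_ (V.ι ⁻¹ᵁ U)) ≫ (V.ι ∣_ U) ≫ h := by
    rw [← cancel_epi e.hom]
    have h1 : e.hom ≫ (f₂ ⁻¹ᵁ (V.ι ⁻¹ᵁ U)).ι =
        X'.homOfLE (inf_le_right : f ⁻¹ᵁ U ⊓ V' ≤ V') := by
      rw [← cancel_mono V'.ι, Category.assoc, he, Scheme.homOfLE_ι]
    have h2 : e.hom ≫ (f₂ ∣_ (V.ι ⁻¹ᵁ U)) ≫ (V.ι ∣_ U) =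
        X'.homOfLE (inf_le_left : f ⁻¹ᵁ U ⊓ V' ≤ f ⁻¹ᵁ U) ≫ (f ∣_ U) := by
      rw [← cancel_mono U.ι]
      simp only [Category.assoc, morphismRestrict_ι]
      rw [morphismRestrict_ι_assoc, hf₂, hf₁, reassoc_of% he, Scheme.homOfLE_ι_assoc]
    rw [reassoc_of% h1, hv', reassoc_of% h2]
  obtain ⟨h', h1', h2'⟩ := extends_of_extends_after_fppf (V.ι ≫ pX) pY f₂ (V.ι ⁻¹ᵁ U) hU₂
    ((V.ι ∣_ U) ≫ h) hg v' hg'S hg'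
  refine ⟨V, h', ?_, h2', ?_⟩
  · change f x' ∈ (V : Set X)
    rw [hV, hf₁]
    exact ⟨⟨x', hx'⟩, rfl⟩
  · have hr2 : Set.range (U ⊓ V).ι = Set.range ((V.ι ⁻¹ᵁ U).ι ≫ V.ι) := by
      rw [Scheme.Opens.range_ι]
      ext z
      constructor
      · rintro ⟨hz1, hz2⟩
        exact ⟨⟨⟨z, hz2⟩, hz1⟩, rfl⟩
      · rintro ⟨⟨w, hw⟩, rfl⟩
        exact ⟨hw, w.2⟩
    obtain ⟨e', he'⟩ : ∃ e' : ((U ⊓ V : X.Opens) : Scheme.{u}) ≅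
        ((V.ι ⁻¹ᵁ U : (V : Scheme.{u}).Opens) : Scheme.{u}),
        e'.hom ≫ (V.ι ⁻¹ᵁ U).ι ≫ V.ι = (U ⊓ V).ι :=
      ⟨IsOpenImmersion.isoOfRangeEq _ _ hr2, IsOpenImmersion.isoOfRangeEq_hom_fac _ _ hr2⟩
    have h3 : X.homOfLE (inf_le_right : U ⊓ V ≤ V) = e'.hom ≫ (V.ι ⁻¹ᵁ U).ι := by
      rw [← cancel_mono V.ι, Category.assoc, he', Scheme.homOfLE_ι]
    have h4 : X.homOfLE (inf_le_left : U ⊓ V ≤ U) = e'.hom ≫ (V.ι ∣_ U) := by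
      rw [← cancel_mono U.ι, Category.assoc, morphismRestrict_ι, he', Scheme.homOfLE_ι]
    rw [h3, h4, Category.assoc, Category.assoc, h1']

end Groth.Agent.Lib.Helper6.SepFam
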