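import Mathlib
import Groth.Agent.Lib.Helper6.SepFam1
import Groth.Agent.Lib.Helper6.SepFam5
import Groth.Agent.Lib.Helper18.GFl5
import Groth.Agent.Lib.Helper18.FlO
import Groth.Agent.Lib.Helper8.FlatAffine

/-!
# Separating families: reduction modulo a nilpotent ideal with free graded pieces (helper6)
-/

set_option autoImplicit false
set_option linter.style.haveILetI false
set_option linter.unusedSectionVars false
universe u

open CategoryTheory CategoryTheory.Limits AlgebraicGeometry TopologicalSpace Opposite TensorProduct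
open Groth.Agent.Lib.Helper29.QCoh Groth.Agent.Lib.Helper18

namespace Groth.Agent.Lib.Helper6.SepFam

variable {X : Scheme.{u}}

set_option maxHeartbeats 800000 in
theorem separating_of_separating_mod_nilpotent (A : CommRingCat.{u}) (p : X ⟶ Spec A)
    (J : Ideal ↑A) (hJ : IsNilpotent J)
    (hfree : ∀ k : ℕ, Module.Free (↑A ⧸ J) ((↑A ⧸ J) ⊗[↑A] ↥(J ^ k)))
    (F : X.Modules) [F.IsQuasicoherent] {ι : Type u} (G : ι → X.Modules)
    [∀ i, (G i).IsQuasicoherent]
    (hG : ∀ i, FlatMod.IsFlatOver p (G i)) (u : ∀ i, F ⟶ G i)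
    (h0 : Separating
      (fun i => (Scheme.Modules.pullback
        (pullback.fst p (Spec.map (CommRingCat.ofHom (Ideal.Quotient.mk J))))).obj (G i))
      (fun i => (Scheme.Modules.pullback
        (pullback.fst p (Spec.map (CommRingCat.ofHom (Ideal.Quotient.mk J))))).map (u i))) :
    Separating G u := by
  intro V t ht
  refine eq_zero_of_locally t fun x hx => ?_
  obtain ⟨W, hW, hxW, hWV⟩ := exists_isAffineOpen_mem_and_subset (x := x) (U := V) hx
  refine ⟨W, hWV, hxW, ?_⟩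
  set g := Spec.map (CommRingCat.ofHom (Ideal.Quotient.mk J)) with hg
  set fst := pullback.fst p g with hfst
  set snd := pullback.snd p g with hsnd
  have H : IsPullback fst snd p g := IsPullback.of_hasPullback _ _
  have hTA : IsAffineOpen (⊤ : (Spec A).Opens) := isAffineOpen_top _
  have hTK : IsAffineOpen (⊤ : (Spec (CommRingCat.of (↑A ⧸ J))).Opens) := isAffineOpen_top _
  have hUST : (⊤ : (Spec (CommRingCat.of (↑A ⧸ J))).Opens) ≤ g ⁻¹ᵁ ⊤ := le_top
  have hWT : W ≤ p ⁻¹ᵁ ⊤ := le_top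
  set UY : (pullback p g).Opens := fst ⁻¹ᵁ W ⊓ snd ⁻¹ᵁ ⊤ with hUY
  have hUYaff : IsAffineOpen UY := GFl.isAffineOpen_of_isPullback H hTA hTK hW hUST hWT hUY
  have hpW : UY ≤ fst ⁻¹ᵁ W := inf_le_left
  have hqT : UY ≤ snd ⁻¹ᵁ ⊤ := inf_le_right
  have hpo := GFl.isPushout_appLE_of_isPullback H hTA hTK hW hUST hWT hUY
  -- ring maps from `A` and `A ⧸ J`
  let φA : A ⟶ Γ(X, W) := (Scheme.ΓSpecIso A).inv ≫ p.appLE ⊤ W hWT
  let φK : CommRingCat.of (↑A ⧸ J) ⟶ Γ(pullback p g, UY) :=
    (Scheme.ΓSpecIso (CommRingCat.of (↑A ⧸ J))).inv ≫ snd.appLE ⊤ UY hqT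
  have hnat : (g.appLE ⊤ ⊤ hUST) ≫ (Scheme.ΓSpecIso (CommRingCat.of (↑A ⧸ J))).hom =
      (Scheme.ΓSpecIso A).hom ≫ CommRingCat.ofHom (Ideal.Quotient.mk J) := by
    have h1 := Scheme.ΓSpecIso_naturality (CommRingCat.ofHom (Ideal.Quotient.mk J))
    have h2 : g.appLE ⊤ ⊤ hUST = g.appTop := Fl.appLE_top_top g hUST
    rw [h2]
    exact h1
  have hpoA : IsPushout (CommRingCat.ofHom (Ideal.Quotient.mk J)) φA φK
      (fst.appLE W UY hpW) := by
    refine hpo.flip.of_iso (Scheme.ΓSpecIso A) (Scheme.ΓSpecIso (CommRingCat.of (↑A ⧸ J)))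
      (Iso.refl _) (Iso.refl _) hnat ?_ ?_ ?_
    · simp [φA]
    · simp [φK]
    · simp
  letI algAC : Algebra ↑A Γ(X, W) := φA.hom.toAlgebra
  letI algKC₀ : Algebra (↑A ⧸ J) Γ(pullback p g, UY) := φK.hom.toAlgebra
  letI algCC₀ : Algebra Γ(X, W) Γ(pullback p g, UY) := (fst.appLE W UY hpW).hom.toAlgebra
  letI algAC₀ : Algebra ↑A Γ(pullback p g, UY) :=
    ((fst.appLE W UY hpW).hom.comp φA.hom).toAlgebra
  haveI tw1 : IsScalarTower ↑A Γ(X, W) Γ(pullback p g, UY) :=
    IsScalarTower.of_algebraMap_eq (fun _ => rfl)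
  haveI tw2 : IsScalarTower ↑A (↑A ⧸ J) Γ(pullback p g, UY) :=
    IsScalarTower.of_algebraMap_eq (fun r => by
      have hw := hpoA.w
      exact (congr($(hw).hom r)).symm)
  haveI hpo' : Algebra.IsPushout ↑A (↑A ⧸ J) Γ(X, W) Γ(pullback p g, UY) :=
    CommRingCat.isPushout_iff_isPushout.mp hpoA
  -- module structures over `A`
  letI modAF : Module ↑A Γ(F, W) := Module.compHom _ φA.hom
  haveI twF : IsScalarTower ↑A Γ(X, W) Γ(F, W) :=
    IsScalarTower.of_algebraMap_smul (fun _ _ => rfl)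
  letI modAG : ∀ i, Module ↑A Γ(G i, W) := fun i => Module.compHom _ φA.hom
  haveI twG : ∀ i, IsScalarTower ↑A Γ(X, W) Γ(G i, W) := fun i =>
    IsScalarTower.of_algebraMap_smul (fun _ _ => rfl)
  -- flatness of the targets over `A`
  haveI hflatG : ∀ i, Module.Flat ↑A Γ(G i, W) := by
    intro i
    letI modΓ : Module Γ(Spec A, ⊤) Γ(G i, W) := Module.compHom _ (p.appLE ⊤ W hWT).hom
    haveI : Module.Flat Γ(Spec A, ⊤) Γ(G i, W) :=
      Groth.Agent.Lib.Helper8.FlatAffine.flat_sections_of_isFlatOverAt p (G i) hW hTA hWT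
        (fun x _ => hG i x)
    exact Fl.flat_of_ringEquiv (Scheme.ΓSpecIso A).symm.commRingCatIsoToRingEquiv
      (fun _ _ => rfl)
  -- the `A`-linear family
  let uA : ∀ i, Γ(F, W) →ₗ[↑A] Γ(G i, W) := fun i => (appₗ (u i) W).restrictScalars ↑A
  -- joint injectivity on the affine open of the reduction
  have haff : ∀ s : Γ(pullback p g, UY) ⊗[Γ(X, W)] Γ(F, W),
      (∀ i, LinearMap.lTensor Γ(pullback p g, UY) (appₗ (u i) W) s = 0) → s = 0 := by
    intro s hs
    obtain ⟨t', rfl⟩ := (pullbackSectionsEquiv fst F hUYaff hW hpW).surjective s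
    have : t' = 0 := by
      apply h0 UY t'
      intro i
      apply (pullbackSectionsEquiv fst (G i) hUYaff hW hpW).injective
      rw [Groth.Agent.Lib.Helper12.H12FlatLim.pullbackSectionsEquiv_map fst (u i) hUYaff hW hpW,
        hs i, map_zero]
    rw [this, map_zero]
  -- joint injectivity modulo `J`
  have H0 : ∀ y : (↑A ⧸ J) ⊗[↑A] Γ(F, W), (∀ i, (uA i).lTensor (↑A ⧸ J) y = 0) → y = 0 := by
    intro y hy
    let eF := Algebra.IsPushout.cancelBaseChange ↑A (↑A ⧸ J) Γ(X, W) Γ(pullback p g, UY) Γ(F, W)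
    have hnatE : ∀ (i : ι) (z : (↑A ⧸ J) ⊗[↑A] Γ(F, W)),
        LinearMap.lTensor Γ(pullback p g, UY) (appₗ (u i) W) (eF.symm z) =
        (Algebra.IsPushout.cancelBaseChange ↑A (↑A ⧸ J) Γ(X, W) Γ(pullback p g, UY)
          Γ(G i, W)).symm ((uA i).lTensor (↑A ⧸ J) z) := by
      intro i z
      induction z using TensorProduct.induction_on with
      | zero => simp
      | tmul k m =>
        rw [LinearMap.lTensor_tmul, Algebra.IsPushout.cancelBaseChange_symm_tmul,
          Algebra.IsPushout.cancelBaseChange_symm_tmul, LinearMap.lTensor_tmul]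
        rfl
      | add a b ha hb => rw [map_add, map_add, map_add, map_add, ha, hb]
    have h1 : eF.symm y = 0 := by
      apply haff
      intro i
      rw [hnatE, hy i, map_zero]
    exact eF.symm.injective (h1.trans (map_zero _).symm)
  -- conclusion
  have hn : ∀ i, uA i (res F hWV t) = 0 := by
    intro i
    change (u i).app W (res F hWV t) = 0
    rw [app_res, ht i, map_zero]
  exact jointly_injective_of_mod_nilpotent J uA hJ hfree H0 _ hn

end Groth.Agent.Lib.Helper6.SepFam
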