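import Mathlib
import Groth.Agent.Lib.Helper6.SepFam22
import Groth.Agent.Lib.Helper6.SepFam6

/-!
# Schematically dominant families modulo a nilpotent ideal with free graded pieces (helper6)
-/

set_option autoImplicit false
set_option linter.style.haveILetI false
set_option linter.unusedSectionVars false
universe u

open CategoryTheory CategoryTheory.Limits AlgebraicGeometry TopologicalSpace Opposite TensorProduct
open Groth.Agent.Lib.Helper29.QCoh Groth.Agent.Lib.Helper18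

namespace Groth.Agent.Lib.Helper6.SepFam

variable {X : Scheme.{u}}

set_option maxHeartbeats 1600000 in
theorem schDominant_of_schDominant_mod_nilpotent (A : CommRingCat.{u}) (p : X ⟶ Spec A)
    (J : Ideal ↑A) (hJ : IsNilpotent J)
    (hfree : ∀ k : ℕ, Module.Free (↑A ⧸ J) ((↑A ⧸ J) ⊗[↑A] ↥(J ^ k)))
    {ι : Type u} (Z : ι → Scheme.{u}) (v : ∀ i, Z i ⟶ X) [∀ i, Flat (v i ≫ p)]
    (h0 : ∀ (V : (pullback p (Spec.map (CommRingCat.ofHom (Ideal.Quotient.mk J)))).Opens)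
      (t : Γ(pullback p (Spec.map (CommRingCat.ofHom (Ideal.Quotient.mk J))), V)),
      (∀ i, (pullback.map (v i ≫ p) (Spec.map (CommRingCat.ofHom (Ideal.Quotient.mk J))) p
        (Spec.map (CommRingCat.ofHom (Ideal.Quotient.mk J))) (v i) (𝟙 _) (𝟙 _)
        (Category.comp_id _) ((Category.comp_id _).trans (Category.id_comp _).symm)).app V t = 0) →
        t = 0) :
    ∀ (V : X.Opens) (t : Γ(X, V)), (∀ i, (v i).app V t = 0) → t = 0 := by
  intro V t ht
  refine sec_eq_zero_of_locally t fun x hx => ?_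
  obtain ⟨W, hW, hxW, hWV₀⟩ := exists_isAffineOpen_mem_and_subset (x := x) (U := V) hx
  have hWV : W ≤ V := hWV₀
  refine ⟨W, hWV, hxW, ?_⟩
  obtain ⟨n, hn⟩ : ∃ n : Γ(X, W), n = X.presheaf.map (homOfLE hWV).op t := ⟨_, rfl⟩
  rw [← hn]
  -- the base change to `A ⧸ J`
  set q := Spec.map (CommRingCat.ofHom (Ideal.Quotient.mk J)) with hq
  have hpW : pullback.fst p q ⁻¹ᵁ W ⊓ pullback.snd p q ⁻¹ᵁ ⊤ ≤ pullback.fst p q ⁻¹ᵁ W :=
    inf_le_left
  have hqT : pullback.fst p q ⁻¹ᵁ W ⊓ pullback.snd p q ⁻¹ᵁ ⊤ ≤ pullback.snd p q ⁻¹ᵁ ⊤ :=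
    inf_le_right
  obtain ⟨hU₀aff, hpoA⟩ := isAffineOpen_and_isPushout_sections
    (CommRingCat.ofHom (Ideal.Quotient.mk J)) p hW hpW hqT
  have hAff := affSep_of_schDominant_of_isPullback Z v (pullback.fst p q)
    (fun i => pullback (v i ≫ p) q) (fun i => pullback.fst (v i ≫ p) q)
    (fun i => pullback.map (v i ≫ p) q p q (v i) (𝟙 _) (𝟙 _) (Category.comp_id _)
        ((Category.comp_id _).trans (Category.id_comp _).symm))
    (fun i => isPullback_map_fst p q (v i)) h0 hU₀aff hW hpW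
  set U₀ := pullback.fst p q ⁻¹ᵁ W ⊓ pullback.snd p q ⁻¹ᵁ ⊤ with hU₀
  -- algebra structures
  let φA : A ⟶ Γ(X, W) := (Scheme.ΓSpecIso A).inv ≫ p.appLE ⊤ W le_top
  let φK : CommRingCat.of (↑A ⧸ J) ⟶ Γ(pullback p q, U₀) :=
    (Scheme.ΓSpecIso (CommRingCat.of (↑A ⧸ J))).inv ≫ (pullback.snd p q).appLE ⊤ U₀ hqT
  letI algAC : Algebra ↑A Γ(X, W) := φA.hom.toAlgebra
  letI algKD : Algebra (↑A ⧸ J) Γ(pullback p q, U₀) := φK.hom.toAlgebra
  letI algCD : Algebra Γ(X, W) Γ(pullback p q, U₀) :=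
    ((pullback.fst p q).appLE W U₀ hpW).hom.toAlgebra
  letI algAD : Algebra ↑A Γ(pullback p q, U₀) :=
    (((pullback.fst p q).appLE W U₀ hpW).hom.comp φA.hom).toAlgebra
  haveI tw1 : IsScalarTower ↑A Γ(X, W) Γ(pullback p q, U₀) :=
    IsScalarTower.of_algebraMap_eq (fun _ => rfl)
  haveI tw2 : IsScalarTower ↑A (↑A ⧸ J) Γ(pullback p q, U₀) :=
    IsScalarTower.of_algebraMap_eq (fun r => by
      have hw := hpoA.w
      exact (congr($(hw).hom r)).symm)
  haveI hpo' : Algebra.IsPushout ↑A (↑A ⧸ J) Γ(X, W) Γ(pullback p q, U₀) :=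
    CommRingCat.isPushout_iff_isPushout.mp hpoA
  letI modAG : ∀ j : AffOver Z v W, Module ↑A (AffOver.ring Z v j) :=
    fun j => Module.compHom _ φA.hom
  haveI twG : ∀ j : AffOver Z v W, IsScalarTower ↑A Γ(X, W) (AffOver.ring Z v j) := fun j =>
    IsScalarTower.of_algebraMap_smul (fun _ _ => rfl)
  haveI hflat : ∀ j : AffOver Z v W, Module.Flat ↑A (AffOver.ring Z v j) := by
    rintro ⟨i, Z', hZ', hZ'W⟩
    have hfl : ((v i ≫ p).appLE ⊤ Z' le_top).hom.Flat :=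
      HasRingHomProperty.appLE (P := @Flat) (v i ≫ p) inferInstance
        ⟨⊤, isAffineOpen_top _⟩ ⟨Z', hZ'⟩ le_top
    letI modΓ : Module Γ(Spec A, ⊤) Γ(Z i, Z') :=
      Module.compHom _ ((v i ≫ p).appLE ⊤ Z' le_top).hom
    haveI : Module.Flat Γ(Spec A, ⊤) Γ(Z i, Z') := hfl
    refine Fl.flat_of_ringEquiv (Scheme.ΓSpecIso A).symm.commRingCatIsoToRingEquiv
      (fun r m => ?_)
    change ((v i).appLE W Z' hZ'W).hom (φA.hom r) * m =
      ((v i ≫ p).appLE ⊤ Z' le_top).hom ((Scheme.ΓSpecIso A).inv.hom r) * m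
    congr 1
    have h1 : (v i ≫ p).appLE ⊤ Z' le_top = p.appLE ⊤ W le_top ≫ (v i).appLE W Z' hZ'W :=
      (Scheme.Hom.appLE_comp_appLE _ _ _ _ _ _ _).symm
    rw [h1]
    rfl
  let u : ∀ j : AffOver Z v W, Γ(X, W) →ₗ[↑A] AffOver.ring Z v j := fun j =>
    (Algebra.linearMap Γ(X, W) (AffOver.ring Z v j)).restrictScalars ↑A
  have H0 : ∀ y : (↑A ⧸ J) ⊗[↑A] Γ(X, W), (∀ j, (u j).lTensor (↑A ⧸ J) y = 0) → y = 0 := by
    intro y hy
    obtain ⟨η, hηdef⟩ : ∃ η : Γ(pullback p q, U₀) ⊗[Γ(X, W)] Γ(X, W),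
        η = (Algebra.IsPushout.cancelBaseChange ↑A (↑A ⧸ J) Γ(X, W) Γ(pullback p q, U₀)
          Γ(X, W)).symm y := ⟨_, rfl⟩
    have hkill : ∀ j : AffOver Z v W, ∃ m : ℕ, (1 : Γ(pullback p q, U₀)) ^ m •
        (Algebra.linearMap Γ(X, W) (AffOver.ring Z v j)).lTensor Γ(pullback p q, U₀) η = 0 := by
      intro j
      refine ⟨0, ?_⟩
      rw [pow_zero, one_smul, hηdef,
        cancel_nat ↑A (↑A ⧸ J) Γ(X, W) Γ(pullback p q, U₀)
          (Algebra.linearMap Γ(X, W) (AffOver.ring Z v j)) y]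
      have := hy j
      rw [show (u j) = (Algebra.linearMap Γ(X, W) (AffOver.ring Z v j)).restrictScalars ↑A
        from rfl] at this
      rw [this, map_zero]
    obtain ⟨m, hm⟩ := hAff 1 η hkill
    rw [one_pow, one_smul] at hm
    rw [hm] at hηdef
    exact ((LinearEquiv.map_eq_zero_iff _).mp hηdef.symm)
  refine jointly_injective_of_mod_nilpotent J u hJ hfree H0 n ?_
  rintro ⟨i, Z', hZ', hZ'W⟩
  change ((v i).appLE W Z' hZ'W).hom n = 0
  rw [hn, ← CommRingCat.comp_apply, Scheme.Hom.map_appLE]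
  have h1 : (v i).appLE V Z' (hZ'W.trans ((Opens.map (v i).base).map (homOfLE hWV)).le) =
      (v i).app V ≫ (Z i).presheaf.map (homOfLE
        (hZ'W.trans ((Opens.map (v i).base).map (homOfLE hWV)).le)).op := rfl
  rw [h1, CommRingCat.comp_apply, ht i, map_zero]

end Groth.Agent.Lib.Helper6.SepFam
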