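import Mathlib
import Groth.Agent.Lib.Helper6.SepFam1
import Groth.Agent.Lib.Helper6.SepFam2

/-!
# Separating families under flat pullback: finite families, Artinian base (helper6)
-/

set_option autoImplicit false
set_option linter.style.haveILetI false
set_option linter.unusedSectionVars false
universe u

open CategoryTheory CategoryTheory.Limits AlgebraicGeometry TopologicalSpace Opposite TensorProduct
open Groth.Agent.Lib.Helper29.QCoh

namespace Groth.Agent.Lib.Helper6.SepFam

variable {X X' : Scheme.{u}}

theorem separating_pullback_of_flat_of_finite (F : X.Modules) [F.IsQuasicoherent] {ι : Type u}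
    [Finite ι] (G : ι → X.Modules) [∀ i, (G i).IsQuasicoherent] (u : ∀ i, F ⟶ G i)
    (g : X' ⟶ X) [Flat g] (h : Separating G u) :
    Separating (fun i => (Scheme.Modules.pullback g).obj (G i))
      (fun i => (Scheme.Modules.pullback g).map (u i)) := by
  refine separating_pullback_of_affine_pairs g G u ?_
  intro U hU W hW e
  letI := (g.appLE W U e).hom.toAlgebra
  have hflat : Module.Flat Γ(X, W) Γ(X', U) :=
    HasRingHomProperty.appLE (P := @Flat) g inferInstance ⟨W, hW⟩ ⟨U, hU⟩ e
  intro s hs
  exact lTensor_jointly_injective_of_finite Γ(X', U) (fun i => appₗ (u i) W)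
    (fun n hn => h W n hn) s hs

theorem separating_pullback_of_flat_of_artinian [IsNoetherian X]
    (hX : topologicalKrullDim X ≤ 0) (F : X.Modules) [F.IsQuasicoherent] {ι : Type u}
    (G : ι → X.Modules) [∀ i, (G i).IsQuasicoherent] (u : ∀ i, F ⟶ G i)
    (g : X' ⟶ X) [Flat g] (h : Separating G u) :
    Separating (fun i => (Scheme.Modules.pullback g).obj (G i))
      (fun i => (Scheme.Modules.pullback g).map (u i)) := by
  haveI : IsLocallyArtinian X := IsLocallyArtinian.of_topologicalKrullDim_le_zero hX
  refine separating_pullback_of_affine_pairs g G u ?_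
  intro U hU W hW e
  letI := (g.appLE W U e).hom.toAlgebra
  have hflat : Module.Flat Γ(X, W) Γ(X', U) :=
    HasRingHomProperty.appLE (P := @Flat) g inferInstance ⟨W, hW⟩ ⟨U, hU⟩ e
  haveI : IsArtinianRing Γ(X, W) := IsLocallyArtinian.isArtinianRing_presheaf_obj ⟨W, hW⟩
  intro s hs
  exact lTensor_jointly_injective_of_isArtinianRing Γ(X', U) (fun i => appₗ (u i) W)
    (fun n hn => h W n hn) s hs

end Groth.Agent.Lib.Helper6.SepFam
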