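import Mathlib
import Groth.Agent.Lib.Helper6.SepFam1

/-!
# Faithfully flat descent of separating families (helper6)
-/

set_option autoImplicit false
set_option linter.style.haveILetI false
set_option linter.unusedSectionVars false
universe u

open CategoryTheory CategoryTheory.Limits AlgebraicGeometry TopologicalSpace Opposite TensorProduct
open Groth.Agent.Lib.Helper29.QCoh

namespace Groth.Agent.Lib.Helper6.SepFam

section Algebra

variable {A B N : Type*} [CommRing A] [CommRing B] [Algebra A B] [Module.Flat A B]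
  [AddCommGroup N] [Module A N]

/-- if `1 ⊗ n = 0` in `B ⊗ N` with `B` flat, then the annihilator of `n` generates the unit
ideal of `B`. -/
theorem map_ker_toSpanSingleton_eq_top (n : N) (h : (1 : B) ⊗ₜ[A] n = 0) :
    Ideal.map (algebraMap A B) (LinearMap.ker (LinearMap.toSpanSingleton A N n) : Ideal A) = ⊤ := by
  set 𝔞 : Ideal A := LinearMap.ker (LinearMap.toSpanSingleton A N n) with h𝔞
  let ψ : (A ⧸ 𝔞) →ₗ[A] N := Submodule.liftQ 𝔞 (LinearMap.toSpanSingleton A N n) le_rfl
  have hψ : Function.Injective ψ := by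
    rw [← LinearMap.ker_eq_bot]
    exact Submodule.ker_liftQ_eq_bot _ _ _ le_rfl
  have hinj := Module.Flat.lTensor_preserves_injective_linearMap (M := B) ψ hψ
  have h1 : (1 : B) ⊗ₜ[A] (Submodule.Quotient.mk (1 : A) : A ⧸ 𝔞) = 0 := by
    apply hinj
    rw [map_zero, LinearMap.lTensor_tmul]
    change (1 : B) ⊗ₜ[A] (LinearMap.toSpanSingleton A N n 1) = 0
    rw [LinearMap.toSpanSingleton_apply, one_smul, h]
  have h2 := congrArg (TensorProduct.tensorQuotEquivQuotSMul B 𝔞) h1
  rw [map_zero] at h2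
  have h3 : (1 : B) ∈ 𝔞 • (⊤ : Submodule A B) := by
    have := TensorProduct.tensorQuotEquivQuotSMul_tmul_mk (M := B) 𝔞 (1 : B) (1 : A)
    rw [one_smul] at this
    change TensorProduct.tensorQuotEquivQuotSMul B 𝔞
      ((1 : B) ⊗ₜ[A] (Submodule.Quotient.mk (1 : A) : A ⧸ 𝔞)) = _ at this
    rw [h2] at this
    exact (Submodule.Quotient.mk_eq_zero _).mp this.symm
  have hle : 𝔞 • (⊤ : Submodule A B) ≤ (𝔞.map (algebraMap A B)).restrictScalars A := by
    rw [Submodule.smul_le]
    intro a ha b _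
    rw [Submodule.restrictScalars_mem, Algebra.smul_def]
    exact Ideal.mul_mem_right _ _ (Ideal.mem_map_of_mem _ ha)
  exact (Ideal.eq_top_iff_one _).mpr (hle h3)

end Algebra

variable {X X' : Scheme.{u}}

theorem separating_of_faithfullyFlat_pullback (F : X.Modules) [F.IsQuasicoherent] {ι : Type*}
    (G : ι → X.Modules) [∀ i, (G i).IsQuasicoherent] (u : ∀ i, F ⟶ G i)
    (g : X' ⟶ X) [Flat g] [Surjective g]
    (h : Separating (fun i => (Scheme.Modules.pullback g).obj (G i))
      (fun i => (Scheme.Modules.pullback g).map (u i))) : Separating G u := by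
  intro V t ht
  have ht' : pullSect g F V t = 0 := by
    apply h (g ⁻¹ᵁ V)
    intro i
    change ((Scheme.Modules.pullback g).map (u i)).app (g ⁻¹ᵁ V) (pullSect g F V t) = 0
    rw [pullSect_naturality, ht i, map_zero]
  refine eq_zero_of_locally t fun x hx => ?_
  obtain ⟨x', rfl⟩ := g.surjective x
  obtain ⟨W, hW, hxW, hWV⟩ := exists_isAffineOpen_mem_and_subset (x := g x') (U := V) hx
  obtain ⟨U, hU, hxU, hUW⟩ := exists_isAffineOpen_mem_and_subset (x := x') (U := g ⁻¹ᵁ W) hxW
  letI := (g.appLE W U hUW).hom.toAlgebra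
  have hflat : Module.Flat Γ(X, W) Γ(X', U) :=
    HasRingHomProperty.appLE (P := @Flat) g inferInstance ⟨W, hW⟩ ⟨U, hU⟩ hUW
  set n : Γ(F, W) := res F hWV t with hn
  have h1 : (1 : Γ(X', U)) ⊗ₜ[Γ(X, W)] n = 0 := by
    rw [← Groth.Agent.Helper19.PullUnit.pullbackSectionsEquiv_pullSect g F hU hW hUW n, hn,
      pullSect_res, ht', map_zero, map_zero, map_zero]
  have hmap := map_ker_toSpanSingleton_eq_top (A := Γ(X, W)) (B := Γ(X', U)) n h1
  have hcov := iSup_basicOpen_of_span_eq_top U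
    ((algebraMap Γ(X, W) Γ(X', U)) '' (LinearMap.ker (LinearMap.toSpanSingleton Γ(X, W) _ n) :
      Set Γ(X, W))) hmap
  have hx' : x' ∈ ⨆ i ∈ ((algebraMap Γ(X, W) Γ(X', U)) ''
      (LinearMap.ker (LinearMap.toSpanSingleton Γ(X, W) _ n) : Set Γ(X, W))),
      X'.basicOpen i := by
    rw [hcov]; exact hxU
  simp only [Opens.mem_iSup] at hx'
  obtain ⟨_, ⟨a, ha, rfl⟩, hxa⟩ := hx'
  have ha0 : a • n = 0 := ha
  have hxa' : x' ∈ X'.basicOpen (g.appLE W U hUW a) := hxa
  rw [Scheme.basicOpen_appLE] at hxa'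
  have hgx : g x' ∈ X.basicOpen a := hxa'.2
  have hDW : X.basicOpen a ≤ W := X.basicOpen_le a
  refine ⟨X.basicOpen a, hDW.trans hWV, hgx, ?_⟩
  have h2 : res F hDW (a • n) = 0 := by rw [ha0, map_zero]
  rw [res_smul] at h2
  have hunit : IsUnit (X.presheaf.map (homOfLE hDW).op a) :=
    X.toRingedSpace.isUnit_res_basicOpen a
  have h3 := eq_zero_of_isUnit_smul hunit h2
  rw [hn, res_res] at h3
  exact h3

end Groth.Agent.Lib.Helper6.SepFam
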