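import Mathlib.Topology.Connected.Clopen
import Mathlib.Topology.Spectral.Prespectral
import Mathlib.Topology.QuasiSeparated

set_option autoImplicit false
universe u

namespace Groth.Agent.Lib.Helper6

variable {X : Type u} [TopologicalSpace X]

/-- In a compact space, a compact set disjoint from the intersection of all clopen
neighbourhoods of `x` is disjoint from one clopen neighbourhood of `x`. -/
theorem exists_isClopen_disjoint_of_isCompact (x : X) {K : Set X} (hK : IsCompact K)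
    (hKS : K ∩ ⋂₀ {Z : Set X | IsClopen Z ∧ x ∈ Z} = ∅) :
    ∃ Z : Set X, IsClopen Z ∧ x ∈ Z ∧ K ∩ Z = ∅ := by
  classical
  let ι := {Z : Set X // IsClopen Z ∧ x ∈ Z}
  have h1 : K ∩ ⋂ i : ι, (i : Set X) = ∅ := by
    rw [← hKS, Set.sInter_eq_iInter]
    rfl
  obtain ⟨u, hu⟩ := hK.elim_finite_subfamily_closed (fun i : ι => (i : Set X))
    (fun i => i.2.1.1) h1
  refine ⟨⋂ i ∈ u, (i : Set X), isClopen_biInter_finset (fun i _ => i.2.1), ?_, hu⟩
  simp only [Set.mem_iInter]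
  exact fun i _ => i.2.2

theorem isPreconnected_sInter_isClopen [CompactSpace X] [PrespectralSpace X]
    [QuasiSeparatedSpace X] (x : X) :
    IsPreconnected (⋂₀ {Z : Set X | IsClopen Z ∧ x ∈ Z}) := by
  set S := ⋂₀ {Z : Set X | IsClopen Z ∧ x ∈ Z} with hS
  have hSclosed : IsClosed S := isClosed_sInter fun Z hZ => hZ.1.1
  have hxS : x ∈ S := Set.mem_sInter.mpr fun Z hZ => hZ.2
  have hSsub : ∀ Z : Set X, IsClopen Z → x ∈ Z → S ⊆ Z := fun Z hZ hxZ =>
    Set.sInter_subset_of_mem ⟨hZ, hxZ⟩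
  rw [isPreconnected_iff_subset_of_fully_disjoint_closed hSclosed]
  intro u v hu hv hSuv huv
  -- compact opens separating the two pieces
  have hB : IsCompact (S ∩ u) := (hSclosed.inter hu).isCompact
  have hC : IsCompact (S ∩ v) := (hSclosed.inter hv).isCompact
  obtain ⟨U, hUc, hUo, hBU, hUv⟩ := PrespectralSpace.exists_isCompact_and_isOpen_between hB
    hv.isOpen_compl (fun y hy hyv => Set.disjoint_iff.mp huv ⟨hy.2, hyv⟩)
  obtain ⟨V, hVc, hVo, hCV, hVu⟩ := PrespectralSpace.exists_isCompact_and_isOpen_between hC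
    hu.isOpen_compl (fun y hy hyu => Set.disjoint_iff.mp huv ⟨hyu, hy.2⟩)
  have hSUV : S ⊆ U ∪ V := by
    intro y hy
    rcases hSuv hy with h | h
    · exact Or.inl (hBU ⟨hy, h⟩)
    · exact Or.inr (hCV ⟨hy, h⟩)
  have hUVS : (U ∩ V) ∩ S = ∅ := by
    ext y
    simp only [Set.mem_inter_iff, Set.mem_empty_iff_false, iff_false, not_and]
    rintro ⟨hyU, hyV⟩ hyS
    rcases hSuv hyS with h | h
    · exact hVu hyV h
    · exact hUv hyU h
  have hUVc : IsCompact (U ∩ V) := QuasiSeparatedSpace.inter_isCompact U V hUo hUc hVo hVc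
  obtain ⟨Z₁, hZ₁, hxZ₁, hZ₁UV⟩ := exists_isClopen_disjoint_of_isCompact x hUVc hUVS
  have hcompl : IsCompact (U ∪ V)ᶜ := (hUo.union hVo).isClosed_compl.isCompact
  have hcomplS : (U ∪ V)ᶜ ∩ S = ∅ := by
    ext y
    simp only [Set.mem_inter_iff, Set.mem_compl_iff, Set.mem_empty_iff_false, iff_false, not_and]
    exact fun h hy => h (hSUV hy)
  obtain ⟨Z₂, hZ₂, hxZ₂, hZ₂UV⟩ := exists_isClopen_disjoint_of_isCompact x hcompl hcomplS
  set Z := Z₁ ∩ Z₂ with hZdef
  have hZ : IsClopen Z := hZ₁.inter hZ₂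
  have hxZ : x ∈ Z := ⟨hxZ₁, hxZ₂⟩
  have hZsub : Z ⊆ U ∪ V := by
    intro y hy
    by_contra hyn
    have : y ∈ (U ∪ V)ᶜ ∩ Z₂ := ⟨hyn, hy.2⟩
    rw [hZ₂UV] at this
    exact this
  have hZdisj : ∀ y, y ∈ Z → y ∈ U → y ∈ V → False := by
    intro y hy hyU hyV
    have : y ∈ (U ∩ V) ∩ Z₁ := ⟨⟨hyU, hyV⟩, hy.1⟩
    rw [hZ₁UV] at this
    exact this
  have hZU : IsClopen (Z ∩ U) := by
    refine ⟨?_, hZ.2.inter hUo⟩
    have : Z ∩ U = Z ∩ Vᶜ := by
      ext y
      constructor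
      · rintro ⟨hy, hyU⟩
        exact ⟨hy, fun hyV => hZdisj y hy hyU hyV⟩
      · rintro ⟨hy, hyV⟩
        rcases hZsub hy with h | h
        · exact ⟨hy, h⟩
        · exact absurd h hyV
    rw [this]
    exact hZ.1.inter hVo.isClosed_compl
  have hZV : IsClopen (Z ∩ V) := by
    refine ⟨?_, hZ.2.inter hVo⟩
    have : Z ∩ V = Z ∩ Uᶜ := by
      ext y
      constructor
      · rintro ⟨hy, hyV⟩
        exact ⟨hy, fun hyU => hZdisj y hy hyU hyV⟩
      · rintro ⟨hy, hyU⟩
        rcases hZsub hy with h | h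
        · exact absurd h hyU
        · exact ⟨hy, h⟩
    rw [this]
    exact hZ.1.inter hUo.isClosed_compl
  rcases hSUV hxS with hxU | hxV
  · left
    intro y hy
    have hyU : y ∈ U := (hSsub _ hZU ⟨hxZ, hxU⟩ hy).2
    rcases hSuv hy with h | h
    · exact h
    · exact absurd h (hUv hyU)
  · right
    intro y hy
    have hyV : y ∈ V := (hSsub _ hZV ⟨hxZ, hxV⟩ hy).2
    rcases hSuv hy with h | h
    · exact absurd h (hVu hyV)
    · exact h

theorem connectedComponent_eq_sInter_isClopen [CompactSpace X] [PrespectralSpace X]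
    [QuasiSeparatedSpace X] (x : X) :
    connectedComponent x = ⋂₀ {Z : Set X | IsClopen Z ∧ x ∈ Z} := by
  apply Set.Subset.antisymm
  · intro y hy
    exact Set.mem_sInter.mpr fun Z hZ => hZ.1.connectedComponent_subset hZ.2 hy
  · exact (isPreconnected_sInter_isClopen x).subset_connectedComponent
      (Set.mem_sInter.mpr fun Z hZ => hZ.2)

end Groth.Agent.Lib.Helper6
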