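import Mathlib

/-!
# A finite free splitting algebra of a monic polynomial
-/

set_option autoImplicit false
set_option linter.unusedSectionVars false
universe u

open Polynomial

namespace Groth.Agent.Lib.Helper6.Spl

theorem adjoinRoot_algebraMap_injective {R : Type u} [CommRing R] (f : R[X]) (hf : f.Monic)
    (hdeg : f.natDegree ≠ 0) : Function.Injective (algebraMap R (AdjoinRoot f)) := by
  rw [injective_iff_map_eq_zero]
  intro r hr
  have hb := (AdjoinRoot.powerBasis' hf).basis
  have hdim : (AdjoinRoot.powerBasis' hf).dim = f.natDegree := rfl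
  let i0 : Fin (AdjoinRoot.powerBasis' hf).dim := ⟨0, by rw [hdim]; omega⟩
  have h1 : (AdjoinRoot.powerBasis' hf).basis i0 = 1 := by
    rw [PowerBasis.coe_basis]
    simp [i0]
  have h2 : r • (AdjoinRoot.powerBasis' hf).basis i0 = 0 := by
    rw [h1, Algebra.smul_def, mul_one]
    exact hr
  have := (AdjoinRoot.powerBasis' hf).basis.linearIndependent
  rw [linearIndependent_iff'] at this
  have h3 := this {i0} (fun _ => r) (by simpa using h2) i0 (Finset.mem_singleton_self _)
  exact h3

/-- Every monic polynomial splits into linear factors over a finite free extension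
with injective structure map. -/
theorem exists_splitting_algebra (n : ℕ) : ∀ (R : Type u) [CommRing R] (f : R[X]), f.Monic →
    f.natDegree = n →
    ∃ (T : Type u) (_ : CommRing T) (_ : Algebra R T), Module.Finite R T ∧ Module.Free R T ∧
      Function.Injective (algebraMap R T) ∧
      ∃ α : Fin n → T, f.map (algebraMap R T) = ∏ i, (X - C (α i)) := by
  induction n with
  | zero =>
    intro R _ f hf hdeg
    refine ⟨R, inferInstance, inferInstance, inferInstance, inferInstance,
      fun _ _ h => h, Fin.elim0, ?_⟩
    have : f = 1 := by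
      have := hf.natDegree_eq_zero.mp hdeg
      exact this
    rw [this]
    simp
  | succ n ih =>
    intro R _ f hf hdeg
    have hdeg0 : f.natDegree ≠ 0 := by omega
    let R₁ := AdjoinRoot f
    have hroot : IsRoot (f.map (AdjoinRoot.of f)) (AdjoinRoot.root f) := AdjoinRoot.isRoot_root f
    set q : R₁[X] := (f.map (AdjoinRoot.of f)) /ₘ (X - C (AdjoinRoot.root f)) with hq
    have hfac : (X - C (AdjoinRoot.root f)) * q = f.map (AdjoinRoot.of f) :=
      mul_divByMonic_eq_iff_isRoot.mpr hroot
    have hfm : (f.map (AdjoinRoot.of f)).Monic := hf.map _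
    have hqm : q.Monic := (monic_X_sub_C _).of_mul_monic_left (hfac ▸ hfm)
    haveI : Nontrivial R := by
      by_contra hnt
      rw [not_nontrivial_iff_subsingleton] at hnt
      have h1 : f = 0 := Subsingleton.elim _ _
      rw [h1, natDegree_zero] at hdeg
      omega
    haveI : Nontrivial R₁ :=
      (adjoinRoot_algebraMap_injective f hf hdeg0).nontrivial
    have hqdeg : q.natDegree = n := by
      have h1 := (monic_X_sub_C (AdjoinRoot.root f)).natDegree_mul hqm
      rw [hfac, hf.natDegree_map, hdeg, natDegree_X_sub_C] at h1
      omega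
    obtain ⟨T, _, _, hfin, hfree, hinj, α, hα⟩ := ih R₁ q hqm hqdeg
    letI : Algebra R T := ((algebraMap R₁ T).comp (algebraMap R R₁)).toAlgebra
    haveI : IsScalarTower R R₁ T := IsScalarTower.of_algebraMap_eq (fun _ => rfl)
    haveI : Module.Finite R R₁ := (AdjoinRoot.powerBasis' hf).finite
    haveI : Module.Free R R₁ := Module.Free.of_basis (AdjoinRoot.powerBasis' hf).basis
    refine ⟨T, inferInstance, inferInstance, Module.Finite.trans R₁ T, Module.Free.trans (S := R₁),
      ?_, Fin.cons (algebraMap R₁ T (AdjoinRoot.root f)) α, ?_⟩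
    · exact hinj.comp (adjoinRoot_algebraMap_injective f hf hdeg0)
    · have h1 : f.map (algebraMap R T) = (f.map (algebraMap R R₁)).map (algebraMap R₁ T) := by
        rw [Polynomial.map_map]; rfl
      rw [h1, AdjoinRoot.algebraMap_eq, ← hfac, Polynomial.map_mul, hα, Fin.prod_univ_succ]
      simp
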