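import Mathlib
import Groth.Agent.Lib.Helper6.Spl1

/-!
# Points of a standard étale algebra and roots in a splitting algebra
-/

set_option autoImplicit false
set_option linter.unusedSectionVars false
universe u

open Polynomial

namespace Groth.Agent.Lib.Helper6.Spl

/-- Core field-theoretic lemma: if `β` is a root of the monic `F` which splits over `M` with roots
`a i`, then some `a i` has the same polynomial relations over `k` as `β`. -/
theorem exists_root_same_relations {k L M : Type u} [Field k] [Field L] [Field M] [Algebra k L]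
    [Algebra k M] (β : L) (F : k[X]) (hF : F.Monic) (hβ : aeval β F = 0) {n : ℕ} (a : Fin n → M)
    (ha : F.map (algebraMap k M) = ∏ i, (X - C (a i))) :
    ∃ i, ∀ r : k[X], aeval β r = 0 ↔ aeval (a i) r = 0 := by
  have hint : IsIntegral k β := ⟨F, hF, hβ⟩
  set μ := minpoly k β with hμ
  have hμF : μ ∣ F := minpoly.dvd k β hβ
  have hsplitF : (F.map (algebraMap k M)).Splits := by
    rw [ha]
    exact Splits.prod (fun i _ => Splits.X_sub_C _)
  have hFne : F.map (algebraMap k M) ≠ 0 := (hF.map _).ne_zero
  have hsplitμ : (μ.map (algebraMap k M)).Splits :=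
    hsplitF.of_dvd hFne (Polynomial.map_dvd _ hμF)
  have hdeg : (μ.map (algebraMap k M)).degree ≠ 0 := by
    rw [degree_map]
    exact (minpoly.degree_pos hint).ne'
  obtain ⟨b, hb⟩ := hsplitμ.exists_eval_eq_zero hdeg
  have hbF : (F.map (algebraMap k M)).eval b = 0 := by
    obtain ⟨c, hc⟩ := Polynomial.map_dvd (algebraMap k M) hμF
    rw [hc, eval_mul, hb, zero_mul]
  rw [ha, eval_prod, Finset.prod_eq_zero_iff] at hbF
  obtain ⟨i, -, hi⟩ := hbF
  rw [eval_sub, eval_X, eval_C, sub_eq_zero] at hi
  subst hi
  refine ⟨i, fun r => ?_⟩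
  have hroot : aeval (a i) μ = 0 := by
    rw [aeval_def, ← eval_map]; exact hb
  have hμ' : μ = minpoly k (a i) :=
    minpoly.eq_of_irreducible_of_monic (minpoly.irreducible hint) hroot (minpoly.monic hint)
  rw [← minpoly.dvd_iff, ← minpoly.dvd_iff, ← hμ']

section Ring

variable {R A T : Type u} [CommRing R] [CommRing A] [CommRing T] [Algebra R A] [Algebra R T]

theorem exists_index_same_prime (P : StandardEtalePresentation R A) {n : ℕ} (α : Fin n → T)
    (hα : P.f.map (algebraMap R T) = ∏ i, (X - C (α i)))
    (Q : Ideal A) [Q.IsPrime] (q : Ideal T) [q.IsPrime]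
    (hq : q.comap (algebraMap R T) = Q.comap (algebraMap R A)) :
    ∃ i, ∀ r : R[X], aeval P.x r ∈ Q ↔ aeval (α i) r ∈ q := by
  set p := Q.comap (algebraMap R A) with hp
  haveI : p.IsPrime := Ideal.comap_isPrime _ _
  let φL : p.ResidueField →ₐ[R] Q.ResidueField :=
    Ideal.ResidueField.mapₐ p Q (Algebra.ofId R A) rfl
  let φM : p.ResidueField →ₐ[R] q.ResidueField :=
    Ideal.ResidueField.mapₐ p q (Algebra.ofId R T) hq.symm
  letI : Algebra p.ResidueField Q.ResidueField := φL.toRingHom.toAlgebra
  letI : Algebra p.ResidueField q.ResidueField := φM.toRingHom.toAlgebra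
  haveI : IsScalarTower R p.ResidueField Q.ResidueField :=
    IsScalarTower.of_algebraMap_eq (fun r => (φL.commutes r).symm)
  haveI : IsScalarTower R p.ResidueField q.ResidueField :=
    IsScalarTower.of_algebraMap_eq (fun r => (φM.commutes r).symm)
  set β : Q.ResidueField := algebraMap A Q.ResidueField P.x with hβ
  set F : p.ResidueField[X] := P.f.map (algebraMap R p.ResidueField) with hF
  have hFm : F.Monic := P.monic_f.map _
  have hβF : aeval β F = 0 := by
    rw [hF, aeval_map_algebraMap, hβ, aeval_algebraMap_apply, P.hasMap.1, map_zero]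
  have ha : F.map (algebraMap p.ResidueField q.ResidueField) =
      ∏ i, (X - C (algebraMap T q.ResidueField (α i))) := by
    rw [hF, Polynomial.map_map, ← IsScalarTower.algebraMap_eq,
      IsScalarTower.algebraMap_eq R T q.ResidueField, ← Polynomial.map_map, hα,
      Polynomial.map_prod]
    simp
  obtain ⟨i, hi⟩ := exists_root_same_relations β F hFm hβF _ ha
  refine ⟨i, fun r => ?_⟩
  have h1 := hi (r.map (algebraMap R p.ResidueField))
  rw [aeval_map_algebraMap, aeval_map_algebraMap, hβ, aeval_algebraMap_apply,
    aeval_algebraMap_apply, Ideal.algebraMap_residueField_eq_zero,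
    Ideal.algebraMap_residueField_eq_zero] at h1
  exact h1

end Ring

end Groth.Agent.Lib.Helper6.Spl
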