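import Mathlib
import Groth.Agent.Lib.Helper6.Spl2

/-!
# Affine form: a standard étale neighbourhood is dominated, Zariski locally, by a finite free cover
-/

set_option autoImplicit false
set_option linter.unusedSectionVars false
universe u

open Polynomial

namespace Groth.Agent.Lib.Helper6.Spl

theorem exists_finite_free_dominating {R A : Type u} [CommRing R] [CommRing A] [Algebra R A]
    (P : StandardEtalePresentation R A) (Q : Ideal A) [Q.IsPrime] :
    ∃ (T : Type u) (_ : CommRing T) (_ : Algebra R T), Module.Finite R T ∧ Module.Free R T ∧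
      Function.Injective (algebraMap R T) ∧
      ∀ (q : Ideal T) [q.IsPrime], q.comap (algebraMap R T) = Q.comap (algebraMap R A) →
        ∃ (b : T) (ψ : A →ₐ[R] Localization.Away b), b ∉ q ∧
          ∀ (q' : Ideal (Localization.Away b)) [q'.IsPrime],
            q'.comap (algebraMap T (Localization.Away b)) = q → q'.comap ψ.toRingHom = Q := by
  obtain ⟨T, _, _, hfin, hfree, hinj, α, hα⟩ :=
    exists_splitting_algebra P.f.natDegree R P.f P.monic_f rfl
  refine ⟨T, inferInstance, inferInstance, hfin, hfree, hinj, fun q hqp hq => ?_⟩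
  obtain ⟨i, hi⟩ := exists_index_same_prime P α hα Q q hq
  have hroot : aeval (α i) P.f = 0 := by
    rw [aeval_def, ← eval_map, hα, eval_prod]
    exact Finset.prod_eq_zero (Finset.mem_univ i) (by simp)
  have hgunit : IsUnit (aeval P.x P.g) := P.hasMap.2
  have hgQ : aeval P.x P.g ∉ Q := fun h => ‹Q.IsPrime›.ne_top (Ideal.eq_top_of_isUnit_mem _ h hgunit)
  set b : T := aeval (α i) P.g with hb
  have hbq : b ∉ q := fun h => hgQ ((hi P.g).mpr h)
  set y : Localization.Away b := algebraMap T (Localization.Away b) (α i) with hy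
  have hy1 : aeval y P.f = 0 := by
    rw [hy, aeval_algebraMap_apply, hroot, map_zero]
  have hy2 : IsUnit (aeval y P.g) := by
    rw [hy, aeval_algebraMap_apply]
    exact IsLocalization.Away.algebraMap_isUnit b
  let ψ : A →ₐ[R] Localization.Away b := (P.lift y ⟨hy1, hy2⟩).comp P.equivRing.toAlgHom
  have hψx : ψ P.x = y := by
    change P.lift y ⟨hy1, hy2⟩ (P.equivRing P.x) = y
    rw [P.equivRing_x, StandardEtalePair.lift_X]
  have hψr : ∀ r : R[X], ψ (aeval P.x r) = algebraMap T (Localization.Away b) (aeval (α i) r) := by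
    intro r
    rw [← aeval_algHom_apply, hψx, hy, aeval_algebraMap_apply]
  refine ⟨b, ψ, hbq, fun q' hq'p hq' => ?_⟩
  ext z
  obtain ⟨r, k, hrk⟩ := P.exists_mul_aeval_x_g_pow_eq_aeval_x z
  have hunit' : IsUnit (ψ (aeval P.x P.g) ^ k) := by
    rw [hψr]
    exact (IsLocalization.Away.algebraMap_isUnit b).pow k
  have h1 : z ∈ Q ↔ aeval P.x r ∈ Q := by
    rw [← hrk]
    constructor
    · intro hz
      exact Ideal.mul_mem_right _ _ hz
    · intro hz
      rcases ‹Q.IsPrime›.mem_or_mem hz with h | h
      · exact h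
      · exact absurd (‹Q.IsPrime›.mem_of_pow_mem _ h) hgQ
  have h2 : ψ z ∈ q' ↔ ψ (aeval P.x r) ∈ q' := by
    rw [← hrk, map_mul, map_pow]
    constructor
    · intro hz
      exact Ideal.mul_mem_right _ _ hz
    · intro hz
      rcases hq'p.mem_or_mem hz with h | h
      · exact h
      · exact absurd (Ideal.eq_top_of_isUnit_mem _ h hunit') hq'p.ne_top
  rw [Ideal.mem_comap]
  change ψ z ∈ q' ↔ z ∈ Q
  rw [h1, h2, hψr, hi r, ← hq', Ideal.mem_comap]

end Groth.Agent.Lib.Helper6.Spl
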