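import Mathlib
import Groth.Agent.Lib.Helper6.Spl3

/-!
# An étale neighbourhood is dominated, Zariski locally, by a finite locally free cover
-/

set_option autoImplicit false
set_option linter.unusedSectionVars false
universe u

open AlgebraicGeometry CategoryTheory

namespace Groth.Agent.Lib.Helper6.Spl

theorem exists_finite_flat_dominating {U S : Scheme.{u}} (e : U ⟶ S) [Etale e] (u : U) :
    ∃ (V : S.Opens) (T : Scheme.{u}) (π : T ⟶ (V : Scheme.{u})), e u ∈ V ∧ IsAffineOpen V ∧
      Surjective π ∧ IsFinite π ∧ Flat π ∧ LocallyOfFinitePresentation π ∧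
      ∀ t : T, V.ι (π t) = e u → ∃ (W : T.Opens) (h : (W : Scheme.{u}) ⟶ U), t ∈ W ∧
        h ≫ e = W.ι ≫ π ≫ V.ι ∧ ∀ ht : t ∈ W, h ⟨t, ht⟩ = u := by
  obtain ⟨_, ⟨V, hV, rfl⟩, hsV, -⟩ :=
    S.isBasis_affineOpens.exists_subset_of_mem_open (Set.mem_univ (e u)) isOpen_univ
  obtain ⟨_, ⟨U₀, hU₀, rfl⟩, huU₀, hU₀V⟩ :=
    U.isBasis_affineOpens.exists_subset_of_mem_open (show u ∈ (e ⁻¹ᵁ V : U.Opens) from hsV)
      (e ⁻¹ᵁ V).2
  have hle : U₀ ≤ e ⁻¹ᵁ V := hU₀V
  letI : Algebra Γ(S, V) Γ(U, U₀) := (e.appLE V U₀ hle).hom.toAlgebra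
  have het : Algebra.Etale Γ(S, V) Γ(U, U₀) :=
    HasRingHomProperty.appLE (P := @Etale) e inferInstance ⟨V, hV⟩ ⟨U₀, hU₀⟩ hle
  set Q := (hU₀.primeIdealOf ⟨u, huU₀⟩).asIdeal with hQ
  obtain ⟨a, haQ, hstd⟩ := Algebra.IsEtaleAt.exists_isStandardEtale (R := Γ(S, V)) Q
  obtain ⟨P⟩ := hstd.nonempty_standardEtalePresentation
  have hdisj : Disjoint (Submonoid.powers a : Set Γ(U, U₀)) (Q : Set Γ(U, U₀)) :=
    (Ideal.disjoint_powers_iff_notMem_of_isPrime a).mpr haQ
  haveI hQ'prime : (Q.map (algebraMap Γ(U, U₀) (Localization.Away a))).IsPrime :=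
    IsLocalization.isPrime_of_isPrime_disjoint (.powers a) _ _ inferInstance hdisj
  have hQ'comap : (Q.map (algebraMap Γ(U, U₀) (Localization.Away a))).comap
      (algebraMap Γ(U, U₀) (Localization.Away a)) = Q :=
    IsLocalization.under_map_of_isPrime_disjoint (.powers a) _ inferInstance hdisj
  obtain ⟨T₀, _, _, hfin, hfree, hinj, hT⟩ :=
    exists_finite_free_dominating P (Q.map (algebraMap Γ(U, U₀) (Localization.Away a)))
  -- the schemes
  let φT : Γ(S, V) ⟶ CommRingCat.of T₀ := CommRingCat.ofHom (algebraMap Γ(S, V) T₀)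
  let π : Spec (CommRingCat.of T₀) ⟶ (V : Scheme.{u}) := Spec.map φT ≫ hV.isoSpec.inv
  have hπι : π ≫ Scheme.Opens.ι (X := S) V = Spec.map φT ≫ hV.fromSpec := by
    change (Spec.map φT ≫ hV.isoSpec.inv) ≫ Scheme.Opens.ι (X := S) V = _
    rw [Category.assoc, hV.isoSpec_inv_ι]
  haveI hint : Algebra.IsIntegral Γ(S, V) T₀ := Algebra.IsIntegral.of_finite _ _
  haveI h1 : Surjective (Spec.map φT) := by
    refine ⟨?_⟩
    have : FaithfulSMul Γ(S, V) T₀ := (faithfulSMul_iff_algebraMap_injective _ _).mpr hinj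
    exact Algebra.IsIntegral.comap_surjective Γ(S, V) T₀
  haveI h2 : IsFinite (Spec.map φT) := by
    rw [IsFinite.SpecMap_iff]
    exact RingHom.finite_algebraMap.mpr hfin
  haveI h3 : Flat (Spec.map φT) := by
    rw [Flat.SpecMap_iff]
    exact RingHom.flat_algebraMap_iff.mpr inferInstance
  haveI h4 : LocallyOfFinitePresentation (Spec.map φT) := by
    rw [LocallyOfFinitePresentation.SpecMap_iff]
    haveI : Module.FinitePresentation Γ(S, V) T₀ := Module.finitePresentation_of_projective _ _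
    have : Algebra.FinitePresentation Γ(S, V) T₀ := inferInstance
    exact RingHom.finitePresentation_algebraMap.mpr this
  -- the étale chart as a scheme
  let j : Spec (CommRingCat.of (Localization.Away a)) ⟶ U :=
    Spec.map (CommRingCat.ofHom (algebraMap Γ(U, U₀) (Localization.Away a))) ≫ hU₀.fromSpec
  let u' : Spec (CommRingCat.of (Localization.Away a)) :=
    ⟨Q.map (algebraMap Γ(U, U₀) (Localization.Away a)), hQ'prime⟩
  have hju' : j u' = u := by
    change hU₀.fromSpec (Spec.map (CommRingCat.ofHom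
      (algebraMap Γ(U, U₀) (Localization.Away a))) u') = u
    have : Spec.map (CommRingCat.ofHom (algebraMap Γ(U, U₀) (Localization.Away a))) u' =
        hU₀.primeIdealOf ⟨u, huU₀⟩ := PrimeSpectrum.ext hQ'comap
    rw [this, hU₀.fromSpec_primeIdealOf]
  have hje : j ≫ e = Spec.map (CommRingCat.ofHom (algebraMap Γ(S, V) (Localization.Away a))) ≫
      hV.fromSpec := by
    change (Spec.map _ ≫ hU₀.fromSpec) ≫ e = _
    rw [Category.assoc, ← IsAffineOpen.SpecMap_appLE_fromSpec e hV hU₀ hle, ← Spec.map_comp_assoc]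
    rfl
  refine ⟨V, Spec (CommRingCat.of T₀), π, hsV, hV, inferInstance, inferInstance, inferInstance,
    inferInstance, fun t ht => ?_⟩
  -- the prime of `t` lies over the prime of `u'`
  have hpt : Spec.map φT t = Spec.map (CommRingCat.ofHom
      (algebraMap Γ(S, V) (Localization.Away a))) u' := by
    apply hV.fromSpec.isOpenEmbedding.injective
    have e1 : hV.fromSpec (Spec.map φT t) = e u := by
      have := congrArg (fun ψ : Spec (CommRingCat.of T₀) ⟶ S => ψ t) hπι
      exact this.symm.trans ht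
    have e2 : hV.fromSpec (Spec.map (CommRingCat.ofHom
        (algebraMap Γ(S, V) (Localization.Away a))) u') = e u := by
      have := congrArg (fun ψ : Spec (CommRingCat.of (Localization.Away a)) ⟶ S => ψ u') hje
      rw [← hju']
      exact this.symm
    exact e1.trans e2.symm
  have hq : t.asIdeal.comap (algebraMap Γ(S, V) T₀) =
      (Q.map (algebraMap Γ(U, U₀) (Localization.Away a))).comap
        (algebraMap Γ(S, V) (Localization.Away a)) :=
    congrArg PrimeSpectrum.asIdeal hpt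
  obtain ⟨b, ψ, hbt, hψ⟩ := @hT t.asIdeal t.2 hq
  let W : (Spec (CommRingCat.of T₀)).Opens := PrimeSpectrum.basicOpen (R := T₀) b
  let iso := basicOpenIsoSpecAway (R := CommRingCat.of T₀) b
  let h : (W : Scheme.{u}) ⟶ U := iso.hom ≫ Spec.map (CommRingCat.ofHom ψ.toRingHom) ≫ j
  have hisoι : iso.hom ≫ Spec.map (CommRingCat.ofHom
      (algebraMap T₀ (Localization.Away b))) = W.ι :=
    basicOpenIsoSpecAway_hom_SpecMap (R := CommRingCat.of T₀) b
  refine ⟨W, h, hbt, ?_, fun htW => ?_⟩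
  · change (iso.hom ≫ Spec.map (CommRingCat.ofHom ψ.toRingHom) ≫ j) ≫ e = _
    rw [Category.assoc, Category.assoc, hje, ← Spec.map_comp_assoc, hπι, ← hisoι, Category.assoc,
      ← Spec.map_comp_assoc]
    have key : CommRingCat.ofHom (algebraMap (↑Γ(S, V)) (Localization.Away a)) ≫
        CommRingCat.ofHom ψ.toRingHom =
        φT ≫ CommRingCat.ofHom (algebraMap T₀ (Localization.Away b)) := by
      ext x
      change ψ (algebraMap Γ(S, V) (Localization.Away a) x) =
        algebraMap T₀ (Localization.Away b) (algebraMap Γ(S, V) T₀ x)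
      rw [ψ.commutes, ← IsScalarTower.algebraMap_apply]
    rw [key]
  · set t' := iso.hom ⟨t, htW⟩ with ht'
    have e1 : Spec.map (CommRingCat.ofHom (algebraMap T₀ (Localization.Away b))) t' = t := by
      have := congrArg (fun ψ : (W : Scheme.{u}) ⟶ Spec (CommRingCat.of T₀) => ψ ⟨t, htW⟩) hisoι
      exact this
    have e2 : t'.asIdeal.comap (algebraMap T₀ (Localization.Away b)) = t.asIdeal :=
      congrArg PrimeSpectrum.asIdeal e1
    have e3 := @hψ t'.asIdeal t'.2 e2
    have e4 : Spec.map (CommRingCat.ofHom ψ.toRingHom) t' = u' := PrimeSpectrum.ext e3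
    change j (Spec.map (CommRingCat.ofHom ψ.toRingHom) t') = u
    rw [e4, hju']

end Groth.Agent.Lib.Helper6.Spl
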