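import Groth.Agent.Lib.Helper6.UnivHomeoExplicit

set_option autoImplicit false
universe u

open CategoryTheory AlgebraicGeometry Limits TensorProduct Polynomial

namespace Groth.Agent.Lib.Helper6.SqCube

/-- If all sufficiently high powers of `b ∉ S` lie in the subring `S`, then some element `b' ∉ S`
has `b'^2, b'^3 ∈ S`. -/
theorem exists_sq_cube_of_pow_mem {B : Type*} [CommRing B] (S : Subring B) (b : B) (hb : b ∉ S)
    (N : ℕ) (hN : ∀ m, N ≤ m → b ^ m ∈ S) :
    ∃ b' : B, b' ∉ S ∧ b' ^ 2 ∈ S ∧ b' ^ 3 ∈ S := by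
  classical
  have hN1 : 1 ≤ N := by
    by_contra h
    apply hb
    have := hN 1 (by omega)
    simpa using this
  have hP1 : (fun m => b ^ m ∉ S) 1 := by simpa using hb
  have hk := Nat.findGreatest_spec (P := fun m => b ^ m ∉ S) hN1 hP1
  have hk1 : 1 ≤ Nat.findGreatest (fun m => b ^ m ∉ S) N := Nat.le_findGreatest hN1 hP1
  set k := Nat.findGreatest (fun m => b ^ m ∉ S) N with hkdef
  have hgt : ∀ m, k < m → b ^ m ∈ S := by
    intro m hm
    by_cases hmN : m ≤ N
    · by_contra hcon
      exact Nat.findGreatest_is_greatest hm hmN hcon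
    · exact hN m (by omega)
  refine ⟨b ^ k, hk, ?_, ?_⟩
  · rw [← pow_mul]; exact hgt _ (by omega)
  · rw [← pow_mul]; exact hgt _ (by omega)

section Core

variable {A B : Type u} [CommRing A] [CommRing B] [Algebra A B]

/-- The conductor-like ideal of all `a : A` with `a • B ⊆ A`. -/
noncomputable def cond (A B : Type u) [CommRing A] [CommRing B] [Algebra A B] : Ideal A :=
  (LinearMap.range (Algebra.linearMap A B)).colon (Set.univ : Set B)

theorem mem_cond {a : A} : a ∈ cond A B ↔ ∀ c : B, a • c ∈ (algebraMap A B).range := by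
  unfold cond
  rw [Submodule.mem_colon]
  constructor
  · intro h c
    obtain ⟨x, hx⟩ := h c (Set.mem_univ c)
    exact ⟨x, hx⟩
  · intro h c _
    obtain ⟨x, hx⟩ := h c
    exact ⟨x, hx⟩

theorem cond_ne_top (hne : ¬ Function.Surjective (algebraMap A B)) : cond A B ≠ ⊤ := by
  intro h
  apply hne
  intro b
  have : (1 : A) ∈ cond A B := by rw [h]; trivial
  have := mem_cond.mp this b
  rw [one_smul] at this
  exact this

theorem mul_mem_range_of_mem_map_cond {x : B} (hx : x ∈ (cond A B).map (algebraMap A B)) :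
    ∀ c : B, c * x ∈ (algebraMap A B).range := by
  refine Submodule.span_induction ?_ ?_ ?_ ?_ hx
  · rintro _ ⟨a, ha, rfl⟩ c
    have := mem_cond.mp ha c
    rwa [Algebra.smul_def, mul_comm] at this
  · intro c
    rw [mul_zero]
    exact Subring.zero_mem _
  · intro x y _ _ hx hy c
    rw [mul_add]
    exact Subring.add_mem _ (hx c) (hy c)
  · intro c' x _ h c
    rw [smul_eq_mul, ← mul_assoc]
    exact h (c * c')

theorem mem_range_of_mem_map_cond {x : B} (hx : x ∈ (cond A B).map (algebraMap A B)) :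
    x ∈ (algebraMap A B).range := by
  have := mul_mem_range_of_mem_map_cond hx 1
  rwa [one_mul] at this

/-- Core dichotomy: for a finite, non-surjective ring map `A → B` which is bijective on spectra,
there is a prime `𝔮` of `B` over a prime `𝔭` of `A` such that either the square-cube element exists,
or `𝔮` is "locally contained in `A`" while `B` is not. -/
theorem core [Module.Finite A B] (hne : ¬ Function.Surjective (algebraMap A B))
    (hinj : Function.Injective (PrimeSpectrum.comap (algebraMap A B)))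
    (hsurj : Function.Surjective (PrimeSpectrum.comap (algebraMap A B))) :
    ∃ (𝔮 : PrimeSpectrum B),
      (∃ c : B, ∀ t : A, algebraMap A B t ∉ 𝔮.asIdeal → t • c ∉ (algebraMap A B).range) ∧
      ((∃ b' : B, b' ∉ (algebraMap A B).range ∧ b' ^ 2 ∈ (algebraMap A B).range ∧
          b' ^ 3 ∈ (algebraMap A B).range) ∨
        (∀ f ∈ 𝔮.asIdeal, ∃ s : A, algebraMap A B s ∉ 𝔮.asIdeal ∧
          s • f ∈ (algebraMap A B).range)) := by
  classical
  obtain ⟨⟨𝔭, h𝔭⟩⟩ := Ideal.nonempty_minimalPrimes (cond_ne_top hne)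
  have h𝔭prime : 𝔭.IsPrime := h𝔭.1.1
  obtain ⟨𝔮, h𝔮⟩ := hsurj ⟨𝔭, h𝔭prime⟩
  have h𝔮' : ∀ a : A, algebraMap A B a ∈ 𝔮.asIdeal ↔ a ∈ 𝔭 := by
    intro a
    have := congrArg (fun z : PrimeSpectrum A => a ∈ z.asIdeal) h𝔮
    exact iff_of_eq this
  refine ⟨𝔮, ?_, ?_⟩
  · -- not all of B is locally in A
    by_contra hcon
    push Not at hcon
    obtain ⟨G, hG⟩ := (Module.Finite.fg_top (R := A) (M := B))
    choose t ht1 ht2 using hcon
    set T : A := ∏ g ∈ G, t g with hT
    have hTG : ∀ g ∈ G, T • g ∈ (algebraMap A B).range := by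
      intro g hg
      have : T = (∏ g' ∈ G.erase g, t g') * t g := by
        rw [hT, ← Finset.prod_erase_mul G t hg]
      rw [this, mul_smul]
      obtain ⟨x, hx⟩ := ht2 g
      rw [← hx, Algebra.smul_def, ← map_mul]
      exact ⟨_, rfl⟩
    have hTall : ∀ c : B, T • c ∈ (algebraMap A B).range := by
      intro c
      have hc : c ∈ Submodule.span A (G : Set B) := by rw [hG]; trivial
      refine Submodule.span_induction ?_ ?_ ?_ ?_ hc
      · intro g hg
        exact hTG g hg
      · rw [smul_zero]; exact Subring.zero_mem _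
      · intro x y _ _ hx hy
        rw [smul_add]; exact Subring.add_mem _ hx hy
      · intro a x _ hx
        rw [smul_comm]
        obtain ⟨z, hz⟩ := hx
        rw [← hz, Algebra.smul_def, ← map_mul]
        exact ⟨_, rfl⟩
    have hTI : T ∈ cond A B := mem_cond.mpr hTall
    have hT𝔭 : T ∈ 𝔭 := h𝔭.1.2 hTI
    rw [hT] at hT𝔭
    obtain ⟨g, _, hg⟩ := (h𝔭prime.prod_mem_iff).mp hT𝔭
    exact ht1 g ((h𝔮' _).mpr hg)
  · by_cases hex : ∃ b' : B, b' ∉ (algebraMap A B).range ∧ b' ^ 2 ∈ (algebraMap A B).range ∧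
        b' ^ 3 ∈ (algebraMap A B).range
    · exact Or.inl hex
    · right
      intro f hf
      -- the multiplicative set generated by `A \ 𝔭` and `f`
      set T : Submonoid B := Submonoid.map (algebraMap A B) 𝔭.primeCompl ⊔ Submonoid.powers f
        with hT
      have hnd : ¬ Disjoint (((cond A B).map (algebraMap A B) : Ideal B) : Set B) (T : Set B) := by
        intro hdisj
        obtain ⟨𝔮', h𝔮'prime, hle, hdisj'⟩ := Ideal.exists_le_prime_disjoint _ T hdisj
        have h1 : cond A B ≤ 𝔮'.comap (algebraMap A B) := Ideal.map_le_iff_le_comap.mp hle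
        have h2 : 𝔮'.comap (algebraMap A B) ≤ 𝔭 := by
          intro a ha
          by_contra hna
          have hmemT : algebraMap A B a ∈ T := by
            rw [hT]
            exact Submonoid.mem_sup_left ⟨a, hna, rfl⟩
          exact Set.disjoint_left.mp hdisj' ha hmemT
        have h3 : 𝔭 ≤ 𝔮'.comap (algebraMap A B) :=
          h𝔭.2 ⟨inferInstance, h1⟩ h2
        have h4 : PrimeSpectrum.comap (algebraMap A B) ⟨𝔮', h𝔮'prime⟩ =
            PrimeSpectrum.comap (algebraMap A B) 𝔮 := by
          rw [h𝔮]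
          ext1
          exact le_antisymm h2 h3
        have h5 := hinj h4
        have hf' : f ∈ 𝔮' := by
          have := congrArg (fun z : PrimeSpectrum B => f ∈ z.asIdeal) h5
          exact (iff_of_eq this).mpr hf
        have hfT : f ∈ T := by
          rw [hT]
          exact Submonoid.mem_sup_right (Submonoid.mem_powers f)
        exact Set.disjoint_left.mp hdisj' hf' hfT
      rw [Set.not_disjoint_iff] at hnd
      obtain ⟨x, hxJ, hxT⟩ := hnd
      rw [hT] at hxT
      obtain ⟨y, ⟨s, hs, rfl⟩, z, ⟨n, rfl⟩, hyz⟩ := Submonoid.mem_sup.mp hxT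
      refine ⟨s, fun h => hs ((h𝔮' s).mp h), ?_⟩
      by_contra hsf
      apply hex
      apply exists_sq_cube_of_pow_mem (algebraMap A B).range (s • f) hsf (n + 1)
      intro m hm
      obtain ⟨k, rfl⟩ := Nat.exists_eq_add_of_le hm
      have hyz' : algebraMap A B s * f ^ n = x := hyz
      have : (s • f) ^ (n + 1 + k) = algebraMap A B (s ^ (n + k)) * (f ^ (k + 1) * x) := by
        rw [← hyz', Algebra.smul_def, mul_pow, map_pow]
        ring
      rw [this]
      apply Subring.mul_mem _ (RingHom.mem_range_self _ _)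
      exact mul_mem_range_of_mem_map_cond hxJ _

open Groth.Agent.Lib.Helper6.UnivHomeoRing in
/-- Finite case of the square-cube lemma. -/
theorem exists_sq_cube_of_finite [Module.Finite A B]
    (hne : ¬ Function.Surjective (algebraMap A B))
    (hinj : Function.Injective (PrimeSpectrum.comap (algebraMap A B)))
    (hsurj : Function.Surjective (PrimeSpectrum.comap (algebraMap A B)))
    (htriv : TrivRF A B) :
    ∃ b' : B, b' ∉ (algebraMap A B).range ∧ b' ^ 2 ∈ (algebraMap A B).range ∧
      b' ^ 3 ∈ (algebraMap A B).range := by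
  obtain ⟨𝔮, ⟨c, hc⟩, h | h⟩ := core hne hinj hsurj
  · exact h
  · exfalso
    obtain ⟨s, a, hs, hsa⟩ := htriv 𝔮 c
    obtain ⟨s', hs', hs'f⟩ := h _ hsa
    apply hc (s' * s)
    · rw [map_mul]
      exact fun hmem => (𝔮.2.mem_or_mem hmem).elim hs' hs
    · have : (s' * s) • c = s' • (algebraMap A B s * c - algebraMap A B a) +
          algebraMap A B (s' * a) := by
        simp only [Algebra.smul_def, map_mul]
        ring
      rw [this]
      exact Subring.add_mem _ hs'f (RingHom.mem_range_self _ _)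

theorem comap_injective_of_isUnivHomeo
    (h : FlatMor.IsUnivHomeo (Spec.map (CommRingCat.ofHom (algebraMap A B)))) :
    Function.Injective (PrimeSpectrum.comap (algebraMap A B)) := by
  rw [Groth.Agent.Lib.Helper12.isUnivHomeo_iff] at h
  obtain ⟨-, h2, -⟩ := h
  exact (Spec.map (CommRingCat.ofHom (algebraMap A B))).injective

theorem finite_adjoin_singleton (b : B) (hb : IsIntegral A b) :
    Module.Finite A (Algebra.adjoin A {b}) :=
  Module.Finite.iff_fg.mpr hb.fg_adjoin_singleton

open Groth.Agent.Lib.Helper6.UnivHomeoRing in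
/-- The square-cube lemma: a proper extension which is a universal homeomorphism with trivial
residue field extensions contains an element `b ∉ A` with `b^2, b^3 ∈ A`. -/
theorem exists_sq_cube
    (hne : ¬ Function.Surjective (algebraMap A B))
    (hU : FlatMor.IsUnivHomeo (Spec.map (CommRingCat.ofHom (algebraMap A B))))
    (htriv : TrivRF A B) :
    ∃ b' : B, b' ∉ (algebraMap A B).range ∧ b' ^ 2 ∈ (algebraMap A B).range ∧
      b' ^ 3 ∈ (algebraMap A B).range := by
  have hne' : ∃ b₀ : B, b₀ ∉ (algebraMap A B).range := by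
    by_contra hcon
    push Not at hcon
    exact hne hcon
  obtain ⟨b₀, hb₀⟩ := hne'
  have hint : (algebraMap A B).IsIntegral := ((isUnivHomeo_SpecMap_iff _).mp hU).1
  set B' := Algebra.adjoin A {b₀} with hB'
  have : Module.Finite A B' := finite_adjoin_singleton b₀ (hint b₀)
  have hU' := isUnivHomeo_subalgebra B' hU
  have hsurj' : Function.Surjective (PrimeSpectrum.comap (algebraMap A B')) :=
    ((isUnivHomeo_SpecMap_iff _).mp hU').2.2
  have htriv' : TrivRF A B' := by
    rw [trivRF_iff]
    apply residueFieldMap_surjective_subalgebra B'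
      ((universallyClosed_SpecMap_iff _).mpr hint)
    exact (trivRF_iff A B).mp htriv
  have hne'' : ¬ Function.Surjective (algebraMap A B') := by
    intro hs
    obtain ⟨a, ha⟩ := hs ⟨b₀, Algebra.subset_adjoin rfl⟩
    apply hb₀
    exact ⟨a, congrArg Subtype.val ha⟩
  obtain ⟨b', h1, h2, h3⟩ := exists_sq_cube_of_finite hne''
    (comap_injective_of_isUnivHomeo hU') hsurj' htriv'
  refine ⟨(b' : B), ?_, ?_, ?_⟩
  · rintro ⟨a, ha⟩
    exact h1 ⟨a, Subtype.ext ha⟩
  · obtain ⟨a, ha⟩ := h2
    exact ⟨a, by rw [← Subalgebra.coe_pow, ← ha]; rfl⟩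
  · obtain ⟨a, ha⟩ := h3
    exact ⟨a, by rw [← Subalgebra.coe_pow, ← ha]; rfl⟩

end Core

end Groth.Agent.Lib.Helper6.SqCube
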