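import Groth.Agent.Lib.Helper6.SqCube
import Groth.Agent.Lib.Helper6.FTPoints

set_option autoImplicit false
universe u

open CategoryTheory AlgebraicGeometry Limits TensorProduct Polynomial

namespace Groth.Agent.Lib.Helper6.SqCube

section CoreP

variable {A B : Type u} [CommRing A] [CommRing B] [Algebra A B]

/-- Finite case of the dichotomy for universal homeomorphisms. -/
theorem exists_sq_cube_or_p_of_finite [Module.Finite A B]
    (hne : ¬ Function.Surjective (algebraMap A B))
    (hinj : Function.Injective (PrimeSpectrum.comap (algebraMap A B)))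
    (hsurj : Function.Surjective (PrimeSpectrum.comap (algebraMap A B)))
    (hcrit : ∀ (K : Type u) [Field K] (σ τ : B →+* K),
      σ.comp (algebraMap A B) = τ.comp (algebraMap A B) → σ = τ) :
    (∃ b' : B, b' ∉ (algebraMap A B).range ∧ b' ^ 2 ∈ (algebraMap A B).range ∧
      b' ^ 3 ∈ (algebraMap A B).range) ∨
    ∃ (p : ℕ) (b : B), p.Prime ∧ b ∉ (algebraMap A B).range ∧
      (p : B) * b ∈ (algebraMap A B).range ∧ b ^ p ∈ (algebraMap A B).range := by
  classical
  obtain ⟨𝔮, ⟨c, hc⟩, h | h⟩ := core hne hinj hsurj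
  · exact Or.inl h
  right
  have : 𝔮.asIdeal.IsPrime := 𝔮.2
  set 𝔭 : Ideal A := 𝔮.asIdeal.comap (algebraMap A B) with h𝔭
  have : 𝔭.IsPrime := Ideal.comap_isPrime _ _
  have hmem𝔭 : ∀ a : A, a ∈ 𝔭 ↔ algebraMap A B a ∈ 𝔮.asIdeal := fun a => Iff.rfl
  let k := 𝔭.ResidueField
  let k' := 𝔮.asIdeal.ResidueField
  let ι : k →+* k' := Ideal.ResidueField.map 𝔭 𝔮.asIdeal (algebraMap A B) rfl
  have hι : ∀ a : A, ι (algebraMap A k a) = algebraMap B k' (algebraMap A B a) := fun a =>
    Ideal.ResidueField.map_algebraMap 𝔭 𝔮.asIdeal (algebraMap A B) rfl a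
  let _ : Algebra k k' := ι.toAlgebra
  have hPI : IsPurelyInseparable k k' := by
    have : Nonempty (k' →+* AlgebraicClosure k') := ⟨algebraMap k' (AlgebraicClosure k')⟩
    apply IsPurelyInseparable.of_injective_comp_algebraMap k k' (AlgebraicClosure k')
    intro f g hfg
    apply Ideal.ResidueField.ringHom_ext
    apply hcrit (AlgebraicClosure k')
    ext a
    have := congrArg (fun z => z (algebraMap A k a)) hfg
    simp only [RingHom.comp_apply] at this ⊢
    rw [← hι]
    exact this
  -- Claim Y: elements locally in `A` have residue class in `k`.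
  have claimY : ∀ (d : B) (t : A), algebraMap A B t ∉ 𝔮.asIdeal →
      t • d ∈ (algebraMap A B).range → algebraMap B k' d ∈ ι.range := by
    intro d t ht ⟨a, ha⟩
    have ht0 : algebraMap A k t ≠ 0 := by
      rw [Ne, Ideal.algebraMap_residueField_eq_zero]
      exact ht
    refine ⟨algebraMap A k a / algebraMap A k t, ?_⟩
    have hbt0 : algebraMap B k' (algebraMap A B t) ≠ 0 := by
      rw [Ne, Ideal.algebraMap_residueField_eq_zero]
      exact ht
    rw [map_div₀, hι, hι, ha, Algebra.smul_def, map_mul, mul_div_cancel_left₀ _ hbt0]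
  -- Claim X: elements with residue class in `k` are locally in `A`.
  have claimX : ∀ d : B, algebraMap B k' d ∈ ι.range →
      ∃ t : A, algebraMap A B t ∉ 𝔮.asIdeal ∧ t • d ∈ (algebraMap A B).range := by
    rintro d ⟨z, hz⟩
    obtain ⟨s, hs, a, hsa⟩ := Groth.Agent.Lib.Helper6.exists_denominator 𝔭 z
    have h1 : d * algebraMap A B s - algebraMap A B a ∈ 𝔮.asIdeal := by
      rw [← Ideal.algebraMap_residueField_eq_zero, map_sub, map_mul, ← hz, ← hι, ← hι, ← map_mul,
        hsa, sub_self]
    obtain ⟨s', hs', hs'f⟩ := h _ h1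
    refine ⟨s' * s, ?_, ?_⟩
    · rw [map_mul]
      exact fun hmem => (𝔮.2.mem_or_mem hmem).elim hs' hs
    · have : (s' * s) • d = s' • (d * algebraMap A B s - algebraMap A B a) +
          algebraMap A B (s' * a) := by
        simp only [Algebra.smul_def, map_mul]
        ring
      rw [this]
      exact Subring.add_mem _ hs'f (RingHom.mem_range_self _ _)
  have hcbar : algebraMap B k' c ∉ ι.range := by
    intro hmem
    obtain ⟨t, ht, htc⟩ := claimX c hmem
    exact hc t ht htc
  obtain ⟨q, hq⟩ := ExpChar.exists k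
  have hpow := IsPurelyInseparable.pow_mem k q (algebraMap B k' c)
  have hn0 : Nat.find hpow ≠ 0 := by
    intro h0
    have := Nat.find_spec hpow
    rw [h0, pow_zero, pow_one] at this
    exact hcbar this
  obtain ⟨m, hm⟩ := Nat.exists_eq_succ_of_ne_zero hn0
  have hm1 : (algebraMap B k' c) ^ q ^ (m + 1) ∈ (algebraMap k k').range := by
    rw [← Nat.succ_eq_add_one, ← hm]
    exact Nat.find_spec hpow
  have hm0 : (algebraMap B k' c) ^ q ^ m ∉ (algebraMap k k').range :=
    Nat.find_min hpow (by omega)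
  set c₁ : B := c ^ q ^ m with hc₁
  have hc₁bar : algebraMap B k' c₁ ∉ ι.range := by
    rw [hc₁, map_pow]; exact hm0
  have hc₁q : algebraMap B k' (c₁ ^ q) ∈ ι.range := by
    rw [hc₁, ← pow_mul, ← pow_succ, map_pow]; exact hm1
  cases hq with
  | zero =>
    exfalso
    apply hc₁bar
    rwa [pow_one] at hc₁q
  | prime hprime =>
    rename_i hchar
    have hq𝔭 : ((q : ℕ) : A) ∈ 𝔭 := by
      rw [← Ideal.algebraMap_residueField_eq_zero (I := 𝔭), map_natCast]
      exact CharP.cast_eq_zero k q
    have hqc : (q : B) * c₁ ∈ 𝔮.asIdeal := by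
      apply Ideal.mul_mem_right
      have := (hmem𝔭 _).mp hq𝔭
      rwa [map_natCast] at this
    obtain ⟨v, hv, hvq⟩ := h _ hqc
    obtain ⟨u, hu, huq⟩ := claimX _ hc₁q
    refine ⟨q, (u * v) • c₁, hprime, ?_, ?_, ?_⟩
    · intro hmem
      apply hc₁bar
      apply claimY c₁ (u * v) _ hmem
      rw [map_mul]
      exact fun hmem => (𝔮.2.mem_or_mem hmem).elim hu hv
    · have : (q : B) * (u * v) • c₁ = algebraMap A B u * v • ((q : B) * c₁) := by
        simp only [Algebra.smul_def, map_mul]
        ring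
      rw [this]
      exact Subring.mul_mem _ (RingHom.mem_range_self _ _) hvq
    · have hq1 : q = (q - 1) + 1 := by have := hprime.pos; omega
      have : ((u * v) • c₁) ^ q = algebraMap A B (u ^ (q - 1) * v ^ q) * u • c₁ ^ q := by
        simp only [Algebra.smul_def, map_mul, map_pow, mul_pow]
        conv_lhs => rw [hq1, pow_succ (algebraMap A B u)]
        rw [← hq1]
        ring
      rw [this]
      exact Subring.mul_mem _ (RingHom.mem_range_self _ _) huq

open Groth.Agent.Lib.Helper6.UnivHomeoRing in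
/-- A proper extension inducing a universal homeomorphism contains an element `b ∉ A` with
`b^2, b^3 ∈ A`, or with `p b, b^p ∈ A` for some prime number `p`. -/
theorem exists_sq_cube_or_p
    (hne : ¬ Function.Surjective (algebraMap A B))
    (hU : FlatMor.IsUnivHomeo (Spec.map (CommRingCat.ofHom (algebraMap A B)))) :
    (∃ b' : B, b' ∉ (algebraMap A B).range ∧ b' ^ 2 ∈ (algebraMap A B).range ∧
      b' ^ 3 ∈ (algebraMap A B).range) ∨
    ∃ (p : ℕ) (b : B), p.Prime ∧ b ∉ (algebraMap A B).range ∧
      (p : B) * b ∈ (algebraMap A B).range ∧ b ^ p ∈ (algebraMap A B).range := by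
  have hne' : ∃ b₀ : B, b₀ ∉ (algebraMap A B).range := by
    by_contra hcon
    push Not at hcon
    exact hne hcon
  obtain ⟨b₀, hb₀⟩ := hne'
  have hint : (algebraMap A B).IsIntegral := ((isUnivHomeo_SpecMap_iff _).mp hU).1
  set B' := Algebra.adjoin A {b₀} with hB'
  have : Module.Finite A B' := finite_adjoin_singleton b₀ (hint b₀)
  have hU' := isUnivHomeo_subalgebra B' hU
  have hsurj' : Function.Surjective (PrimeSpectrum.comap (algebraMap A B')) :=
    ((isUnivHomeo_SpecMap_iff _).mp hU').2.2
  have hcrit' := ((isUnivHomeo_SpecMap_iff _).mp hU').2.1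
  have hne'' : ¬ Function.Surjective (algebraMap A B') := by
    intro hs
    obtain ⟨a, ha⟩ := hs ⟨b₀, Algebra.subset_adjoin rfl⟩
    apply hb₀
    exact ⟨a, congrArg Subtype.val ha⟩
  have hmem : ∀ x : B', x ∈ (algebraMap A B').range ↔ (x : B) ∈ (algebraMap A B).range := by
    intro x
    constructor
    · rintro ⟨a, ha⟩
      exact ⟨a, congrArg Subtype.val ha⟩
    · rintro ⟨a, ha⟩
      exact ⟨a, Subtype.ext ha⟩
  rcases exists_sq_cube_or_p_of_finite hne''
    (comap_injective_of_isUnivHomeo hU') hsurj' hcrit' with ⟨b', h1, h2, h3⟩ | ⟨p, b, hp, h1, h2, h3⟩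
  · left
    refine ⟨(b' : B), fun h => h1 ((hmem _).mpr h), ?_, ?_⟩
    · exact (hmem _).mp h2
    · exact (hmem _).mp h3
  · right
    refine ⟨p, (b : B), hp, fun h => h1 ((hmem _).mpr h), ?_, ?_⟩
    · have := (hmem _).mp h2
      simpa using this
    · exact (hmem _).mp h3

end CoreP

end Groth.Agent.Lib.Helper6.SqCube
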