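import Mathlib
import Groth.Agent.Lib.Helper12.UnivHomeo

set_option autoImplicit false
universe u

open CategoryTheory AlgebraicGeometry Limits

namespace Groth.Agent.Lib.Helper6.SteinUH

/-- The spectrum of a connected integral algebra over a field is a single point. -/
theorem subsingleton_primeSpectrum_of_isIntegral {K C : Type u} [Field K] [CommRing C]
    [Algebra K C] [Algebra.IsIntegral K C] [PreconnectedSpace (PrimeSpectrum C)] :
    Subsingleton (PrimeSpectrum C) := by
  constructor
  intro P Q
  by_contra hPQ
  have hmax : ∀ P : PrimeSpectrum C, P.asIdeal.IsMaximal := by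
    intro P
    apply Ideal.isMaximal_of_isIntegral_of_isMaximal_comap (R := K)
    have : (P.asIdeal.comap (algebraMap K C)) = ⊥ := by
      have hprime : (P.asIdeal.comap (algebraMap K C)).IsPrime := inferInstance
      rcases Ideal.eq_bot_or_top (P.asIdeal.comap (algebraMap K C)) with h | h
      · exact h
      · exact absurd h hprime.ne_top
    rw [this]
    exact Ideal.bot_isMaximal
  have hnle : ¬ P.asIdeal ≤ Q.asIdeal := by
    intro hle
    have := (hmax P).eq_of_le (hmax Q).ne_top hle
    exact hPQ (PrimeSpectrum.ext this)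
  obtain ⟨a, haP, haQ⟩ := Set.not_subset.mp hnle
  let D : Subalgebra K C := Algebra.adjoin K {a}
  have ha : IsIntegral K a := Algebra.IsIntegral.isIntegral a
  haveI : Module.Finite K D := Module.Finite.iff_fg.mpr ha.fg_adjoin_singleton
  haveI : IsArtinianRing D := IsArtinianRing.of_finite K D
  have hconst := PreconnectedSpace.constant (α := PrimeSpectrum C) (Y := PrimeSpectrum D)
    inferInstance (f := PrimeSpectrum.comap (D.val : D →+* C))
    (PrimeSpectrum.continuous_comap (D.val : D →+* C)) (x := P) (y := Q)
  have h1 : (⟨a, Algebra.subset_adjoin rfl⟩ : D) ∈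
      (PrimeSpectrum.comap (D.val : D →+* C) P).asIdeal := haP
  rw [hconst] at h1
  exact haQ h1


/-- An integral morphism all of whose fibres over field-valued points are connected is
universally injective. -/
theorem universallyInjective_of_preconnected_fibres {S' S : Scheme.{u}} (g : S' ⟶ S)
    [IsIntegralHom g]
    (h : ∀ (K : Type u) [Field K] (y : Spec (.of K) ⟶ S), PreconnectedSpace ↥(pullback g y)) :
    UniversallyInjective g := by
  have tfae := tfae_universallyInjective g
  have hiff : UniversallyInjective g ↔ ∀ (K : Type u) [Field K],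
      Function.Injective (fun x : Spec (.of K) ⟶ S' ↦ x ≫ g) := tfae.out 0 1
  rw [hiff]
  intro K _ g₁ g₂ hg
  dsimp only at hg
  let y := g₁ ≫ g
  let s₁ : Spec (.of K) ⟶ pullback g y := pullback.lift g₁ (𝟙 _) (by simp [y])
  let s₂ : Spec (.of K) ⟶ pullback g y := pullback.lift g₂ (𝟙 _) (by simp [y, hg])
  suffices hs : s₁ = s₂ by
    have h1 : s₁ ≫ pullback.fst g y = g₁ := pullback.lift_fst _ _ _
    have h2 : s₂ ≫ pullback.fst g y = g₂ := pullback.lift_fst _ _ _
    rw [← h1, ← h2, hs]
  have hs₁ : s₁ ≫ pullback.snd g y = 𝟙 _ := pullback.lift_snd _ _ _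
  have hs₂ : s₂ ≫ pullback.snd g y = 𝟙 _ := pullback.lift_snd _ _ _
  haveI : IsAffine (pullback g y) := isAffine_of_isAffineHom (pullback.snd g y)
  apply ext_of_isAffine
  -- ring level
  let e := Scheme.ΓSpecIso (CommRingCat.of K)
  let ι' : K →+* Γ(pullback g y, ⊤) := (pullback.snd g y).appTop.hom.comp e.inv.hom
  let σ₁ : Γ(pullback g y, ⊤) →+* K := e.hom.hom.comp s₁.appTop.hom
  let σ₂ : Γ(pullback g y, ⊤) →+* K := e.hom.hom.comp s₂.appTop.hom
  have hσι : ∀ (s : Spec (.of K) ⟶ pullback g y), s ≫ pullback.snd g y = 𝟙 _ →
      ∀ k : K, (e.hom.hom.comp s.appTop.hom) (ι' k) = k := by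
    intro s hs k
    have h1 : (pullback.snd g y).appTop ≫ s.appTop = 𝟙 _ := by
      rw [← Scheme.Hom.comp_appTop, hs, Scheme.Hom.id_appTop]
    have h2 : s.appTop.hom ((pullback.snd g y).appTop.hom (e.inv.hom k)) = e.inv.hom k :=
      congrArg (fun f => f.hom (e.inv.hom k)) h1
    change e.hom.hom (s.appTop.hom ((pullback.snd g y).appTop.hom (e.inv.hom k))) = k
    rw [h2]
    exact congrArg (fun f => f.hom k) e.inv_hom_id
  -- integrality
  have hint : ι'.IsIntegral := by
    apply RingHom.IsIntegral.trans
    · exact RingHom.isIntegral_of_surjective _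
        (ConcreteCategory.bijective_of_isIso e.inv).2
    · exact (pullback.snd g y).isIntegral_app ⊤ (isAffineOpen_top _)
  letI : Algebra K Γ(pullback g y, ⊤) := ι'.toAlgebra
  haveI : Algebra.IsIntegral K Γ(pullback g y, ⊤) := ⟨hint⟩
  haveI : PreconnectedSpace (PrimeSpectrum Γ(pullback g y, ⊤)) := by
    haveI := h K y
    exact ((pullback g y).isoSpec.hom.homeomorph.surjective.denseRange).preconnectedSpace
      (pullback g y).isoSpec.hom.homeomorph.continuous
  haveI := subsingleton_primeSpectrum_of_isIntegral (K := K) (C := Γ(pullback g y, ⊤))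
  have hker : RingHom.ker σ₁ = RingHom.ker σ₂ := by
    have := Subsingleton.elim
      (⟨RingHom.ker σ₁, RingHom.ker_isPrime σ₁⟩ : PrimeSpectrum Γ(pullback g y, ⊤))
      ⟨RingHom.ker σ₂, RingHom.ker_isPrime σ₂⟩
    exact congrArg PrimeSpectrum.asIdeal this
  have hσ : σ₁ = σ₂ := by
    ext c
    have h1 : c - ι' (σ₁ c) ∈ RingHom.ker σ₁ := by
      rw [RingHom.mem_ker, map_sub, hσι s₁ hs₁, sub_self]
    rw [hker, RingHom.mem_ker, map_sub, hσι s₂ hs₂, sub_eq_zero] at h1
    exact h1.symm
  have hcomp : s₁.appTop ≫ e.hom = s₂.appTop ≫ e.hom := CommRingCat.hom_ext hσ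
  exact (cancel_mono e.hom).mp hcomp


/-- The Stein factor of a proper morphism with geometrically connected fibres is universally
homeomorphic to the base. -/
theorem isUnivHomeo_fromNormalization {X S : Scheme.{u}} (f : X ⟶ S) [IsProper f]
    [GeometricallyConnected f] : FlatMor.IsUnivHomeo f.fromNormalization := by
  rw [Groth.Agent.Lib.Helper12.isUnivHomeo_iff]
  haveI : Surjective f.toNormalization := inferInstance
  haveI : Surjective f.fromNormalization := by
    haveI : Surjective (f.toNormalization ≫ f.fromNormalization) := by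
      rw [f.toNormalization_fromNormalization]; infer_instance
    exact Surjective.of_comp f.toNormalization f.fromNormalization
  refine ⟨inferInstance, ?_, inferInstance⟩
  apply universallyInjective_of_preconnected_fibres
  intro K _ y
  have hpb : IsPullback (pullback.fst f.toNormalization (pullback.fst f.fromNormalization y))
      (pullback.snd f.toNormalization (pullback.fst f.fromNormalization y) ≫
        pullback.snd f.fromNormalization y) (f.toNormalization ≫ f.fromNormalization) y :=
    (IsPullback.of_hasPullback f.toNormalization (pullback.fst f.fromNormalization y)).paste_vert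
      (IsPullback.of_hasPullback f.fromNormalization y)
  rw [f.toNormalization_fromNormalization] at hpb
  haveI : ConnectedSpace ↥(pullback f.toNormalization (pullback.fst f.fromNormalization y)) :=
    (GeometricallyConnected.geometrically_connectedSpace (f := f)) y _ _ hpb
  exact (pullback.snd f.toNormalization
    (pullback.fst f.fromNormalization y)).surjective.denseRange.preconnectedSpace
    (pullback.snd f.toNormalization (pullback.fst f.fromNormalization y)).continuous

end Groth.Agent.Lib.Helper6.SteinUH
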