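import Mathlib
import Groth.Prelude.Def_Coh
import Groth.Prelude.Def_CohB1
import Groth.Agent.Lib.Helper29.QCohFinite
import Groth.Agent.Lib.Helper29.QCohExact

/-!
# Support of a finite type quasi-coherent module and ideals of definition

`supp F ⊆ V(I₀)` iff some finite type ideal `I` with `V(I) = V(I₀)` kills `F` (`X` qcqs, `I₀` of
finite type, `F` quasi-coherent of finite type); we take `I = I₀ ^ n`.
-/
universe u
open CategoryTheory CategoryTheory.Limits AlgebraicGeometry TopologicalSpace Opposite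

namespace Groth.Agent.Lib.Helper6.SuppId
open Groth.Agent.Lib.Helper29.QCoh

variable {X : Scheme.{u}}

/-- If `I F = 0` then `F_x = 0` for `x ∉ V(I)`. -/
theorem subsingleton_stalk_of_notMem_support (I : X.IdealSheafData) (F : X.Modules)
    [F.IsQuasicoherent]
    (hIF : ∀ (V : X.affineOpens) (a : Γ(X, V)), a ∈ I.ideal V → ∀ m : Γ(F, V.1), a • m = 0)
    (x : X) (hx : x ∉ I.support) : Subsingleton (F.presheaf.stalk x) := by
  obtain ⟨V, hV, hxV, -⟩ := Opens.isBasis_iff_nbhd.mp X.isBasis_affineOpens (Opens.mem_top x)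
  let V' : X.affineOpens := ⟨V, hV⟩
  rw [Scheme.IdealSheafData.mem_support_iff_of_mem (U := V') hxV, Scheme.mem_zeroLocus_iff] at hx
  push Not at hx
  obtain ⟨a, ha, hxa⟩ := hx
  rw [stalk_subsingleton_iff F hV x hxV]
  intro m
  exact ⟨a, hxa, hIF V' a ha m⟩

/-- Step A: sections of `I₀` act nilpotently on sections of `F` when `supp F ⊆ V(I₀)`. -/
theorem exists_pow_smul_eq_zero_of_support (I₀ : X.IdealSheafData) (F : X.Modules)
    [F.IsQuasicoherent] (hsupp : CohB1.support F ⊆ (I₀.support : Set X))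
    (V : X.affineOpens) (a : Γ(X, V)) (ha : a ∈ I₀.ideal V) (m : Γ(F, V.1)) :
    ∃ n : ℕ, a ^ n • m = 0 := by
  apply exists_pow_smul_eq_zero F V.2 a m
  apply eq_zero_of_germ_eq_zero
  intro x hx
  have hxV : x ∈ V.1 := X.basicOpen_le a hx
  have hx0 : x ∉ I₀.support := by
    rw [Scheme.IdealSheafData.mem_support_iff_of_mem (U := V) hxV, Scheme.mem_zeroLocus_iff]
    intro h
    exact h a ha hx
  have hsub : Subsingleton (F.presheaf.stalk x) := by
    by_contra hne
    exact hx0 (hsupp hne)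
  exact Subsingleton.elim _ _


/-- Step B: some power of `I₀(V)` kills `Γ(F, V)`. -/
theorem exists_pow_le_annihilator (I₀ : X.IdealSheafData) (F : X.Modules)
    [F.IsQuasicoherent] [F.IsFiniteType] (hsupp : CohB1.support F ⊆ (I₀.support : Set X))
    (V : X.affineOpens) (hfg : (I₀.ideal V).FG) :
    ∃ k : ℕ, ∀ a ∈ (I₀.ideal V) ^ k, ∀ m : Γ(F, V.1), a • m = 0 := by
  haveI : Module.Finite Γ(X, V.1) Γ(F, V.1) := module_finite_of_isFiniteType F V.2
  obtain ⟨S, hS⟩ := (Module.Finite.fg_top (R := Γ(X, V.1)) (M := Γ(F, V.1)))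
  have hrad : I₀.ideal V ≤ (Module.annihilator Γ(X, V.1) Γ(F, V.1)).radical := by
    intro a ha
    choose n hn using fun s : Γ(F, V.1) => exists_pow_smul_eq_zero_of_support I₀ F hsupp V a ha s
    refine ⟨S.sup n, ?_⟩
    rw [Module.mem_annihilator]
    intro m
    have hm : m ∈ Submodule.span Γ(X, V.1) (S : Set Γ(F, V.1)) := by rw [hS]; trivial
    induction hm using Submodule.span_induction with
    | mem s hs =>
      have hle : n s ≤ S.sup n := Finset.le_sup (f := n) hs
      obtain ⟨d, hd⟩ := Nat.exists_eq_add_of_le hle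
      rw [hd, pow_add, mul_comm, mul_smul, hn s, smul_zero]
    | zero => exact smul_zero _
    | add x y _ _ hx hy => rw [smul_add, hx, hy, add_zero]
    | smul c x _ hx => rw [smul_comm, hx, smul_zero]
  obtain ⟨k, hk⟩ := Ideal.exists_pow_le_of_le_radical_of_fg hrad hfg
  exact ⟨k, fun a ha m => Module.mem_annihilator.mp (hk ha) m⟩


/-- Step D: if `I₀(Vi)^n` kills `Γ(F, Vi)` for the members `Vi` of an affine cover, then
`I₀(V)^n` kills `Γ(F, V)` for every affine open `V`. -/
theorem pow_smul_eq_zero_of_cover (I₀ : X.IdealSheafData) (F : X.Modules)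
    [F.IsQuasicoherent] (n : ℕ) (t : Set X.affineOpens)
    (hcov : ∀ x : X, ∃ Vi ∈ t, x ∈ (Vi : X.affineOpens).1)
    (hkill : ∀ Vi ∈ t, ∀ a ∈ (I₀.ideal Vi) ^ n, ∀ m : Γ(F, (Vi : X.affineOpens).1), a • m = 0)
    (V : X.affineOpens) (a : Γ(X, V)) (ha : a ∈ (I₀.ideal V) ^ n) (m : Γ(F, V.1)) :
    a • m = 0 := by
  apply eq_zero_of_germ_eq_zero
  intro x hxV
  obtain ⟨Vi, hVit, hxVi⟩ := hcov x
  obtain ⟨W, hW, hxW, hWle⟩ := Opens.isBasis_iff_nbhd.mp X.isBasis_affineOpens
    (show x ∈ V.1 ⊓ Vi.1 from ⟨hxV, hxVi⟩)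
  let W' : X.affineOpens := ⟨W, hW⟩
  have hWV : W' ≤ V := fun y hy => (hWle hy).1
  have hWVi : W' ≤ Vi := fun y hy => (hWle hy).2
  -- the restriction of `a` to `W` lies in the extension of `I₀(Vi)^n`
  have hmem : (X.presheaf.map (homOfLE hWV).op).hom a ∈
      ((I₀.ideal Vi) ^ n).map (X.presheaf.map (homOfLE hWVi).op).hom := by
    rw [Ideal.map_pow, I₀.map_ideal hWVi, ← I₀.map_ideal hWV, ← Ideal.map_pow]
    exact Ideal.mem_map_of_mem _ ha
  -- key: germs of elements of that extension kill germs of sections over `Vi`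
  have key : ∀ b ∈ ((I₀.ideal Vi) ^ n).map (X.presheaf.map (homOfLE hWVi).op).hom,
      ∀ m' : Γ(F, Vi.1), X.presheaf.germ W x hxW b • F.presheaf.germ Vi.1 x hxVi m' = 0 := by
    intro b hb m'
    induction hb using Submodule.span_induction with
    | mem b hb =>
      obtain ⟨b', hb', rfl⟩ := hb
      have e : X.presheaf.germ W x hxW ((X.presheaf.map (homOfLE hWVi).op).hom b') =
          X.presheaf.germ Vi.1 x hxVi b' :=
        X.presheaf.germ_res_apply (homOfLE hWVi) x hxW b'
      rw [e, ← germ_smul, hkill Vi hVit b' hb' m', map_zero]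
    | zero => rw [map_zero, zero_smul]
    | add y z _ _ hy hz => rw [map_add, add_smul, hy, hz, add_zero]
    | smul c y _ hy => rw [smul_eq_mul, map_mul, mul_smul, hy, smul_zero]
  obtain ⟨r, m', hr, hrm⟩ := exists_smul_germ_eq F Vi.2 x hxVi (F.presheaf.germ V.1 x hxV m)
  have hu := isUnit_germ_of_mem_basicOpen r x hxVi hr
  have ea : X.presheaf.germ V.1 x hxV a =
      X.presheaf.germ W x hxW ((X.presheaf.map (homOfLE hWV).op).hom a) :=
    (X.presheaf.germ_res_apply (homOfLE hWV) x hxW a).symm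
  rw [germ_smul]
  apply eq_zero_of_isUnit_smul hu
  rw [smul_comm, hrm, ea]
  exact key _ hmem m'


theorem main (X : Scheme.{u}) [CompactSpace X] [QuasiSeparatedSpace X]
    (I₀ : X.IdealSheafData) (hI₀ : ∀ V : X.affineOpens, (I₀.ideal V).FG)
    (F : X.Modules) [F.IsQuasicoherent] (hF : CohB1.IsFT F) :
    CohB1.support F ⊆ (I₀.support : Set X) ↔
      ∃ I : X.IdealSheafData, (∀ V : X.affineOpens, (I.ideal V).FG) ∧ (I.support : Set X) = (I₀.support : Set X) ∧
        ∀ (V : X.affineOpens) (a : Γ(X, V)), a ∈ I.ideal V → ∀ m : F.val.obj (op V.1), a • m = 0 := by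
  haveI : F.IsFiniteType := hF
  constructor
  · intro hsupp
    -- a finite affine cover
    obtain ⟨t, ht⟩ := (isCompact_univ (X := X)).elim_finite_subcover
      (fun U : X.affineOpens => (U.1 : Set X)) (fun U => U.1.isOpen) (by
        intro x _
        obtain ⟨V, hV, hxV, -⟩ :=
          Opens.isBasis_iff_nbhd.mp X.isBasis_affineOpens (Opens.mem_top x)
        exact Set.mem_iUnion.mpr ⟨⟨V, hV⟩, hxV⟩)
    choose k hk using fun V : X.affineOpens =>
      exists_pow_le_annihilator I₀ F hsupp V (hI₀ V)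
    let n : ℕ := t.sup k + 1
    refine ⟨I₀ ^ n, fun V => ?_, ?_, ?_⟩
    · rw [Scheme.IdealSheafData.ideal_pow]
      exact (hI₀ V).pow
    · rw [Scheme.IdealSheafData.support_pow _ n (Nat.succ_ne_zero _)]
    · intro V a ha m
      have hcov : ∀ x : X, ∃ Vi ∈ (t : Set X.affineOpens), x ∈ (Vi : X.affineOpens).1 := by
        intro x
        have := ht (Set.mem_univ x)
        simp only [Set.mem_iUnion] at this
        obtain ⟨Vi, hVi, hx⟩ := this
        exact ⟨Vi, hVi, hx⟩
      refine pow_smul_eq_zero_of_cover I₀ F n (t : Set X.affineOpens) hcov ?_ V a ha m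
      intro Vi hVi b hb m'
      refine hk Vi b (Ideal.pow_le_pow_right ?_ hb) m'
      exact (Finset.le_sup (f := k) hVi).trans (Nat.le_succ _)
  · rintro ⟨I, -, hIsupp, hIF⟩ x hx
    by_contra hx0
    rw [← hIsupp] at hx0
    exact hx (subsingleton_stalk_of_notMem_support I F (fun V a ha m => hIF V a ha m) x hx0)

end Groth.Agent.Lib.Helper6.SuppId
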