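import Mathlib
import Groth.Prelude.Def_CohB1
import Groth.Prelude.Def_FlatMod2
import Groth.Agent.Lib.Helper6.SuppMax2

/-!
# Maximal points of the support of `f^*E ⊗ F` for `F` flat over the base (helper6)
-/

set_option autoImplicit false
set_option linter.style.haveILetI false
set_option linter.unusedSectionVars false
universe u

open CategoryTheory CategoryTheory.Limits AlgebraicGeometry TopologicalSpace Opposite TensorProduct

namespace Groth.Agent.Lib.Helper6.SuppMax

theorem maximal_support_tensor_iff {X Y : Scheme.{u}} (f : X ⟶ Y) (F : X.Modules)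
    [F.IsQuasicoherent] [F.IsFiniteType] (hfl : FlatMod.IsFlatOver f F) (E : Y.Modules)
    [E.IsQuasicoherent] [E.IsFiniteType] (x : X) :
    (x ∈ CohB1.support (CohB1.tensorMod ((Scheme.Modules.pullback f).obj E) F) ∧
        ∀ z ∈ CohB1.support (CohB1.tensorMod ((Scheme.Modules.pullback f).obj E) F),
          z ⤳ x → z = x) ↔
      ((f x ∈ CohB1.support E ∧ ∀ w ∈ CohB1.support E, w ⤳ f x → w = f x) ∧
        (f.asFiber x ∈ CohB1.support ((Scheme.Modules.pullback (f.fiberι (f x))).obj F) ∧
          ∀ z ∈ CohB1.support ((Scheme.Modules.pullback (f.fiberι (f x))).obj F),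
            z ⤳ f.asFiber x → z = f.asFiber x)) := by
  have hι : (f.fiberι (f x)) (f.asFiber x) = x := Scheme.Hom.fiberι_asFiber f x
  constructor
  · rintro ⟨hxT, hmax⟩
    obtain ⟨hyE, hxF⟩ := (mem_support_tensor_pullback_iff f E F x).mp hxT
    refine ⟨⟨hyE, fun w hwE hw => ?_⟩, ⟨?_, fun z hzG hz => ?_⟩⟩
    · obtain ⟨z, hzx, hfz, hzF⟩ := exists_generization_of_flat f F x hxF (hfl x) w hw
      have hzT : z ∈ CohB1.support (CohB1.tensorMod ((Scheme.Modules.pullback f).obj E) F) :=
        (mem_support_tensor_pullback_iff f E F z).mpr ⟨by rw [hfz]; exact hwE, hzF⟩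
      rw [← hfz, hmax z hzT hzx]
    · rw [mem_support_pullback_iff, hι]
      exact hxF
    · have hzF : (f.fiberι (f x)) z ∈ CohB1.support F :=
        (mem_support_pullback_iff (f.fiberι (f x)) F z).mp hzG
      have hfz : f ((f.fiberι (f x)) z) = f x := by
        have : (f.fiberι (f x)) z ∈ Set.range (f.fiberι (f x)) := ⟨z, rfl⟩
        rw [f.range_fiberι (f x)] at this
        exact this
      have hzT : (f.fiberι (f x)) z ∈
          CohB1.support (CohB1.tensorMod ((Scheme.Modules.pullback f).obj E) F) :=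
        (mem_support_tensor_pullback_iff f E F _).mpr ⟨by rw [hfz]; exact hyE, hzF⟩
      have hspec : (f.fiberι (f x)) z ⤳ x := by
        have h0 := hz.map (f.fiberι (f x)).continuous
        rwa [hι] at h0
      have h1 := hmax _ hzT hspec
      apply (f.fiberι (f x)).isEmbedding.injective
      rw [h1, hι]
  · rintro ⟨⟨hyE, hymax⟩, ⟨hxG, hxmax⟩⟩
    have hxF : x ∈ CohB1.support F := by
      have := (mem_support_pullback_iff (f.fiberι (f x)) F (f.asFiber x)).mp hxG
      rwa [hι] at this
    refine ⟨(mem_support_tensor_pullback_iff f E F x).mpr ⟨hyE, hxF⟩, fun z hzT hz => ?_⟩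
    obtain ⟨hfzE, hzF⟩ := (mem_support_tensor_pullback_iff f E F z).mp hzT
    have hfz : f z = f x := hymax (f z) hfzE (hz.map f.continuous)
    have hzr : z ∈ Set.range (f.fiberι (f x)) := by
      rw [f.range_fiberι (f x)]
      exact hfz
    obtain ⟨z', rfl⟩ := hzr
    have hz'G : z' ∈ CohB1.support ((Scheme.Modules.pullback (f.fiberι (f x))).obj F) :=
      (mem_support_pullback_iff (f.fiberι (f x)) F z').mpr hzF
    have hspec : z' ⤳ f.asFiber x := by
      rw [← (f.fiberι (f x)).isEmbedding.isInducing.specializes_iff, hι]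
      exact hz
    rw [hxmax z' hz'G hspec, hι]

end Groth.Agent.Lib.Helper6.SuppMax
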