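import Mathlib
import Groth.Prelude.Def_SymTen

set_option autoImplicit false
universe u

open scoped TensorProduct
open MvPolynomial

namespace Groth.Agent.Lib.Helper6.SymTenF

/-- Two functions with the same fibre cardinalities differ by a permutation of the source. -/
theorem exists_perm_comp_eq {α β : Type*} [Fintype α] [DecidableEq α] [DecidableEq β]
    (f f' : α → β) (h : ∀ j, Fintype.card {i // f i = j} = Fintype.card {i // f' i = j}) :
    ∃ σ : Equiv.Perm α, f ∘ σ = f' := by
  let e : ∀ j, {i // f' i = j} ≃ {i // f i = j} := fun j => Fintype.equivOfCardEq (h j).symm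
  refine ⟨(Equiv.sigmaFiberEquiv f').symm.trans
    ((Equiv.sigmaCongrRight e).trans (Equiv.sigmaFiberEquiv f)), ?_⟩
  funext i
  exact ((e (f' i)) ⟨i, rfl⟩).2

/-- The "type" of a function `Fin d → ι`: the multiplicities of the values. -/
noncomputable def typ {ι : Type*} [DecidableEq ι] {d : ℕ} (f : Fin d → ι) : ι →₀ ℕ :=
  ∑ i : Fin d, Finsupp.single (f i) 1

theorem typ_apply {ι : Type*} [DecidableEq ι] {d : ℕ} (f : Fin d → ι) (j : ι) :
    typ f j = Fintype.card {i // f i = j} := by
  rw [typ, Finsupp.finsetSum_apply]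
  simp only [Finsupp.single_apply]
  rw [Finset.sum_boole, Fintype.card_subtype]
  simp

theorem exists_perm_of_typ_eq {ι : Type*} [DecidableEq ι] {d : ℕ} (f f' : Fin d → ι)
    (h : typ f = typ f') : ∃ σ : Equiv.Perm (Fin d), f ∘ σ = f' := by
  apply exists_perm_comp_eq
  intro j
  rw [← typ_apply, ← typ_apply, h]

theorem prod_X_eq_monomial {ι : Type*} [DecidableEq ι] {R : Type*} [CommSemiring R] {d : ℕ}
    (f : Fin d → ι) (r : Fin d → R) :
    ∏ i : Fin d, (X (f i) * C (r i) : MvPolynomial ι R) = monomial (typ f) (∏ i, r i) := by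
  rw [Finset.prod_mul_distrib, typ, monomial_sum_index, ← map_prod, mul_comm]
  congr 1

section field

variable (K L : Type u) [Field K] [Field L] [Algebra K L]

/-- In a finite purely inseparable extension, the `[L:K]`-th power of any element lies in `K`. -/
theorem pow_finrank_mem_range [IsPurelyInseparable K L] [FiniteDimensional K L] (x : L) :
    x ^ Module.finrank K L ∈ (algebraMap K L).range := by
  obtain ⟨n, a, h⟩ := IsPurelyInseparable.minpoly_eq_X_pow_sub_C K (ringExpChar K) x
  have hint : IsIntegral K x := IsPurelyInseparable.isIntegral' K x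
  have hdvd : (minpoly K x).natDegree ∣ Module.finrank K L := minpoly.degree_dvd hint
  rw [h, Polynomial.natDegree_X_pow_sub_C] at hdvd
  obtain ⟨m, hm⟩ := hdvd
  have hx : x ^ (ringExpChar K) ^ n = algebraMap K L a := by
    have := minpoly.aeval K x
    rw [h] at this
    simpa [sub_eq_zero] using this
  rw [hm, pow_mul, hx, ← map_pow]
  exact ⟨a ^ m, rfl⟩

/-- Freshman's dream for the `[L:K]`-th power in polynomial rings over `L`. -/
theorem sum_pow_finrank [IsPurelyInseparable K L] [FiniteDimensional K L] {ι : Type*}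
    (s : Finset ι) (z : ι → MvPolynomial ι L) :
    (∑ j ∈ s, z j) ^ Module.finrank K L = ∑ j ∈ s, z j ^ Module.finrank K L := by
  generalize hq : ringExpChar K = q
  have hexp : ExpChar K q := hq ▸ inferInstance
  obtain ⟨e, he⟩ := IsPurelyInseparable.finrank_eq_pow (F := K) L q
  rw [he]
  have h1 : ExpChar (MvPolynomial ι L) q :=
    expChar_of_injective_algebraMap
      ((MvPolynomial.C_injective ι L).comp (algebraMap K L).injective :
        Function.Injective (algebraMap K (MvPolynomial ι L))) q
  exact sum_pow_char_pow q e s z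

open Module in
/-- Key field-level statement: for a finite purely inseparable extension `L/K` whose degree divides
`d`, the product map sends symmetric tensors of degree `d` into `K`. -/
theorem lift_mkPiAlgebra_mem_range [IsPurelyInseparable K L] [FiniteDimensional K L] (d : ℕ)
    (hd : Module.finrank K L ∣ d) (y : ⨂[K] _ : Fin d, L)
    (hy : ∀ σ : Equiv.Perm (Fin d), PiTensorProduct.reindex K (fun _ : Fin d => L) σ y = y) :
    PiTensorProduct.lift (MultilinearMap.mkPiAlgebra K (Fin d) L) y ∈ (algebraMap K L).range := by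
  classical
  set N := Module.finrank K L with hN
  let b : Basis (Fin N) K L := Module.finBasis K L
  let 𝔅 : Basis (Fin d → Fin N) K (⨂[K] _ : Fin d, L) := Basis.piTensorProduct (fun _ => b)
  have h𝔅 : ∀ f, 𝔅 f = PiTensorProduct.tprod K (fun i => b (f i)) :=
    fun f => Basis.piTensorProduct_apply _ f
  -- symmetry of the coefficients
  have hc : ∀ (σ : Equiv.Perm (Fin d)) (g : Fin d → Fin N),
      𝔅.repr y (g ∘ σ) = 𝔅.repr y g := by
    intro σ g
    have h1 : (𝔅.coord g).comp
        (PiTensorProduct.reindex K (fun _ : Fin d => L) σ).toLinearMap = 𝔅.coord (g ∘ σ) := by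
      apply 𝔅.ext
      intro f
      simp only [LinearMap.comp_apply, LinearEquiv.coe_coe, h𝔅, PiTensorProduct.reindex_tprod]
      have h2 : PiTensorProduct.tprod K (fun i => b (f (σ.symm i))) = 𝔅 (f ∘ σ.symm) :=
        (h𝔅 _).symm
      rw [h2, ← h𝔅, Basis.coord_apply, Basis.coord_apply, Basis.repr_self, Basis.repr_self,
        Finsupp.single_apply, Finsupp.single_apply]
      congr 1
      apply propext
      constructor
      · rintro rfl; funext i; simp
      · rintro rfl; funext i; simp
    have h3 := congrArg (fun ℓ => ℓ y) h1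
    simp only [LinearMap.comp_apply, LinearEquiv.coe_coe, hy σ] at h3
    exact h3.symm
  set M := PiTensorProduct.lift (MultilinearMap.mkPiAlgebra K (Fin d) L) with hM
  have hM𝔅 : ∀ f, M (𝔅 f) = ∏ i, b (f i) := by
    intro f
    rw [h𝔅, hM, PiTensorProduct.lift.tprod, MultilinearMap.mkPiAlgebra_apply]
  have hMy : M y = ∑ f : Fin d → Fin N, 𝔅.repr y f • ∏ i, b (f i) := by
    conv_lhs => rw [← 𝔅.sum_repr y]
    rw [map_sum]
    simp only [map_smul, hM𝔅]
  -- the generic polynomial
  let P : MvPolynomial (Fin N) L := (∑ j : Fin N, X j * C (b j)) ^ d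
  have hP : ∀ α, coeff α P =
      ∑ f : Fin d → Fin N, if typ f = α then ∏ i, b (f i) else 0 := by
    intro α
    have : P = ∑ f : Fin d → Fin N, monomial (typ f) (∏ i, b (f i)) := by
      change (∑ j : Fin N, X j * C (b j)) ^ d = _
      rw [← Fin.prod_const, Fintype.prod_sum]
      refine Finset.sum_congr rfl fun f _ => ?_
      exact prod_X_eq_monomial f (fun i => b (f i))
    rw [this, coeff_sum]
    simp only [coeff_monomial]
  have hPK : ∀ α, coeff α P ∈ (algebraMap K L).range := by
    obtain ⟨m, hm⟩ := hd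
    choose a ha using fun j => pow_finrank_mem_range K L (b j)
    have : P = MvPolynomial.map (algebraMap K L) ((∑ j : Fin N, X j ^ N * C (a j)) ^ m) := by
      change (∑ j : Fin N, X j * C (b j)) ^ d = _
      rw [hm, pow_mul, sum_pow_finrank K L, map_pow, map_sum]
      congr 1
      refine Finset.sum_congr rfl fun j _ => ?_
      rw [mul_pow, ← C_pow, ← ha j, map_mul, map_pow, map_X, map_C]
    intro α
    rw [this, coeff_map]
    exact ⟨_, rfl⟩
  -- conclusion
  rw [hMy, ← Finset.sum_fiberwise_of_maps_to (g := typ) (t := Finset.univ.image typ)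
    (fun f _ => Finset.mem_image_of_mem _ (Finset.mem_univ f))]
  apply Subring.sum_mem
  intro α hα
  obtain ⟨f₀, -, rfl⟩ := Finset.mem_image.mp hα
  have : ∑ f ∈ Finset.univ.filter (fun f => typ f = typ f₀), 𝔅.repr y f • ∏ i, b (f i) =
      𝔅.repr y f₀ • coeff (typ f₀) P := by
    rw [hP, Finset.smul_sum, Finset.sum_filter]
    refine Finset.sum_congr rfl fun f _ => ?_
    split_ifs with h
    · obtain ⟨σ, rfl⟩ := exists_perm_of_typ_eq f₀ f h.symm
      rw [hc]
    · rw [smul_zero]
  rw [this, Algebra.smul_def]
  exact Subring.mul_mem _ ⟨_, rfl⟩ (hPK _)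

end field

end Groth.Agent.Lib.Helper6.SymTenF
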