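import Mathlib
import Groth.Prelude.Def_SymTen
import Groth.Agent.Lib.Helper6.SymTenField

set_option autoImplicit false
universe u

open scoped TensorProduct

namespace Groth.Agent.Lib.Helper6.SymTenF

/-- Abstract form: `B` an `A`-algebra, `K ⊆ L` a finite purely inseparable extension of fields over
`A` whose degree divides `d`, `ψ : B → L` an `A`-algebra map.  Then `ψ` of the product of a
symmetric tensor lies in `K`. -/
theorem algHom_lift_mkPiAlgebra_mem_range (A B K L : Type u) [CommRing A] [CommRing B] [Algebra A B]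
    [Field K] [Field L] [Algebra K L] [Algebra A K] [Algebra A L] [IsScalarTower A K L]
    [IsPurelyInseparable K L] [FiniteDimensional K L] (d : ℕ) (hd : Module.finrank K L ∣ d)
    (ψ : B →ₐ[A] L) (x : ⨂[A] _ : Fin d, B)
    (hx : ∀ σ : Equiv.Perm (Fin d), PiTensorProduct.reindex A (fun _ : Fin d => B) σ x = x) :
    ψ (PiTensorProduct.lift (MultilinearMap.mkPiAlgebra A (Fin d) B) x) ∈
      (algebraMap K L).range := by
  let μ : MultilinearMap A (fun _ : Fin d => B) (⨂[K] _ : Fin d, L) :=
    ((PiTensorProduct.tprod K).restrictScalars A).compLinearMap (fun _ => ψ.toLinearMap)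
  let Ψ : (⨂[A] _ : Fin d, B) →ₗ[A] (⨂[K] _ : Fin d, L) := PiTensorProduct.lift μ
  have hΨ : ∀ f : Fin d → B, Ψ (PiTensorProduct.tprod A f) =
      PiTensorProduct.tprod K (fun i => ψ (f i)) := by
    intro f
    rw [PiTensorProduct.lift.tprod]
    rfl
  -- compatibility with permutations
  have h1 : ∀ (σ : Equiv.Perm (Fin d)) (t : ⨂[A] _ : Fin d, B),
      Ψ (PiTensorProduct.reindex A (fun _ : Fin d => B) σ t) =
        PiTensorProduct.reindex K (fun _ : Fin d => L) σ (Ψ t) := by
    intro σ
    have : Ψ ∘ₗ (PiTensorProduct.reindex A (fun _ : Fin d => B) σ).toLinearMap =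
        ((PiTensorProduct.reindex K (fun _ : Fin d => L) σ).toLinearMap.restrictScalars A) ∘ₗ Ψ := by
      apply PiTensorProduct.ext
      apply MultilinearMap.ext
      intro f
      simp only [LinearMap.compMultilinearMap_apply, LinearMap.comp_apply, LinearEquiv.coe_coe,
        LinearMap.restrictScalars_apply, PiTensorProduct.reindex_tprod, hΨ]
    intro t
    exact congrArg (fun ℓ => ℓ t) this
  -- compatibility with multiplication
  have h2 : ∀ t : ⨂[A] _ : Fin d, B,
      PiTensorProduct.lift (MultilinearMap.mkPiAlgebra K (Fin d) L) (Ψ t) =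
        ψ (PiTensorProduct.lift (MultilinearMap.mkPiAlgebra A (Fin d) B) t) := by
    have : ((PiTensorProduct.lift (MultilinearMap.mkPiAlgebra K (Fin d) L)).restrictScalars A) ∘ₗ Ψ =
        ψ.toLinearMap ∘ₗ (PiTensorProduct.lift (MultilinearMap.mkPiAlgebra A (Fin d) B)) := by
      apply PiTensorProduct.ext
      apply MultilinearMap.ext
      intro f
      simp only [LinearMap.compMultilinearMap_apply, LinearMap.comp_apply,
        LinearMap.restrictScalars_apply, hΨ, PiTensorProduct.lift.tprod,
        MultilinearMap.mkPiAlgebra_apply, AlgHom.toLinearMap_apply, map_prod]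
    intro t
    exact congrArg (fun ℓ => ℓ t) this
  rw [← h2]
  apply lift_mkPiAlgebra_mem_range K L d hd
  intro σ
  rw [← h1, hx σ]

end Groth.Agent.Lib.Helper6.SymTenF
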