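import Mathlib
import Groth.Prelude.Def_FDesc
import Groth.Agent.Lib.Helper6.TXY2
import Groth.Agent.Lib.Helper6.AssTens5

/-!
# The canonical morphism `T(x, y) ⟶ X ×_S Y` and the associated points of `T(x, y)` (helper6)
-/

set_option autoImplicit false
set_option linter.style.haveILetI false
set_option linter.unusedSectionVars false
universe u

open CategoryTheory CategoryTheory.Limits AlgebraicGeometry TopologicalSpace Opposite TensorProduct
open Groth.Agent.Lib.Helper9.TensAss Groth.Agent.Lib.Helper6.AssTens

namespace Groth.Agent.Lib.Helper6.TXY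

variable {X Y S : Scheme.{u}} (f : X ⟶ S) (g : Y ⟶ S)

/-- the canonical morphism `T(x, y) ⟶ X ×_S Y` -/
noncomputable abbrev jT (x : X) (y : Y) :
    pullback (X.fromSpecResidueField x ≫ f) (Y.fromSpecResidueField y ≫ g) ⟶ pullback f g :=
  pullback.map (X.fromSpecResidueField x ≫ f) (Y.fromSpecResidueField y ≫ g) f g
    (X.fromSpecResidueField x) (Y.fromSpecResidueField y) (𝟙 S) (Category.comp_id _)
    (Category.comp_id _)

theorem fst_jT (x : X) (y : Y)
    (t : ↥(pullback (X.fromSpecResidueField x ≫ f) (Y.fromSpecResidueField y ≫ g))) :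
    pullback.fst f g (jT f g x y t) = x := by
  have h : jT f g x y ≫ pullback.fst f g = pullback.fst _ _ ≫ X.fromSpecResidueField x :=
    pullback.lift_fst _ _ _
  rw [← Scheme.Hom.comp_apply, h, Scheme.Hom.comp_apply, Scheme.fromSpecResidueField_apply]

theorem snd_jT (x : X) (y : Y)
    (t : ↥(pullback (X.fromSpecResidueField x ≫ f) (Y.fromSpecResidueField y ≫ g))) :
    pullback.snd f g (jT f g x y t) = y := by
  have h : jT f g x y ≫ pullback.snd f g = pullback.snd _ _ ≫ Y.fromSpecResidueField y :=
    pullback.lift_snd _ _ _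
  rw [← Scheme.Hom.comp_apply, h, Scheme.Hom.comp_apply, Scheme.fromSpecResidueField_apply]

theorem eq_of_point (x : X) (y : Y)
    (t : ↥(pullback (X.fromSpecResidueField x ≫ f) (Y.fromSpecResidueField y ≫ g))) :
    f x = g y := by
  have h := comm_apply f g (jT f g x y t)
  rw [fst_jT, snd_jT] at h
  exact h.symm

instance isPreimmersion_jT (x : X) (y : Y) : IsPreimmersion (jT f g x y) :=
  MorphismProperty.pullbackMap (P := @IsPreimmersion)
    (inferInstance : IsPreimmersion (X.fromSpecResidueField x))
    (inferInstance : IsPreimmersion (Y.fromSpecResidueField y)) rfl rfl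

theorem exists_jT_eq (z : ↥(pullback f g)) :
    ∃ t : ↥(pullback (X.fromSpecResidueField (pullback.fst f g z) ≫ f)
      (Y.fromSpecResidueField (pullback.snd f g z) ≫ g)),
      jT f g (pullback.fst f g z) (pullback.snd f g z) t = z := by
  obtain ⟨u, hu⟩ : ∃ u : Spec ((pullback f g).residueField z) ⟶ pullback f g,
      u = (pullback f g).fromSpecResidueField z := ⟨_, rfl⟩
  obtain ⟨p, hp⟩ : ∃ p : Spec ((pullback f g).residueField z) ⟶
      Spec (X.residueField (pullback.fst f g z)),
      p = Spec.map ((pullback.fst f g).residueFieldMap z) := ⟨_, rfl⟩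
  obtain ⟨q, hq⟩ : ∃ q : Spec ((pullback f g).residueField z) ⟶
      Spec (Y.residueField (pullback.snd f g z)),
      q = Spec.map ((pullback.snd f g).residueFieldMap z) := ⟨_, rfl⟩
  have hpu : p ≫ X.fromSpecResidueField (pullback.fst f g z) = u ≫ pullback.fst f g := by
    rw [hp, hu]
    exact Scheme.Hom.SpecMap_residueFieldMap_fromSpecResidueField (pullback.fst f g) z
  have hqu : q ≫ Y.fromSpecResidueField (pullback.snd f g z) = u ≫ pullback.snd f g := by
    rw [hq, hu]
    exact Scheme.Hom.SpecMap_residueFieldMap_fromSpecResidueField (pullback.snd f g) z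
  have hcond : p ≫ (X.fromSpecResidueField (pullback.fst f g z) ≫ f) =
      q ≫ (Y.fromSpecResidueField (pullback.snd f g z) ≫ g) := by
    rw [← Category.assoc, ← Category.assoc, hpu, hqu, Category.assoc, Category.assoc,
      pullback.condition]
  have hl : pullback.lift p q hcond ≫ jT f g (pullback.fst f g z) (pullback.snd f g z) = u := by
    apply pullback.hom_ext
    · rw [Category.assoc, pullback.lift_fst, ← Category.assoc, pullback.lift_fst, hpu]
    · rw [Category.assoc, pullback.lift_snd, ← Category.assoc, pullback.lift_snd, hqu]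
  refine ⟨pullback.lift p q hcond default, ?_⟩
  rw [← Scheme.Hom.comp_apply, hl, hu, Scheme.fromSpecResidueField_apply]

theorem mem_range_jT_iff (x : X) (y : Y) (z : ↥(pullback f g)) :
    z ∈ Set.range (jT f g x y) ↔ pullback.fst f g z = x ∧ pullback.snd f g z = y := by
  constructor
  · rintro ⟨t, rfl⟩
    exact ⟨fst_jT f g x y t, snd_jT f g x y t⟩
  · rintro ⟨rfl, rfl⟩
    exact exists_jT_eq f g z

theorem mem_ass_T_iff (x : X) (y : Y)
    (t : ↥(pullback (X.fromSpecResidueField x ≫ f) (Y.fromSpecResidueField y ≫ g))) :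
    t ∈ AssSch.Ass (Coh.structureModule
        (pullback (X.fromSpecResidueField x ≫ f) (Y.fromSpecResidueField y ≫ g))) ↔
      ∀ t' : ↥(pullback (X.fromSpecResidueField x ≫ f) (Y.fromSpecResidueField y ≫ g)),
        t' ⤳ t → t' = t := by
  obtain ⟨haff, hgood⟩ := isAffine_and_good_T f g x y (eq_of_point f g x y t)
  haveI := haff
  exact mem_ass_structureModule_iff_of_good (isAffineOpen_top _) hgood t trivial

/-- the image in `X ×_S Y` of the associated points of `T(x, y)`: the maximal points among those
with projections `x` and `y` -/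
theorem mem_image_ass_iff (x : X) (y : Y) (z : ↥(pullback f g)) :
    z ∈ (jT f g x y) '' AssSch.Ass (Coh.structureModule
        (pullback (X.fromSpecResidueField x ≫ f) (Y.fromSpecResidueField y ≫ g))) ↔
      pullback.fst f g z = x ∧ pullback.snd f g z = y ∧
        ∀ z'' : ↥(pullback f g), pullback.fst f g z'' = pullback.fst f g z →
          pullback.snd f g z'' = pullback.snd f g z → z'' ⤳ z → z'' = z := by
  constructor
  · rintro ⟨t, ht, rfl⟩
    refine ⟨fst_jT f g x y t, snd_jT f g x y t, fun z'' h1 h2 hspec => ?_⟩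
    rw [fst_jT] at h1
    rw [snd_jT] at h2
    obtain ⟨t'', rfl⟩ := (mem_range_jT_iff f g x y z'').mpr ⟨h1, h2⟩
    have hsp : t'' ⤳ t :=
      ((jT f g x y).isEmbedding.isInducing.specializes_iff).mp hspec
    rw [(mem_ass_T_iff f g x y t).mp ht t'' hsp]
  · rintro ⟨hx, hy, hmax⟩
    obtain ⟨t, rfl⟩ := (mem_range_jT_iff f g x y z).mpr ⟨hx, hy⟩
    refine ⟨t, (mem_ass_T_iff f g x y t).mpr fun t' hsp => ?_, rfl⟩
    have h1 := hmax (jT f g x y t') (by rw [fst_jT, fst_jT]) (by rw [snd_jT, snd_jT])
      (hsp.map (jT f g x y).continuous)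
    exact (jT f g x y).isEmbedding.injective h1

end Groth.Agent.Lib.Helper6.TXY
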