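import Mathlib
import Groth.Prelude.Def_MoreMor
import Groth.Prelude.Def_FDesc
import Groth.Prelude.Def_CohB1
import Groth.Prelude.Def_FlatMod2
import Groth.Agent.Lib.Helper6.TXY3
import Groth.Agent.Lib.Helper6.AssTens1
import Groth.Agent.Lib.Helper6.AssTens4
import Groth.Agent.Lib.Helper6.AssTens5
import Groth.Agent.Lib.Helper6.RelAss26

/-!
# The associated points of `F ⊗_S G` as a union of images of `Ass(O_{T(x,y)})` (EGA IV 4.2.7 type
statements) (helper6)
-/

set_option autoImplicit false
set_option linter.style.haveILetI false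
set_option linter.unusedSectionVars false
universe u

open CategoryTheory CategoryTheory.Limits AlgebraicGeometry TopologicalSpace Opposite TensorProduct
open Groth.Agent.Lib.Helper6.AssTens Groth.Agent.Lib.Helper6.RelAss
open Groth.Agent.Lib.Helper3.AssTensor

namespace Groth.Agent.Lib.Helper6.TXY

variable {X Y S : Scheme.{u}}

/-- an associated point of a module flat over the base is a relative associated point -/
theorem mem_relAss_of_mem_ass [IsLocallyNoetherian S] (g : Y ⟶ S) (G : Y.Modules) (y : Y)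
    (hfl : FlatMod.IsFlatOverAt g G y) (hy : y ∈ AssSch.Ass G) : y ∈ MoreMor.relAss g G := by
  letI algsy : Algebra (S.presheaf.stalk (g y)) (Y.presheaf.stalk y) :=
    (g.stalkMap y).hom.toAlgebra
  letI modsG : Module (S.presheaf.stalk (g y)) (G.presheaf.stalk y) :=
    FlatMod.moduleStalkOver g G y
  haveI tw : IsScalarTower (S.presheaf.stalk (g y)) (Y.presheaf.stalk y) (G.presheaf.stalk y) :=
    IsScalarTower.of_algebraMap_smul (fun r m => rfl)
  haveI hflat : Module.Flat (S.presheaf.stalk (g y)) (G.presheaf.stalk y) := hfl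
  haveI hloc : IsLocalHom (algebraMap (S.presheaf.stalk (g y)) (Y.presheaf.stalk y)) :=
    inferInstanceAs (IsLocalHom (g.stalkMap y).hom)
  have key := associatedPrimes_tensor (R := S.presheaf.stalk (g y)) (Y.presheaf.stalk y)
    (G.presheaf.stalk y) (M := S.presheaf.stalk (g y))
  have e := AlgebraTensorModule.rid (S.presheaf.stalk (g y)) (Y.presheaf.stalk y)
    (G.presheaf.stalk y)
  have h0 : IsAssociatedPrime (IsLocalRing.maximalIdeal (Y.presheaf.stalk y))
      (G.presheaf.stalk y) := hy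
  have h1 : IsLocalRing.maximalIdeal (Y.presheaf.stalk y) ∈ associatedPrimes (Y.presheaf.stalk y)
      ((G.presheaf.stalk y) ⊗[S.presheaf.stalk (g y)] (S.presheaf.stalk (g y))) :=
    (LinearEquiv.isAssociatedPrime_iff e).mpr h0
  rw [key] at h1
  obtain ⟨p, hp, hmem⟩ := Set.mem_iUnion₂.mp h1
  haveI hpp : p.IsPrime := hp.isPrime
  have hpm : p = IsLocalRing.maximalIdeal (S.presheaf.stalk (g y)) := by
    rw [← comap_eq_of_mem_associatedPrimes_quotient (G.presheaf.stalk y) p hmem]
    exact IsLocalRing.maximalIdeal_comap _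
  subst hpm
  exact hmem

/-- S4668 -/
theorem ass_tensorS_eq_iUnion_fibre (f : X ⟶ S) (g : Y ⟶ S)
    [IsLocallyNoetherian X] [IsLocallyNoetherian Y] [IsLocallyNoetherian (pullback f g)]
    (F : X.Modules) [F.IsQuasicoherent] (G : Y.Modules) [G.IsQuasicoherent]
    (hGfl : FlatMod.IsFlatOver g G) :
    AssSch.Ass (CohB1.tensorMod ((Scheme.Modules.pullback (pullback.fst f g)).obj F)
        ((Scheme.Modules.pullback (pullback.snd f g)).obj G)) =
      ⋃ (x : ↥X) (_ : x ∈ AssSch.Ass F) (y' : ↥(g.fiber (f x)))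
        (_ : y' ∈ AssSch.Ass ((Scheme.Modules.pullback (g.fiberι (f x))).obj G)) (y : ↥Y)
        (_ : y = g.fiberι (f x) y'),
        ⇑(pullback.map (X.fromSpecResidueField x ≫ f) (Y.fromSpecResidueField y ≫ g) f g
            (X.fromSpecResidueField x) (Y.fromSpecResidueField y) (𝟙 S) (Category.comp_id _)
            (Category.comp_id _)) ''
          AssSch.Ass (Coh.structureModule
            (pullback (X.fromSpecResidueField x ≫ f) (Y.fromSpecResidueField y ≫ g))) := by
  ext z
  rw [mem_ass_tensorS_iff f g F G hGfl z]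
  simp only [Set.mem_iUnion]
  constructor
  · rintro ⟨hx, hyrel, hmax⟩
    have hr : pullback.snd f g z ∈ Set.range (g.fiberι (f (pullback.fst f g z))) := by
      rw [g.range_fiberι]
      exact comm_apply f g z
    obtain ⟨y', hy'⟩ := hr
    refine ⟨pullback.fst f g z, hx, y', ?_, pullback.snd f g z, hy'.symm, ?_⟩
    · exact (isAssPoint_fiber_iff g G _ y').mpr (by rw [hy']; exact hyrel)
    · exact (mem_image_ass_iff f g _ _ z).mpr ⟨rfl, rfl, hmax⟩
  · rintro ⟨x, hx, y', hy', y, hy, hz⟩
    obtain ⟨h1, h2, hmax⟩ := (mem_image_ass_iff f g x y z).mp hz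
    refine ⟨by rw [h1]; exact hx, ?_, hmax⟩
    rw [h2, hy]
    exact (isAssPoint_fiber_iff g G (f x) y').mp hy'

/-- S4669 -/
theorem ass_tensorS_eq_iUnion (f : X ⟶ S) (g : Y ⟶ S)
    [IsLocallyNoetherian X] [IsLocallyNoetherian Y] [IsLocallyNoetherian S]
    [IsLocallyNoetherian (pullback f g)]
    (F : X.Modules) [F.IsQuasicoherent] (G : Y.Modules) [G.IsQuasicoherent]
    (hGfl : FlatMod.IsFlatOver g G)
    (hAss : ∀ x ∈ AssSch.Ass F, f x ∈ AssSch.Ass (Coh.structureModule S)) :
    AssSch.Ass (CohB1.tensorMod ((Scheme.Modules.pullback (pullback.fst f g)).obj F)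
        ((Scheme.Modules.pullback (pullback.snd f g)).obj G)) =
      ⋃ (x : ↥X) (_ : x ∈ AssSch.Ass F) (y : ↥Y) (_ : y ∈ AssSch.Ass G) (_ : f x = g y),
        ⇑(pullback.map (X.fromSpecResidueField x ≫ f) (Y.fromSpecResidueField y ≫ g) f g
            (X.fromSpecResidueField x) (Y.fromSpecResidueField y) (𝟙 S) (Category.comp_id _)
            (Category.comp_id _)) ''
          AssSch.Ass (Coh.structureModule
            (pullback (X.fromSpecResidueField x ≫ f) (Y.fromSpecResidueField y ≫ g))) := by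
  ext z
  simp only [Set.mem_iUnion]
  constructor
  · intro hz
    obtain ⟨hx, hyrel, hmax⟩ := (mem_ass_tensorS_iff f g F G hGfl z).mp hz
    refine ⟨pullback.fst f g z, hx, pullback.snd f g z,
      snd_mem_ass_of_mem_ass_tensorS f g F G hGfl hAss z hz, (comm_apply f g z).symm, ?_⟩
    exact (mem_image_ass_iff f g _ _ z).mpr ⟨rfl, rfl, hmax⟩
  · rintro ⟨x, hx, y, hy, -, hz⟩
    obtain ⟨h1, h2, hmax⟩ := (mem_image_ass_iff f g x y z).mp hz
    rw [mem_ass_tensorS_iff f g F G hGfl z]
    refine ⟨by rw [h1]; exact hx, ?_, hmax⟩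
    rw [h2]
    exact mem_relAss_of_mem_ass g G y (hGfl y) hy

end Groth.Agent.Lib.Helper6.TXY
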