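import Groth.Prelude.Def_NonAbH2

set_option autoImplicit false
universe u

open CategoryTheory MonoidalCategory CartesianMonoidalCategory MonObj GrpObj AlgebraicGeometry
open CategoryTheory.Limits

namespace Groth.Agent.Lib.Helper6.Torsor

variable {S : Scheme.{u}} {G X : Over S}

theorem lift_id_toUnit_assoc (o : 𝟙_ (Over S) ⟶ X) :
    lift (𝟙 (G ⊗ G)) (toUnit (G ⊗ G) ≫ o) ≫ (α_ G G X).hom =
      G ◁ lift (𝟙 G) (toUnit G ≫ o) := by
  apply CartesianMonoidalCategory.hom_ext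
  · simp
  · apply CartesianMonoidalCategory.hom_ext
    · simp
    · simp

variable [GrpObj G]

theorem isIso_of_isPseudoTorsorSch {a : AlgGrp.Action G X} (h : NonAbH1.IsPseudoTorsorSch a) :
    IsIso (lift a.act (snd G X)) := h

/-- The orbit map `g ↦ g · o` is equivariant. -/
theorem orbitMap_comm (a : AlgGrp.Action G X) (o : 𝟙_ (Over S) ⟶ X) :
    (NonAbH1.trivialAction G).act ≫ a.orbitMap o = (G ◁ a.orbitMap o) ≫ a.act := by
  change μ[G] ≫ lift (𝟙 G) (toUnit G ≫ o) ≫ a.act =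
    (G ◁ (lift (𝟙 G) (toUnit G ≫ o) ≫ a.act)) ≫ a.act
  have h2 : μ[G] ≫ lift (𝟙 G) (toUnit G ≫ o) =
      lift (𝟙 (G ⊗ G)) (toUnit (G ⊗ G) ≫ o) ≫ (μ[G] ▷ X) := by
    apply CartesianMonoidalCategory.hom_ext
    · simp
    · simp
  rw [← Category.assoc, h2, Category.assoc, a.mul_act, ← Category.assoc, lift_id_toUnit_assoc,
    MonoidalCategory.whiskerLeft_comp, Category.assoc]

/-- The inverse of the orbit map of a pseudo-torsor. -/
noncomputable def orbitInv (a : AlgGrp.Action G X) [IsIso (lift a.act (snd G X))]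
    (o : 𝟙_ (Over S) ⟶ X) : X ⟶ G :=
  lift (𝟙 X) (toUnit X ≫ o) ≫ inv (lift a.act (snd G X)) ≫ fst G X

theorem orbitMap_orbitInv (a : AlgGrp.Action G X) [IsIso (lift a.act (snd G X))]
    (o : 𝟙_ (Over S) ⟶ X) : a.orbitMap o ≫ orbitInv a o = 𝟙 G := by
  have h1 : a.orbitMap o ≫ lift (𝟙 X) (toUnit X ≫ o) =
      lift (𝟙 G) (toUnit G ≫ o) ≫ lift a.act (snd G X) := by
    apply CartesianMonoidalCategory.hom_ext
    · simp [AlgGrp.Action.orbitMap]
    · simp
  unfold orbitInv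
  rw [← Category.assoc, h1, Category.assoc, IsIso.hom_inv_id_assoc, lift_fst]

theorem orbitInv_orbitMap (a : AlgGrp.Action G X) [IsIso (lift a.act (snd G X))]
    (o : 𝟙_ (Over S) ⟶ X) : orbitInv a o ≫ a.orbitMap o = 𝟙 X := by
  set t : X ⟶ G ⊗ X := lift (𝟙 X) (toUnit X ≫ o) ≫ inv (lift a.act (snd G X)) with ht
  have h1 : t ≫ lift a.act (snd G X) = lift (𝟙 X) (toUnit X ≫ o) := by
    rw [ht, Category.assoc, IsIso.inv_hom_id, Category.comp_id]
  have h2 : t ≫ a.act = 𝟙 X := by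
    have := congrArg (fun k => k ≫ fst X X) h1
    simpa using this
  have h3 : t ≫ snd G X = toUnit X ≫ o := by
    have := congrArg (fun k => k ≫ snd X X) h1
    simpa using this
  have h4 : orbitInv a o = t ≫ fst G X := by
    unfold orbitInv
    rw [ht, Category.assoc]
  rw [h4]
  change (t ≫ fst G X) ≫ lift (𝟙 G) (toUnit G ≫ o) ≫ a.act = 𝟙 X
  have h5 : (t ≫ fst G X) ≫ lift (𝟙 G) (toUnit G ≫ o) = t := by
    apply CartesianMonoidalCategory.hom_ext
    · simp
    · simp [h3]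
  rw [← Category.assoc, h5, h2]

/-- A pseudo-torsor with a section is trivial. -/
noncomputable def equivIsoOfSection (a : AlgGrp.Action G X) (h : NonAbH1.IsPseudoTorsorSch a)
    (o : 𝟙_ (Over S) ⟶ X) : NonAbH1.EquivIso (NonAbH1.trivialAction G) a :=
  have : IsIso (lift a.act (snd G X)) := h
  { iso := ⟨a.orbitMap o, orbitInv a o, orbitMap_orbitInv a o, orbitInv_orbitMap a o⟩
    comm := orbitMap_comm a o }

end Groth.Agent.Lib.Helper6.Torsor

namespace Groth.Agent.Lib.Helper6.Torsor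

variable {S : Scheme.{u}} {G X X' : Over S} [GrpObj G]

theorem isPseudoTorsorSch_of_equivIso {a : AlgGrp.Action G X} {a' : AlgGrp.Action G X'}
    (e : NonAbH1.EquivIso a a') (h : NonAbH1.IsPseudoTorsorSch a) :
    NonAbH1.IsPseudoTorsorSch a' := by
  have hiso : IsIso (lift a.act (snd G X)) := h
  have h1 : lift a'.act (snd G X') =
      (G ◁ e.iso.inv) ≫ lift a.act (snd G X) ≫ (e.iso.hom ⊗ₘ e.iso.hom) := by
    have h2 : (G ◁ e.iso.hom) ≫ lift a'.act (snd G X') =
        lift a.act (snd G X) ≫ (e.iso.hom ⊗ₘ e.iso.hom) := by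
      apply CartesianMonoidalCategory.hom_ext
      · simp [e.comm]
      · simp
    rw [← h2, ← Category.assoc, ← MonoidalCategory.whiskerLeft_comp, Iso.inv_hom_id,
      MonoidalCategory.whiskerLeft_id, Category.id_comp]
  change IsIso (lift a'.act (snd G X'))
  rw [h1]
  infer_instance

theorem hasSectionOver_of_hom (o : 𝟙_ (Over S) ⟶ X) : NonAbH1.HasSectionOver X (𝟙 S) :=
  ⟨o.left, Over.w o⟩

/-- The section of `X` as a morphism from the unit object. -/
noncomputable def homOfSection {s : S ⟶ X.left} (hs : s ≫ X.hom = 𝟙 S) : 𝟙_ (Over S) ⟶ X :=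
  Over.homMk s hs

theorem equivIso_trivialAction_iff (a : AlgGrp.Action G X) :
    Nonempty (NonAbH1.EquivIso (NonAbH1.trivialAction G) a) ↔
      (NonAbH1.IsPseudoTorsorSch a ∧ NonAbH1.HasSectionOver X (𝟙 S)) := by
  constructor
  · rintro ⟨e⟩
    exact ⟨isPseudoTorsorSch_of_equivIso e (NonAbH1.isPseudoTorsorSch_trivialAction G),
      hasSectionOver_of_hom (η[G] ≫ e.iso.hom)⟩
  · rintro ⟨h, s, hs⟩
    exact ⟨equivIsoOfSection a h (homOfSection hs)⟩

end Groth.Agent.Lib.Helper6.Torsor
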