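import Mathlib
import Groth.Agent.Lib.Helper6.UC1

/-!
# Universal closedness can be tested on affine spaces: scheme-level plumbing
-/

set_option autoImplicit false
universe u v

open TensorProduct CategoryTheory AlgebraicGeometry Limits

namespace Groth.Agent.Lib.Helper6.UC

/-- Closed maps restrict to closed maps over open subschemes of the target. -/
theorem isClosedMap_of_isPullback_of_isOpenImmersion {P X Y Z : Scheme.{u}} {a : P ⟶ X}
    {f' : P ⟶ Y} {f : X ⟶ Z} {g : Y ⟶ Z} (h : IsPullback a f' f g) [IsOpenImmersion g]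
    (hf : IsClosedMap f) : IsClosedMap f' := by
  haveI : IsOpenImmersion a := MorphismProperty.of_isPullback (P := @IsOpenImmersion) h.flip
    inferInstance
  intro Z hZ
  have key : f' '' Z = g ⁻¹' (f '' closure (a '' Z)) := by
    ext t
    constructor
    · rintro ⟨z, hz, rfl⟩
      refine ⟨a z, subset_closure ⟨z, hz, rfl⟩, ?_⟩
      rw [← Scheme.Hom.comp_apply, ← Scheme.Hom.comp_apply, h.w]
    · rintro ⟨y, hy, hyt⟩
      obtain ⟨x, hx1, hx2⟩ := Scheme.exists_preimage_of_isPullback h y t hyt
      refine ⟨x, ?_, hx2⟩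
      have := a.isOpenEmbedding.isInducing.closure_eq_preimage_closure_image Z
      rw [hZ.closure_eq] at this
      rw [this, Set.mem_preimage, hx1]
      exact hy
  rw [key]
  exact (hf _ isClosed_closure).preimage g.continuous

/-- The base change of `f` to `Spec A[σ]`, for an affine open `Spec A ⊆ S`, is closed if the base
change to `𝔸(σ; S)` is. -/
theorem isClosedMap_fst_of_affineSpace {X S : Scheme.{u}} (f : X ⟶ S) (σ : Type u)
    (H : IsClosedMap ⇑(pullback.snd f (𝔸(σ; S) ↘ S))) {A : CommRingCat.{u}} (a : Spec A ⟶ S)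
    [IsOpenImmersion a] :
    IsClosedMap ⇑(pullback.fst
      (Spec.map (CommRingCat.ofHom (algebraMap A (MvPolynomial σ A))) ≫ a) f) := by
  haveI : IsOpenImmersion (AffineSpace.map σ a) :=
    MorphismProperty.of_isPullback (P := @IsOpenImmersion)
      (AffineSpace.isPullback_map (n := σ) a).flip inferInstance
  let g : Spec (CommRingCat.of (MvPolynomial σ A)) ⟶ 𝔸(σ; S) :=
    (AffineSpace.SpecIso σ A).inv ≫ AffineSpace.map σ a
  have hg : g ≫ (𝔸(σ; S) ↘ S) =
      Spec.map (CommRingCat.ofHom (algebraMap A (MvPolynomial σ A))) ≫ a := by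
    simp only [g, Category.assoc, AffineSpace.map_over]
    rw [← Category.assoc, AffineSpace.SpecIso_inv_over]
    rfl
  let b : pullback (Spec.map (CommRingCat.ofHom (algebraMap A (MvPolynomial σ A))) ≫ a) f ⟶
      pullback f (𝔸(σ; S) ↘ S) :=
    pullback.lift (pullback.snd _ _) (pullback.fst _ _ ≫ g)
      (by rw [Category.assoc, hg, pullback.condition])
  have hsq : IsPullback b (pullback.fst _ _) (pullback.snd f (𝔸(σ; S) ↘ S)) g := by
    refine IsPullback.of_right ?_ (pullback.lift_snd _ _ _) (IsPullback.of_hasPullback f _)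
    rw [pullback.lift_fst, hg]
    exact (IsPullback.of_hasPullback _ f).flip
  exact isClosedMap_of_isPullback_of_isOpenImmersion hsq H

section Chart

variable {X S : Scheme.{u}} (f : X ⟶ S) {A : Type u} [CommRing A]
  (a : Spec (CommRingCat.of A) ⟶ S)
  {B : Type u} [CommRing B] [Algebra A B] (b : Spec (CommRingCat.of B) ⟶ X)
  (hb : b ≫ f = Spec.map (CommRingCat.ofHom (algebraMap A B)) ≫ a)
  (R : Type u) [CommRing R] [Algebra A R]

/-- The affine chart `Spec (R ⊗ B) ⟶ Spec R ×_S X`. -/
noncomputable def chart : Spec (CommRingCat.of (R ⊗[A] B)) ⟶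
    pullback (Spec.map (CommRingCat.ofHom (algebraMap A R)) ≫ a) f :=
  (pullbackSpecIso A R B).inv ≫
    pullback.map (Spec.map (CommRingCat.ofHom (algebraMap A R)))
      (Spec.map (CommRingCat.ofHom (algebraMap A B)))
      (Spec.map (CommRingCat.ofHom (algebraMap A R)) ≫ a) f (𝟙 _) b a (by simp) hb.symm

@[reassoc]
theorem chart_fst : chart f a b hb R ≫ pullback.fst _ _ =
    Spec.map (CommRingCat.ofHom
      (Algebra.TensorProduct.includeLeftRingHom : R →+* R ⊗[A] B)) := by
  simp only [chart, Category.assoc, pullback.lift_fst, Category.comp_id, pullback.map]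
  exact pullbackSpecIso_inv_fst ..

@[reassoc]
theorem chart_snd : chart f a b hb R ≫ pullback.snd _ _ =
    Spec.map (CommRingCat.ofHom
      (Algebra.TensorProduct.includeRight : B →ₐ[A] R ⊗[A] B).toRingHom) ≫ b := by
  simp only [chart, Category.assoc, pullback.lift_snd, pullback.map]
  rw [← Category.assoc, pullbackSpecIso_inv_snd]
  rfl

instance [IsOpenImmersion b] [Mono a] : IsOpenImmersion (chart f a b hb R) := by
  unfold chart
  infer_instance

theorem range_chart [Mono a] : Set.range (chart f a b hb R) =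
    (pullback.snd (Spec.map (CommRingCat.ofHom (algebraMap A R)) ≫ a) f) ⁻¹' Set.range b := by
  unfold chart
  rw [Scheme.Hom.comp_base, TopCat.coe_comp, Set.range_comp]
  have h1 : Set.range ⇑(pullbackSpecIso A R B).inv = Set.univ :=
    Set.range_eq_univ.mpr (pullbackSpecIso A R B).inv.homeomorph.surjective
  rw [h1, Set.image_univ, Scheme.Pullback.range_map]
  simp

variable {R} {R' : Type u} [CommRing R'] [Algebra A R'] (ψ : R' →ₐ[A] R)

/-- The transition map `Spec R ×_S X ⟶ Spec R' ×_S X` induced by `ψ : R' → R`. -/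
noncomputable def trans : pullback (Spec.map (CommRingCat.ofHom (algebraMap A R)) ≫ a) f ⟶
    pullback (Spec.map (CommRingCat.ofHom (algebraMap A R')) ≫ a) f :=
  pullback.map _ _ _ _ (Spec.map (CommRingCat.ofHom ψ.toRingHom)) (𝟙 X) (𝟙 S)
    (by
      rw [Category.comp_id, ← Category.assoc, ← Spec.map_comp, ← CommRingCat.ofHom_comp]
      congr 3
      ext x
      simp) (by simp)

@[reassoc]
theorem trans_fst : trans f a ψ ≫ pullback.fst _ _ =
    pullback.fst _ _ ≫ Spec.map (CommRingCat.ofHom ψ.toRingHom) := by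
  unfold trans
  exact pullback.lift_fst _ _ _

@[reassoc]
theorem trans_snd : trans f a ψ ≫ pullback.snd _ _ = pullback.snd _ _ := by
  unfold trans
  rw [pullback.lift_snd, Category.comp_id]

theorem chart_trans : chart f a b hb R ≫ trans f a ψ =
    Spec.map (CommRingCat.ofHom
      (Algebra.TensorProduct.map ψ (AlgHom.id A B)).toRingHom) ≫ chart f a b hb R' := by
  apply pullback.hom_ext
  · rw [Category.assoc, trans_fst, chart_fst_assoc, Category.assoc, chart_fst, ← Spec.map_comp,
      ← Spec.map_comp, ← CommRingCat.ofHom_comp, ← CommRingCat.ofHom_comp]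
    congr 2
  · rw [Category.assoc, trans_snd, chart_snd, Category.assoc, chart_snd, ← Category.assoc,
      ← Spec.map_comp, ← CommRingCat.ofHom_comp]
    congr 3
    ext x
    simp

end Chart

end Groth.Agent.Lib.Helper6.UC
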