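import Mathlib
import Groth.Agent.Lib.Helper6.UC2

/-!
# Universal closedness can be tested on affine spaces: the core argument
-/

set_option autoImplicit false
universe u v

open TensorProduct CategoryTheory AlgebraicGeometry Limits

namespace Groth.Agent.Lib.Helper6.UC

set_option maxHeartbeats 1600000 in
/-- **Core**: if `X` is covered over the affine open `Spec A ⊆ S` by finitely many affine charts
and the base changes of `f` to `Spec A[T₁,…,Tₙ]` are all closed, then every base change of `f`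
to an affine scheme over `Spec A` is specializing. -/
theorem specializingMap_fst_of_isClosedMap {X S : Scheme.{u}} (f : X ⟶ S) {A : Type u} [CommRing A]
    (a : Spec (CommRingCat.of A) ⟶ S) [Mono a]
    {ι : Type v} [Finite ι] (B : ι → Type u) [∀ j, CommRing (B j)] [∀ j, Algebra A (B j)]
    (b : ∀ j, Spec (CommRingCat.of (B j)) ⟶ X) [∀ j, IsOpenImmersion (b j)]
    (hb : ∀ j, b j ≫ f = Spec.map (CommRingCat.ofHom (algebraMap A (B j))) ≫ a)
    (hcov : ∀ x : X, f x ∈ Set.range a → ∃ j, x ∈ Set.range (b j))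
    (Hc : ∀ n : ℕ, IsClosedMap ⇑(pullback.fst (Spec.map (CommRingCat.ofHom
      (algebraMap A (MvPolynomial (ULift.{u} (Fin n)) A))) ≫ a) f))
    (R : Type u) [CommRing R] [Algebra A R] :
    SpecializingMap ⇑(pullback.fst (Spec.map (CommRingCat.ofHom (algebraMap A R)) ≫ a) f) := by
  intro x' p'' hsp0
  have hsp : pullback.fst (Spec.map (CommRingCat.ofHom (algebraMap A R)) ≫ a) f x' ⤳ p'' := hsp0
  by_contra hno0
  have hno : ∀ x'' : ↥(pullback (Spec.map (CommRingCat.ofHom (algebraMap A R)) ≫ a) f),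
      x' ⤳ x'' → pullback.fst (Spec.map (CommRingCat.ofHom (algebraMap A R)) ≫ a) f x'' ≠ p'' := by
    intro x'' h1 h2
    exact hno0 ⟨x'', h1, h2⟩
  let pp : PrimeSpectrum R := p''
  -- the ideals of the closure of `x'` in the charts
  let Q : ∀ j, Ideal (R ⊗[A] B j) := fun j =>
    PrimeSpectrum.vanishingIdeal
      (show Set (PrimeSpectrum (R ⊗[A] B j)) from (chart f a (b j) (hb j) R) ⁻¹' {x'})
  have hQ : ∀ j (P : Ideal (R ⊗[A] B j)), P.IsPrime → Q j ≤ P →
      P.comap (Algebra.TensorProduct.includeLeftRingHom : R →+* R ⊗[A] B j) ≠ pp.asIdeal := by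
    intro j P hP hQP hcomap
    let Pt : PrimeSpectrum (R ⊗[A] B j) := ⟨P, hP⟩
    let Pt' : ↥(Spec (CommRingCat.of (R ⊗[A] B j))) := Pt
    have h1 : Pt ∈ closure
        (show Set (PrimeSpectrum (R ⊗[A] B j)) from (chart f a (b j) (hb j) R) ⁻¹' {x'}) := by
      rw [← PrimeSpectrum.zeroLocus_vanishingIdeal_eq_closure, PrimeSpectrum.mem_zeroLocus]
      exact hQP
    have h2 : chart f a (b j) (hb j) R Pt' ∈ closure {x'} :=
      (chart f a (b j) (hb j) R).continuous.closure_preimage_subset _ h1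
    rw [← specializes_iff_mem_closure] at h2
    refine hno _ h2 ?_
    rw [← Scheme.Hom.comp_apply, chart_fst]
    change (⟨_, _⟩ : PrimeSpectrum R) = pp
    ext1
    exact hcomap
  obtain ⟨n, ψ, hψ⟩ := exists_mvPolynomial_forall_not_liesOver B Q pp.asIdeal hQ
  -- the point at level `n`
  set xn := trans f a ψ x' with hxn
  have hsp' : pullback.fst (Spec.map (CommRingCat.ofHom
      (algebraMap A (MvPolynomial (ULift.{u} (Fin n)) A))) ≫ a) f xn ⤳
      Spec.map (CommRingCat.ofHom ψ.toRingHom) p'' := by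
    rw [hxn, ← Scheme.Hom.comp_apply, trans_fst, Scheme.Hom.comp_apply]
    exact hsp.map (Spec.map (CommRingCat.ofHom ψ.toRingHom)).continuous
  obtain ⟨z, hz1, hz2⟩ := (Hc n).specializingMap hsp'
  -- the chart containing `z`
  have hfz : f (pullback.snd (Spec.map (CommRingCat.ofHom
      (algebraMap A (MvPolynomial (ULift.{u} (Fin n)) A))) ≫ a) f z) ∈ Set.range a := by
    rw [← Scheme.Hom.comp_apply, ← pullback.condition, Scheme.Hom.comp_apply,
      Scheme.Hom.comp_apply]
    exact ⟨_, rfl⟩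
  obtain ⟨j, hj⟩ := hcov _ hfz
  have hzr : z ∈ Set.range (chart f a (b j) (hb j) (MvPolynomial (ULift.{u} (Fin n)) A)) := by
    rw [range_chart]
    exact hj
  have hxr : xn ∈ Set.range (chart f a (b j) (hb j) (MvPolynomial (ULift.{u} (Fin n)) A)) :=
    hz1.mem_open (chart f a (b j) (hb j) _).isOpenEmbedding.isOpen_range hzr
  have hx'r : x' ∈ Set.range (chart f a (b j) (hb j) R) := by
    rw [range_chart] at hxr ⊢
    rw [Set.mem_preimage] at hxr ⊢
    rwa [hxn, ← Scheme.Hom.comp_apply, trans_snd] at hxr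
  obtain ⟨q, hq⟩ := hx'r
  obtain ⟨P, hP⟩ := hzr
  let qt : PrimeSpectrum (R ⊗[A] B j) := q
  let Pt : PrimeSpectrum (MvPolynomial (ULift.{u} (Fin n)) A ⊗[A] B j) := P
  -- `Q j ≤ q`
  have hQq : Q j ≤ qt.asIdeal := by
    have : ({qt} : Set (PrimeSpectrum (R ⊗[A] B j))) ⊆
        (show Set (PrimeSpectrum (R ⊗[A] B j)) from (chart f a (b j) (hb j) R) ⁻¹' {x'}) := by
      rintro _ rfl
      exact hq
    have h := PrimeSpectrum.vanishingIdeal_anti_mono this
    rwa [PrimeSpectrum.vanishingIdeal_singleton] at h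
  -- `θ q ⤳ P`
  have hθ : Spec.map (CommRingCat.ofHom
      (Algebra.TensorProduct.map ψ (AlgHom.id A (B j))).toRingHom) q ⤳ P := by
    rw [← (chart f a (b j) (hb j) _).isOpenEmbedding.isInducing.specializes_iff,
      ← Scheme.Hom.comp_apply, ← chart_trans, Scheme.Hom.comp_apply, hq, hP]
    exact hz1
  have hθ' : qt.asIdeal.comap (Algebra.TensorProduct.map ψ (AlgHom.id A (B j))).toRingHom ≤
      Pt.asIdeal := by
    have := (PrimeSpectrum.le_iff_specializes _ _).mpr hθ
    exact this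
  refine hψ j Pt.asIdeal Pt.2 ((Ideal.comap_mono hQq).trans hθ') ?_
  have h3 : pullback.fst (Spec.map (CommRingCat.ofHom
      (algebraMap A (MvPolynomial (ULift.{u} (Fin n)) A))) ≫ a) f
      (chart f a (b j) (hb j) (MvPolynomial (ULift.{u} (Fin n)) A) P) =
      Spec.map (CommRingCat.ofHom ψ.toRingHom) p'' := by
    rw [hP, hz2]
  rw [← Scheme.Hom.comp_apply, chart_fst] at h3
  have h4 := congrArg PrimeSpectrum.asIdeal h3
  exact h4

end Groth.Agent.Lib.Helper6.UC
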