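import Mathlib
import Groth.Agent.Lib.Helper6.UC3

/-!
# Universal closedness can be tested on affine spaces
-/

set_option autoImplicit false
universe u v

open TensorProduct CategoryTheory AlgebraicGeometry Limits

namespace Groth.Agent.Lib.Helper6.UC

set_option maxHeartbeats 1600000 in
/-- **A quasi-compact morphism all of whose base changes to `𝔸ⁿ_S` are closed is universally
closed.** -/
theorem universallyClosed_of_isClosedMap_affineSpace {X S : Scheme.{u}} (f : X ⟶ S)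
    [QuasiCompact f]
    (H : ∀ n : ℕ, IsClosedMap ⇑(pullback.snd f (𝔸(ULift.{u} (Fin n); S) ↘ S))) :
    UniversallyClosed f := by
  rw [universallyClosed_eq_universallySpecializing]
  refine ⟨MorphismProperty.universally_mk' _ _ ?_, inferInstance⟩
  intro T g _
  change SpecializingMap ⇑(pullback.fst g f)
  intro x' t'' hsp0
  have hsp : pullback.fst g f x' ⤳ t'' := hsp0
  -- affine opens
  obtain ⟨_, ⟨V, hV : IsAffineOpen V, rfl⟩, hgt, -⟩ :=
    S.isBasis_affineOpens.exists_subset_of_mem_open (Set.mem_univ (g t'')) isOpen_univ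
  obtain ⟨_, ⟨W, hW : IsAffineOpen W, rfl⟩, htW, hWV⟩ :=
    T.isBasis_affineOpens.exists_subset_of_mem_open (show t'' ∈ (g ⁻¹ᵁ V : Set T) from hgt)
      (g ⁻¹ᵁ V).isOpen
  have e : W ≤ g ⁻¹ᵁ V := hWV
  -- finite affine cover of `f ⁻¹ V`
  have hcpt : IsCompact (f ⁻¹' (V : Set S)) :=
    QuasiCompact.isCompact_preimage (f := f) _ V.isOpen hV.isCompact
  obtain ⟨s, hs, hsU⟩ := isCompact_and_isOpen_iff_finite_and_eq_biUnion_affineOpens.mp
    ⟨hcpt, (f ⁻¹ᵁ V).isOpen⟩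
  haveI : Finite ↥s := hs.to_subtype
  have hle : ∀ j : ↥s, j.1.1 ≤ f ⁻¹ᵁ V := by
    intro j x hx
    have : x ∈ f ⁻¹' (V : Set S) := by
      rw [hsU]
      exact Set.mem_biUnion j.2 hx
    exact this
  letI : ∀ j : ↥s, Algebra Γ(S, V) Γ(X, j.1.1) := fun j =>
    (f.appLE V j.1.1 (hle j)).hom.toAlgebra
  letI : Algebra Γ(S, V) Γ(T, W) := (g.appLE V W e).hom.toAlgebra
  have hb : ∀ j : ↥s, j.1.2.fromSpec ≫ f =
      Spec.map (CommRingCat.ofHom (algebraMap Γ(S, V) Γ(X, j.1.1))) ≫ hV.fromSpec := fun j =>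
    (IsAffineOpen.SpecMap_appLE_fromSpec f hV j.1.2 (hle j)).symm
  have hcov : ∀ x : X, f x ∈ Set.range hV.fromSpec → ∃ j : ↥s, x ∈ Set.range j.1.2.fromSpec := by
    intro x hx
    rw [hV.range_fromSpec] at hx
    have hx' : x ∈ f ⁻¹' (V : Set S) := hx
    rw [hsU] at hx'
    obtain ⟨i, hi, hxi⟩ := Set.mem_iUnion₂.mp hx'
    refine ⟨⟨i, hi⟩, ?_⟩
    rw [i.2.range_fromSpec]
    exact hxi
  have Hc : ∀ n : ℕ, IsClosedMap ⇑(pullback.fst (Spec.map (CommRingCat.ofHom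
      (algebraMap Γ(S, V) (MvPolynomial (ULift.{u} (Fin n)) Γ(S, V)))) ≫ hV.fromSpec) f) :=
    fun n => isClosedMap_fst_of_affineSpace f _ (H n) hV.fromSpec
  have core := specializingMap_fst_of_isClosedMap f (A := Γ(S, V)) hV.fromSpec
    (fun j : ↥s => Γ(X, j.1.1)) (fun j => j.1.2.fromSpec) hb hcov Hc Γ(T, W)
  -- the open immersion `Spec Γ(T, W) ×_S X ⟶ T ×_S X`
  have e1 : (Spec.map (CommRingCat.ofHom (algebraMap Γ(S, V) Γ(T, W))) ≫ hV.fromSpec) ≫ 𝟙 S =
      hW.fromSpec ≫ g := by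
    rw [Category.comp_id]
    exact IsAffineOpen.SpecMap_appLE_fromSpec g hV hW e
  let jW : pullback (Spec.map (CommRingCat.ofHom (algebraMap Γ(S, V) Γ(T, W))) ≫ hV.fromSpec) f ⟶
      pullback g f :=
    pullback.map _ _ _ _ hW.fromSpec (𝟙 X) (𝟙 S) e1 (by simp)
  have hjW1 : jW ≫ pullback.fst g f = pullback.fst _ _ ≫ hW.fromSpec := pullback.lift_fst _ _ _
  have hx'W : pullback.fst g f x' ∈ W := hsp.mem_open W.isOpen htW
  have hx'r : x' ∈ Set.range jW := by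
    rw [Scheme.Pullback.range_map]
    refine ⟨?_, by simp⟩
    rw [Set.mem_preimage, hW.range_fromSpec]
    exact hx'W
  obtain ⟨y', rfl⟩ := hx'r
  obtain ⟨p'', rfl⟩ : t'' ∈ Set.range hW.fromSpec := by
    rw [hW.range_fromSpec]; exact htW
  have hsp' : pullback.fst (Spec.map (CommRingCat.ofHom (algebraMap Γ(S, V) Γ(T, W))) ≫
      hV.fromSpec) f y' ⤳ p'' := by
    rw [← hW.fromSpec.isOpenEmbedding.isInducing.specializes_iff, ← Scheme.Hom.comp_apply, ← hjW1,
      Scheme.Hom.comp_apply]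
    exact hsp
  obtain ⟨y'', hy1, hy2⟩ := core hsp'
  refine ⟨jW y'', hy1.map jW.continuous, ?_⟩
  rw [← Scheme.Hom.comp_apply, hjW1, Scheme.Hom.comp_apply, hy2]

end Groth.Agent.Lib.Helper6.UC
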