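import Mathlib
import Groth.Agent.Lib.Helper6.SqCubeTower
import Groth.Agent.Lib.Helper6.AWNRing2
import Groth.Agent.Lib.Helper6.UnivHomeoRF

set_option autoImplicit false
universe u

open CategoryTheory AlgebraicGeometry

namespace Groth.Agent.Lib.Helper6.UHApprox

open Groth.Agent.Lib.Helper6.SqCube Groth.Agent.Lib.Helper6.AWN
open Groth.Agent.Lib.Helper6.UnivHomeoRing

variable {A C : Type u} [CommRing A] [CommRing C] [Algebra A C]

/-- `c` has a "denominator" at the prime `q`: its value in `κ(q)` comes from `A`. -/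
def HasDen (A : Type u) [CommRing A] [Algebra A C] (q : PrimeSpectrum C) (c : C) : Prop :=
  ∃ s a : A, algebraMap A C s ∉ q.asIdeal ∧ algebraMap A C s * c - algebraMap A C a ∈ q.asIdeal

theorem hasDen_of_mem_adjoin (q : PrimeSpectrum C) (S : Set C) (h : ∀ x ∈ S, HasDen A q x) :
    ∀ c ∈ Algebra.adjoin A S, HasDen A q c := by
  intro c hc
  induction hc using Algebra.adjoin_induction with
  | mem x hx => exact h x hx
  | algebraMap a =>
    refine ⟨1, a, ?_, by simp⟩
    rw [map_one]; exact q.2.one_notMem
  | add x y _ _ hx hy => exact trivRF_aux_add q hx hy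
  | mul x y _ _ hx hy => exact trivRF_aux_mul q hx hy

theorem hasDen_of_sq_cube (q : PrimeSpectrum C) (y : C) (h2 : HasDen A q (y ^ 2))
    (h3 : HasDen A q (y ^ 3)) : HasDen A q y := by
  by_cases hy : y ∈ q.asIdeal
  · refine ⟨1, 0, ?_, ?_⟩
    · rw [map_one]; exact q.2.one_notMem
    · simpa using hy
  · obtain ⟨s₁, a₁, hs₁, h1⟩ := h2
    obtain ⟨s₂, a₂, hs₂, h2'⟩ := h3
    have hy2 : y ^ 2 ∉ q.asIdeal := fun h => hy (q.2.mem_of_pow_mem 2 h)
    have ha₁ : algebraMap A C a₁ ∉ q.asIdeal := by
      intro ha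
      have : algebraMap A C s₁ * y ^ 2 ∈ q.asIdeal := by
        have := Ideal.add_mem _ h1 ha
        simpa using this
      exact (q.2.mem_or_mem this).elim hs₁ hy2
    refine ⟨s₂ * a₁, a₂ * s₁, ?_, ?_⟩
    · rw [map_mul]
      exact fun h => (q.2.mem_or_mem h).elim hs₂ ha₁
    · have : algebraMap A C (s₂ * a₁) * y - algebraMap A C (a₂ * s₁) =
          algebraMap A C s₁ * (algebraMap A C s₂ * y ^ 3 - algebraMap A C a₂) -
          algebraMap A C s₂ * y * (algebraMap A C s₁ * y ^ 2 - algebraMap A C a₁) := by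
        simp only [map_mul]; ring
      rw [this]
      exact Ideal.sub_mem _ (Ideal.mul_mem_left _ _ h2') (Ideal.mul_mem_left _ _ h1)

/-- An algebra generated by a finite family with square-cube steps has trivial residue field
extensions. -/
theorem trivRF_of_family {n : ℕ} (y : Fin n → C)
    (htop : Algebra.adjoin A (Set.range y) = ⊤)
    (hstep : ∀ i, Qsc (Algebra.adjoin A (y '' {j | j < i})) (y i)) : TrivRF A C := by
  intro q c
  have key : ∀ k : ℕ, ∀ i : Fin n, i.val = k → HasDen A q (y i) := by
    intro k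
    induction k using Nat.strong_induction_on with
    | _ k ih =>
      intro i hik
      have hprev : ∀ x ∈ y '' {j | j < i}, HasDen A q x := by
        rintro _ ⟨j, hj, rfl⟩
        exact ih j.val (by rw [← hik]; exact hj) j rfl
      obtain ⟨h2, h3⟩ := hstep i
      exact hasDen_of_sq_cube q (y i) (hasDen_of_mem_adjoin q _ hprev _ h2)
        (hasDen_of_mem_adjoin q _ hprev _ h3)
  have hall : ∀ x ∈ Set.range y, HasDen A q x := by
    rintro _ ⟨i, rfl⟩
    exact key i.val i rfl
  exact hasDen_of_mem_adjoin q _ hall c (by rw [htop]; trivial)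

/-- Integrality for a family with `Qp` steps. -/
theorem isIntegral_of_family {n : ℕ} (y : Fin n → C)
    (htop : Algebra.adjoin A (Set.range y) = ⊤)
    (hstep : ∀ i, Qp (Algebra.adjoin A (y '' {j | j < i})) (y i)) :
    (algebraMap A C).IsIntegral := by
  have key : ∀ k : ℕ, ∀ i : Fin n, i.val = k → y i ∈ integralClosure A C := by
    intro k
    induction k using Nat.strong_induction_on with
    | _ k ih =>
      intro i hik
      have hprev : Algebra.adjoin A (y '' {j | j < i}) ≤ integralClosure A C := by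
        rw [Algebra.adjoin_le_iff]
        rintro _ ⟨j, hj, rfl⟩
        exact ih j.val (by rw [← hik]; exact hj) j rfl
      rcases hstep i with ⟨h2, -⟩ | ⟨p, hp, -, h2⟩
      · exact IsIntegral.of_pow (by norm_num : 0 < 2) (hprev h2)
      · exact IsIntegral.of_pow hp.pos (hprev h2)
  have hle : Algebra.adjoin A (Set.range y) ≤ integralClosure A C := by
    rw [Algebra.adjoin_le_iff]
    rintro _ ⟨i, rfl⟩
    exact key i.val i rfl
  intro c
  have : c ∈ integralClosure A C := hle (by rw [htop]; trivial)
  exact this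

/-- Field-valued points are determined by their restriction to `A`, for a family with `Qp`
steps. -/
theorem hom_ext_of_family {n : ℕ} (y : Fin n → C)
    (htop : Algebra.adjoin A (Set.range y) = ⊤)
    (hstep : ∀ i, Qp (Algebra.adjoin A (y '' {j | j < i})) (y i))
    (K : Type u) [Field K] (σ τ : C →+* K)
    (hστ : σ.comp (algebraMap A C) = τ.comp (algebraMap A C)) : σ = τ := by
  let E : Subalgebra A C :=
    { RingHom.eqLocus σ τ with
      algebraMap_mem' := fun a => by
        change σ (algebraMap A C a) = τ (algebraMap A C a)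
        exact congrArg (fun f => f a) hστ }
  have hE : ∀ c, c ∈ E ↔ σ c = τ c := fun c => Iff.rfl
  have key : ∀ k : ℕ, ∀ i : Fin n, i.val = k → y i ∈ E := by
    intro k
    induction k using Nat.strong_induction_on with
    | _ k ih =>
      intro i hik
      have hprev : Algebra.adjoin A (y '' {j | j < i}) ≤ E := by
        rw [Algebra.adjoin_le_iff]
        rintro _ ⟨j, hj, rfl⟩
        exact ih j.val (by rw [← hik]; exact hj) j rfl
      rw [hE]
      rcases hstep i with ⟨h2, h3⟩ | ⟨p, hp, h1, h2⟩
      · apply eq_of_sq_eq_of_cube_eq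
        · rw [← map_pow, ← map_pow]; exact (hE _).mp (hprev h2)
        · rw [← map_pow, ← map_pow]; exact (hE _).mp (hprev h3)
      · apply eq_of_pow_eq_of_mul_eq p hp
        · rw [← map_pow, ← map_pow]; exact (hE _).mp (hprev h2)
        · have := (hE _).mp (hprev h1)
          rw [map_mul, map_mul, map_natCast, map_natCast] at this
          exact this
  have hle : Algebra.adjoin A (Set.range y) ≤ E := by
    rw [Algebra.adjoin_le_iff]
    rintro _ ⟨i, rfl⟩
    exact key i.val i rfl
  ext c
  exact (hE c).mp (hle (by rw [htop]; trivial))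

theorem uh_of_family {n : ℕ} (y : Fin n → C)
    (htop : Algebra.adjoin A (Set.range y) = ⊤)
    (hstep : ∀ i, Qp (Algebra.adjoin A (y '' {j | j < i})) (y i))
    (hsurj : Function.Surjective (PrimeSpectrum.comap (algebraMap A C))) :
    UH (algebraMap A C) :=
  ⟨isIntegral_of_family y htop hstep, hom_ext_of_family y htop hstep, hsurj⟩

section Towers

variable {B : Type u} [CommRing B] [Algebra A B]

theorem exists_tower_of_uh (hU : UH (algebraMap A B)) (E : Finset B) :
    ∃ l : List B, (↑E : Set B) ⊆ Algebra.adjoin A {b : B | b ∈ l} ∧ IsTower (Qp (A := A)) l := by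
  apply exists_tower Qp qp_mono qp_fin
  intro S hS
  have hU' : UH (algebraMap S B) := by
    apply UH.of_comp_injective (φ := algebraMap A S) _ Subtype.val_injective
    rw [algebraMap_subalgebra_comp]; exact hU
  rcases exists_sq_cube_or_p (not_surjective_of_ne_top S hS) ((uh_iff _).mpr hU') with
    ⟨b, h1, h2, h3⟩ | ⟨p, b, hp, h1, h2, h3⟩
  · exact ⟨b, fun h => h1 ((mem_range_algebraMap_subalgebra S b).mpr h),
      Or.inl ⟨(mem_range_algebraMap_subalgebra S _).mp h2,
        (mem_range_algebraMap_subalgebra S _).mp h3⟩⟩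
  · exact ⟨b, fun h => h1 ((mem_range_algebraMap_subalgebra S b).mpr h),
      Or.inr ⟨p, hp, (mem_range_algebraMap_subalgebra S _).mp h2,
        (mem_range_algebraMap_subalgebra S _).mp h3⟩⟩

theorem exists_tower_of_uh_tr (hU : UH (algebraMap A B)) (hT : TR (algebraMap A B))
    (E : Finset B) :
    ∃ l : List B, (↑E : Set B) ⊆ Algebra.adjoin A {b : B | b ∈ l} ∧ IsTower (Qsc (A := A)) l := by
  apply exists_tower Qsc qsc_mono qsc_fin
  intro S hS
  have hU' : UH (algebraMap S B) := by
    apply UH.of_comp_injective (φ := algebraMap A S) _ Subtype.val_injective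
    rw [algebraMap_subalgebra_comp]; exact hU
  have hT' : TR (algebraMap S B) := by
    apply TR.of_comp (φ := algebraMap A S)
    rw [algebraMap_subalgebra_comp]; exact hT
  obtain ⟨b, h1, h2, h3⟩ := exists_sq_cube (not_surjective_of_ne_top S hS)
    ((uh_iff _).mpr hU') hT'
  exact ⟨b, fun h => h1 ((mem_range_algebraMap_subalgebra S b).mpr h),
    (mem_range_algebraMap_subalgebra S _).mp h2, (mem_range_algebraMap_subalgebra S _).mp h3⟩

/-- Family form of towers. -/
theorem exists_family_of_uh (hU : UH (algebraMap A B)) (E : Finset B) :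
    ∃ (n : ℕ) (y : Fin n → B), (↑E : Set B) ⊆ Algebra.adjoin A (Set.range y) ∧
      ∀ i, Qp (Algebra.adjoin A (y '' {j | j < i})) (y i) := by
  obtain ⟨l, hE, hl⟩ := exists_tower_of_uh hU E
  refine ⟨l.length, l.get, ?_, ?_⟩
  · have : {b : B | b ∈ l} = Set.range l.get := by
      ext b
      simp only [Set.mem_setOf_eq, Set.mem_range]
      exact List.mem_iff_get
    rwa [this] at hE
  · intro i
    have h := hl i
    have : {b : B | ∃ j : Fin l.length, j < i ∧ b = l.get j} = l.get '' {j | j < i} := by
      ext b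
      simp only [Set.mem_setOf_eq, Set.mem_image]
      constructor
      · rintro ⟨j, hj, rfl⟩; exact ⟨j, hj, rfl⟩
      · rintro ⟨j, hj, rfl⟩; exact ⟨j, hj, rfl⟩
    rwa [this] at h

theorem exists_family_of_uh_tr (hU : UH (algebraMap A B)) (hT : TR (algebraMap A B))
    (E : Finset B) :
    ∃ (n : ℕ) (y : Fin n → B), (↑E : Set B) ⊆ Algebra.adjoin A (Set.range y) ∧
      ∀ i, Qsc (Algebra.adjoin A (y '' {j | j < i})) (y i) := by
  obtain ⟨l, hE, hl⟩ := exists_tower_of_uh_tr hU hT E
  refine ⟨l.length, l.get, ?_, ?_⟩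
  · have : {b : B | b ∈ l} = Set.range l.get := by
      ext b
      simp only [Set.mem_setOf_eq, Set.mem_range]
      exact List.mem_iff_get
    rwa [this] at hE
  · intro i
    have h := hl i
    have : {b : B | ∃ j : Fin l.length, j < i ∧ b = l.get j} = l.get '' {j | j < i} := by
      ext b
      simp only [Set.mem_setOf_eq, Set.mem_image]
      constructor
      · rintro ⟨j, hj, rfl⟩; exact ⟨j, hj, rfl⟩
      · rintro ⟨j, hj, rfl⟩; exact ⟨j, hj, rfl⟩
    rwa [this] at h

end Towers

end Groth.Agent.Lib.Helper6.UHApprox
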