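import Mathlib
import Groth.Agent.Lib.Helper6.UHApprox1

set_option autoImplicit false
set_option linter.unusedSectionVars false
universe u

open MvPolynomial

namespace Groth.Agent.Lib.Helper6.UHApprox

variable {A B : Type u} [CommRing A] [CommRing B] [Algebra A B]

/-- Evaluation of polynomials in variables indexed by `B`. -/
noncomputable def ev (A : Type u) {B : Type u} [CommRing A] [CommRing B] [Algebra A B] :
    MvPolynomial B A →ₐ[A] B := MvPolynomial.aeval id

@[simp] theorem ev_X (b : B) : ev A (X b) = b := by simp [ev]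

/-- The ideal of relations of a stage. -/
noncomputable abbrev relIdeal (s : Set B) (T : Set (MvPolynomial B A)) : Ideal (supported A s) :=
  Ideal.span {x : supported A s | (x : MvPolynomial B A) ∈ T}

/-- The finitely presented stage attached to generators `s` and relations `T`. -/
abbrev Stage (s : Set B) (T : Set (MvPolynomial B A)) : Type u :=
  (supported A s) ⧸ relIdeal s T

/-- The map from a stage to `B`. -/
noncomputable def Stage.toB (s : Set B) (T : Set (MvPolynomial B A)) (hT : ∀ t ∈ T, ev A t = 0) :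
    Stage s T →ₐ[A] B :=
  Ideal.Quotient.liftₐ (relIdeal s T) ((ev A).comp (supported A s).val) (by
    intro x hx
    have hle : relIdeal s T ≤ RingHom.ker ((ev A).comp (supported A s).val).toRingHom := by
      rw [Ideal.span_le]
      intro y hy
      exact hT _ hy
    exact hle hx)

theorem Stage.toB_mk (s : Set B) (T : Set (MvPolynomial B A)) (hT : ∀ t ∈ T, ev A t = 0)
    (x : supported A s) :
    Stage.toB s T hT (Ideal.Quotient.mk _ x) = ev A (x : MvPolynomial B A) := rfl

/-- Transition maps between stages. -/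
noncomputable def Stage.map {s s' : Set B} {T T' : Set (MvPolynomial B A)} (hs : s ⊆ s')
    (hT : T ⊆ T') : Stage s T →ₐ[A] Stage s' T' :=
  Ideal.Quotient.liftₐ (relIdeal s T)
    ((Ideal.Quotient.mkₐ A (relIdeal s' T')).comp (Subalgebra.inclusion (supported_mono hs))) (by
    intro x hx
    have hle : relIdeal s T ≤ RingHom.ker ((Ideal.Quotient.mkₐ A (relIdeal s' T')).comp
        (Subalgebra.inclusion (supported_mono hs))).toRingHom := by
      rw [Ideal.span_le]
      intro y hy
      change (Ideal.Quotient.mk (relIdeal s' T')) (Subalgebra.inclusion (supported_mono hs) y) = 0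
      rw [Ideal.Quotient.eq_zero_iff_mem]
      apply Ideal.subset_span
      exact hT hy
    exact hle hx)

theorem Stage.map_mk {s s' : Set B} {T T' : Set (MvPolynomial B A)} (hs : s ⊆ s')
    (hT : T ⊆ T') (x : supported A s) :
    Stage.map hs hT (Ideal.Quotient.mk _ x) =
      Ideal.Quotient.mk _ (Subalgebra.inclusion (supported_mono hs) x) := rfl

theorem Stage.toB_map {s s' : Set B} {T T' : Set (MvPolynomial B A)} (hs : s ⊆ s')
    (hT : T ⊆ T') (hT' : ∀ t ∈ T', ev A t = 0) (x : Stage s T) :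
    Stage.toB s' T' hT' (Stage.map hs hT x) = Stage.toB s T (fun t ht => hT' t (hT ht)) x := by
  obtain ⟨x, rfl⟩ := Ideal.Quotient.mk_surjective x
  rfl

theorem Stage.map_id {s : Set B} {T : Set (MvPolynomial B A)} (x : Stage s T) :
    Stage.map (subset_refl s) (subset_refl T) x = x := by
  obtain ⟨x, rfl⟩ := Ideal.Quotient.mk_surjective x
  rfl

theorem Stage.map_map {s s' s'' : Set B} {T T' T'' : Set (MvPolynomial B A)} (hs : s ⊆ s')
    (hT : T ⊆ T') (hs' : s' ⊆ s'') (hT' : T' ⊆ T'') (x : Stage s T) :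
    Stage.map hs' hT' (Stage.map hs hT x) = Stage.map (hs.trans hs') (hT.trans hT') x := by
  obtain ⟨x, rfl⟩ := Ideal.Quotient.mk_surjective x
  rfl

/-- Stages with finitely many generators and relations are finitely presented. -/
theorem Stage.finitePresentation (s : Set B) (T : Set (MvPolynomial B A)) (hs : s.Finite)
    (hT : T.Finite) : Algebra.FinitePresentation A (Stage s T) := by
  have : Finite s := hs
  have h1 : Algebra.FinitePresentation A (supported A s) :=
    Algebra.FinitePresentation.equiv (supportedEquivMvPolynomial s).symm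
  apply Algebra.FinitePresentation.quotient
  apply Submodule.fg_span
  exact hT.preimage (Subtype.val_injective.injOn)

/-- (K2) An element of a stage killed in `B` is killed after adding one relation. -/
theorem Stage.exists_rel_of_toB_eq_zero (s : Set B) (T : Set (MvPolynomial B A))
    (hT : ∀ t ∈ T, ev A t = 0) (x : Stage s T) (hx : Stage.toB s T hT x = 0) :
    ∃ r : MvPolynomial B A, r ∈ supported A s ∧ ev A r = 0 ∧
      Stage.map (subset_refl s) (Set.subset_insert r T) x = 0 := by
  obtain ⟨x, rfl⟩ := Ideal.Quotient.mk_surjective x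
  refine ⟨x.1, x.2, hx, ?_⟩
  rw [Stage.map_mk, Ideal.Quotient.eq_zero_iff_mem]
  apply Ideal.subset_span
  exact Set.mem_insert _ _

theorem X_mem_supported' {s : Set B} {b : B} (hb : b ∈ s) :
    (X b : MvPolynomial B A) ∈ supported A s := by
  rw [supported_eq_adjoin_X]
  exact Algebra.subset_adjoin ⟨b, hb, rfl⟩

/-- The variable `X b` as an element of `supported A s`. -/
noncomputable def genS (s : Set B) (b : B) (hb : b ∈ s) : supported A s :=
  ⟨X b, X_mem_supported' hb⟩

/-- `supported A s` is generated by the variables. -/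
theorem adjoin_genS_eq_top (s : Set B) :
    Algebra.adjoin A {x : supported A s | ∃ (b : B) (hb : b ∈ s), x = genS s b hb} = ⊤ := by
  have h : Algebra.adjoin A (((↑) : supported A s → MvPolynomial B A) ⁻¹' (X '' s)) = ⊤ :=
    Algebra.adjoin_adjoin_coe_preimage (R := A) (s := (X '' s : Set (MvPolynomial B A)))
  rw [eq_top_iff]
  intro x _
  have hx : x ∈ Algebra.adjoin A
      (((↑) : supported A s → MvPolynomial B A) ⁻¹' (X '' s)) := by
    rw [h]; trivial
  refine Algebra.adjoin_mono ?_ hx
  rintro y ⟨b, hb, hby⟩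
  exact ⟨b, hb, Subtype.ext hby.symm⟩

open Groth.Agent.Lib.Helper6.SqCube in
/-- (∗) Lifting membership in an adjoin along an algebra map, modulo one relation. -/
theorem exists_rel_of_mem_adjoin {R R' : Type u} [CommRing R] [CommRing R'] [Algebra A R]
    [Algebra A R'] (f : R →ₐ[A] R') (z : R) (S : Set R)
    (hz : f z ∈ Algebra.adjoin A (f '' S)) :
    ∃ ρ : R, f ρ = 0 ∧ ∀ (I : Ideal R), ρ ∈ I →
      Ideal.Quotient.mk I z ∈ Algebra.adjoin A ((Ideal.Quotient.mk I) '' S) := by
  rw [← AlgHom.map_adjoin] at hz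
  obtain ⟨r, hr, hrz⟩ := hz
  refine ⟨z - r, by rw [map_sub]; exact sub_eq_zero.mpr hrz.symm, ?_⟩
  intro I hI
  have h1 : Ideal.Quotient.mk I z = Ideal.Quotient.mk I r := by
    rw [← sub_eq_zero, ← map_sub, Ideal.Quotient.eq_zero_iff_mem]; exact hI
  rw [h1]
  have h2 : (Ideal.Quotient.mk I) '' S = (Ideal.Quotient.mkₐ A I) '' S := rfl
  rw [h2, ← AlgHom.map_adjoin]
  exact ⟨r, hr, rfl⟩


open Groth.Agent.Lib.Helper6.SqCube in
/-- One step of (K3): relations forcing a `Qp` (and `Qsc`) step in a quotient. -/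
theorem exists_rels_step {R : Type u} [CommRing R] [Algebra A R] (f : R →ₐ[A] B) {n : ℕ}
    (L : Fin n → R) (i : Fin n)
    (h : Qp (Algebra.adjoin A ((fun j => f (L j)) '' {j | j < i})) (f (L i))) :
    ∃ ρ ρ' : R, f ρ = 0 ∧ f ρ' = 0 ∧ ∀ I : Ideal R, ρ ∈ I → ρ' ∈ I →
      Qp (Algebra.adjoin A ((fun j => Ideal.Quotient.mk I (L j)) '' {j | j < i}))
        (Ideal.Quotient.mk I (L i)) ∧
      (Qsc (Algebra.adjoin A ((fun j => f (L j)) '' {j | j < i})) (f (L i)) →
        Qsc (Algebra.adjoin A ((fun j => Ideal.Quotient.mk I (L j)) '' {j | j < i}))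
          (Ideal.Quotient.mk I (L i))) := by
  have himg : ∀ g : R → B, (fun j => g (L j)) '' {j | j < i} = g '' (L '' {j | j < i}) := by
    intro g; rw [Set.image_image]
  have himg' : ∀ (I : Ideal R), (fun j => Ideal.Quotient.mk I (L j)) '' {j | j < i} =
      (Ideal.Quotient.mk I) '' (L '' {j | j < i}) := by
    intro I; rw [Set.image_image]
  by_cases hsc : Qsc (Algebra.adjoin A ((fun j => f (L j)) '' {j | j < i})) (f (L i))
  · obtain ⟨h2, h3⟩ := hsc
    rw [himg f, ← map_pow] at h2 h3
    obtain ⟨ρ, hρ, hρI⟩ := exists_rel_of_mem_adjoin f (L i ^ 2) (L '' {j | j < i}) h2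
    obtain ⟨ρ', hρ', hρI'⟩ := exists_rel_of_mem_adjoin f (L i ^ 3) (L '' {j | j < i}) h3
    refine ⟨ρ, ρ', hρ, hρ', ?_⟩
    intro I hI hI'
    have hq : Qsc (Algebra.adjoin A ((fun j => Ideal.Quotient.mk I (L j)) '' {j | j < i}))
        (Ideal.Quotient.mk I (L i)) := by
      rw [himg' I]
      refine ⟨?_, ?_⟩
      · rw [← map_pow]; exact hρI I hI
      · rw [← map_pow]; exact hρI' I hI'
    exact ⟨Or.inl hq, fun _ => hq⟩
  · rcases h with h | ⟨p, hp, h1, h2⟩
    · exact absurd h hsc
    · rw [himg f] at h1 h2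
      have h1' : f ((p : R) * L i) ∈ Algebra.adjoin A (f '' (L '' {j | j < i})) := by
        rw [map_mul, map_natCast]; exact h1
      rw [← map_pow] at h2
      obtain ⟨ρ, hρ, hρI⟩ := exists_rel_of_mem_adjoin f ((p : R) * L i) (L '' {j | j < i}) h1'
      obtain ⟨ρ', hρ', hρI'⟩ := exists_rel_of_mem_adjoin f (L i ^ p) (L '' {j | j < i}) h2
      refine ⟨ρ, ρ', hρ, hρ', ?_⟩
      intro I hI hI'
      refine ⟨Or.inr ⟨p, hp, ?_, ?_⟩, fun h => absurd h hsc⟩
      · rw [himg' I]
        have := hρI I hI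
        rwa [map_mul, map_natCast] at this
      · rw [himg' I, ← map_pow]
        exact hρI' I hI'

open Groth.Agent.Lib.Helper6.SqCube in
/-- Abstract form of (K3): finitely many relations make a quotient of `R` generated by a
family with `Qp` steps. -/
theorem exists_rels {R : Type u} [CommRing R] [Algebra A R] (f : R →ₐ[A] B) (G : Set R)
    (hG : Algebra.adjoin A G = ⊤) (hGfin : G.Finite) {n : ℕ} (L : Fin n → R)
    (hstep : ∀ i, Qp (Algebra.adjoin A ((fun j => f (L j)) '' {j | j < i})) (f (L i)))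
    (hgen : ∀ g ∈ G, f g ∈ Algebra.adjoin A (Set.range (fun j => f (L j)))) :
    ∃ P : Set R, P.Finite ∧ (∀ ρ ∈ P, f ρ = 0) ∧ ∀ I : Ideal R, P ⊆ I →
      Algebra.adjoin A (Set.range (fun j => Ideal.Quotient.mk I (L j))) = ⊤ ∧
      ∀ i, Qp (Algebra.adjoin A ((fun j => Ideal.Quotient.mk I (L j)) '' {j | j < i}))
          (Ideal.Quotient.mk I (L i)) ∧
        (Qsc (Algebra.adjoin A ((fun j => f (L j)) '' {j | j < i})) (f (L i)) →
          Qsc (Algebra.adjoin A ((fun j => Ideal.Quotient.mk I (L j)) '' {j | j < i}))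
            (Ideal.Quotient.mk I (L i))) := by
  choose ρ ρ' hρ hρ' hstep' using fun i => exists_rels_step f L i (hstep i)
  have hgen' : ∀ g : R, ∃ μ : R, f μ = 0 ∧ (g ∈ G → ∀ I : Ideal R, μ ∈ I →
      Ideal.Quotient.mk I g ∈ Algebra.adjoin A ((Ideal.Quotient.mk I) '' (Set.range L))) := by
    intro g
    by_cases hg : g ∈ G
    · have h := hgen g hg
      have e : Set.range (fun j => f (L j)) = f '' (Set.range L) := by
        rw [← Set.range_comp]; rfl
      rw [e] at h
      obtain ⟨μ, hμ, hμI⟩ := exists_rel_of_mem_adjoin f g (Set.range L) h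
      exact ⟨μ, hμ, fun _ => hμI⟩
    · exact ⟨0, map_zero _, fun h => absurd h hg⟩
  choose μ hμ hμI using hgen'
  refine ⟨Set.range ρ ∪ Set.range ρ' ∪ μ '' G, ?_, ?_, ?_⟩
  · exact ((Set.finite_range ρ).union (Set.finite_range ρ')).union (hGfin.image μ)
  · rintro x ((⟨i, rfl⟩ | ⟨i, rfl⟩) | ⟨g, -, rfl⟩)
    · exact hρ i
    · exact hρ' i
    · exact hμ g
  · intro I hI
    refine ⟨?_, ?_⟩
    · -- generation
      have e : Set.range (fun j => Ideal.Quotient.mk I (L j)) =
          (Ideal.Quotient.mk I) '' (Set.range L) := by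
        rw [← Set.range_comp]; rfl
      rw [e]
      have hle : Algebra.adjoin A ((Ideal.Quotient.mkₐ A I) '' G) ≤
          Algebra.adjoin A ((Ideal.Quotient.mk I) '' (Set.range L)) := by
        rw [Algebra.adjoin_le_iff]
        rintro _ ⟨g, hg, rfl⟩
        exact hμI g hg I (hI (Or.inr ⟨g, hg, rfl⟩))
      rw [eq_top_iff]
      refine le_trans ?_ hle
      rw [← AlgHom.map_adjoin, hG, Algebra.map_top]
      exact ((AlgHom.range_eq_top _).mpr (Ideal.Quotient.mkₐ_surjective A I)).ge
    · intro i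
      exact hstep' i I (hI (Or.inl (Or.inl ⟨i, rfl⟩))) (hI (Or.inl (Or.inr ⟨i, rfl⟩)))


open Groth.Agent.Lib.Helper6.SqCube in
/-- A stage is good if it is generated by a family with `Qp` steps (and `Qsc` steps if
`sc = true`). -/
def Good (sc : Bool) (s : Set B) (T : Set (MvPolynomial B A)) : Prop :=
  ∃ (n : ℕ) (y : Fin n → Stage s T), Algebra.adjoin A (Set.range y) = ⊤ ∧
    ∀ i, Qp (Algebra.adjoin A (y '' {j | j < i})) (y i) ∧
      (sc = true → Qsc (Algebra.adjoin A (y '' {j | j < i})) (y i))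

open Groth.Agent.Lib.Helper6.SqCube in
/-- (K3) Every valid stage is dominated by a good valid stage. -/
theorem exists_good_stage (sc : Bool) (hU : UH (algebraMap A B))
    (hTR : sc = true → TR (algebraMap A B))
    (s : Set B) (hs : s.Finite) (T : Set (MvPolynomial B A)) (hT : T.Finite)
    (hval : ∀ t ∈ T, ev A t = 0) :
    ∃ (s' : Set B) (T' : Set (MvPolynomial B A)), s ⊆ s' ∧ T ⊆ T' ∧ s'.Finite ∧ T'.Finite ∧
      (∀ t ∈ T', ev A t = 0) ∧ Good sc s' T' := by
  -- the family in `B`
  have hfam : ∃ (n : ℕ) (y : Fin n → B), s ⊆ Algebra.adjoin A (Set.range y) ∧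
      ∀ i, Qp (Algebra.adjoin A (y '' {j | j < i})) (y i) ∧
        (sc = true → Qsc (Algebra.adjoin A (y '' {j | j < i})) (y i)) := by
    by_cases hsc : sc = true
    · obtain ⟨n, y, hE, hy⟩ := exists_family_of_uh_tr hU (hTR hsc) hs.toFinset
      rw [hs.coe_toFinset] at hE
      exact ⟨n, y, hE, fun i => ⟨Or.inl (hy i), fun _ => hy i⟩⟩
    · obtain ⟨n, y, hE, hy⟩ := exists_family_of_uh hU hs.toFinset
      rw [hs.coe_toFinset] at hE
      exact ⟨n, y, hE, fun i => ⟨hy i, fun h => absurd h hsc⟩⟩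
  obtain ⟨n, y, hsy, hy⟩ := hfam
  set s' : Set B := s ∪ Set.range y with hs'
  have hs'fin : s'.Finite := hs.union (Set.finite_range y)
  let f : supported A s' →ₐ[A] B := (ev A).comp (supported A s').val
  let L : Fin n → supported A s' := fun i => genS s' (y i) (Or.inr ⟨i, rfl⟩)
  have hfL : (fun j => f (L j)) = y := by
    funext j
    change ev A (X (y j)) = y j
    exact ev_X _
  have hfL' : ∀ j, f (L j) = y j := fun j => congrFun hfL j
  let G : Set (supported A s') := {x | ∃ (b : B) (hb : b ∈ s'), x = genS s' b hb}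
  have hGfin : G.Finite := by
    have : Finite s' := hs'fin
    have e : G = Set.range (fun b : s' => genS s' b.1 b.2) := by
      ext x
      constructor
      · rintro ⟨b, hb, rfl⟩; exact ⟨⟨b, hb⟩, rfl⟩
      · rintro ⟨b, rfl⟩; exact ⟨b.1, b.2, rfl⟩
    rw [e]
    exact Set.finite_range _
  obtain ⟨P, hPfin, hPker, hP⟩ := exists_rels f G (adjoin_genS_eq_top s') hGfin L
    (by
      intro i
      rw [hfL, hfL']
      exact (hy i).1)
    (by
      rintro g ⟨b, hb, rfl⟩
      rw [hfL]
      have hfb : f (genS s' b hb) = b := by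
        change ev A (X b) = b
        exact ev_X _
      rw [hfb]
      rcases hb with hb | ⟨j, rfl⟩
      · exact hsy hb
      · exact Algebra.subset_adjoin ⟨j, rfl⟩)
  refine ⟨s', T ∪ Subtype.val '' P, Set.subset_union_left, Set.subset_union_left, hs'fin,
    hT.union (hPfin.image _), ?_, ?_⟩
  · rintro t (ht | ⟨ρ, hρ, rfl⟩)
    · exact hval t ht
    · exact hPker ρ hρ
  · have hPI : P ⊆ (relIdeal s' (T ∪ Subtype.val '' P) : Ideal (supported A s')) := by
      intro ρ hρ
      apply Ideal.subset_span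
      exact Or.inr ⟨ρ, hρ, rfl⟩
    obtain ⟨htop, hsteps⟩ := hP _ hPI
    refine ⟨n, fun j => Ideal.Quotient.mk _ (L j), htop, ?_⟩
    intro i
    obtain ⟨h1, h2⟩ := hsteps i
    refine ⟨h1, fun hsc => h2 ?_⟩
    rw [hfL, hfL']
    exact (hy i).2 hsc

open Groth.Agent.Lib.Helper6.SqCube in
theorem Good.uh {sc : Bool} {s : Set B} {T : Set (MvPolynomial B A)}
    (hval : ∀ t ∈ T, ev A t = 0) (hU : UH (algebraMap A B)) (h : Good sc s T) :
    UH (R := A) (R' := Stage s T) (algebraMap A (Stage s T)) := by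
  obtain ⟨n, y, htop, hstep⟩ := h
  refine uh_of_family y htop (fun i => (hstep i).1) ?_
  intro p
  obtain ⟨q, rfl⟩ := hU.2.2 p
  refine ⟨PrimeSpectrum.comap (Stage.toB s T hval).toRingHom q, ?_⟩
  have e : (Stage.toB s T hval).toRingHom.comp (algebraMap A (Stage s T)) = algebraMap A B :=
    (Stage.toB s T hval).comp_algebraMap
  rw [← e]
  rfl

open Groth.Agent.Lib.Helper6.SqCube Groth.Agent.Lib.Helper6.UnivHomeoRing in
theorem Good.trivRF {s : Set B} {T : Set (MvPolynomial B A)} (h : Good true s T) :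
    TrivRF A (Stage s T) := by
  obtain ⟨n, y, htop, hstep⟩ := h
  exact trivRF_of_family y htop (fun i => (hstep i).2 rfl)

end Groth.Agent.Lib.Helper6.UHApprox
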