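import Mathlib
import Groth.Agent.Lib.Helper6.UHApprox2

set_option autoImplicit false
universe u

open CategoryTheory Limits MvPolynomial

namespace Groth.Agent.Lib.Helper6.UHApprox

open Groth.Agent.Lib.Helper6.SqCube

variable (A B : Type u) [CommRing A] [CommRing B] [Algebra A B]

/-- The index poset of good valid stages. -/
abbrev Idx (sc : Bool) : Type u :=
  {j : Set B × Set (MvPolynomial B A) //
    j.1.Finite ∧ j.2.Finite ∧ (∀ t ∈ j.2, ev A t = 0) ∧ Good sc j.1 j.2}

variable {A B}

theorem Idx.exists_ge (sc : Bool) (hU : UH (algebraMap A B))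
    (hTR : sc = true → TR (algebraMap A B))
    (s : Set B) (hs : s.Finite) (T : Set (MvPolynomial B A)) (hT : T.Finite)
    (hval : ∀ t ∈ T, ev A t = 0) :
    ∃ j : Idx A B sc, s ⊆ j.1.1 ∧ T ⊆ j.1.2 := by
  obtain ⟨s', T', h1, h2, h3, h4, h5, h6⟩ := exists_good_stage sc hU hTR s hs T hT hval
  exact ⟨⟨(s', T'), h3, h4, h5, h6⟩, h1, h2⟩

theorem Idx.nonempty (sc : Bool) (hU : UH (algebraMap A B))
    (hTR : sc = true → TR (algebraMap A B)) : Nonempty (Idx A B sc) := by
  obtain ⟨j, -, -⟩ := Idx.exists_ge sc hU hTR ∅ Set.finite_empty ∅ Set.finite_empty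
    (fun t ht => absurd ht (Set.notMem_empty t))
  exact ⟨j⟩

theorem Idx.isDirected (sc : Bool) (hU : UH (algebraMap A B))
    (hTR : sc = true → TR (algebraMap A B)) : IsDirected (Idx A B sc) (· ≤ ·) := by
  constructor
  intro j₁ j₂
  obtain ⟨j, h1, h2⟩ := Idx.exists_ge sc hU hTR (j₁.1.1 ∪ j₂.1.1) (j₁.2.1.union j₂.2.1)
    (j₁.1.2 ∪ j₂.1.2) (j₁.2.2.1.union j₂.2.2.1) (by
      rintro t (ht | ht)
      · exact j₁.2.2.2.1 t ht
      · exact j₂.2.2.2.1 t ht)
  refine ⟨j, ?_, ?_⟩
  · exact ⟨Set.subset_union_left.trans h1, Set.subset_union_left.trans h2⟩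
  · exact ⟨Set.subset_union_right.trans h1, Set.subset_union_right.trans h2⟩

variable (A B)

/-- The objects of the diagram of stages. -/
noncomputable abbrev stageObj (s : Set B) (T : Set (MvPolynomial B A)) : Under (CommRingCat.of A) :=
  Under.mk (Y := CommRingCat.of (Stage s T)) (CommRingCat.ofHom (algebraMap A (Stage s T)))

variable {A B} in
/-- The morphisms of the diagram of stages. -/
noncomputable def stageMap {s s' : Set B} {T T' : Set (MvPolynomial B A)} (hs : s ⊆ s')
    (hT : T ⊆ T') : stageObj A B s T ⟶ stageObj A B s' T' :=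
  Under.homMk (U := stageObj A B s T) (V := stageObj A B s' T')
    (CommRingCat.ofHom (Stage.map hs hT).toRingHom) (by
      ext a
      exact (Stage.map hs hT).commutes a)

variable {A B} in
/-- The map from a stage to `B`, as a morphism under `A`. -/
noncomputable def stageToB (s : Set B) (T : Set (MvPolynomial B A))
    (hT : ∀ t ∈ T, ev A t = 0) :
    stageObj A B s T ⟶ Under.mk (Y := CommRingCat.of B) (CommRingCat.ofHom (algebraMap A B)) :=
  Under.homMk (U := stageObj A B s T)
    (V := Under.mk (Y := CommRingCat.of B) (CommRingCat.ofHom (algebraMap A B)))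
    (CommRingCat.ofHom (Stage.toB s T hT).toRingHom) (by
      ext a
      exact (Stage.toB s T hT).commutes a)

/-- The diagram of stages. -/
noncomputable def stageFunctor (sc : Bool) : Idx A B sc ⥤ Under (CommRingCat.of A) where
  obj j := stageObj A B j.1.1 j.1.2
  map {j j'} h := stageMap (leOfHom h).1 (leOfHom h).2
  map_id j := by
    ext x
    exact Stage.map_id x
  map_comp {j j' j''} f g := by
    ext x
    exact (Stage.map_map (leOfHom f).1 (leOfHom f).2 (leOfHom g).1 (leOfHom g).2 x).symm

/-- The cocone of stages with vertex `B`. -/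
noncomputable def stageCocone (sc : Bool) : Cocone (stageFunctor A B sc) where
  pt := Under.mk (Y := CommRingCat.of B) (CommRingCat.ofHom (algebraMap A B))
  ι :=
    { app := fun j => stageToB j.1.1 j.1.2 j.2.2.2.1
      naturality := by
        intro j j' h
        ext x
        exact Stage.toB_map (leOfHom h).1 (leOfHom h).2 j'.2.2.2.1 x }


variable {A B}

theorem Idx.isFiltered (sc : Bool) (hU : UH (algebraMap A B))
    (hTR : sc = true → TR (algebraMap A B)) : IsFiltered (Idx A B sc) := by
  haveI : Nonempty (Idx A B sc) := Idx.nonempty sc hU hTR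
  haveI : IsDirected (Idx A B sc) (· ≤ ·) := Idx.isDirected sc hU hTR
  infer_instance

theorem stageCocone_hsurj (sc : Bool) (hU : UH (algebraMap A B))
    (hTR : sc = true → TR (algebraMap A B)) (b : B) :
    ∃ (j : Idx A B sc) (x : Stage j.1.1 j.1.2), Stage.toB j.1.1 j.1.2 j.2.2.2.1 x = b := by
  obtain ⟨j, h1, -⟩ := Idx.exists_ge sc hU hTR {b} (Set.finite_singleton b) ∅ Set.finite_empty
    (fun t ht => absurd ht (Set.notMem_empty t))
  refine ⟨j, Ideal.Quotient.mk _ (genS j.1.1 b (h1 rfl)), ?_⟩
  rw [Stage.toB_mk]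
  exact ev_X b

theorem stageCocone_hinj (sc : Bool) (hU : UH (algebraMap A B))
    (hTR : sc = true → TR (algebraMap A B)) (j : Idx A B sc) (x y : Stage j.1.1 j.1.2)
    (hxy : Stage.toB j.1.1 j.1.2 j.2.2.2.1 x = Stage.toB j.1.1 j.1.2 j.2.2.2.1 y) :
    ∃ (k : Idx A B sc) (h : j ≤ k), Stage.map h.1 h.2 x = Stage.map h.1 h.2 y := by
  have h0 : Stage.toB j.1.1 j.1.2 j.2.2.2.1 (x - y) = 0 := by
    rw [map_sub, hxy, sub_self]
  obtain ⟨r, hr, hevr, hmap⟩ := Stage.exists_rel_of_toB_eq_zero _ _ _ _ h0
  obtain ⟨k, h1, h2⟩ := Idx.exists_ge sc hU hTR j.1.1 j.2.1 (insert r j.1.2)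
    (j.2.2.1.insert r) (by
      rintro t (rfl | ht)
      · exact hevr
      · exact j.2.2.2.1 t ht)
  have hjk : j ≤ k := ⟨h1, (Set.subset_insert r j.1.2).trans h2⟩
  refine ⟨k, hjk, ?_⟩
  have e := Stage.map_map (subset_refl j.1.1) (Set.subset_insert r j.1.2) h1 h2 (x - y)
  rw [hmap, map_zero] at e
  have e' : Stage.map hjk.1 hjk.2 (x - y) = 0 := e.symm
  rw [map_sub, sub_eq_zero] at e'
  exact e'

attribute [local instance] IsFiltered.isConnected in
theorem stageCocone_isColimit (sc : Bool) (hU : UH (algebraMap A B))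
    (hTR : sc = true → TR (algebraMap A B)) :
    Nonempty (IsColimit (stageCocone A B sc)) := by
  haveI : IsFiltered (Idx A B sc) := Idx.isFiltered sc hU hTR
  let G : Under (CommRingCat.of A) ⥤ Type u := Under.forget (CommRingCat.of A) ⋙ forget CommRingCat
  have h : IsColimit (G.mapCocone (stageCocone A B sc)) := by
    apply Types.FilteredColimit.isColimitOf'
    · intro b
      obtain ⟨j, x, hx⟩ := stageCocone_hsurj sc hU hTR b
      exact ⟨j, x, hx.symm⟩
    · intro j x y hxy
      obtain ⟨k, hjk, hk⟩ := stageCocone_hinj sc hU hTR j x y hxy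
      exact ⟨k, homOfLE hjk, hk⟩
  haveI : PreservesColimitsOfShape (Idx A B sc) (forget CommRingCat.{u}) :=
    PreservesFilteredColimitsOfSize.preserves_filtered_colimits _
  haveI : ReflectsColimit (stageFunctor A B sc) G := reflectsColimit_of_reflectsIsomorphisms _ _
  exact ⟨isColimitOfReflects G h⟩


open AlgebraicGeometry

theorem stageObj_finitePresentation (s : Set B) (T : Set (MvPolynomial B A)) (hs : s.Finite)
    (hT : T.Finite) : (stageObj A B s T).hom.hom.FinitePresentation := by
  have h := Stage.finitePresentation s T hs hT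
  change RingHom.FinitePresentation (A := A) (B := Stage s T) (algebraMap A (Stage s T))
  rw [RingHom.finitePresentation_algebraMap]
  exact h

theorem stageObj_isUnivHomeo {sc : Bool} (s : Set B) (T : Set (MvPolynomial B A))
    (hval : ∀ t ∈ T, ev A t = 0) (hU : UH (algebraMap A B)) (h : Good sc s T) :
    FlatMor.IsUnivHomeo (Spec.map (stageObj A B s T).hom) :=
  (uh_iff _).mpr (Good.uh hval hU h)

theorem stageObj_residueFieldMap_surjective (s : Set B) (T : Set (MvPolynomial B A))
    (h : Good true s T) (x : Spec (stageObj A B s T).right) :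
    Function.Surjective ((Spec.map (stageObj A B s T).hom).residueFieldMap x) :=
  (Groth.Agent.Lib.Helper6.UnivHomeoRing.trivRF_iff A (Stage s T)).mp (Good.trivRF h) x

end Groth.Agent.Lib.Helper6.UHApprox
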