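import Mathlib
import Groth.Agent.Lib.Helper6.SqCubeTower
import Groth.Agent.Lib.Helper6.UnivHomeoMax
import Groth.Agent.Lib.Helper6.CharPUH
import Groth.Agent.Lib.Helper6.SNValues

set_option autoImplicit false
universe u

namespace Groth.Agent.Lib.Helper6.UHAwayP

open Groth.Agent.Lib.Helper6.SqCube Groth.Agent.Lib.Helper6.UnivHomeoRing

/-- Universal homeomorphisms of spectra pass to quotients. -/
theorem uh_quotient {A C : Type u} [CommRing A] [CommRing C] (φ : A →+* C) (h : UH φ)
    (I : Ideal A) : UH (Ideal.quotientMap (I.map φ) φ Ideal.le_comap_map) := by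
  have hcomp : (Ideal.quotientMap (I.map φ) φ Ideal.le_comap_map).comp (Ideal.Quotient.mk I) =
      (Ideal.Quotient.mk (I.map φ)).comp φ := by
    ext a; rfl
  refine ⟨?_, ?_, ?_⟩
  · intro c'
    obtain ⟨c, rfl⟩ := Ideal.Quotient.mk_surjective c'
    obtain ⟨P, hP, hP0⟩ := h.1 c
    refine ⟨P.map (Ideal.Quotient.mk I), hP.map _, ?_⟩
    rw [Polynomial.eval₂_map, hcomp, ← Polynomial.hom_eval₂, hP0, map_zero]
  · intro K _ σ τ hστ
    have key := h.2.1 K (σ.comp (Ideal.Quotient.mk _)) (τ.comp (Ideal.Quotient.mk _)) (by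
      rw [RingHom.comp_assoc, RingHom.comp_assoc, ← hcomp, ← RingHom.comp_assoc,
        ← RingHom.comp_assoc, hστ])
    ext c
    exact congrArg (fun f => f c) key
  · intro q
    obtain ⟨P, hP⟩ := h.2.2 (PrimeSpectrum.comap (Ideal.Quotient.mk I) q)
    have hmem : ∀ a : A, φ a ∈ P.asIdeal ↔ Ideal.Quotient.mk I a ∈ q.asIdeal := by
      intro a
      have : a ∈ (PrimeSpectrum.comap φ P).asIdeal ↔
          a ∈ (PrimeSpectrum.comap (Ideal.Quotient.mk I) q).asIdeal := by rw [hP]
      exact this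
    have hle : I.map φ ≤ P.asIdeal := by
      rw [Ideal.map_le_iff_le_comap]
      intro a ha
      change φ a ∈ P.asIdeal
      rw [hmem, Ideal.Quotient.eq_zero_iff_mem.mpr ha]
      exact zero_mem _
    have hprime : (P.asIdeal.map (Ideal.Quotient.mk (I.map φ))).IsPrime :=
      Ideal.map_isPrime_of_surjective Ideal.Quotient.mk_surjective (by rwa [Ideal.mk_ker])
    refine ⟨⟨P.asIdeal.map (Ideal.Quotient.mk (I.map φ)), hprime⟩, ?_⟩
    apply PrimeSpectrum.ext
    ext a'
    obtain ⟨a, rfl⟩ := Ideal.Quotient.mk_surjective a'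
    change Ideal.Quotient.mk (I.map φ) (φ a) ∈ P.asIdeal.map (Ideal.Quotient.mk (I.map φ)) ↔ _
    rw [Ideal.mem_quotient_iff_mem hle, hmem]

/-- If `Spec B → Spec A` is a universal homeomorphism and every element of `B` has a `p`-power
multiple in the image of `A`, then every element of `B` has a `p`-power power in the image. -/
theorem exists_pow_mem_range {A B : Type u} [CommRing A] [CommRing B] (φ : A →+* B)
    (hU : UH φ) (p : ℕ) (hp : p.Prime)
    (hmul : ∀ b : B, ∃ m : ℕ, (p : B) ^ m * b ∈ φ.range) (b : B) :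
    ∃ n : ℕ, b ^ p ^ n ∈ φ.range := by
  letI := φ.toAlgebra
  have hφ : algebraMap A B = φ := rfl
  let C : Subalgebra A B := Algebra.adjoin A {b}
  have hb : IsIntegral A b := hU.1 b
  obtain ⟨G, hG⟩ := hb.fg_adjoin_singleton
  choose m hm using hmul
  let N : ℕ := G.sup m
  let V : Submodule A B :=
    (LinearMap.range (Algebra.linearMap A B)).comap (LinearMap.mulLeft A ((p : B) ^ N))
  have hV : ∀ x : B, x ∈ V ↔ (p : B) ^ N * x ∈ φ.range := by
    intro x
    constructor
    · rintro ⟨a, ha⟩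
      exact ⟨a, ha⟩
    · rintro ⟨a, ha⟩
      exact ⟨a, ha⟩
  have hGV : Submodule.span A (G : Set B) ≤ V := by
    rw [Submodule.span_le]
    intro g hg
    change g ∈ V
    rw [hV]
    have hle : m g ≤ N := Finset.le_sup (f := m) hg
    obtain ⟨a, ha⟩ := hm g
    refine ⟨(p : A) ^ (N - m g) * a, ?_⟩
    rw [map_mul, map_pow, map_natCast, ha, ← mul_assoc, ← pow_add, Nat.sub_add_cancel hle]
  have hC : ∀ c : C, (p : B) ^ N * (c : B) ∈ φ.range := by
    intro c
    rw [← hV]
    apply hGV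
    rw [hG]
    exact c.2
  have hUC : UH (algebraMap A C) := by
    apply Groth.Agent.Lib.Helper6.SN.UH.of_comp_of_injective (ι := (C.val : C →+* B)) _ Subtype.val_injective
    have : (C.val : C →+* B).comp (algebraMap A C) = φ := by
      ext a; rfl
    rw [this]; exact hU
  have hq := uh_quotient (algebraMap A C) hUC (Ideal.span {(p : A)})
  have hp0 : (p : C ⧸ (Ideal.span {(p : A)}).map (algebraMap A C)) = 0 := by
    have : (p : C ⧸ (Ideal.span {(p : A)}).map (algebraMap A C)) =
        Ideal.Quotient.mk _ (algebraMap A C (p : A)) := by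
      rw [map_natCast, map_natCast]
    rw [this, Ideal.Quotient.eq_zero_iff_mem]
    exact Ideal.mem_map_of_mem _ (Ideal.subset_span rfl)
  let b' : C := ⟨b, Algebra.subset_adjoin rfl⟩
  obtain ⟨n, a, ha⟩ := Groth.Agent.Lib.Helper6.CharPUH.exists_pow_mem_range_of_uh p hp hp0 _ hq
    (Ideal.Quotient.mk _ b')
  obtain ⟨a, rfl⟩ := Ideal.Quotient.mk_surjective a
  have hdvd : (p : C) ∣ b' ^ p ^ n - algebraMap A C a := by
    have h1 : Ideal.Quotient.mk ((Ideal.span {(p : A)}).map (algebraMap A C))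
        (b' ^ p ^ n - algebraMap A C a) = 0 := by
      rw [map_sub, map_pow, ← ha]
      exact sub_self _
    rw [Ideal.Quotient.eq_zero_iff_mem, Ideal.map_span, Set.image_singleton, map_natCast,
      Ideal.mem_span_singleton] at h1
    exact h1
  obtain ⟨c, hc⟩ := dvd_sub_pow_of_dvd_sub hdvd N
  refine ⟨n + N, ?_⟩
  have h2 : b ^ p ^ (n + N) = φ (a ^ p ^ N) + (p : B) ^ N * (((p : C) * c : C) : B) := by
    have h3 : (b' ^ p ^ n) ^ p ^ N = (algebraMap A C a) ^ p ^ N + (p : C) ^ (N + 1) * c := by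
      rw [← hc]; ring
    have h4 := congrArg (fun x : C => (x : B)) h3
    have hpc : ((p : C) : B) = (p : B) := map_natCast C.val p
    simp only [Subalgebra.coe_pow, Subalgebra.coe_add, Subalgebra.coe_mul, hpc] at h4
    rw [pow_add, pow_mul, map_pow]
    have h5 : ((algebraMap A C a : C) : B) = φ a := rfl
    rw [h5] at h4
    rw [show ((b' : C) : B) = b from rfl] at h4
    rw [h4, pow_succ, mul_assoc, Subalgebra.coe_mul, hpc]
  rw [h2]
  exact add_mem ⟨_, rfl⟩ (hC _)

end Groth.Agent.Lib.Helper6.UHAwayP
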