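import Mathlib
import Groth.Prelude.Def_HTop2
import Groth.Agent.Lib.Helper12.UnivHomeo
import Groth.Agent.Lib.Helper6.UHDescent

set_option autoImplicit false
universe u

open CategoryTheory AlgebraicGeometry CategoryTheory.Limits

namespace Groth.Agent.Lib.Helper6.UHColim

open Groth.Agent.Lib.Helper12 Groth.Agent.Lib.Helper6.UHDesc

variable {X Y Z : Scheme.{u}}

/-- If `f ≫ g` is universally injective then so is `f`. -/
theorem universallyInjective_of_comp (f : X ⟶ Y) (g : Y ⟶ Z) [UniversallyInjective (f ≫ g)] :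
    UniversallyInjective f := by
  have h01 : UniversallyInjective (f ≫ g) ↔ ∀ (K : Type u) [Field K],
      Function.Injective (fun a : Spec (.of K) ⟶ X ↦ a ≫ (f ≫ g)) :=
    (tfae_universallyInjective (f ≫ g)).out 0 1
  have h01' : UniversallyInjective f ↔ ∀ (K : Type u) [Field K],
      Function.Injective (fun a : Spec (.of K) ⟶ X ↦ a ≫ f) :=
    (tfae_universallyInjective f).out 0 1
  rw [h01']
  intro K _ a b hab
  apply h01.mp inferInstance K
  change a ≫ f ≫ g = b ≫ f ≫ g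
  have hab' : a ≫ f = b ≫ f := hab
  rw [← Category.assoc, hab', Category.assoc]

/-- If `f ≫ g` has isomorphisms on residue fields and `f` is surjective, then `g` has isomorphisms
on residue fields. -/
theorem residueFieldsIso_of_comp_surjective {f : X ⟶ Y} {g : Y ⟶ Z}
    (hfg : HTop.ResidueFieldsIso (f ≫ g)) (hs : Function.Surjective f) :
    HTop.ResidueFieldsIso g := by
  intro y
  obtain ⟨x, rfl⟩ := hs y
  have h1 : IsIso ((f ≫ g).residueFieldMap x) := hfg x
  rw [Scheme.residueFieldMap_comp] at h1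
  have hbij : Function.Bijective ((g.residueFieldMap (f x)) ≫ (f.residueFieldMap x)).hom :=
    @ConcreteCategory.bijective_of_isIso _ _ _ _ _ _ _ _ _ h1
  have hsurj : Function.Surjective (f.residueFieldMap x).hom := by
    intro l
    obtain ⟨k, hk⟩ := hbij.2 l
    exact ⟨(g.residueFieldMap (f x)).hom k, hk⟩
  have hinj : Function.Injective (f.residueFieldMap x).hom := (f.residueFieldMap x).hom.injective
  have h2 : IsIso (f.residueFieldMap x) := by
    have : IsIso ((forget CommRingCat).map (f.residueFieldMap x)) :=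
      (isIso_iff_bijective _).mpr ⟨hinj, hsurj⟩
    exact isIso_of_reflects_iso _ (forget CommRingCat)
  exact @IsIso.of_isIso_comp_right _ _ _ _ _ (g.residueFieldMap (f x)) (f.residueFieldMap x) h2 h1

/-- Graph trick: a morphism `g : T' ⟶ X` over `S` from the source of a universal homeomorphism
`ν : T' ⟶ T` factors through a finite universal homeomorphism `T₁ ⟶ T` (the scheme-theoretic
image of the graph), when `X ⟶ S` is separated and locally of finite type. -/
theorem exists_factor_through_finite {S X T T' : Scheme.{u}} (fX : X ⟶ S) [LocallyOfFiniteType fX]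
    [IsSeparated fX] (fT : T ⟶ S) (ν : T' ⟶ T) (hν : FlatMor.IsUnivHomeo ν) (g : T' ⟶ X)
    (hg : g ≫ fX = ν ≫ fT) :
    ∃ (T₁ : Scheme.{u}) (π : T₁ ⟶ T) (_ : IsFinite π) (_ : FlatMor.IsUnivHomeo π) (g₁ : T₁ ⟶ X)
      (h : T' ⟶ T₁), h ≫ π = ν ∧ g₁ ≫ fX = π ≫ fT ∧ h ≫ g₁ = g ∧ FlatMor.IsUnivHomeo h := by
  let Γ : T' ⟶ pullback fX fT := pullback.lift g ν hg
  have hΓ1 : Γ ≫ pullback.fst fX fT = g := pullback.lift_fst _ _ _
  have hΓ2 : Γ ≫ pullback.snd fX fT = ν := pullback.lift_snd _ _ _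
  have hνint : IsIntegralHom ν := IsUnivHomeo.isIntegralHom hν
  have hνUI : UniversallyInjective ν := IsUnivHomeo.universallyInjective hν
  have hΓint : IsIntegralHom Γ := by
    have : IsIntegralHom (Γ ≫ pullback.snd fX fT) := by rw [hΓ2]; exact hνint
    exact IsIntegralHom.of_comp Γ (pullback.snd fX fT)
  let j := Γ.imageι
  let h := Γ.toImage
  have hhj : h ≫ j = Γ := Γ.toImage_imageι
  let π := j ≫ pullback.snd fX fT
  have hπ : h ≫ π = ν := by
    change h ≫ j ≫ _ = ν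
    rw [← Category.assoc, hhj, hΓ2]
  have hhint : IsIntegralHom h := by
    have : IsIntegralHom (h ≫ j) := by rw [hhj]; exact hΓint
    exact IsIntegralHom.of_comp h j
  have hhUI : UniversallyInjective h := by
    have : UniversallyInjective (h ≫ π) := by rw [hπ]; exact hνUI
    exact universallyInjective_of_comp h π
  have hhsurj : Surjective h := by
    have hcl : IsClosed (Set.range h) := h.isClosedMap.isClosed_range
    have hd : DenseRange h := h.denseRange
    exact ⟨fun x => by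
      have : x ∈ closure (Set.range h) := hd x
      rwa [hcl.closure_eq] at this⟩
  have hhUH : FlatMor.IsUnivHomeo h := isUnivHomeo_iff.mpr ⟨hhint, hhUI, hhsurj⟩
  have hπUH : FlatMor.IsUnivHomeo π :=
    IsUnivHomeo.of_comp_right (g := h) (by rw [hπ]; exact hν) hhUH
  have hπint : IsIntegralHom π := IsUnivHomeo.isIntegralHom hπUH
  have hπfin : IsFinite π :=
    (IsFinite.iff_isIntegralHom_and_locallyOfFiniteType π).mpr ⟨hπint, inferInstance⟩
  refine ⟨Γ.image, π, hπfin, hπUH, j ≫ pullback.fst fX fT, h, hπ, ?_, ?_, hhUH⟩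
  · change (j ≫ pullback.fst fX fT) ≫ fX = (j ≫ pullback.snd fX fT) ≫ fT
    rw [Category.assoc, Category.assoc, pullback.condition]
  · rw [← Category.assoc, hhj, hΓ1]

/-- Two factorizations through finite universal homeomorphisms which agree on `T'` agree on a
common finite universal homeomorphism refinement (the equalizer inside the fibre product). -/
theorem exists_common_refinement {X T T' T₁ T₂ : Scheme.{u}} [X.IsSeparated] (ν : T' ⟶ T)
    (hν : FlatMor.IsUnivHomeo ν) (π₁ : T₁ ⟶ T) (π₂ : T₂ ⟶ T) [IsFinite π₁] [IsFinite π₂]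
    (hπ₁ : FlatMor.IsUnivHomeo π₁) (hπ₂ : FlatMor.IsUnivHomeo π₂)
    (g₁ : T₁ ⟶ X) (g₂ : T₂ ⟶ X) (h₁ : T' ⟶ T₁) (h₂ : T' ⟶ T₂)
    (hh₁ : h₁ ≫ π₁ = ν) (hh₂ : h₂ ≫ π₂ = ν) (hgg : h₁ ≫ g₁ = h₂ ≫ g₂) :
    ∃ (T₃ : Scheme.{u}) (π₃ : T₃ ⟶ T) (_ : IsFinite π₃) (_ : FlatMor.IsUnivHomeo π₃)
      (a₁ : T₃ ⟶ T₁) (a₂ : T₃ ⟶ T₂) (h₃ : T' ⟶ T₃),
      a₁ ≫ π₁ = π₃ ∧ a₂ ≫ π₂ = π₃ ∧ a₁ ≫ g₁ = a₂ ≫ g₂ ∧ h₃ ≫ π₃ = ν ∧
        FlatMor.IsUnivHomeo h₃ := by
  let p₁ := pullback.fst π₁ π₂
  let p₂ := pullback.snd π₁ π₂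
  let ι := equalizer.ι (p₁ ≫ g₁) (p₂ ≫ g₂)
  let π₃ := ι ≫ p₁ ≫ π₁
  have hp₁UH : FlatMor.IsUnivHomeo p₁ := MorphismProperty.pullback_fst _ _ hπ₂
  have hιcl : IsClosedImmersion ι := inferInstance
  have hfin : IsFinite π₃ := inferInstance
  -- the canonical lift of T'
  let k : T' ⟶ pullback π₁ π₂ := pullback.lift h₁ h₂ (by rw [hh₁, hh₂])
  have hk1 : k ≫ p₁ = h₁ := pullback.lift_fst _ _ _
  have hk2 : k ≫ p₂ = h₂ := pullback.lift_snd _ _ _
  let h₃ : T' ⟶ equalizer (p₁ ≫ g₁) (p₂ ≫ g₂) := equalizer.lift k (by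
    rw [← Category.assoc, hk1, ← Category.assoc, hk2, hgg])
  have hh₃ : h₃ ≫ ι = k := equalizer.lift_ι _ _
  have hh₃π : h₃ ≫ π₃ = ν := by
    change h₃ ≫ ι ≫ p₁ ≫ π₁ = ν
    rw [← Category.assoc, hh₃, ← Category.assoc, hk1, hh₁]
  have hsurj : Surjective π₃ := by
    have hνs : Surjective ν := IsUnivHomeo.surjective hν
    have : Surjective (h₃ ≫ π₃) := by rw [hh₃π]; exact hνs
    exact Surjective.of_comp h₃ π₃
  have hUI : UniversallyInjective π₃ := by
    have h1 : UniversallyInjective p₁ := IsUnivHomeo.universallyInjective hp₁UH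
    have h2 : UniversallyInjective π₁ := IsUnivHomeo.universallyInjective hπ₁
    have h3 : UniversallyInjective ι := inferInstance
    exact MorphismProperty.comp_mem (W := @UniversallyInjective) _ _ h3
      (MorphismProperty.comp_mem (W := @UniversallyInjective) _ _ h1 h2)
  have hUH : FlatMor.IsUnivHomeo π₃ := isUnivHomeo_iff.mpr ⟨inferInstance, hUI, hsurj⟩
  have hh₃UH : FlatMor.IsUnivHomeo h₃ :=
    IsUnivHomeo.of_comp_left (h := π₃) (by rw [hh₃π]; exact hν) hUH
  refine ⟨_, π₃, hfin, hUH, ι ≫ p₁, ι ≫ p₂, h₃, ?_, ?_, ?_, hh₃π, hh₃UH⟩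
  · rw [Category.assoc]
  · change (ι ≫ p₂) ≫ π₂ = ι ≫ p₁ ≫ π₁
    rw [Category.assoc, pullback.condition]
  · rw [Category.assoc, Category.assoc]
    exact equalizer.condition _ _

end Groth.Agent.Lib.Helper6.UHColim
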