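import Groth.Agent.Lib.Helper6.UnivHomeoRF
import Mathlib.CategoryTheory.Limits.Preserves.Over

set_option autoImplicit false
universe u

open CategoryTheory AlgebraicGeometry Limits TensorProduct

namespace Groth.Agent.Lib.Helper6.UnivHomeoRing

section Colim

variable (A : CommRingCat.{u}) {J : Type u} [SmallCategory J] [IsFiltered J]
  (F : J ⥤ Under A) (c : Cocone F) (hc : IsColimit c)

include hc

noncomputable def under_isColimit_types :
    IsColimit ((forget CommRingCat).mapCocone ((Under.forget A).mapCocone c)) := by
  haveI : PreservesColimitsOfShape J (Under.forget A) :=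
    PreservesFilteredColimitsOfSize.preserves_filtered_colimits J
  haveI : PreservesColimitsOfShape J (forget CommRingCat.{u}) :=
    PreservesFilteredColimitsOfSize.preserves_filtered_colimits J
  exact isColimitOfPreserves (forget CommRingCat) (isColimitOfPreserves (Under.forget A) hc)

/-- Elements of a filtered colimit of `A`-algebras come from a finite stage. -/
theorem under_jointly_surjective (b : c.pt.right) :
    ∃ (j : J) (y : (F.obj j).right), (c.ι.app j).right y = b := by
  have h := under_isColimit_types A F c hc
  obtain ⟨j, y, hy⟩ := Types.jointly_surjective_of_isColimit h b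
  exact ⟨j, y, hy⟩

/-- Two elements of a stage of a filtered colimit of `A`-algebras with the same image in the
colimit become equal at a later stage. -/
theorem under_eq_of_map_eq {j : J} (x y : (F.obj j).right)
    (hxy : (c.ι.app j).right x = (c.ι.app j).right y) :
    ∃ (k : J) (f : j ⟶ k), (F.map f).right x = (F.map f).right y := by
  have h := under_isColimit_types A F c hc
  obtain ⟨k, f, hk⟩ := (Types.FilteredColimit.isColimit_eq_iff' h x y).mp hxy
  exact ⟨k, f, hk⟩

theorem under_w_apply (j : J) (a : A) :
    (c.ι.app j).right ((F.obj j).hom a) = c.pt.hom a := by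
  have := Under.w (c.ι.app j)
  exact congrArg (fun k => k.hom a) this

theorem under_map_w_apply {j k : J} (f : j ⟶ k) (a : A) :
    (F.map f).right ((F.obj j).hom a) = (F.obj k).hom a := by
  have := Under.w (F.map f)
  exact congrArg (fun k => k.hom a) this

theorem under_isIntegral (h : ∀ j, (F.obj j).hom.hom.IsIntegral) : c.pt.hom.hom.IsIntegral := by
  intro b
  obtain ⟨j, y, rfl⟩ := under_jointly_surjective A F c hc b
  have hy : (F.obj j).hom.hom.IsIntegralElem y := h j y
  have := RingHom.IsIntegralElem.map hy (c.ι.app j).right.hom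
  have e : c.pt.hom.hom = (c.ι.app j).right.hom.comp (F.obj j).hom.hom := by
    ext a
    exact (under_w_apply A F c hc j a).symm
  rw [e]
  exact this

theorem under_field_criterion
    (h : ∀ j, ∀ (K : Type u) [Field K] (σ τ : (F.obj j).right →+* K),
      σ.comp (F.obj j).hom.hom = τ.comp (F.obj j).hom.hom → σ = τ)
    (K : Type u) [Field K] (σ τ : c.pt.right →+* K)
    (hστ : σ.comp c.pt.hom.hom = τ.comp c.pt.hom.hom) : σ = τ := by
  ext b
  obtain ⟨j, y, rfl⟩ := under_jointly_surjective A F c hc b
  have := h j K (σ.comp (c.ι.app j).right.hom) (τ.comp (c.ι.app j).right.hom) (by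
    ext a
    have h1 := congrArg (fun k => k a) hστ
    simp only [RingHom.comp_apply] at h1 ⊢
    have h2 := under_w_apply A F c hc j a
    erw [h2]
    exact h1)
  exact congrArg (fun k => k y) this

theorem under_ker_le_nilradical
    (h : ∀ j, RingHom.ker (F.obj j).hom.hom ≤ nilradical A) :
    RingHom.ker c.pt.hom.hom ≤ nilradical A := by
  intro a ha
  rw [RingHom.mem_ker] at ha
  obtain ⟨j⟩ := IsFiltered.nonempty (C := J)
  have h1 : (c.ι.app j).right ((F.obj j).hom a) = (c.ι.app j).right 0 := by
    rw [under_w_apply A F c hc j a, map_zero]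
    exact ha
  obtain ⟨k, f, hk⟩ := under_eq_of_map_eq A F c hc _ _ h1
  rw [under_map_w_apply A F c hc f a, map_zero] at hk
  exact h k ((RingHom.mem_ker).mpr hk)

theorem under_isUnivHomeo (h : ∀ j, FlatMor.IsUnivHomeo (Spec.map (F.obj j).hom)) :
    FlatMor.IsUnivHomeo (Spec.map c.pt.hom) := by
  simp only [isUnivHomeo_SpecMap_iff] at h
  rw [isUnivHomeo_SpecMap_iff]
  have hint := under_isIntegral A F c hc (fun j => (h j).1)
  refine ⟨hint, under_field_criterion A F c hc (fun j => (h j).2.1), ?_⟩
  apply comap_surjective_of_isIntegral_of_ker_le _ hint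
  apply under_ker_le_nilradical A F c hc
  intro j
  have hd : DenseRange (PrimeSpectrum.comap (F.obj j).hom.hom) := (h j).2.2.denseRange
  exact (PrimeSpectrum.denseRange_comap_iff_ker_le_nilRadical _).mp hd

theorem under_residueFieldMap_surjective
    (h : ∀ j, ∀ x : Spec (F.obj j).right,
      Function.Surjective ((Spec.map (F.obj j).hom).residueFieldMap x))
    (x : Spec c.pt.right) : Function.Surjective ((Spec.map c.pt.hom).residueFieldMap x) := by
  rw [residueFieldMap_surjective_iff]
  intro b
  obtain ⟨j, y, rfl⟩ := under_jointly_surjective A F c hc b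
  have h1 := (residueFieldMap_surjective_iff (F.obj j).hom (Spec.map (c.ι.app j).right x)).mp
    (h j _) y
  obtain ⟨s, a, hs, hsa⟩ := h1
  refine ⟨s, a, ?_, ?_⟩
  · rw [← under_w_apply A F c hc j s]
    exact hs
  · rw [← under_w_apply A F c hc j s, ← under_w_apply A F c hc j a, ← map_mul, ← map_sub]
    exact hsa

theorem under_universallyClosed (h : ∀ j, UniversallyClosed (Spec.map (F.obj j).hom)) :
    UniversallyClosed (Spec.map c.pt.hom) := by
  simp only [universallyClosed_SpecMap_iff] at h
  rw [universallyClosed_SpecMap_iff]
  exact under_isIntegral A F c hc h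

theorem under_universallyInjective (h : ∀ j, UniversallyInjective (Spec.map (F.obj j).hom)) :
    UniversallyInjective (Spec.map c.pt.hom) := by
  simp only [universallyInjective_SpecMap_iff] at h
  rw [universallyInjective_SpecMap_iff]
  exact under_field_criterion A F c hc h

end Colim

end Groth.Agent.Lib.Helper6.UnivHomeoRing
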