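import Mathlib
import Groth.Agent.Lib.Helper10.WeilClosed4
import Groth.Agent.Lib.Helper6.FibCrit9

/-!
# Weil restriction of a closed subscheme of a group with schematically dense torsion (helper6)

General lemmas.
-/

set_option autoImplicit false
set_option linter.style.haveILetI false
set_option linter.unusedSectionVars false

open CategoryTheory CategoryTheory.Limits AlgebraicGeometry

universe u

namespace Groth.Agent.Lib.Helper6.WeilTors

open Groth.Agent.Lib.Helper10.ClosedSubF Groth.Agent.Lib.Helper10.WeilClosed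
open Groth.Agent.Lib.Helper6.SepFam

/-- On a Noetherian scheme, a directed family of ideal sheaves has a largest member. -/
theorem exists_forall_le_of_directed {X : Scheme.{u}} [IsNoetherian X] {ι : Type*} [Nonempty ι]
    (J : ι → X.IdealSheafData) (hJ : Directed (· ≤ ·) J) : ∃ N, ∀ n, J n ≤ J N := by
  obtain ⟨s, hs, hcov⟩ :=
    (isCompact_iff_finite_and_eq_biUnion_affineOpens (U := (⊤ : X.Opens))).mp
      (by simpa using isCompact_univ)
  have hmax : ∀ U : X.affineOpens, ∃ N : ι, ∀ n, (J N).ideal U ≤ (J n).ideal U →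
      (J n).ideal U = (J N).ideal U := by
    intro U
    have : IsNoetherianRing Γ(X, U) := IsLocallyNoetherian.component_noetherian U
    obtain ⟨M, ⟨N, rfl⟩, hM⟩ := set_has_maximal_iff_noetherian.mpr this
      (Set.range fun n => (J n).ideal U) (Set.range_nonempty _)
    refine ⟨N, fun n hn => ?_⟩
    by_contra hne
    exact hM _ ⟨n, rfl⟩ (lt_of_le_of_ne hn (Ne.symm hne))
  choose N hN using hmax
  classical
  obtain ⟨z, hz⟩ := hJ.finset_le (hs.toFinset.image N)
  refine ⟨z, fun n => ?_⟩
  refine Scheme.IdealSheafData.le_of_iSup_eq_top (fun U : s => U.1) ?_ ?_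
  · rw [hcov, iSup_subtype]
  · intro U
    obtain ⟨w, hnw, hNw⟩ := hJ n (N U.1)
    calc (J n).ideal U.1 ≤ (J w).ideal U.1 := hnw U.1
      _ = (J (N U.1)).ideal U.1 := hN U.1 w (hNw U.1)
      _ ≤ (J z).ideal U.1 :=
        hz (N U.1) (Finset.mem_image.mpr ⟨U.1, hs.mem_toFinset.mpr U.2, rfl⟩) U.1

/-- A morphism factors through a closed immersion as soon as it does so after composing with
a schematically dominant family. -/
theorem exists_fac_of_schDominant {X X' Y : Scheme.{u}} (y : Y ⟶ X) [IsClosedImmersion y]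
    (φ : X' ⟶ X) {ι : Type*} (K : ι → Scheme.{u}) (m : ∀ i, K i ⟶ X')
    (hdom : ∀ (V : X'.Opens) (t : Γ(X', V)), (∀ i, (m i).app V t = 0) → t = 0)
    (h : ∀ i, ∃ l : K i ⟶ Y, l ≫ y = m i ≫ φ) : ∃ l : X' ⟶ Y, l ≫ y = φ := by
  rw [exists_fac_iff_ker_le]
  change y.ker ≤ Scheme.IdealSheafData.ofIdeals fun U ↦ RingHom.ker (φ.app U).hom
  rw [Scheme.IdealSheafData.le_ofIdeals_iff]
  intro W a ha
  rw [RingHom.mem_ker]
  apply hdom
  intro i
  obtain ⟨l, hl⟩ := h i
  have h0 : y.app W a = 0 := by
    rw [Scheme.Hom.ker_apply] at ha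
    exact ha
  have h1 : (m i ≫ φ).app W a = 0 := by
    rw [← app_eq_zero_congr hl, Scheme.Hom.comp_app]
    change (l.app _) (y.app W a) = 0
    rw [h0, map_zero]
  exact h1

end Groth.Agent.Lib.Helper6.WeilTors
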