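import Mathlib
import Groth.Agent.Lib.Helper6.WeilTors1

/-!
# Weil restriction of a closed subscheme of a group with schematically dense torsion (helper6)

The abstract main theorem.
-/

set_option autoImplicit false
set_option linter.style.haveILetI false
set_option linter.unusedSectionVars false

open CategoryTheory CategoryTheory.Limits AlgebraicGeometry

universe u

namespace Groth.Agent.Lib.Helper6.WeilTors

open Groth.Agent.Lib.Helper10.ClosedSubF Groth.Agent.Lib.Helper10.WeilClosed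
open Groth.Agent.Lib.Helper6.SepFam

section Main

variable {S X Y : Scheme.{u}} (p : X ⟶ S) (y : Y ⟶ X)

/-- `K ×_S S' ⟶ K ⟶ X` factors through `Y`. -/
def Fac {K : Scheme.{u}} (f : K ⟶ X) {S' : Scheme.{u}} (g : S' ⟶ S) : Prop :=
  ∃ l : pullback (f ≫ p) g ⟶ Y, l ≫ y = pullback.fst (f ≫ p) g ≫ f

theorem fac_iff_weil {K : Scheme.{u}} (f : K ⟶ X) {S' : Scheme.{u}} (g : S' ⟶ S) :
    Fac p y f g ↔ (weilSubF (f ≫ p) (pullback.snd y f)).P g := by
  rw [weilSubF_iff_fst]
  constructor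
  · rintro ⟨l, hl⟩
    exact ⟨pullback.lift l (pullback.fst (f ≫ p) g) hl, pullback.lift_snd _ _ _⟩
  · rintro ⟨w, hw⟩
    exact ⟨w ≫ pullback.fst y f, by rw [Category.assoc, pullback.condition, ← Category.assoc, hw]⟩

theorem fac_of_map {K K' : Scheme.{u}} (f : K ⟶ X) (f' : K' ⟶ X) (a : K ⟶ K') (ha : a ≫ f' = f)
    {S' : Scheme.{u}} (g : S' ⟶ S) (h : Fac p y f' g) : Fac p y f g := by
  obtain ⟨l, hl⟩ := h
  refine ⟨pullback.map (f ≫ p) g (f' ≫ p) g a (𝟙 _) (𝟙 _) (by rw [← ha]; simp) (by simp) ≫ l, ?_⟩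
  rw [Category.assoc, hl, ← Category.assoc, pullback.map, pullback.lift_fst, Category.assoc, ha]

theorem fac_of_total {K : Scheme.{u}} (f : K ⟶ X) {S' : Scheme.{u}} (g : S' ⟶ S)
    (h : ∃ l : pullback p g ⟶ Y, l ≫ y = pullback.fst p g) : Fac p y f g := by
  obtain ⟨l, hl⟩ := h
  refine ⟨pullback.map (f ≫ p) g p g f (𝟙 S') (𝟙 S) (Category.comp_id _)
      ((Category.comp_id _).trans (Category.id_comp _).symm) ≫ l, ?_⟩
  rw [Category.assoc, hl, pullback.map, pullback.lift_fst]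

theorem total_of_fac [IsClosedImmersion y] {ι : Type*} (K : ι → Scheme.{u}) (f : ∀ i, K i ⟶ X)
    {S' : Scheme.{u}} (g : S' ⟶ S)
    (hdom : ∀ (V : (pullback p g).Opens) (t : Γ(pullback p g, V)),
      (∀ i, (pullback.map (f i ≫ p) g p g (f i) (𝟙 S') (𝟙 S) (Category.comp_id _)
        ((Category.comp_id _).trans (Category.id_comp _).symm)).app V t = 0) → t = 0)
    (h : ∀ i, Fac p y (f i) g) : ∃ l : pullback p g ⟶ Y, l ≫ y = pullback.fst p g := by
  refine exists_fac_of_schDominant y (pullback.fst p g) (fun i => pullback (f i ≫ p) g) _ hdom ?_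
  intro i
  obtain ⟨l, hl⟩ := h i
  refine ⟨l, ?_⟩
  rw [hl, pullback.map, pullback.lift_fst]

set_option maxHeartbeats 1600000 in
theorem main_abstract [IsLocallyNoetherian S] [LocallyOfFiniteType p] [IsClosedImmersion y]
    {ι : Type u} [Nonempty ι] (K : ι → Scheme.{u}) (f : ∀ i, K i ⟶ X)
    (hfin : ∀ i, IsFinite (f i ≫ p)) (hflat : ∀ i, Flat (f i ≫ p))
    (hb : ∀ (s : S) (V : (p.fiber s).Opens) (t : Γ(p.fiber s, V)),
      (∀ i, (MoreMor.fiberMap (f i) p s).app V t = 0) → t = 0)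
    (hdir : ∀ i j, ∃ k, (∃ a : K i ⟶ K k, a ≫ f k = f i) ∧ (∃ b : K j ⟶ K k, b ≫ f k = f j)) :
    (∃ (T : Scheme.{u}) (t : T ⟶ S), IsClosedImmersion t ∧
      ∀ (S' : Scheme.{u}) (g : S' ⟶ S), (∃ g' : S' ⟶ T, g' ≫ t = g) ↔
        ∃ l : pullback p g ⟶ Y, l ≫ y = pullback.fst p g) ∧
    (AlgebraicGeometry.IsNoetherian S → ∃ N : ι, ∀ (S' : Scheme.{u}) (g : S' ⟶ S),
      (∃ l : pullback p g ⟶ Y, l ≫ y = pullback.fst p g) ↔ Fac p y (f N) g) := by
  have hX : IsLocallyNoetherian X := LocallyOfFiniteType.isLocallyNoetherian p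
  have hdom := (univ_schDominant_iff_fibrewise p K f).mpr hb
  have key : ∀ (S' : Scheme.{u}) (g : S' ⟶ S),
      (∃ l : pullback p g ⟶ Y, l ≫ y = pullback.fst p g) ↔ ∀ i, Fac p y (f i) g := by
    intro S' g
    exact ⟨fun h i => fac_of_total p y (f i) g h, fun h => total_of_fac p y K f g (hdom S' g) h⟩
  have hrep : ∀ i, ∃ (T : Scheme.{u}) (t : T ⟶ S), IsClosedImmersion t ∧
      (weilSubF (f i ≫ p) (pullback.snd y (f i))).RepBy t := by
    intro i
    have := hfin i
    have := hflat i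
    have hA : AffLocProj (f i ≫ p) := affLocProj_of_finite_flat_lfp (f i ≫ p)
    have hpb : IsPullback (𝟙 (K i)) (f i ≫ p) (f i ≫ p) (𝟙 S) :=
      IsPullback.of_horiz_isIso ⟨by simp⟩
    exact exists_repBy_of_locProj _ _ (locProj_snd_of_affLocProj hA hpb)
  choose T t ht hrep using hrep
  have hfacT : ∀ i (S' : Scheme.{u}) (g : S' ⟶ S), Fac p y (f i) g ↔ (t i).ker ≤ g.ker := by
    intro i S' g
    have := ht i
    rw [fac_iff_weil, hrep i g, exists_fac_iff_ker_le]
  constructor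
  · refine ⟨(⨆ i, (t i).ker).subscheme, (⨆ i, (t i).ker).subschemeι, inferInstance, ?_⟩
    intro S' g
    rw [exists_fac_iff_ker_le, Scheme.IdealSheafData.ker_subschemeι, iSup_le_iff, key]
    exact forall_congr' fun i => (hfacT i S' g).symm
  · intro hS
    have hD : Directed (· ≤ ·) (fun i => (t i).ker) := by
      intro i j
      obtain ⟨k, ⟨a, ha⟩, ⟨b, hb'⟩⟩ := hdir i j
      have hk : Fac p y (f k) (t k) := (hfacT k _ (t k)).mpr le_rfl
      exact ⟨k, (hfacT i _ (t k)).mp (fac_of_map p y (f i) (f k) a ha (t k) hk),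
        (hfacT j _ (t k)).mp (fac_of_map p y (f j) (f k) b hb' (t k) hk)⟩
    obtain ⟨N, hN⟩ := exists_forall_le_of_directed (fun i => (t i).ker) hD
    refine ⟨N, fun S' g => ?_⟩
    rw [key]
    constructor
    · intro h
      exact h N
    · intro h i
      exact (hfacT i S' g).mpr ((hN i).trans ((hfacT N S' g).mp h))

end Main

end Groth.Agent.Lib.Helper6.WeilTors
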