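import Mathlib
import Groth.Agent.Lib.Helper6.WeilTors2

/-!
# Weil restriction of a closed subscheme of a group with schematically dense torsion (helper6)

The group-theoretic input and the final statement.
-/

set_option autoImplicit false
set_option linter.style.haveILetI false
set_option linter.unusedSectionVars false

open CategoryTheory CategoryTheory.Limits AlgebraicGeometry
open MonoidalCategory CartesianMonoidalCategory MonObj GrpObj

universe u

namespace Groth.Agent.Lib.Helper6.WeilTors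

section Grp

variable {S : Scheme.{u}} (H : Over S) [GrpObj H]

/-- The inclusion of the kernel of the `n`-th power map. -/
noncomputable abbrev torsι (n : ℕ) :
    pullback η[H].left (𝟙 H ^ n : H ⟶ H).left ⟶ H.left :=
  pullback.snd η[H].left (𝟙 H ^ n : H ⟶ H).left

theorem fst_eq (n : ℕ) :
    pullback.fst η[H].left (𝟙 H ^ n : H ⟶ H).left = torsι H n ≫ H.hom := by
  have h1 : η[H].left ≫ H.hom = 𝟙 S := Over.w η[H]
  have h2 : (𝟙 H ^ n : H ⟶ H).left ≫ H.hom = H.hom := Over.w (𝟙 H ^ n : H ⟶ H)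
  calc pullback.fst η[H].left (𝟙 H ^ n : H ⟶ H).left
      = pullback.fst η[H].left (𝟙 H ^ n : H ⟶ H).left ≫ η[H].left ≫ H.hom := by
        rw [h1]; exact (Category.comp_id _).symm
    _ = torsι H n ≫ H.hom := by
        rw [← Category.assoc, pullback.condition, Category.assoc, h2]

/-- The kernel of the `n`-th power map as an object over `S`. -/
noncomputable abbrev torsOver (n : ℕ) : Over S := Over.mk (torsι H n ≫ H.hom)

/-- The inclusion of the kernel of the `n`-th power map as a morphism over `S`. -/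
noncomputable abbrev torsHom (n : ℕ) : torsOver H n ⟶ H := Over.homMk (torsι H n) rfl

theorem torsHom_pow (n : ℕ) : torsHom H n ≫ (𝟙 H ^ n : H ⟶ H) = 1 := by
  apply Over.OverMorphism.ext
  rw [Hom.one_def, Over.comp_left, Over.comp_left, Over.toUnit_left]
  change torsι H n ≫ (𝟙 H ^ n : H ⟶ H).left = (torsι H n ≫ H.hom) ≫ η[H].left
  rw [← fst_eq, pullback.condition]

theorem torsHom_pow_mul (n m : ℕ) : torsHom H n ≫ (𝟙 H ^ (n * m) : H ⟶ H) = 1 := by
  rw [MonObj.comp_pow, pow_mul, ← MonObj.comp_pow, torsHom_pow, one_pow]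

theorem exists_torsMap (n m : ℕ) :
    ∃ a : pullback η[H].left (𝟙 H ^ n : H ⟶ H).left ⟶
        pullback η[H].left (𝟙 H ^ (n * m) : H ⟶ H).left,
      a ≫ torsι H (n * m) = torsι H n := by
  have h := congrArg (fun φ => φ.left) (torsHom_pow_mul H n m)
  simp only [Hom.one_def, Over.comp_left, Over.toUnit_left] at h
  refine ⟨pullback.lift (torsι H n ≫ H.hom) (torsι H n) h.symm, pullback.lift_snd _ _ _⟩

theorem exists_torsMap' (n m : ℕ) :
    ∃ a : pullback η[H].left (𝟙 H ^ m : H ⟶ H).left ⟶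
        pullback η[H].left (𝟙 H ^ (n * m) : H ⟶ H).left,
      a ≫ torsι H (n * m) = torsι H m := by
  rw [Nat.mul_comm]
  exact exists_torsMap H m n

end Grp

open CategoryTheory.Limits in
theorem weilRestriction_closed_representable_of_torsion_dense {S : Scheme.{u}}
    [IsLocallyNoetherian S]
    (H : Over S) [GrpObj H] [IsCommMonObj H] [LocallyOfFiniteType H.hom] [QuasiCompact H.hom]
    (E : Set ℕ) (hE : E.Nonempty) (hE0 : ∀ n ∈ E, 0 < n) (hEmul : ∀ m ∈ E, ∀ n ∈ E, m * n ∈ E)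
    (ha : ∀ n ∈ E, IsFinite ((pullback.snd η[H].left (𝟙 H ^ n : H ⟶ H).left) ≫ H.hom) ∧ Flat ((pullback.snd η[H].left (𝟙 H ^ n : H ⟶ H).left) ≫ H.hom))
    (hb : ∀ (s : S) (V : (H.hom.fiber s).Opens) (t : Γ(H.hom.fiber s, V)),
      (∀ n ∈ E, (MoreMor.fiberMap (pullback.snd η[H].left (𝟙 H ^ n : H ⟶ H).left) H.hom s).app V t = 0) → t = 0)
    (Y : Scheme.{u}) (y : Y ⟶ H.left) [IsClosedImmersion y] :
    (∃ (T : Scheme.{u}) (t : T ⟶ S), IsClosedImmersion t ∧
      ∀ (S' : Scheme.{u}) (g : S' ⟶ S), (∃ g' : S' ⟶ T, g' ≫ t = g) ↔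
        ∃ l : pullback H.hom g ⟶ Y, l ≫ y = pullback.fst H.hom g) ∧
    (AlgebraicGeometry.IsNoetherian S → ∃ n ∈ E, ∀ (S' : Scheme.{u}) (g : S' ⟶ S),
      (∃ l : pullback H.hom g ⟶ Y, l ≫ y = pullback.fst H.hom g) ↔
        ∃ l : pullback ((pullback.snd η[H].left (𝟙 H ^ n : H ⟶ H).left) ≫ H.hom) g ⟶ Y,
          l ≫ y = pullback.fst ((pullback.snd η[H].left (𝟙 H ^ n : H ⟶ H).left) ≫ H.hom) g ≫ (pullback.snd η[H].left (𝟙 H ^ n : H ⟶ H).left)) := by
  obtain ⟨n₀, hn₀⟩ := hE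
  haveI : Nonempty (ULift.{u} {n : ℕ // n ∈ E}) := ⟨⟨⟨n₀, hn₀⟩⟩⟩
  have main := main_abstract H.hom y
    (fun i : ULift.{u} {n : ℕ // n ∈ E} => pullback η[H].left (𝟙 H ^ i.down.1 : H ⟶ H).left)
    (fun i => torsι H i.down.1)
    (fun i => (ha _ i.down.2).1) (fun i => (ha _ i.down.2).2)
    (fun s V t ht => hb s V t (fun n hn => ht ⟨⟨n, hn⟩⟩))
    (fun i j => ⟨⟨⟨i.down.1 * j.down.1, hEmul _ i.down.2 _ j.down.2⟩⟩,
      exists_torsMap H i.down.1 j.down.1, exists_torsMap' H i.down.1 j.down.1⟩)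
  refine ⟨main.1, fun hS => ?_⟩
  obtain ⟨N, hN⟩ := main.2 hS
  exact ⟨N.down.1, N.down.2, hN⟩

end Groth.Agent.Lib.Helper6.WeilTors
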