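import Mathlib
import Groth.Agent.Lib.Helper6.WeilTors3

/-!
# Transporter into a closed subgroup (helper6)

Base change of a universally schematically dominant family.
-/

set_option autoImplicit false
set_option linter.style.haveILetI false
set_option linter.unusedSectionVars false

open CategoryTheory CategoryTheory.Limits AlgebraicGeometry

universe u

namespace Groth.Agent.Lib.Helper6.WeilTors

open Groth.Agent.Lib.Helper6.SepFam

/-- The base change `K ×_S B ⟶ X ×_S B` of `f₀ : K ⟶ X`. -/
noncomputable abbrev bcMap {X S B K : Scheme.{u}} (p : X ⟶ S) (b : B ⟶ S) (f₀ : K ⟶ X) :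
    pullback (f₀ ≫ p) b ⟶ pullback p b :=
  pullback.map (f₀ ≫ p) b p b f₀ (𝟙 B) (𝟙 S) (Category.comp_id _)
    ((Category.comp_id _).trans (Category.id_comp _).symm)

theorem bcMap_snd {X S B K : Scheme.{u}} (p : X ⟶ S) (b : B ⟶ S) (f₀ : K ⟶ X) :
    bcMap p b f₀ ≫ pullback.snd p b = pullback.snd (f₀ ≫ p) b := by
  rw [bcMap, pullback.map, pullback.lift_snd, Category.comp_id]

theorem bcMap_fst {X S B K : Scheme.{u}} (p : X ⟶ S) (b : B ⟶ S) (f₀ : K ⟶ X) :
    bcMap p b f₀ ≫ pullback.fst p b = pullback.fst (f₀ ≫ p) b ≫ f₀ := by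
  rw [bcMap, pullback.map, pullback.lift_fst]

set_option maxHeartbeats 1600000 in
theorem dom_baseChange {X S B : Scheme.{u}} (p : X ⟶ S) (b : B ⟶ S) {ι : Type*}
    (K : ι → Scheme.{u}) (f : ∀ i, K i ⟶ X)
    (hdom : ∀ (S' : Scheme.{u}) (g : S' ⟶ S) (V : (pullback p g).Opens)
      (t : Γ(pullback p g, V)),
      (∀ i, (pullback.map (f i ≫ p) g p g (f i) (𝟙 S') (𝟙 S) (Category.comp_id _)
        ((Category.comp_id _).trans (Category.id_comp _).symm)).app V t = 0) → t = 0) :
    ∀ (S' : Scheme.{u}) (γ : S' ⟶ B) (V : (pullback (pullback.snd p b) γ).Opens)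
      (t : Γ(pullback (pullback.snd p b) γ, V)),
      (∀ i, (pullback.map (bcMap p b (f i) ≫ pullback.snd p b) γ (pullback.snd p b) γ
        (bcMap p b (f i)) (𝟙 S') (𝟙 B) (Category.comp_id _)
        ((Category.comp_id _).trans (Category.id_comp _).symm)).app V t = 0) → t = 0 := by
  intro S' γ V t ht
  let e := pullbackLeftPullbackSndIso p b γ
  have h' : e.inv.app V t = 0 := by
    refine hdom S' (γ ≫ b) (e.inv ⁻¹ᵁ V) (e.inv.app V t) (fun i => ?_)
    let r : pullback (f i ≫ p) (γ ≫ b) ⟶ pullback (bcMap p b (f i) ≫ pullback.snd p b) γ :=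
      pullback.lift
        (pullback.lift (pullback.fst _ _) (pullback.snd _ _ ≫ γ)
          (by rw [pullback.condition, Category.assoc]))
        (pullback.snd _ _)
        (by rw [bcMap_snd, pullback.lift_snd])
    have hr : r ≫ pullback.map (bcMap p b (f i) ≫ pullback.snd p b) γ (pullback.snd p b) γ
        (bcMap p b (f i)) (𝟙 S') (𝟙 B) (Category.comp_id _)
        ((Category.comp_id _).trans (Category.id_comp _).symm) =
        pullback.map (f i ≫ p) (γ ≫ b) p (γ ≫ b) (f i) (𝟙 S') (𝟙 S) (Category.comp_id _)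
        ((Category.comp_id _).trans (Category.id_comp _).symm) ≫ e.inv := by
      apply pullback.hom_ext
      · apply pullback.hom_ext
        · simp only [Category.assoc, pullback.map, pullback.lift_fst, e,
            pullbackLeftPullbackSndIso_inv_fst]
          rw [pullback.lift_fst_assoc, pullback.lift_fst_assoc]
        · simp only [Category.assoc, pullback.map, pullback.lift_fst, pullback.lift_snd, e,
            pullbackLeftPullbackSndIso_inv_fst_snd, Category.comp_id]
          rw [pullback.lift_fst_assoc, pullback.lift_snd_assoc, pullback.lift_snd]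
      · simp only [Category.assoc, pullback.map, pullback.lift_snd, e,
          pullbackLeftPullbackSndIso_inv_snd_snd, Category.comp_id]
        rw [pullback.lift_snd]
    have h1 : (r ≫ pullback.map (bcMap p b (f i) ≫ pullback.snd p b) γ (pullback.snd p b) γ
        (bcMap p b (f i)) (𝟙 S') (𝟙 B) (Category.comp_id _)
        ((Category.comp_id _).trans (Category.id_comp _).symm)).app V t = 0 := by
      rw [Scheme.Hom.comp_app]
      change (r.app _) ((pullback.map (bcMap p b (f i) ≫ pullback.snd p b) γ (pullback.snd p b) γ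
        (bcMap p b (f i)) (𝟙 S') (𝟙 B) (Category.comp_id _)
        ((Category.comp_id _).trans (Category.id_comp _).symm)).app V t) = 0
      rw [ht i, map_zero]
    rw [app_eq_zero_congr hr] at h1
    exact h1
  have h2 : (e.hom ≫ e.inv).app V t = 0 := by
    rw [Scheme.Hom.comp_app]
    change (e.hom.app _) (e.inv.app V t) = 0
    rw [h', map_zero]
  rw [app_eq_zero_congr (Iso.hom_inv_id e)] at h2
  exact h2

end Groth.Agent.Lib.Helper6.WeilTors
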