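import Mathlib
import Groth.Agent.Lib.Helper6.WeilTors4

/-!
# Transporter into a closed subgroup (helper6)

Plumbing between the group-theoretic statement and the scheme-theoretic one.
-/

set_option autoImplicit false
set_option linter.style.haveILetI false
set_option linter.unusedSectionVars false

open CategoryTheory CategoryTheory.Limits AlgebraicGeometry
open MonoidalCategory CartesianMonoidalCategory MonObj GrpObj

universe u

namespace Groth.Agent.Lib.Helper6.WeilTors

section PL

variable {S : Scheme.{u}} {H A G K X : Over S}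

set_option maxHeartbeats 1600000 in
theorem plumb (φ : A ⟶ H) (k : K ⟶ G) (c : H ⊗ G ⟶ G) (g : X ⟶ G)
    (q : (A ⊗ G).left ⟶ G.left) (hq : q = pullback.snd A.hom G.hom)
    (f₁ : (A ⊗ G).left ⟶ (H ⊗ G).left) (hf₁ : f₁ = (lift (fst A G ≫ φ) (snd A G)).left) :
    (∃ l : pullback q g.left ⟶ pullback k.left c.left,
      l ≫ pullback.snd k.left c.left = pullback.fst q g.left ≫ f₁) ↔
    ∃ κ₀ : A ⊗ X ⟶ K, lift (fst A X ≫ φ) (snd A X ≫ g) ≫ c = κ₀ ≫ k := by
  subst hq hf₁
  obtain ⟨Φ, hΦ⟩ : ∃ Φ : A ⊗ G ⟶ H ⊗ G, Φ = lift (fst A G ≫ φ) (snd A G) := ⟨_, rfl⟩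
  obtain ⟨Ψ, hΨ⟩ : ∃ Ψ : A ⊗ X ⟶ A ⊗ G, Ψ = lift (fst A X) (snd A X ≫ g) := ⟨_, rfl⟩
  have hΨΦ : lift (fst A X ≫ φ) (snd A X ≫ g) = Ψ ≫ Φ := by
    rw [hΦ, hΨ]
    apply CartesianMonoidalCategory.hom_ext <;> simp
  have hΨ1 : Ψ.left ≫ pullback.fst A.hom G.hom = pullback.fst A.hom X.hom := by
    have := congrArg (fun m => m.left) (show Ψ ≫ fst A G = fst A X by rw [hΨ, lift_fst])
    exact this
  have hΨ2 : Ψ.left ≫ pullback.snd A.hom G.hom = pullback.snd A.hom X.hom ≫ g.left := by
    have := congrArg (fun m => m.left) (show Ψ ≫ snd A G = snd A X ≫ g by rw [hΨ, lift_snd])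
    exact this
  rw [hΨΦ, ← hΦ]
  let εinv : pullback (pullback.snd A.hom G.hom) g.left ⟶ (A ⊗ X).left :=
    pullback.lift (pullback.fst _ _ ≫ pullback.fst A.hom G.hom) (pullback.snd _ _)
      (by rw [Category.assoc, pullback.condition, ← Category.assoc, pullback.condition,
        Category.assoc, Over.w g])
  have hεΨ : εinv ≫ Ψ.left = pullback.fst (pullback.snd A.hom G.hom) g.left := by
    apply pullback.hom_ext
    · rw [Category.assoc, hΨ1]
      exact pullback.lift_fst _ _ _
    · rw [Category.assoc, hΨ2, ← Category.assoc]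
      have : εinv ≫ pullback.snd A.hom X.hom = pullback.snd _ _ := pullback.lift_snd _ _ _
      rw [this, pullback.condition]
  constructor
  · rintro ⟨l, hl⟩
    have hl' : l ≫ pullback.fst k.left c.left ≫ k.left =
        pullback.fst (pullback.snd A.hom G.hom) g.left ≫ Φ.left ≫ c.left := by
      rw [pullback.condition, ← Category.assoc, hl, Category.assoc]
    let εhom : (A ⊗ X).left ⟶ pullback (pullback.snd A.hom G.hom) g.left :=
      pullback.lift Ψ.left (pullback.snd A.hom X.hom) hΨ2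
    have hε1 : εhom ≫ pullback.fst (pullback.snd A.hom G.hom) g.left = Ψ.left :=
      pullback.lift_fst _ _ _
    refine ⟨Over.homMk (εhom ≫ l ≫ pullback.fst k.left c.left) ?_, ?_⟩
    · rw [← Over.w k]
      simp only [Category.assoc]
      rw [reassoc_of% hl', Over.w c, Over.w Φ, reassoc_of% hε1, Over.w Ψ]
    · apply Over.OverMorphism.ext
      simp only [Over.comp_left, Over.homMk_left, Category.assoc]
      rw [hl', reassoc_of% hε1]
  · rintro ⟨κ₀, hκ⟩
    have hκ' : Ψ.left ≫ Φ.left ≫ c.left = κ₀.left ≫ k.left := by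
      have := congrArg (fun m => m.left) hκ
      simpa only [Over.comp_left, Category.assoc] using this
    refine ⟨pullback.lift (εinv ≫ κ₀.left)
      (pullback.fst (pullback.snd A.hom G.hom) g.left ≫ Φ.left) ?_, pullback.lift_snd _ _ _⟩
    rw [Category.assoc, ← hκ', ← Category.assoc, hεΨ, Category.assoc]

end PL

end Groth.Agent.Lib.Helper6.WeilTors
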