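import Mathlib
import Groth.Agent.Lib.Helper6.WeilTors5

/-!
# Transporter into a closed subgroup (helper6)

Group-theoretic reformulations.
-/

set_option autoImplicit false
set_option linter.style.haveILetI false
set_option linter.unusedSectionVars false

open CategoryTheory CategoryTheory.Limits AlgebraicGeometry
open MonoidalCategory CartesianMonoidalCategory MonObj GrpObj

universe u

namespace Groth.Agent.Lib.Helper6.WeilTors

section GT

variable {S : Scheme.{u}} {H G K : Over S} [GrpObj H] [GrpObj G]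

/-- `(h, g) ↦ g u(h) g⁻¹`. -/
noncomputable def conj (u : H ⟶ G) : H ⊗ G ⟶ G := snd H G * (fst H G ≫ u) * (snd H G)⁻¹

theorem lift_conj (u : H ⟶ G) {X' : Over S} (a : X' ⟶ H) (b : X' ⟶ G) :
    lift a b ≫ conj u = b * (a ≫ u) * b⁻¹ := by
  rw [conj, MonObj.comp_mul, MonObj.comp_mul, GrpObj.comp_inv, lift_snd, lift_fst_assoc]

theorem transp_iff (u : H ⟶ G) (k : K ⟶ G) {X : Over S} (g : X ⟶ G) :
    (∀ (X' : Over S) (x : X' ⟶ X) (h : X' ⟶ H),
      ∃ κ : X' ⟶ K, (x ≫ g) * (h ≫ u) * (x ≫ g)⁻¹ = κ ≫ k) ↔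
    ∃ κ₀ : H ⊗ X ⟶ K, lift (fst H X ≫ 𝟙 H) (snd H X ≫ g) ≫ conj u = κ₀ ≫ k := by
  constructor
  · intro h
    obtain ⟨κ, hκ⟩ := h (H ⊗ X) (snd H X) (fst H X)
    exact ⟨κ, by rw [lift_conj, Category.comp_id, hκ]⟩
  · rintro ⟨κ₀, hκ₀⟩ X' x h
    refine ⟨lift h x ≫ κ₀, ?_⟩
    rw [Category.assoc, ← hκ₀, lift_conj, Category.comp_id, MonObj.comp_mul, MonObj.comp_mul,
      GrpObj.comp_inv, lift_fst_assoc, lift_snd_assoc]

theorem exists_lift_tors (n : ℕ) {X' : Over S} (h : X' ⟶ H) (hn : h ^ n = 1) :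
    ∃ h' : X' ⟶ torsOver H n, h' ≫ torsHom H n = h := by
  have h1 : h ≫ (𝟙 H ^ n : H ⟶ H) = 1 := by
    rw [MonObj.comp_pow, Category.comp_id, hn]
  have h2 := congrArg (fun m => m.left) h1
  simp only [Hom.one_def, Over.comp_left, Over.toUnit_left] at h2
  refine ⟨Over.homMk (pullback.lift X'.hom h.left h2.symm) ?_, ?_⟩
  · change pullback.lift X'.hom h.left h2.symm ≫ torsι H n ≫ H.hom = X'.hom
    rw [← Category.assoc, pullback.lift_snd, Over.w h]
  · apply Over.OverMorphism.ext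
    simp only [Over.comp_left, Over.homMk_left]
    exact pullback.lift_snd _ _ _

theorem transp_tors_iff (u : H ⟶ G) (k : K ⟶ G) (n : ℕ) {X : Over S} (g : X ⟶ G) :
    (∀ (X' : Over S) (x : X' ⟶ X) (h : X' ⟶ H), h ^ n = 1 →
      ∃ κ : X' ⟶ K, (x ≫ g) * (h ≫ u) * (x ≫ g)⁻¹ = κ ≫ k) ↔
    ∃ κ₀ : torsOver H n ⊗ X ⟶ K,
      lift (fst (torsOver H n) X ≫ torsHom H n) (snd (torsOver H n) X ≫ g) ≫ conj u =
        κ₀ ≫ k := by
  constructor
  · intro h
    have hn : (fst (torsOver H n) X ≫ torsHom H n) ^ n = 1 := by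
      rw [← Category.comp_id (fst (torsOver H n) X ≫ torsHom H n), ← MonObj.comp_pow,
        Category.assoc, torsHom_pow, MonObj.comp_one]
    obtain ⟨κ, hκ⟩ := h (torsOver H n ⊗ X) (snd _ X) (fst _ X ≫ torsHom H n) hn
    exact ⟨κ, by rw [lift_conj, hκ]⟩
  · rintro ⟨κ₀, hκ₀⟩ X' x h hn
    obtain ⟨h', hh'⟩ := exists_lift_tors n h hn
    refine ⟨lift h' x ≫ κ₀, ?_⟩
    rw [Category.assoc, ← hκ₀, lift_conj, MonObj.comp_mul, MonObj.comp_mul,
      GrpObj.comp_inv]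
    simp only [Category.assoc, lift_fst_assoc, lift_snd_assoc]
    rw [← Category.assoc h', hh']

end GT

end Groth.Agent.Lib.Helper6.WeilTors
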