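import Mathlib
import Groth.Agent.Lib.Helper6.WeilTors6

/-!
# Transporter into a closed subgroup (helper6)

Final assembly.
-/

set_option autoImplicit false
set_option linter.style.haveILetI false
set_option linter.unusedSectionVars false

open CategoryTheory CategoryTheory.Limits AlgebraicGeometry
open MonoidalCategory CartesianMonoidalCategory MonObj GrpObj

universe u

namespace Groth.Agent.Lib.Helper6.WeilTors

open Groth.Agent.Lib.Helper6.SepFam

theorem exists_bcMap_comp {X S B K K' : Scheme.{u}} (p : X ⟶ S) (b : B ⟶ S) (f₀ : K ⟶ X)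
    (f₀' : K' ⟶ X) (h : ∃ a : K ⟶ K', a ≫ f₀' = f₀) :
    ∃ a₁ : pullback (f₀ ≫ p) b ⟶ pullback (f₀' ≫ p) b, a₁ ≫ bcMap p b f₀' = bcMap p b f₀ := by
  obtain ⟨a, ha⟩ := h
  refine ⟨pullback.map (f₀ ≫ p) b (f₀' ≫ p) b a (𝟙 _) (𝟙 _) (by rw [← ha]; simp) (by simp), ?_⟩
  apply pullback.hom_ext
  · rw [Category.assoc, bcMap_fst, bcMap_fst, pullback.map, pullback.lift_fst_assoc,
      Category.assoc, ha]
  · rw [Category.assoc, bcMap_snd, bcMap_snd, pullback.map, pullback.lift_snd, Category.comp_id]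

section

variable {S : Scheme.{u}} (H : Over S) [GrpObj H] (G : Over S)

theorem bcMap_tors_eq (n : ℕ) :
    bcMap H.hom G.hom (torsι H n) =
      (lift (fst (torsOver H n) G ≫ torsHom H n) (snd (torsOver H n) G)).left := by
  apply pullback.hom_ext
  · rw [bcMap_fst]
    have := congrArg (fun m => m.left)
      (lift_fst (fst (torsOver H n) G ≫ torsHom H n) (snd (torsOver H n) G))
    exact this.symm
  · rw [bcMap_snd]
    have := congrArg (fun m => m.left)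
      (lift_snd (fst (torsOver H n) G ≫ torsHom H n) (snd (torsOver H n) G))
    exact this.symm

theorem id_eq_lift_left :
    𝟙 (H ⊗ G).left = (lift (fst H G ≫ 𝟙 H) (snd H G)).left := by
  rw [Category.comp_id, lift_fst_snd]
  rfl

end

set_option maxHeartbeats 1600000 in
open CategoryTheory.Limits in
theorem transporter_representable_closed_of_torsion_dense {S : Scheme.{u}} [IsLocallyNoetherian S]
    (H : Over S) [GrpObj H] [IsCommMonObj H] [LocallyOfFiniteType H.hom] [QuasiCompact H.hom]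
    (E : Set ℕ) (hE : E.Nonempty) (hE0 : ∀ n ∈ E, 0 < n) (hEmul : ∀ m ∈ E, ∀ n ∈ E, m * n ∈ E)
    (ha : ∀ n ∈ E, IsFinite ((pullback.snd η[H].left (𝟙 H ^ n : H ⟶ H).left) ≫ H.hom) ∧ Flat ((pullback.snd η[H].left (𝟙 H ^ n : H ⟶ H).left) ≫ H.hom))
    (hb : ∀ (s : S) (V : (H.hom.fiber s).Opens) (t : Γ(H.hom.fiber s, V)),
      (∀ n ∈ E, (MoreMor.fiberMap (pullback.snd η[H].left (𝟙 H ^ n : H ⟶ H).left) H.hom s).app V t = 0) → t = 0)
    (G K : Over S) [GrpObj G] [GrpObj K] [LocallyOfFiniteType G.hom] (u : H ⟶ G) [IsMonHom u]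
    (k : K ⟶ G) [IsMonHom k] [IsClosedImmersion k.left] :
    (∃ (T : Over S) (j : T ⟶ G), IsClosedImmersion j.left ∧
      ∀ (X : Over S) (g : X ⟶ G), (∃ t : X ⟶ T, t ≫ j = g) ↔
        ∀ (X' : Over S) (x : X' ⟶ X) (h : X' ⟶ H), ∃ κ : X' ⟶ K, (x ≫ g) * (h ≫ u) * (x ≫ g)⁻¹ = κ ≫ k) ∧
    (AlgebraicGeometry.IsNoetherian G.left → ∃ n ∈ E, ∀ (X : Over S) (g : X ⟶ G),
      (∀ (X' : Over S) (x : X' ⟶ X) (h : X' ⟶ H), ∃ κ : X' ⟶ K, (x ≫ g) * (h ≫ u) * (x ≫ g)⁻¹ = κ ≫ k) ↔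
        ∀ (X' : Over S) (x : X' ⟶ X) (h : X' ⟶ H), h ^ n = 1 → ∃ κ : X' ⟶ K, (x ≫ g) * (h ≫ u) * (x ≫ g)⁻¹ = κ ≫ k) := by
  obtain ⟨n₀, hn₀⟩ := hE
  haveI : Nonempty (ULift.{u} {n : ℕ // n ∈ E}) := ⟨⟨⟨n₀, hn₀⟩⟩⟩
  have hG : IsLocallyNoetherian G.left := LocallyOfFiniteType.isLocallyNoetherian G.hom
  have hH : IsLocallyNoetherian H.left := LocallyOfFiniteType.isLocallyNoetherian H.hom
  obtain ⟨f, hf⟩ : ∃ f : ∀ i : ULift.{u} {n : ℕ // n ∈ E},
      pullback η[H].left (𝟙 H ^ i.down.1 : H ⟶ H).left ⟶ H.left,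
        f = fun i : ULift.{u} {n : ℕ // n ∈ E} => torsι H i.down.1 :=
    ⟨_, rfl⟩
  have hfin : ∀ i, IsFinite (f i ≫ H.hom) := fun i => by rw [hf]; exact (ha _ i.down.2).1
  have hflat : ∀ i, Flat (f i ≫ H.hom) := fun i => by rw [hf]; exact (ha _ i.down.2).2
  have hdom := (univ_schDominant_iff_fibrewise H.hom _ f).mpr
    (fun s V t ht => hb s V t (fun n hn => by
      have := ht ⟨⟨n, hn⟩⟩
      rw [hf] at this
      exact this))
  have hdom₁ := dom_baseChange H.hom G.hom _ f hdom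
  have hfin₁ : ∀ i, IsFinite (bcMap H.hom G.hom (f i) ≫ pullback.snd H.hom G.hom) := by
    intro i
    rw [bcMap_snd]
    have := hfin i
    infer_instance
  have hflat₁ : ∀ i, Flat (bcMap H.hom G.hom (f i) ≫ pullback.snd H.hom G.hom) := by
    intro i
    rw [bcMap_snd]
    have := hflat i
    infer_instance
  have hb₁ := (univ_schDominant_iff_fibrewise (pullback.snd H.hom G.hom) _
    (fun i => bcMap H.hom G.hom (f i))).mp hdom₁
  have hdir₁ : ∀ i j : ULift.{u} {n : ℕ // n ∈ E}, ∃ k' : ULift.{u} {n : ℕ // n ∈ E},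
      (∃ a, a ≫ bcMap H.hom G.hom (f k') = bcMap H.hom G.hom (f i)) ∧
      (∃ b, b ≫ bcMap H.hom G.hom (f k') = bcMap H.hom G.hom (f j)) := by
    intro i j
    refine ⟨⟨⟨i.down.1 * j.down.1, hEmul _ i.down.2 _ j.down.2⟩⟩, ?_, ?_⟩
    · apply exists_bcMap_comp
      rw [hf]
      exact exists_torsMap H i.down.1 j.down.1
    · apply exists_bcMap_comp
      rw [hf]
      exact exists_torsMap' H i.down.1 j.down.1
  obtain ⟨c, hc⟩ : ∃ c : H ⊗ G ⟶ G, c = conj u := ⟨_, rfl⟩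
  obtain ⟨⟨T₀, t₀, ht₀, hT₀⟩, hnoeth⟩ :=
    main_abstract (pullback.snd H.hom G.hom) (pullback.snd k.left c.left) _
      (fun i => bcMap H.hom G.hom (f i)) hfin₁ hflat₁ hb₁ hdir₁
  have hiff1 : ∀ (X : Over S) (g : X ⟶ G),
      (∃ l : pullback (pullback.snd H.hom G.hom) g.left ⟶ pullback k.left c.left,
        l ≫ pullback.snd k.left c.left = pullback.fst (pullback.snd H.hom G.hom) g.left) ↔
      ∀ (X' : Over S) (x : X' ⟶ X) (h : X' ⟶ H),
        ∃ κ : X' ⟶ K, (x ≫ g) * (h ≫ u) * (x ≫ g)⁻¹ = κ ≫ k := by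
    intro X g
    refine Iff.trans ?_ ((plumb (𝟙 H) k c g (pullback.snd H.hom G.hom) rfl (𝟙 _)
      (id_eq_lift_left H G)).trans (hc ▸ (transp_iff u k g).symm))
    simp only [Category.comp_id]
  refine ⟨⟨Over.mk (t₀ ≫ G.hom), Over.homMk t₀ rfl, ht₀, fun X g => ?_⟩, fun hGN => ?_⟩
  · refine Iff.trans ?_ ((hT₀ X.left g.left).trans (hiff1 X g))
    constructor
    · rintro ⟨t, rfl⟩
      exact ⟨t.left, rfl⟩
    · rintro ⟨γ', hγ'⟩
      refine ⟨Over.homMk γ' ?_, ?_⟩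
      · change γ' ≫ t₀ ≫ G.hom = X.hom
        rw [← Category.assoc, hγ', Over.w g]
      · apply Over.OverMorphism.ext
        simpa only [Over.comp_left, Over.homMk_left] using hγ'
  · obtain ⟨N, hN⟩ := hnoeth hGN
    refine ⟨N.down.1, N.down.2, fun X g => ?_⟩
    refine (hiff1 X g).symm.trans ((hN X.left g.left).trans ?_)
    have hfN : f N = torsι H N.down.1 := by rw [hf]
    have hpl := plumb (torsHom H N.down.1) k c g
      (bcMap H.hom G.hom (torsι H N.down.1) ≫ pullback.snd H.hom G.hom)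
      (bcMap_snd H.hom G.hom (torsι H N.down.1))
      (bcMap H.hom G.hom (torsι H N.down.1)) (bcMap_tors_eq H G N.down.1)
    rw [hc] at hpl
    refine Iff.trans ?_ (hpl.trans (transp_tors_iff u k N.down.1 g).symm)
    rw [hfN, hc]
    rfl

end Groth.Agent.Lib.Helper6.WeilTors
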